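import Mathlib
import Cfsg.Agent.S3377
import Cfsg.Agent.S0801
import Cfsg.Agent.Lib.helper7.CardSL

/-!
The presentation `⟨x, y, z | x³ = y⁵ = z² = 1, z⁻¹xz = x, z⁻¹yz = y, (xy)² = z⟩` of `SL(2,5)` (helper61).

* `SL25.rels`, `SL25.P`: the relator set and the presented group, with generators `SL25.x`, `SL25.y`, `SL25.z`.
* `SL25.homOf`: the homomorphism `P →* G` attached to elements `a b c` of a group satisfying the relations.
* `SL25.card_P_le`: `P` is finite of order at most 120.
* `SL25.nonempty_equiv`: `P ≃* SL(2, ZMod 5)`.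
* `SL25.card_P`: `Nat.card P = 120`.
-/

set_option autoImplicit false

namespace Cfsg.Agent.Lib.helper61.SL25

/-- The relator set. -/
abbrev rels : Set (FreeGroup (Fin 3)) :=
  {FreeGroup.of (0 : Fin 3) ^ 3, FreeGroup.of (1 : Fin 3) ^ 5, FreeGroup.of (2 : Fin 3) ^ 2,
    (FreeGroup.of (2 : Fin 3))⁻¹ * FreeGroup.of 0 * FreeGroup.of 2 * (FreeGroup.of (0 : Fin 3))⁻¹,
    (FreeGroup.of (2 : Fin 3))⁻¹ * FreeGroup.of 1 * FreeGroup.of 2 * (FreeGroup.of (1 : Fin 3))⁻¹,
    (FreeGroup.of (0 : Fin 3) * FreeGroup.of 1) ^ 2 * (FreeGroup.of (2 : Fin 3))⁻¹}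

/-- The presented group. -/
abbrev P : Type := PresentedGroup rels

/-- First generator. -/
def x : P := PresentedGroup.of 0
/-- Second generator. -/
def y : P := PresentedGroup.of 1
/-- Third generator. -/
def z : P := PresentedGroup.of 2

theorem x3 : x ^ 3 = 1 := by
  have h : PresentedGroup.mk rels (FreeGroup.of (0 : Fin 3) ^ 3) = 1 :=
    PresentedGroup.one_of_mem (by simp [rels])
  rw [map_pow] at h
  exact h

theorem y5 : y ^ 5 = 1 := by
  have h : PresentedGroup.mk rels (FreeGroup.of (1 : Fin 3) ^ 5) = 1 :=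
    PresentedGroup.one_of_mem (by simp [rels])
  rw [map_pow] at h
  exact h

theorem z2 : z ^ 2 = 1 := by
  have h : PresentedGroup.mk rels (FreeGroup.of (2 : Fin 3) ^ 2) = 1 :=
    PresentedGroup.one_of_mem (by simp [rels])
  rw [map_pow] at h
  exact h

theorem zx : z⁻¹ * x * z * x⁻¹ = 1 := by
  have h : PresentedGroup.mk rels ((FreeGroup.of (2 : Fin 3))⁻¹ * FreeGroup.of 0 * FreeGroup.of 2 *
      (FreeGroup.of (0 : Fin 3))⁻¹) = 1 :=
    PresentedGroup.one_of_mem (by simp [rels])
  rw [map_mul, map_mul, map_mul, map_inv, map_inv] at h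
  exact h

theorem zy : z⁻¹ * y * z * y⁻¹ = 1 := by
  have h : PresentedGroup.mk rels ((FreeGroup.of (2 : Fin 3))⁻¹ * FreeGroup.of 1 * FreeGroup.of 2 *
      (FreeGroup.of (1 : Fin 3))⁻¹) = 1 :=
    PresentedGroup.one_of_mem (by simp [rels])
  rw [map_mul, map_mul, map_mul, map_inv, map_inv] at h
  exact h

theorem xyz : (x * y) ^ 2 * z⁻¹ = 1 := by
  have h : PresentedGroup.mk rels ((FreeGroup.of (0 : Fin 3) * FreeGroup.of 1) ^ 2 *
      (FreeGroup.of (2 : Fin 3))⁻¹) = 1 :=
    PresentedGroup.one_of_mem (by simp [rels])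
  rw [map_mul, map_pow, map_mul, map_inv] at h
  exact h

theorem xz_comm : x * z = z * x := by
  have h := zx
  have h2 : z⁻¹ * x * z = x := by
    have := congrArg (fun t => t * x) h
    simpa using this
  calc x * z = z * (z⁻¹ * x * z) := by group
    _ = z * x := by rw [h2]

theorem yz_comm : y * z = z * y := by
  have h := zy
  have h2 : z⁻¹ * y * z = y := by
    have := congrArg (fun t => t * y) h
    simpa using this
  calc y * z = z * (z⁻¹ * y * z) := by group
    _ = z * y := by rw [h2]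

theorem xy_sq : (x * y) ^ 2 = z := by
  have h := xyz
  have := congrArg (fun t => t * z) h
  simpa using this

/-- `z` is central. -/
theorem z_comm (g : P) : g * z = z * g := by
  have h : Subgroup.centralizer ({z} : Set P) = ⊤ := by
    rw [eq_top_iff, ← PresentedGroup.closure_range_of rels, Subgroup.closure_le]
    rintro _ ⟨i, rfl⟩
    rw [SetLike.mem_coe, Subgroup.mem_centralizer_iff]
    intro h hh
    rw [Set.mem_singleton_iff] at hh
    subst hh
    fin_cases i
    · exact xz_comm.symm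
    · exact yz_comm.symm
    · rfl
  have hg : g ∈ Subgroup.centralizer ({z} : Set P) := by rw [h]; trivial
  rw [Subgroup.mem_centralizer_iff] at hg
  exact (hg z rfl).symm

/-- The homomorphism out of `P` given by three elements satisfying the relations. -/
def homOf {G : Type*} [Group G] (a b c : G) (ha : a ^ 3 = 1) (hb : b ^ 5 = 1) (hc : c ^ 2 = 1)
    (hca : c⁻¹ * a * c * a⁻¹ = 1) (hcb : c⁻¹ * b * c * b⁻¹ = 1) (hab : (a * b) ^ 2 * c⁻¹ = 1) :
    P →* G :=
  PresentedGroup.toGroup (f := ![a, b, c]) (by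
    intro r hr
    simp only [rels, Set.mem_insert_iff, Set.mem_singleton_iff] at hr
    rcases hr with rfl | rfl | rfl | rfl | rfl | rfl
    · simpa using ha
    · simpa using hb
    · simpa using hc
    · simpa using hca
    · simpa using hcb
    · simpa using hab)

theorem homOf_x {G : Type*} [Group G] (a b c : G) (ha : a ^ 3 = 1) (hb : b ^ 5 = 1) (hc : c ^ 2 = 1)
    (hca : c⁻¹ * a * c * a⁻¹ = 1) (hcb : c⁻¹ * b * c * b⁻¹ = 1) (hab : (a * b) ^ 2 * c⁻¹ = 1) :
    homOf a b c ha hb hc hca hcb hab x = a := by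
  unfold homOf x
  rw [PresentedGroup.toGroup.of]
  rfl

theorem homOf_y {G : Type*} [Group G] (a b c : G) (ha : a ^ 3 = 1) (hb : b ^ 5 = 1) (hc : c ^ 2 = 1)
    (hca : c⁻¹ * a * c * a⁻¹ = 1) (hcb : c⁻¹ * b * c * b⁻¹ = 1) (hab : (a * b) ^ 2 * c⁻¹ = 1) :
    homOf a b c ha hb hc hca hcb hab y = b := by
  unfold homOf y
  rw [PresentedGroup.toGroup.of]
  rfl

theorem homOf_z {G : Type*} [Group G] (a b c : G) (ha : a ^ 3 = 1) (hb : b ^ 5 = 1) (hc : c ^ 2 = 1)
    (hca : c⁻¹ * a * c * a⁻¹ = 1) (hcb : c⁻¹ * b * c * b⁻¹ = 1) (hab : (a * b) ^ 2 * c⁻¹ = 1) :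
    homOf a b c ha hb hc hca hcb hab z = c := by
  unfold homOf z
  rw [PresentedGroup.toGroup.of]
  rfl

/-- The generators generate. -/
theorem closure_xyz : Subgroup.closure ({x, y, z} : Set P) = ⊤ := by
  rw [eq_top_iff, ← PresentedGroup.closure_range_of rels, Subgroup.closure_le]
  rintro _ ⟨i, rfl⟩
  apply Subgroup.subset_closure
  fin_cases i
  · left; rfl
  · right; left; rfl
  · right; right; rfl

/-- `P` is finite of order at most 120. -/
theorem card_P_le : Finite P ∧ Nat.card P ≤ 120 := by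
  classical
  let N : Subgroup P := Subgroup.zpowers z
  have hN : N.Normal := by
    refine ⟨fun n hn g => ?_⟩
    obtain ⟨k, rfl⟩ := Subgroup.mem_zpowers_iff.mp hn
    have hcomm : Commute g z := z_comm g
    have : g * z ^ k * g⁻¹ = z ^ k := by
      have h2 : Commute g (z ^ k) := hcomm.zpow_right k
      rw [h2.eq, mul_inv_cancel_right]
    rw [this]
    exact hn
  have hzN : (QuotientGroup.mk' N) z = 1 :=
    (QuotientGroup.eq_one_iff z).mpr (Subgroup.mem_zpowers z)
  -- the hom from the A5 presentation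
  have hrel : ∀ r ∈ ({FreeGroup.of (0 : Fin 2) ^ 3, FreeGroup.of (1 : Fin 2) ^ 5,
      (FreeGroup.of (0 : Fin 2) * FreeGroup.of 1) ^ 2} : Set (FreeGroup (Fin 2))),
      FreeGroup.lift ![(QuotientGroup.mk' N) x, (QuotientGroup.mk' N) y] r = 1 := by
    intro r hr
    simp only [Set.mem_insert_iff, Set.mem_singleton_iff] at hr
    rcases hr with rfl | rfl | rfl
    · have : (QuotientGroup.mk' N) x ^ 3 = 1 := by rw [← map_pow, x3, map_one]
      simpa using this
    · have : (QuotientGroup.mk' N) y ^ 5 = 1 := by rw [← map_pow, y5, map_one]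
      simpa using this
    · have : ((QuotientGroup.mk' N) x * (QuotientGroup.mk' N) y) ^ 2 = 1 := by
        rw [← map_mul, ← map_pow, xy_sq, hzN]
      simpa using this
  let ψ := PresentedGroup.toGroup hrel
  have hψ0 : ψ (PresentedGroup.of 0) = (QuotientGroup.mk' N) x := by
    show PresentedGroup.toGroup hrel (PresentedGroup.of 0) = _
    rw [PresentedGroup.toGroup.of]; rfl
  have hψ1 : ψ (PresentedGroup.of 1) = (QuotientGroup.mk' N) y := by
    show PresentedGroup.toGroup hrel (PresentedGroup.of 1) = _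
    rw [PresentedGroup.toGroup.of]; rfl
  have hsurj : Function.Surjective ψ := by
    have hc : Subgroup.comap (QuotientGroup.mk' N) ψ.range = ⊤ := by
      rw [eq_top_iff, ← closure_xyz, Subgroup.closure_le]
      rintro g hg
      rw [Set.mem_insert_iff, Set.mem_insert_iff, Set.mem_singleton_iff] at hg
      rcases hg with rfl | rfl | rfl
      · exact ⟨PresentedGroup.of 0, hψ0⟩
      · exact ⟨PresentedGroup.of 1, hψ1⟩
      · show (QuotientGroup.mk' N) z ∈ ψ.range
        rw [hzN]; exact one_mem _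
    intro q
    obtain ⟨p, rfl⟩ := QuotientGroup.mk'_surjective N q
    have hp : p ∈ Subgroup.comap (QuotientGroup.mk' N) ψ.range := by rw [hc]; trivial
    exact hp
  obtain ⟨e⟩ := Cfsg.Agent.S3377.result
  have hfinA : Finite (PresentedGroup ({FreeGroup.of (0 : Fin 2) ^ 3, FreeGroup.of (1 : Fin 2) ^ 5,
      (FreeGroup.of (0 : Fin 2) * FreeGroup.of 1) ^ 2} : Set (FreeGroup (Fin 2)))) :=
    Finite.of_equiv _ e.symm.toEquiv
  have hcardA : Nat.card (PresentedGroup ({FreeGroup.of (0 : Fin 2) ^ 3, FreeGroup.of (1 : Fin 2) ^ 5,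
      (FreeGroup.of (0 : Fin 2) * FreeGroup.of 1) ^ 2} : Set (FreeGroup (Fin 2)))) = 60 := by
    rw [Nat.card_congr e.toEquiv, Nat.card_eq_fintype_card]
    have h1 := two_mul_card_alternatingGroup (α := Fin 5)
    rw [Fintype.card_perm, Fintype.card_fin] at h1
    have : (5 : ℕ).factorial = 120 := by decide
    omega
  have hfinQ : Finite (P ⧸ N) := Finite.of_surjective ψ hsurj
  have hcardQ : Nat.card (P ⧸ N) ≤ 60 := by
    rw [← hcardA]; exact Nat.card_le_card_of_surjective ψ hsurj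
  have hordz : orderOf z ∣ 2 := orderOf_dvd_of_pow_eq_one z2
  have hordz_pos : 0 < orderOf z := Nat.pos_of_dvd_of_pos hordz (by norm_num)
  have hcN : Nat.card N = orderOf z := Nat.card_zpowers z
  have hfinN : Finite N := Nat.finite_of_card_ne_zero (by rw [hcN]; exact hordz_pos.ne')
  have hcardN : Nat.card N ≤ 2 := by rw [hcN]; exact Nat.le_of_dvd (by norm_num) hordz
  have hcardP : Nat.card P = Nat.card (P ⧸ N) * Nat.card N :=
    Subgroup.card_eq_card_quotient_mul_card_subgroup N
  have hQpos : 0 < Nat.card (P ⧸ N) := Nat.card_pos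
  have hNpos : 0 < Nat.card N := Nat.card_pos
  refine ⟨Nat.finite_of_card_ne_zero (by rw [hcardP]; positivity), ?_⟩
  rw [hcardP]
  calc Nat.card (P ⧸ N) * Nat.card N ≤ 60 * 2 := Nat.mul_le_mul hcardQ hcardN
    _ = 120 := by norm_num

/-- `5` is prime. -/
instance fact5 : Fact (Nat.Prime 5) := ⟨by norm_num⟩

/-- The matrix of order 3. -/
def mX : Matrix.SpecialLinearGroup (Fin 2) (ZMod 5) := ⟨!![0, -1; 1, -1], by decide⟩
/-- The matrix of order 5. -/
def mY : Matrix.SpecialLinearGroup (Fin 2) (ZMod 5) := ⟨!![1, 1; 0, 1], by decide⟩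
/-- The central involution. -/
def mZ : Matrix.SpecialLinearGroup (Fin 2) (ZMod 5) := ⟨!![-1, 0; 0, -1], by decide⟩

theorem mX3 : mX ^ 3 = 1 := by decide
theorem mY5 : mY ^ 5 = 1 := by decide
theorem mZ2 : mZ ^ 2 = 1 := by decide
theorem mZX : mZ⁻¹ * mX * mZ * mX⁻¹ = 1 := by decide
theorem mZY : mZ⁻¹ * mY * mZ * mY⁻¹ = 1 := by decide
theorem mXYZ : (mX * mY) ^ 2 * mZ⁻¹ = 1 := by decide

/-- The homomorphism onto `SL(2,5)`. -/
def phi : P →* Matrix.SpecialLinearGroup (Fin 2) (ZMod 5) :=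
  homOf mX mY mZ mX3 mY5 mZ2 mZX mZY mXYZ

theorem closure_elem : Subgroup.closure {g : Matrix.SpecialLinearGroup (Fin 2) (ZMod 5) |
    (g : Matrix (Fin 2) (Fin 2) (ZMod 5)) = !![1, 0; 1, 1] ∨
    (g : Matrix (Fin 2) (Fin 2) (ZMod 5)) = !![1, 1; 0, 1]} = ⊤ := by
  have hgen : Subfield.closure ({(1 : ZMod 5)} : Set (ZMod 5)) = ⊤ := by
    rw [eq_top_iff]
    intro a _
    rw [← ZMod.natCast_zmod_val a]
    exact natCast_mem _ _
  rcases Cfsg.Agent.S0801.result (F := ZMod 5) (by decide) 1 one_ne_zero hgen with h | h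
  · exact h.1
  · exfalso
    have := h.1
    rw [ZMod.card] at this
    omega

theorem phi_surjective : Function.Surjective phi := by
  rw [← MonoidHom.range_eq_top, eq_top_iff, ← closure_elem, Subgroup.closure_le]
  rintro g (hg | hg)
  · refine ⟨(x * y) * y⁻¹ * (x * y)⁻¹, ?_⟩
    rw [map_mul, map_mul, map_inv, map_inv, map_mul]
    unfold phi
    rw [homOf_x, homOf_y]
    apply Subtype.ext
    rw [hg]
    decide
  · refine ⟨y, ?_⟩
    unfold phi
    rw [homOf_y]
    apply Subtype.ext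
    rw [hg]
    rfl

theorem card_SL25 : Nat.card (Matrix.SpecialLinearGroup (Fin 2) (ZMod 5)) = 120 := by
  rw [Cfsg.Agent.Lib.helper7.card_SL2 (F := ZMod 5) (q := 5) (ZMod.card 5)]
  norm_num

theorem phi_bijective : Function.Bijective phi := by
  have := card_P_le.1
  exact phi_surjective.bijective_of_nat_card_le (by rw [card_SL25]; exact card_P_le.2)

/-- The presented group is `SL(2,5)`. -/
theorem nonempty_equiv : Nonempty (P ≃* Matrix.SpecialLinearGroup (Fin 2) (ZMod 5)) :=
  ⟨MulEquiv.ofBijective phi phi_bijective⟩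

theorem card_P : Nat.card P = 120 := by
  rw [Nat.card_congr (MulEquiv.ofBijective phi phi_bijective).toEquiv, card_SL25]

theorem finite_P : Finite P := card_P_le.1

end Cfsg.Agent.Lib.helper61.SL25
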