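import Cfsg.Agent.Lib.helper61.CycGen
import Cfsg.Agent.S3377

/-!
# A fixed-point-free element of order 3 and a `5`-cycle on 6 points

Shared library file of seat `helper61`.
-/

set_option autoImplicit false

namespace Cfsg.Agent.Lib.helper61.CycGen

open Equiv Equiv.Perm MulAction Subgroup

/-- Recognition of `A₅` from the `(2,3,5)` presentation. -/
theorem closure_equiv_A5 {K : Type*} [Group K] (a b : K) (ha : a ^ 3 = 1) (hb : b ^ 5 = 1)
    (hab : (a * b) ^ 2 = 1) (hne : a ≠ 1) :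
    Nonempty (closure ({a, b} : Set K) ≃* alternatingGroup (Fin 5)) := by
  classical
  obtain ⟨ψ⟩ := Cfsg.Agent.S3377.result
  set rels : Set (FreeGroup (Fin 2)) := {FreeGroup.of (0 : Fin 2) ^ 3,
    FreeGroup.of (1 : Fin 2) ^ 5, (FreeGroup.of (0 : Fin 2) * FreeGroup.of 1) ^ 2} with hrels
  let f : Fin 2 → K := ![a, b]
  have hf : ∀ r ∈ rels, FreeGroup.lift f r = 1 := by
    intro r hr
    simp only [hrels, Set.mem_insert_iff, Set.mem_singleton_iff] at hr
    rcases hr with rfl | rfl | rfl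
    · simp [f, ha]
    · simp [f, hb]
    · simp [f, hab]
  let φ : PresentedGroup rels →* K := PresentedGroup.toGroup hf
  have hsimple : IsSimpleGroup (PresentedGroup rels) := ψ.isSimpleGroup
  have hker : φ.ker = ⊥ := by
    rcases (MonoidHom.normal_ker φ).eq_bot_or_eq_top with h | h
    · exact h
    · exfalso; apply hne
      have : (PresentedGroup.of (0 : Fin 2) : PresentedGroup rels) ∈ φ.ker := by rw [h]; trivial
      rw [MonoidHom.mem_ker, PresentedGroup.toGroup.of] at this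
      exact this
  have hinj : Function.Injective φ := (MonoidHom.ker_eq_bot_iff φ).mp hker
  have hrange : φ.range = closure {a, b} := by
    rw [MonoidHom.range_eq_map, ← PresentedGroup.closure_range_of, MonoidHom.map_closure]
    congr 1
    ext k
    simp only [Set.mem_image, Set.mem_range, exists_exists_eq_and, Set.mem_insert_iff,
      Set.mem_singleton_iff]
    constructor
    · rintro ⟨i, rfl⟩
      fin_cases i
      · left; exact PresentedGroup.toGroup.of hf
      · right; exact PresentedGroup.toGroup.of hf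
    · rintro (rfl | rfl)
      · exact ⟨0, PresentedGroup.toGroup.of hf⟩
      · exact ⟨1, PresentedGroup.toGroup.of hf⟩
  exact ⟨((MulEquiv.subgroupCongr hrange).symm.trans (MonoidHom.ofInjective hinj).symm).trans ψ⟩

/-- replacing a generator by a generator of the same cyclic group -/
theorem closure_pair_eq {K : Type*} [Group K] {a b b' : K} (h1 : b' ∈ zpowers b)
    (h2 : b ∈ zpowers b') : closure ({a, b'} : Set K) = closure {a, b} := by
  apply le_antisymm
  · rw [closure_le]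
    intro g hg
    simp only [Set.mem_insert_iff, Set.mem_singleton_iff] at hg
    rcases hg with rfl | rfl
    · exact subset_closure (by simp)
    · exact (zpowers_le.mpr (subset_closure (by simp))) h1
  · rw [closure_le]
    intro g hg
    simp only [Set.mem_insert_iff, Set.mem_singleton_iff] at hg
    rcases hg with rfl | rfl
    · exact subset_closure (by simp)
    · exact (zpowers_le.mpr (subset_closure (by simp))) h2

/-- Two elements of the same prime order `q` on types of the same cardinality `< 2q` are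
conjugate under a bijection. -/
theorem exists_equiv_prime_cycle {α β : Type*} [Fintype α] [DecidableEq α] [Fintype β]
    [DecidableEq β] {q : ℕ} (hq : q.Prime) (hcard : Fintype.card α = Fintype.card β)
    (hlt : Fintype.card α < 2 * q) (y : Perm α) (hy : orderOf y = q) (c : Perm β)
    (hc : orderOf c = q) : ∃ e : α ≃ β, e.permCongrHom y = c := by
  let e0 : α ≃ β := Fintype.equivOfCardEq hcard
  have ho : orderOf (e0.permCongrHom y) = q := by rw [MulEquiv.orderOf_eq, hy]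
  have hcyc : (e0.permCongrHom y).IsCycle :=
    isCycle_of_prime_order' (by rw [ho]; exact hq) (by rw [ho, ← hcard]; exact hlt)
  have hcyc' : c.IsCycle :=
    isCycle_of_prime_order' (by rw [hc]; exact hq) (by rw [hc, ← hcard]; exact hlt)
  have h2 : IsConj (e0.permCongrHom y) c := by
    rw [isConj_iff_cycleType_eq, hcyc.cycleType, hcyc'.cycleType, ← hcyc.orderOf,
      ← hcyc'.orderOf, ho, hc]
  obtain ⟨d, hd⟩ := isConj_iff.mp h2
  refine ⟨e0.trans d, ?_⟩
  rw [← Equiv.permCongrHom_trans, MulEquiv.trans_apply, ← hd]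
  rw [Equiv.permCongrHom_coe d, Equiv.permCongr_eq_mul]

namespace SP6

/-- value vector of a normalised fixed-point-free element of order 3 on `Fin 6` -/
def vec6 (v0 v1 v2 v3 v4 : Fin 6) : Fin 6 → Fin 6 := ![v0, v1, v2, v3, v4, 0]

theorem enum6 : ∀ v0 v1 v2 v3 v4 : Fin 6,
    (∀ i : Fin 6, vec6 v0 v1 v2 v3 v4 (vec6 v0 v1 v2 v3 v4 (vec6 v0 v1 v2 v3 v4 i)) = i) →
    (∀ i : Fin 6, vec6 v0 v1 v2 v3 v4 i ≠ i) →
    (v0, v1, v2, v3, v4) ∈ ([(1, 5, 3, 4, 2), (1, 5, 4, 2, 3), (2, 3, 5, 4, 1), (2, 4, 5, 1, 3),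
      (3, 2, 4, 5, 1), (3, 4, 1, 5, 2), (4, 2, 3, 1, 5), (4, 3, 1, 2, 5)] :
      List (Fin 6 × Fin 6 × Fin 6 × Fin 6 × Fin 6)) := by
  decide +kernel

/-- explicit permutations of `Fin 6` -/
def mk6 (f g : Fin 6 → Fin 6) (h1 : ∀ i, g (f i) = i) (h2 : ∀ i, f (g i) = i) : Perm (Fin 6) :=
  ⟨f, g, h1, h2⟩

def c5 : Perm (Fin 6) := mk6 ![1, 2, 3, 4, 0, 5] ![4, 0, 1, 2, 3, 5] (by decide) (by decide)
def t1 : Perm (Fin 6) := mk6 ![1, 5, 3, 4, 2, 0] ![5, 0, 4, 2, 3, 1] (by decide) (by decide)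
def t2 : Perm (Fin 6) := mk6 ![1, 5, 4, 2, 3, 0] ![5, 0, 3, 4, 2, 1] (by decide) (by decide)
def t3 : Perm (Fin 6) := mk6 ![2, 3, 5, 4, 1, 0] ![5, 4, 0, 1, 3, 2] (by decide) (by decide)
def t4 : Perm (Fin 6) := mk6 ![2, 4, 5, 1, 3, 0] ![5, 3, 0, 4, 1, 2] (by decide) (by decide)
def t5 : Perm (Fin 6) := mk6 ![3, 2, 4, 5, 1, 0] ![5, 4, 1, 0, 2, 3] (by decide) (by decide)
def t6 : Perm (Fin 6) := mk6 ![3, 4, 1, 5, 2, 0] ![5, 2, 4, 0, 1, 3] (by decide) (by decide)
def t7 : Perm (Fin 6) := mk6 ![4, 2, 3, 1, 5, 0] ![5, 3, 1, 2, 0, 4] (by decide) (by decide)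
def t8 : Perm (Fin 6) := mk6 ![4, 3, 1, 2, 5, 0] ![5, 2, 3, 1, 0, 4] (by decide) (by decide)

theorem w1 : (t1 * t1 * c5).IsThreeCycle := card_support_eq_three_iff.mp (by decide)
theorem w3 : (t3 * t3 * c5 * c5).IsThreeCycle := card_support_eq_three_iff.mp (by decide)
theorem w6 : (t6 * c5 * c5).IsThreeCycle := card_support_eq_three_iff.mp (by decide)
theorem w8 : (t8 * c5).IsThreeCycle := card_support_eq_three_iff.mp (by decide)

theorem c5_pow : c5 ^ 5 = 1 := Equiv.ext (by decide)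

theorem a5_case (t : Perm (Fin 6)) (j l : ℕ) (ht3 : t ^ 3 = 1) (htj : (t * c5 ^ j) ^ 2 = 1)
    (ht1 : t ≠ 1) (hjl : (c5 ^ j) ^ l = c5) :
    Nonempty (closure ({t, c5} : Set (Perm (Fin 6))) ≃* alternatingGroup (Fin 5)) := by
  obtain ⟨ψ⟩ := closure_equiv_A5 t (c5 ^ j) ht3
    (by rw [← pow_mul, mul_comm, pow_mul, c5_pow, one_pow]) htj ht1
  have heq : closure ({t, c5 ^ j} : Set (Perm (Fin 6))) = closure {t, c5} :=
    closure_pair_eq ⟨j, by simp⟩ ⟨l, by simpa using hjl⟩
  exact ⟨(MulEquiv.subgroupCongr heq).symm.trans ψ⟩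

theorem core (x : Perm (Fin 6)) (hx : orderOf x = 3) (hfpf : ∀ a, x a ≠ a) (h50 : x 5 = 0) :
    (∃ w ∈ closure ({x, c5} : Set (Perm (Fin 6))), w.IsThreeCycle) ∨
      Nonempty (closure ({x, c5} : Set (Perm (Fin 6))) ≃* alternatingGroup (Fin 5)) := by
  have h3 : ∀ i, x (x (x i)) = i := by
    intro i
    have h : (x ^ 3) i = i := by rw [← hx, pow_orderOf_eq_one]; rfl
    exact h
  have hf : (⇑x : Fin 6 → Fin 6) = vec6 (x 0) (x 1) (x 2) (x 3) (x 4) := by
    funext i
    fin_cases i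
    · rfl
    · rfl
    · rfl
    · rfl
    · rfl
    · exact h50
  have key := enum6 (x 0) (x 1) (x 2) (x 3) (x 4) (by rw [← hf]; exact h3)
    (by rw [← hf]; exact hfpf)
  have hxG : x ∈ closure ({x, c5} : Set (Perm (Fin 6))) := subset_closure (by simp)
  have hcG : c5 ∈ closure ({x, c5} : Set (Perm (Fin 6))) := subset_closure (by simp)
  simp only [List.mem_cons, Prod.mk.injEq, List.not_mem_nil, or_false] at key
  rcases key with ⟨h0, h1, h2, h3', h4⟩ | ⟨h0, h1, h2, h3', h4⟩ | ⟨h0, h1, h2, h3', h4⟩ |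
    ⟨h0, h1, h2, h3', h4⟩ | ⟨h0, h1, h2, h3', h4⟩ | ⟨h0, h1, h2, h3', h4⟩ |
    ⟨h0, h1, h2, h3', h4⟩ | ⟨h0, h1, h2, h3', h4⟩ <;> rw [h0, h1, h2, h3', h4] at hf
  · have hx' : x = t1 := Equiv.ext (congrFun hf)
    rw [hx'] at hxG hcG ⊢
    exact Or.inl ⟨_, mul_mem (mul_mem hxG hxG) hcG, w1⟩
  · have hx' : x = t2 := Equiv.ext (congrFun hf)
    rw [hx']
    exact Or.inr (a5_case t2 1 1 (Equiv.ext (by decide)) (Equiv.ext (by decide)) (by decide)
      (Equiv.ext (by decide)))
  · have hx' : x = t3 := Equiv.ext (congrFun hf)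
    rw [hx'] at hxG hcG ⊢
    exact Or.inl ⟨_, mul_mem (mul_mem (mul_mem hxG hxG) hcG) hcG, w3⟩
  · have hx' : x = t4 := Equiv.ext (congrFun hf)
    rw [hx']
    exact Or.inr (a5_case t4 2 3 (Equiv.ext (by decide)) (Equiv.ext (by decide)) (by decide)
      (Equiv.ext (by decide)))
  · have hx' : x = t5 := Equiv.ext (congrFun hf)
    rw [hx']
    exact Or.inr (a5_case t5 3 2 (Equiv.ext (by decide)) (Equiv.ext (by decide)) (by decide)
      (Equiv.ext (by decide)))
  · have hx' : x = t6 := Equiv.ext (congrFun hf)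
    rw [hx'] at hxG hcG ⊢
    exact Or.inl ⟨_, mul_mem (mul_mem hxG hcG) hcG, w6⟩
  · have hx' : x = t7 := Equiv.ext (congrFun hf)
    rw [hx']
    exact Or.inr (a5_case t7 4 4 (Equiv.ext (by decide)) (Equiv.ext (by decide)) (by decide)
      (Equiv.ext (by decide)))
  · have hx' : x = t8 := Equiv.ext (congrFun hf)
    rw [hx'] at hxG hcG ⊢
    exact Or.inl ⟨_, mul_mem hxG hcG, w8⟩

end SP6

theorem c5_order : orderOf SP6.c5 = 5 := by
  have : Fact (Nat.Prime 5) := ⟨by norm_num⟩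
  exact orderOf_eq_prime SP6.c5_pow (by decide)

theorem c5_isCycle : SP6.c5.IsCycle :=
  isCycle_of_prime_order' (by rw [c5_order]; norm_num) (by rw [c5_order]; simp)

theorem special6_fin (x : Perm (Fin 6)) (hx : orderOf x = 3) (hfpf : ∀ a, x a ≠ a) :
    alternatingGroup (Fin 6) ≤ closure {x, SP6.c5} ∨
      Nonempty (closure ({x, SP6.c5} : Set (Perm (Fin 6))) ≃* alternatingGroup (Fin 5)) := by
  have hxG : x ∈ closure ({x, SP6.c5} : Set (Perm (Fin 6))) := subset_closure (by simp)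
  have hcG : SP6.c5 ∈ closure ({x, SP6.c5} : Set (Perm (Fin 6))) := subset_closure (by simp)
  -- normalise `x 5 = 0`
  obtain ⟨k, hk⟩ : ∃ k : ℕ, (SP6.c5 ^ k) (x 5) = 0 := by
    have h : ∀ t : Fin 6, t ≠ 5 → ∃ k : Fin 5, (SP6.c5 ^ (k : ℕ)) t = 0 := by decide
    obtain ⟨k, hk⟩ := h (x 5) (hfpf 5)
    exact ⟨k, hk⟩
  have hd5 : (SP6.c5 ^ k) 5 = 5 := Perm.pow_apply_eq_self_of_apply_eq_self (by decide) k
  have hd5' : (SP6.c5 ^ k)⁻¹ 5 = 5 := by rw [Perm.inv_eq_iff_eq, hd5]
  have hx'o : orderOf (SP6.c5 ^ k * x * (SP6.c5 ^ k)⁻¹) = 3 := by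
    have := MulEquiv.orderOf_eq (MulAut.conj (SP6.c5 ^ k)) x
    rw [MulAut.conj_apply] at this
    rw [this, hx]
  have hx'f : ∀ a, (SP6.c5 ^ k * x * (SP6.c5 ^ k)⁻¹) a ≠ a := by
    intro a h
    rw [Perm.mul_apply, Perm.mul_apply] at h
    apply hfpf ((SP6.c5 ^ k)⁻¹ a)
    rw [Perm.eq_inv_iff_eq, h]
  have hx'5 : (SP6.c5 ^ k * x * (SP6.c5 ^ k)⁻¹) 5 = 0 := by
    rw [Perm.mul_apply, Perm.mul_apply, hd5', hk]
  have heq : closure ({SP6.c5 ^ k * x * (SP6.c5 ^ k)⁻¹, SP6.c5} : Set (Perm (Fin 6))) =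
      closure {x, SP6.c5} := by
    apply le_antisymm
    · rw [closure_le]
      intro g hg
      simp only [Set.mem_insert_iff, Set.mem_singleton_iff] at hg
      rcases hg with rfl | rfl
      · exact mul_mem (mul_mem (Subgroup.pow_mem _ hcG k) hxG)
          (inv_mem (Subgroup.pow_mem _ hcG k))
      · exact hcG
    · rw [closure_le]
      intro g hg
      simp only [Set.mem_insert_iff, Set.mem_singleton_iff] at hg
      rcases hg with rfl | rfl
      · have h1 : SP6.c5 ^ k * g * (SP6.c5 ^ k)⁻¹ ∈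
            closure ({SP6.c5 ^ k * g * (SP6.c5 ^ k)⁻¹, SP6.c5} : Set (Perm (Fin 6))) :=
          subset_closure (by simp)
        have h2 : SP6.c5 ∈
            closure ({SP6.c5 ^ k * g * (SP6.c5 ^ k)⁻¹, SP6.c5} : Set (Perm (Fin 6))) :=
          subset_closure (by simp)
        have h3 := mul_mem (mul_mem (inv_mem (Subgroup.pow_mem _ h2 k)) h1)
          (Subgroup.pow_mem _ h2 k)
        have h4 : (SP6.c5 ^ k)⁻¹ * (SP6.c5 ^ k * g * (SP6.c5 ^ k)⁻¹) * SP6.c5 ^ k = g := by group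
        rw [h4] at h3
        exact h3
      · exact subset_closure (by simp)
  rcases SP6.core _ hx'o hx'f hx'5 with ⟨w, hw, hw3⟩ | ⟨⟨ψ⟩⟩
  · left
    rw [heq] at hw
    have htr : MulAction.IsPretransitive (closure ({x, SP6.c5} : Set (Perm (Fin 6)))) (Fin 6) := by
      apply pretrans_of_cycle _ c5_isCycle hcG
      intro a
      by_cases ha : a = 5
      · refine ⟨x, hxG, ?_⟩
        rw [Perm.mem_support, ha]
        have h : ∀ t : Fin 6, t ≠ 5 → SP6.c5 t ≠ t := by decide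
        exact h _ (hfpf 5)
      · refine ⟨1, one_mem _, ?_⟩
        rw [Perm.mem_support, Perm.one_apply]
        have h : ∀ t : Fin 6, t ≠ 5 → SP6.c5 t ≠ t := by decide
        exact h _ ha
    have hcard : SP6.c5.support.card = 5 := by rw [← c5_isCycle.orderOf, c5_order]
    have hprim : MulAction.IsPreprimitive (closure ({x, SP6.c5} : Set (Perm (Fin 6)))) (Fin 6) :=
      prim_of_cycle _ c5_isCycle hcG (by rw [hcard]; norm_num) (by rw [hcard]; simp)
    exact alternatingGroup_le_of_isPreprimitive_of_isThreeCycle_mem hprim hw3 hw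
  · right
    exact ⟨(MulEquiv.subgroupCongr heq).symm.trans ψ⟩

theorem special6 {α : Type*} [Fintype α] [DecidableEq α] (hc : Fintype.card α = 6)
    (x y : Perm α) (hx : orderOf x = 3) (hfpf : ∀ a, x a ≠ a) (hy : orderOf y = 5) :
    alternatingGroup α ≤ closure {x, y} ∨
      Nonempty (closure ({x, y} : Set (Perm α)) ≃* alternatingGroup (Fin 5)) := by
  obtain ⟨e, he⟩ := exists_equiv_prime_cycle (q := 5) (by norm_num) (by rw [hc]; simp)
    (by rw [hc]; norm_num) y hy SP6.c5 c5_order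
  have hs : ∀ g, Perm.sign (e.permCongrHom g) = Perm.sign g := fun g => by
    rw [Equiv.permCongrHom_coe]; exact Perm.sign_permCongr e g
  have hf : ∀ a, (e.permCongrHom x) a ≠ a := by
    intro a h
    rw [Equiv.permCongrHom_coe, Equiv.permCongr_apply] at h
    exact hfpf (e.symm a) (e.injective (by rw [h, Equiv.apply_symm_apply]))
  rcases special6_fin (e.permCongrHom x) (by rw [MulEquiv.orderOf_eq, hx]) hf with h | ⟨⟨ψ⟩⟩
  · left
    apply alt_le_of_map e.permCongrHom hs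
    rw [he]; exact h
  · right
    refine ⟨(closureEquiv (e.permCongrHom : Perm α →* Perm (Fin 6)) e.permCongrHom.injective
      x y).trans ((MulEquiv.subgroupCongr ?_).trans ψ)⟩
    rw [← he]; rfl

end Cfsg.Agent.Lib.helper61.CycGen
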