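import Mathlib

/-! Piece A4 of the S4073 split (helper69): a normal non-abelian subgroup of `A₄` is everything. -/

set_option autoImplicit false

namespace Cfsg.Agent.Lib.helper61.SNG

universe u v

theorem h61_comm_of_card_le_four {K : Type u} [Group K] [Finite K]
    (h : Nat.card K = 1 ∨ Nat.card K = 2 ∨ Nat.card K = 3 ∨ Nat.card K = 4) :
    ∀ a b : K, a * b = b * a := by
  rcases h with h | h | h | h
  · have : Subsingleton K := (Nat.card_eq_one_iff_unique.mp h).1
    intro a b
    rw [Subsingleton.elim a 1, Subsingleton.elim b 1]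
  · have : Fact (Nat.Prime 2) := ⟨Nat.prime_two⟩
    have hc : IsCyclic K := isCyclic_of_prime_card (p := 2) h
    intro a b
    exact (IsCyclic.commGroup (α := K)).mul_comm a b
  · have : Fact (Nat.Prime 3) := ⟨Nat.prime_three⟩
    have hc : IsCyclic K := isCyclic_of_prime_card (p := 3) h
    intro a b
    exact (IsCyclic.commGroup (α := K)).mul_comm a b
  · have : Fact (Nat.Prime 2) := ⟨Nat.prime_two⟩
    exact IsPGroup.commutative_of_card_eq_prime_sq (p := 2) (by rw [h]; norm_num)

/-- **[A4]** -/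
theorem a4_normal (H : Subgroup (alternatingGroup (Fin 4))) [H.Normal]
    (hH : ¬ IsMulCommutative H) : H = ⊤ := by
  have hcard : Nat.card (alternatingGroup (Fin 4)) = 12 := by
    rw [nat_card_alternatingGroup]
    simp [Nat.factorial]
  have hmul := H.card_mul_index
  rw [hcard] at hmul
  have hpos : 0 < Nat.card H := Nat.card_pos
  have hcH : 6 ≤ Nat.card H := by
    by_contra hlt
    apply hH
    have hdvd : Nat.card H ∣ 12 := ⟨_, hmul.symm⟩
    have h4 : Nat.card H = 1 ∨ Nat.card H = 2 ∨ Nat.card H = 3 ∨ Nat.card H = 4 := by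
      have h5 : Nat.card H ≠ 5 := by
        intro h5
        rw [h5] at hdvd
        norm_num at hdvd
      omega
    exact ⟨⟨h61_comm_of_card_le_four h4⟩⟩
  have hidx : H.index = 1 ∨ H.index = 2 := by
    have h1 : H.index ≤ 2 := by nlinarith
    have h2 : H.index ≠ 0 := by
      intro h0
      rw [h0] at hmul
      omega
    omega
  rcases hidx with h1 | h2
  · exact Subgroup.index_eq_one.mp h1
  · rw [eq_top_iff]
    intro x _
    have hx : (x : Equiv.Perm (Fin 4)) ∈
        Subgroup.closure {σ : Equiv.Perm (Fin 4) | σ.IsThreeCycle} := by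
      rw [Equiv.Perm.closure_three_cycles_eq_alternating]
      exact x.2
    have hK : Subgroup.closure {σ : Equiv.Perm (Fin 4) | σ.IsThreeCycle} ≤
        H.map (alternatingGroup (Fin 4)).subtype := by
      rw [Subgroup.closure_le]
      intro σ hσ
      have hσA : σ ∈ alternatingGroup (Fin 4) := Equiv.Perm.IsThreeCycle.mem_alternatingGroup hσ
      refine ⟨⟨σ, hσA⟩, ?_, rfl⟩
      have h3 : (⟨σ, hσA⟩ : alternatingGroup (Fin 4)) ^ 3 = 1 := by
        apply Subtype.ext
        have := pow_orderOf_eq_one σ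
        rw [Equiv.Perm.IsThreeCycle.orderOf hσ] at this
        simpa using this
      have h4 : (⟨σ, hσA⟩ : alternatingGroup (Fin 4)) =
          ((⟨σ, hσA⟩ : alternatingGroup (Fin 4)) ^ 2) ^ 2 := by
        rw [← pow_mul]
        calc (⟨σ, hσA⟩ : alternatingGroup (Fin 4))
            = (⟨σ, hσA⟩ : alternatingGroup (Fin 4)) ^ 3 * ⟨σ, hσA⟩ := by rw [h3, one_mul]
          _ = (⟨σ, hσA⟩ : alternatingGroup (Fin 4)) ^ (2 * 2) := by
            rw [← pow_succ]
      show (⟨σ, hσA⟩ : alternatingGroup (Fin 4)) ∈ H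
      rw [h4]
      exact Subgroup.sq_mem_of_index_two h2 _
    obtain ⟨y, hy, hyx⟩ := hK hx
    have hyx' : y = x := Subtype.ext hyx
    exact hyx' ▸ hy

end Cfsg.Agent.Lib.helper61.SNG
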