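import Mathlib
import Cfsg.Prelude.Def_Classical
import Cfsg.Prelude.Def_GeometricClasses

/-! S5977 / S5978 block [B] (helper96), leaf AGL: `fe_gl_elt`. -/

set_option autoImplicit false

namespace Cfsg.Agent.Lib.helper96.FE

open Polynomial

/-- `r` does not divide `q` when `r ≠ 0` in `F`. -/
theorem helper61_not_dvd_card {F : Type*} [Field F] [Fintype F] (r : ℕ) [Fact r.Prime]
    (hrF : (r : F) ≠ 0) : ¬ r ∣ Fintype.card F := by
  intro hdvd
  obtain ⟨p, hchar⟩ := CharP.exists F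
  have := hchar
  obtain ⟨n, hp, hcard⟩ := FiniteField.card F p
  rw [hcard] at hdvd
  have h1 : r ∣ p := (Fact.out : r.Prime).dvd_of_dvd_pow hdvd
  have h2 : r = p := (Nat.prime_dvd_prime_iff_eq (Fact.out : r.Prime) hp).mp h1
  apply hrF
  rw [h2]
  exact CharP.cast_eq_zero F p

/-- The order of `q` modulo `r` is positive and `r ∣ q ^ i - 1`. -/
theorem helper61_order_facts {F : Type*} [Field F] [Fintype F] (r : ℕ) [Fact r.Prime]
    (hrF : (r : F) ≠ 0) :
    0 < orderOf ((Fintype.card F : ℕ) : ZMod r) ∧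
      r ∣ Fintype.card F ^ orderOf ((Fintype.card F : ℕ) : ZMod r) - 1 := by
  have hrq := helper61_not_dvd_card r hrF
  have hne : ((Fintype.card F : ℕ) : ZMod r) ≠ 0 := fun h0 =>
    hrq ((ZMod.natCast_eq_zero_iff _ r).mp h0)
  have hunit : IsUnit ((Fintype.card F : ℕ) : ZMod r) := isUnit_iff_ne_zero.mpr hne
  refine ⟨?_, ?_⟩
  · obtain ⟨u, hu⟩ := hunit
    rw [← hu, orderOf_units]
    exact orderOf_pos u
  · have h1 : ((Fintype.card F : ℕ) : ZMod r) ^ orderOf ((Fintype.card F : ℕ) : ZMod r) = 1 :=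
      pow_orderOf_eq_one _
    have hpos : 1 ≤ Fintype.card F ^ orderOf ((Fintype.card F : ℕ) : ZMod r) :=
      Nat.one_le_pow _ _ Fintype.card_pos
    rw [← ZMod.natCast_eq_zero_iff, Nat.cast_sub hpos, Nat.cast_pow, h1, Nat.cast_one, sub_self]

/-- AGL (M): an element of order `r` in `GL_i(F)`, `i = ord_r(q)`. -/
theorem fe_gl_elt {F : Type*} [Field F] [Fintype F] (r : ℕ) [Fact r.Prime] (hrF : (r : F) ≠ 0) :
    ∃ A : GL (Fin (orderOf ((Fintype.card F : ℕ) : ZMod r))) F, orderOf A = r := by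
  classical
  obtain ⟨hipos, hdvd1⟩ := helper61_order_facts r hrF
  have hcard : r ∣ Nat.card (GL (Fin (orderOf ((Fintype.card F : ℕ) : ZMod r))) F) := by
    rw [Matrix.card_GL_field]
    refine dvd_trans ?_ (Finset.dvd_prod_of_mem _
      (Finset.mem_univ (⟨0, hipos⟩ : Fin (orderOf ((Fintype.card F : ℕ) : ZMod r)))))
    simpa using hdvd1
  exact exists_prime_orderOf_dvd_card' r hcard

end Cfsg.Agent.Lib.helper96.FE
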