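import Mathlib
import Cfsg.Prelude.Def_Classical
import Cfsg.Prelude.Def_GeometricClasses
import Cfsg.Agent.Lib.helper61.FeAGL

/-! S5977 / S5978 block [B] (helper96), leaf AKER: `fe_gl_poly`. -/

set_option autoImplicit false

namespace Cfsg.Agent.Lib.helper96.FE

open Polynomial Matrix

/-- Counting: a nonzero invariant subspace without nonzero fixed vectors is everything. -/
theorem helper61_irr {F : Type*} [Field F] [Fintype F] {n : ℕ} (r : ℕ) [Fact r.Prime]
    (hord : ∀ m, 0 < m → r ∣ Fintype.card F ^ m - 1 → n ≤ m)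
    (A : Matrix (Fin n) (Fin n) F) (hAr : A ^ r = 1) (U : Submodule F (Fin n → F))
    (hU : ∀ u ∈ U, A *ᵥ u ∈ U) (hfix : ∀ u ∈ U, A *ᵥ u = u → u = 0) (hne : U ≠ ⊥) : U = ⊤ := by
  classical
  let f : Function.End ↥U := fun u => ⟨A *ᵥ u.1, hU u.1 u.2⟩
  have hpow : ∀ k : ℕ, ∀ u : ↥U, ((f ^ k) u).1 = (A ^ k) *ᵥ u.1 := by
    intro k
    induction k with
    | zero =>
      intro u
      rw [pow_zero, pow_zero, Matrix.one_mulVec]
      rfl
    | succ k ih =>
      intro u
      rw [pow_succ', pow_succ', ← Matrix.mulVec_mulVec, ← ih u]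
      rfl
  have hfr : f ^ r ^ 1 = 1 := by
    rw [pow_one]
    funext u
    apply Subtype.ext
    rw [hpow, hAr, Matrix.one_mulVec]
    rfl
  have hmod := Equiv.Perm.card_fixedPoints_modEq (f := f) (p := r) (n := 1) hfr
  have hfp : Fintype.card (Function.fixedPoints f) = 1 := by
    rw [Fintype.card_eq_one_iff]
    refine ⟨⟨0, ?_⟩, ?_⟩
    · apply Subtype.ext
      change A *ᵥ (0 : Fin n → F) = 0
      exact Matrix.mulVec_zero A
    · rintro ⟨u, hu⟩
      apply Subtype.ext
      apply Subtype.ext
      have h1 : A *ᵥ u.1 = u.1 := congrArg Subtype.val hu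
      exact hfix u.1 u.2 h1
  rw [hfp, Module.card_eq_pow_finrank (K := F)] at hmod
  have hd : 0 < Module.finrank F ↥U := by
    rw [Nat.pos_iff_ne_zero]
    intro h0
    exact hne (Submodule.finrank_eq_zero.mp h0)
  have hdvd : r ∣ Fintype.card F ^ Module.finrank F ↥U - 1 :=
    (Nat.modEq_iff_dvd' (Nat.one_le_pow _ _ Fintype.card_pos)).mp hmod.symm
  have hle := hord _ hd hdvd
  have hle2 : Module.finrank F ↥U ≤ n := by
    have := Submodule.finrank_le U
    rw [Module.finrank_fin_fun] at this
    exact this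
  apply Submodule.eq_top_of_finrank_eq
  rw [Module.finrank_fin_fun]
  omega

/-- No nonzero fixed vectors. -/
theorem helper61_nofix {F : Type*} [Field F] [Fintype F] {n : ℕ} (r : ℕ) [Fact r.Prime]
    (hrF : (r : F) ≠ 0) (hord : ∀ m, 0 < m → r ∣ Fintype.card F ^ m - 1 → n ≤ m)
    (A : Matrix (Fin n) (Fin n) F) (hAr : A ^ r = 1) (hA1 : A ≠ 1) :
    ∀ v, A *ᵥ v = v → v = 0 := by
  classical
  have hNA : (∑ k ∈ Finset.range r, A ^ k) * (A - 1) = 0 := by
    rw [geom_sum_mul, hAr, sub_self]
  have hcomm : A * (∑ k ∈ Finset.range r, A ^ k) = (∑ k ∈ Finset.range r, A ^ k) * A := by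
    rw [Finset.mul_sum, Finset.sum_mul]
    refine Finset.sum_congr rfl (fun k _ => ?_)
    rw [← pow_succ', ← pow_succ]
  have hWinv : ∀ u ∈ LinearMap.ker (∑ k ∈ Finset.range r, A ^ k).mulVecLin,
      A *ᵥ u ∈ LinearMap.ker (∑ k ∈ Finset.range r, A ^ k).mulVecLin := by
    intro u hu
    rw [LinearMap.mem_ker, Matrix.mulVecLin_apply] at hu ⊢
    rw [Matrix.mulVec_mulVec, ← hcomm, ← Matrix.mulVec_mulVec, hu, Matrix.mulVec_zero]
  have hfixsum : ∀ v, A *ᵥ v = v → (∑ k ∈ Finset.range r, A ^ k) *ᵥ v = (r : F) • v := by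
    intro v hv
    have hk : ∀ k : ℕ, (A ^ k) *ᵥ v = v := by
      intro k
      induction k with
      | zero => rw [pow_zero, Matrix.one_mulVec]
      | succ k ih => rw [pow_succ, ← Matrix.mulVec_mulVec, hv, ih]
    rw [Matrix.sum_mulVec]
    simp only [hk, Finset.sum_const, Finset.card_range]
    rw [Nat.cast_smul_eq_nsmul]
  have hWfix : ∀ u ∈ LinearMap.ker (∑ k ∈ Finset.range r, A ^ k).mulVecLin, A *ᵥ u = u → u = 0 := by
    intro u hu hfixu
    rw [LinearMap.mem_ker, Matrix.mulVecLin_apply, hfixsum u hfixu] at hu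
    exact (smul_eq_zero.mp hu).resolve_left hrF
  have hWne : LinearMap.ker (∑ k ∈ Finset.range r, A ^ k).mulVecLin ≠ ⊥ := by
    intro hbot
    apply hA1
    have hall : ∀ w, (A - 1) *ᵥ w = 0 := by
      intro w
      have hmem : (A - 1) *ᵥ w ∈ LinearMap.ker (∑ k ∈ Finset.range r, A ^ k).mulVecLin := by
        rw [LinearMap.mem_ker, Matrix.mulVecLin_apply, Matrix.mulVec_mulVec, hNA,
          Matrix.zero_mulVec]
      rw [hbot] at hmem
      exact (Submodule.mem_bot F).mp hmem
    have h0 : A - 1 = 0 := by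
      ext i j
      have := congr_fun (hall (Pi.single j 1)) i
      rw [Matrix.mulVec_single_one] at this
      exact this
    exact sub_eq_zero.mp h0
  have hWtop := helper61_irr r hord A hAr _ hWinv hWfix hWne
  intro v hv
  exact hWfix v (hWtop ▸ Submodule.mem_top) hv

/-- The minimal polynomial of an irreducible matrix has degree `n`. -/
theorem helper61_deg {F : Type*} [Field F] {n : ℕ} (hn : 0 < n) (A : Matrix (Fin n) (Fin n) F)
    (hirr : ∀ U : Submodule F (Fin n → F), (∀ u ∈ U, A *ᵥ u ∈ U) → U ≠ ⊥ → U = ⊤) :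
    (minpoly F A).natDegree = n := by
  classical
  have hint : IsIntegral F A := Matrix.isIntegral A
  have hmon : (minpoly F A).Monic := minpoly.monic hint
  apply le_antisymm
  · have h1 := Polynomial.natDegree_le_of_dvd (Matrix.minpoly_dvd_charpoly A)
      (Matrix.charpoly_monic A).ne_zero
    rw [Matrix.charpoly_natDegree_eq_dim, Fintype.card_fin] at h1
    exact h1
  · let v : Fin n → F := fun _ => 1
    have hv : v ≠ 0 := by
      intro h
      have := congr_fun h ⟨0, hn⟩
      simp [v] at this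
    let φ : F[X] →ₗ[F] (Fin n → F) :=
      { toFun := fun g => (aeval A g) *ᵥ v
        map_add' := fun g h => by rw [map_add, Matrix.add_mulVec]
        map_smul' := fun c g => by
          rw [map_smul, Matrix.smul_mulVec]
          rfl }
    have hφ : ∀ g, φ g = (aeval A g) *ᵥ v := fun _ => rfl
    have hinv : ∀ u ∈ LinearMap.range φ, A *ᵥ u ∈ LinearMap.range φ := by
      rintro _ ⟨g, rfl⟩
      refine ⟨X * g, ?_⟩
      rw [hφ, hφ, map_mul, aeval_X, Matrix.mulVec_mulVec]
    have hne : LinearMap.range φ ≠ ⊥ := by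
      intro h
      have hmem : v ∈ LinearMap.range φ := ⟨1, by rw [hφ, map_one, Matrix.one_mulVec]⟩
      rw [h] at hmem
      exact hv ((Submodule.mem_bot F).mp hmem)
    have htop := hirr _ hinv hne
    have hle : LinearMap.range φ ≤
        (Polynomial.degreeLT F (minpoly F A).natDegree).map φ := by
      rintro _ ⟨g, rfl⟩
      refine ⟨g %ₘ minpoly F A, ?_, ?_⟩
      · rw [SetLike.mem_coe, Polynomial.mem_degreeLT]
        calc (g %ₘ minpoly F A).degree < (minpoly F A).degree :=
              Polynomial.degree_modByMonic_lt g hmon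
          _ = ((minpoly F A).natDegree : WithBot ℕ) := Polynomial.degree_eq_natDegree hmon.ne_zero
      · rw [hφ, hφ]
        congr 1
        conv_rhs => rw [← Polynomial.modByMonic_add_div g (minpoly F A)]
        rw [map_add, map_mul, minpoly.aeval, zero_mul, add_zero]
    have : Module.Finite F ↥(Polynomial.degreeLT F (minpoly F A).natDegree) :=
      Module.Finite.equiv (Polynomial.degreeLTEquiv F _).symm
    have hfin : Module.finrank F ↥(Polynomial.degreeLT F (minpoly F A).natDegree) =
        (minpoly F A).natDegree := by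
      rw [LinearEquiv.finrank_eq (Polynomial.degreeLTEquiv F _), Module.finrank_fin_fun]
    calc n = Module.finrank F (Fin n → F) := (Module.finrank_fin_fun F).symm
      _ = Module.finrank F ↥(⊤ : Submodule F (Fin n → F)) := (finrank_top F (Fin n → F)).symm
      _ = Module.finrank F ↥(LinearMap.range φ) := by rw [htop]
      _ ≤ Module.finrank F ↥((Polynomial.degreeLT F (minpoly F A).natDegree).map φ) :=
          Submodule.finrank_mono hle
      _ ≤ Module.finrank F ↥(Polynomial.degreeLT F (minpoly F A).natDegree) :=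
          Submodule.finrank_map_le φ _
      _ = _ := hfin

/-- If the minimal polynomial `f` of `A` (of odd degree) kills `A⁻¹`, then `f` has a root `λ`
with `λ² = 1`. -/
theorem helper61_rev {F : Type*} [Field F] {n : ℕ} (A B : Matrix (Fin n) (Fin n) F)
    (hAB : A * B = 1) (hodd : Odd (minpoly F A).natDegree) (h0 : aeval B (minpoly F A) = 0) :
    ∃ lam : F, lam * lam = 1 ∧ (minpoly F A).eval lam = 0 := by
  classical
  have hint : IsIntegral F A := Matrix.isIntegral A
  have hmon : (minpoly F A).Monic := minpoly.monic hint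
  have hBA : B * A = 1 := mul_eq_one_comm.mp hAB
  have hcomm : Commute A B := by
    rw [Commute, SemiconjBy, hAB, hBA]
  have hpow : ∀ k, k ≤ (minpoly F A).natDegree →
      A ^ (minpoly F A).natDegree * B ^ k = A ^ ((minpoly F A).natDegree - k) := by
    intro k hk
    conv_lhs => rw [← Nat.sub_add_cancel hk, pow_add, mul_assoc, ← hcomm.mul_pow, hAB, one_pow,
      mul_one]
  have hrev : aeval A (minpoly F A).reverse = 0 := by
    have h1 : A ^ (minpoly F A).natDegree * aeval B (minpoly F A) = 0 := by rw [h0, mul_zero]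
    rw [Polynomial.aeval_eq_sum_range, Finset.mul_sum] at h1
    rw [Polynomial.aeval_eq_sum_range' (n := (minpoly F A).natDegree + 1)
      (lt_of_le_of_lt (Polynomial.reverse_natDegree_le _) (Nat.lt_succ_self _)),
      ← Finset.sum_range_reflect, ← h1]
    refine Finset.sum_congr rfl (fun k hk => ?_)
    have hk' : k ≤ (minpoly F A).natDegree := Nat.lt_succ_iff.mp (Finset.mem_range.mp hk)
    rw [Polynomial.coeff_reverse, Polynomial.revAt_le (by omega), mul_smul_comm, hpow k hk']
    congr 2
    omega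
  obtain ⟨h, hh⟩ := minpoly.dvd F A hrev
  have hrev0 : (minpoly F A).reverse ≠ 0 := fun h => hmon.ne_zero (Polynomial.reverse_eq_zero.mp h)
  have hh0 : h ≠ 0 := by
    rintro rfl
    rw [mul_zero] at hh
    exact hrev0 hh
  have hdeg : h.natDegree = 0 := by
    have h1 := Polynomial.reverse_natDegree_le (minpoly F A)
    rw [hh, Polynomial.natDegree_mul hmon.ne_zero hh0] at h1
    omega
  obtain ⟨c, rfl⟩ : ∃ c, h = C c := ⟨h.coeff 0, Polynomial.eq_C_of_natDegree_eq_zero hdeg⟩
  have hco : ∀ k, k ≤ (minpoly F A).natDegree →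
      (minpoly F A).coeff ((minpoly F A).natDegree - k) = (minpoly F A).coeff k * c := by
    intro k hk
    have := congrArg (fun p => p.coeff k) hh
    simp only [Polynomial.coeff_reverse, Polynomial.coeff_mul_C] at this
    rw [Polynomial.revAt_le hk] at this
    exact this
  have hlead : (minpoly F A).coeff (minpoly F A).natDegree = 1 := hmon.coeff_natDegree
  have hc0 : (minpoly F A).coeff 0 = c := by
    have := hco _ le_rfl
    rw [Nat.sub_self, hlead, one_mul] at this
    exact this
  have hcc : c * c = 1 := by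
    have := hco 0 (Nat.zero_le _)
    rw [Nat.sub_zero, hlead, hc0] at this
    exact this.symm
  obtain ⟨t, ht⟩ := hodd
  have hsq : (-c) ^ 2 = 1 := by
    rw [sq, neg_mul_neg]
    exact hcc
  have hpc : ∀ k, k ≤ (minpoly F A).natDegree →
      (-c) ^ ((minpoly F A).natDegree - k) * c = -((-c) ^ k) := by
    intro k hk
    have h1 : (-c) ^ ((minpoly F A).natDegree - k) =
        (-c) ^ ((minpoly F A).natDegree - k) * ((-c) ^ 2) ^ k := by
      rw [hsq, one_pow, mul_one]
    have h2 : (-c) ^ ((minpoly F A).natDegree - k) * ((-c) ^ 2) ^ k =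
        ((-c) ^ 2) ^ t * (-c) ^ (k + 1) := by
      rw [← pow_mul, ← pow_mul, ← pow_add, ← pow_add]
      congr 1
      omega
    rw [h1, h2, hsq, one_pow, one_mul]
    calc (-c) ^ (k + 1) * c = (-c) ^ k * (-(c * c)) := by ring
      _ = -((-c) ^ k) := by rw [hcc]; ring
  refine ⟨-c, by rw [neg_mul_neg]; exact hcc, ?_⟩
  rw [Polynomial.eval_eq_sum_range]
  refine Finset.sum_involution (fun k _ => (minpoly F A).natDegree - k) ?_ ?_ ?_ ?_
  · intro k hk
    have hk' : k ≤ (minpoly F A).natDegree := Nat.lt_succ_iff.mp (Finset.mem_range.mp hk)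
    rw [hco k hk', mul_assoc, mul_comm c, hpc k hk']
    ring
  · intro k hk _
    have hk' : k ≤ (minpoly F A).natDegree := Nat.lt_succ_iff.mp (Finset.mem_range.mp hk)
    omega
  · intro k hk
    exact Finset.mem_range.mpr (by omega)
  · intro k hk
    have hk' : k ≤ (minpoly F A).natDegree := Nat.lt_succ_iff.mp (Finset.mem_range.mp hk)
    omega

/-- AKER for a general dimension `n` with the arithmetic facts as hypotheses. -/
theorem helper61_gl_poly_core {F : Type*} [Field F] [Fintype F] {n : ℕ} (r : ℕ) [Fact r.Prime]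
    (hr2 : r ≠ 2) (hrF : (r : F) ≠ 0) (hn0 : 0 < n) (hnodd : Odd n)
    (hord : ∀ m, 0 < m → r ∣ Fintype.card F ^ m - 1 → n ≤ m)
    (A : GL (Fin n) F) (hA : orderOf A = r) :
    ∃ f : F[X], aeval A.val f = 0 ∧ f.eval 1 ≠ 0 ∧ IsUnit (aeval ((A⁻¹).val.transpose) f) := by
  classical
  have hr := (Fact.out : r.Prime)
  have hAr : A.val ^ r = 1 := by
    rw [← Units.val_pow_eq_pow_val, ← hA, pow_orderOf_eq_one]
    rfl
  have hA1 : A.val ≠ 1 := by
    intro h
    have h1 : A = 1 := Units.ext h
    rw [h1, orderOf_one] at hA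
    exact hr.one_lt.ne hA
  have hnofix := helper61_nofix r hrF hord A.val hAr hA1
  have hirr : ∀ U : Submodule F (Fin n → F), (∀ u ∈ U, A.val *ᵥ u ∈ U) → U ≠ ⊥ → U = ⊤ :=
    fun U hU hne => helper61_irr r hord A.val hAr U hU (fun u _ h => hnofix u h) hne
  have hdeg := helper61_deg hn0 A.val hirr
  have heig : ∀ lam : F, lam * lam = 1 → (minpoly F A.val).eval lam = 0 → False := by
    intro lam hlam hroot
    have hroot' : (minpoly F (Matrix.toLin' A.val)).IsRoot lam := by
      rw [Matrix.minpoly_toLin']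
      exact hroot
    obtain ⟨v, hv⟩ := (Module.End.hasEigenvalue_of_isRoot hroot').exists_hasEigenvector
    have hv0 : v ≠ 0 := hv.2
    have hAv : A.val *ᵥ v = lam • v := by
      have := hv.apply_eq_smul
      rwa [Matrix.toLin'_apply] at this
    have hk : ∀ k : ℕ, (A.val ^ k) *ᵥ v = lam ^ k • v := by
      intro k
      induction k with
      | zero => rw [pow_zero, pow_zero, Matrix.one_mulVec, one_smul]
      | succ k ih =>
        rw [pow_succ, ← Matrix.mulVec_mulVec, hAv, Matrix.mulVec_smul, ih, smul_smul, pow_succ,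
          mul_comm]
    obtain ⟨t, ht⟩ := hr.odd_of_ne_two hr2
    have hlr : lam ^ r = lam := by
      rw [ht, pow_succ, pow_mul, sq, hlam, one_pow, one_mul]
    have h1 := hk r
    rw [hAr, Matrix.one_mulVec, hlr] at h1
    have hfix : A.val *ᵥ v = v := by rw [hAv, ← h1]
    exact hv0 (hnofix v hfix)
  refine ⟨minpoly F A.val, minpoly.aeval F A.val, ?_, ?_⟩
  · intro h1
    exact heig 1 (one_mul 1) h1
  · have hAB : A.val * (A⁻¹).val = 1 := by
      rw [← Units.val_mul, mul_inv_cancel]
      rfl
    have hBA : (A⁻¹).val * A.val = 1 := by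
      rw [← Units.val_mul, inv_mul_cancel]
      rfl
    have htr : aeval ((A⁻¹).val.transpose) (minpoly F A.val) =
        (aeval (A⁻¹).val (minpoly F A.val)).transpose := by
      rw [Polynomial.aeval_eq_sum_range, Polynomial.aeval_eq_sum_range, Matrix.transpose_sum]
      refine Finset.sum_congr rfl (fun k _ => ?_)
      rw [Matrix.transpose_smul, Matrix.transpose_pow]
    rw [htr, Matrix.isUnit_transpose, ← Matrix.mulVec_injective_iff_isUnit]
    have hcomm : A.val * aeval (A⁻¹).val (minpoly F A.val) =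
        aeval (A⁻¹).val (minpoly F A.val) * A.val := by
      have hc : Commute A.val (A⁻¹).val := by
        rw [Commute, SemiconjBy, hAB, hBA]
      rw [Polynomial.aeval_eq_sum_range, Finset.mul_sum, Finset.sum_mul]
      refine Finset.sum_congr rfl (fun k _ => ?_)
      rw [mul_smul_comm, smul_mul_assoc, (hc.pow_right k).eq]
    have hUinv : ∀ u ∈ LinearMap.ker (aeval (A⁻¹).val (minpoly F A.val)).mulVecLin,
        A.val *ᵥ u ∈ LinearMap.ker (aeval (A⁻¹).val (minpoly F A.val)).mulVecLin := by
      intro u hu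
      rw [LinearMap.mem_ker, Matrix.mulVecLin_apply] at hu ⊢
      rw [Matrix.mulVec_mulVec, ← hcomm, ← Matrix.mulVec_mulVec, hu, Matrix.mulVec_zero]
    have hUbot : LinearMap.ker (aeval (A⁻¹).val (minpoly F A.val)).mulVecLin = ⊥ := by
      by_contra hne
      have htop := hirr _ hUinv hne
      have hN0 : aeval (A⁻¹).val (minpoly F A.val) = 0 := by
        ext i j
        have hmem : (Pi.single j 1 : Fin n → F) ∈
            LinearMap.ker (aeval (A⁻¹).val (minpoly F A.val)).mulVecLin := by
          rw [htop]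
          exact Submodule.mem_top
        rw [LinearMap.mem_ker, Matrix.mulVecLin_apply] at hmem
        have := congr_fun hmem i
        rw [Matrix.mulVec_single_one] at this
        exact this
      obtain ⟨lam, hlam, hroot⟩ := helper61_rev A.val (A⁻¹).val hAB (by rw [hdeg]; exact hnodd) hN0
      exact heig lam hlam hroot
    intro x y hxy
    have hmem : x - y ∈ LinearMap.ker (aeval (A⁻¹).val (minpoly F A.val)).mulVecLin := by
      rw [LinearMap.mem_ker, Matrix.mulVecLin_apply, Matrix.mulVec_sub, hxy, sub_self]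
    rw [hUbot] at hmem
    exact sub_eq_zero.mp ((Submodule.mem_bot F).mp hmem)

/-- AKER (L): for `i = ord_r(q)` odd, `r` odd, `A ∈ GL_i(F)` of order `r`: some `f` kills `A`, is invertible at
the inverse transpose of `A`, and `f(1) ≠ 0`. -/
theorem fe_gl_poly {F : Type*} [Field F] [Fintype F] (r : ℕ) [Fact r.Prime] (hr2 : r ≠ 2)
    (hrF : (r : F) ≠ 0) (hi : Odd (orderOf ((Fintype.card F : ℕ) : ZMod r)))
    (A : GL (Fin (orderOf ((Fintype.card F : ℕ) : ZMod r))) F) (hA : orderOf A = r) :
    ∃ f : F[X], aeval A.val f = 0 ∧ f.eval 1 ≠ 0 ∧ IsUnit (aeval ((A⁻¹).val.transpose) f) := by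
  refine helper61_gl_poly_core r hr2 hrF (helper61_order_facts r hrF).1 hi ?_ A hA
  intro m hm hdvd
  have hpos : 1 ≤ Fintype.card F ^ m := Nat.one_le_pow _ _ Fintype.card_pos
  have h1 : ((Fintype.card F : ℕ) : ZMod r) ^ m = 1 := by
    have h2 := (ZMod.natCast_eq_zero_iff _ r).mpr hdvd
    rw [Nat.cast_sub hpos, Nat.cast_pow, Nat.cast_one, sub_eq_zero] at h2
    exact h2
  exact Nat.le_of_dvd hm (orderOf_dvd_of_pow_eq_one h1)

end Cfsg.Agent.Lib.helper96.FE
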