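import Mathlib
import Cfsg.Agent.S0493
import Cfsg.Agent.S0494
import Cfsg.Agent.Lib.helper61.SL25Pres

/-!
Non-solvable groups of order 120 with quaternion Sylow 2-subgroups are `SL(2,5)` (helper61).

* `SL25U.isSolvable_of_card_lt_sixty`: groups of order `< 60` are solvable.
* `SL25U.isSimpleGroup_of_card_sixty`: a non-solvable group of order 60 is simple.
* `SL25U.ti_count`: counting elements in a family of subgroups with pairwise trivial intersection.
* `SL25U.central_inv`: the involution of a quaternion Sylow 2-subgroup of a non-solvable group of order 120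
  is central.
* `SL25U.nonempty_equiv`: the uniqueness statement.
-/

set_option autoImplicit false

namespace Cfsg.Agent.Lib.helper61.SL25U

universe u

theorem card_lt_of_ne {G : Type*} [Group G] [Finite G] (N : Subgroup G) (h1 : N ≠ ⊥) (h2 : N ≠ ⊤) :
    Nat.card N < Nat.card G ∧ Nat.card (G ⧸ N) < Nat.card G := by
  have hc := Subgroup.card_eq_card_quotient_mul_card_subgroup N
  have hN : 1 < Nat.card N := (Subgroup.one_lt_card_iff_ne_bot N).mpr h1
  have hQ : 1 < Nat.card (G ⧸ N) := by
    have hne : N.index ≠ 1 := fun h => h2 (Subgroup.index_eq_one.mp h)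
    have hpos : N.index ≠ 0 := Subgroup.index_ne_zero_of_finite
    change Nat.card (G ⧸ N) ≠ 1 at hne
    change Nat.card (G ⧸ N) ≠ 0 at hpos
    omega
  constructor <;> nlinarith

theorem isSolvable_of_card_lt_sixty_aux : ∀ n : ℕ, ∀ (G : Type u) [Group G] [Finite G],
    Nat.card G = n → n < 60 → Group.IsSolvable G := by
  intro n
  induction n using Nat.strong_induction_on with
  | _ n ih =>
    intro G _ _ hn hlt
    by_cases hs : IsSimpleGroup G
    · by_cases hc : IsCyclic G
      · exact Group.isSolvable_of_comm (fun a b => (IsCyclic.commGroup (α := G)).mul_comm a b)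
      · have := Cfsg.Agent.S0493.result hc (by omega)
        omega
    · by_cases htriv : Subsingleton G
      · exact inferInstance
      · have hnt : Nontrivial G := not_subsingleton_iff_nontrivial.mp htriv
        obtain ⟨N, hNn, hN1, hN2⟩ : ∃ N : Subgroup G, N.Normal ∧ N ≠ ⊥ ∧ N ≠ ⊤ := by
          by_contra hcon
          push Not at hcon
          exact hs { hnt with
            eq_bot_or_eq_top_of_normal := fun N hN => by
              by_cases h : N = ⊥
              · exact Or.inl h
              · exact Or.inr (hcon N hN h) }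
        obtain ⟨h1, h2⟩ := card_lt_of_ne N hN1 hN2
        have s1 : Group.IsSolvable N := ih _ (hn ▸ h1) N rfl (by omega)
        have s2 : Group.IsSolvable (G ⧸ N) := ih _ (hn ▸ h2) (G ⧸ N) rfl (by omega)
        exact Group.isSolvable_of_ker_le_range N.subtype (QuotientGroup.mk' N) (by simp)

/-- Groups of order less than 60 are solvable. -/
theorem isSolvable_of_card_lt_sixty (G : Type u) [Group G] [Finite G] (h : Nat.card G < 60) :
    Group.IsSolvable G :=
  isSolvable_of_card_lt_sixty_aux _ G rfl h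

/-- A non-solvable group of order 60 is simple. -/
theorem isSimpleGroup_of_card_sixty (G : Type u) [Group G] [Finite G] (h : Nat.card G = 60)
    (hns : ¬ Group.IsSolvable G) : IsSimpleGroup G := by
  have hnt : Nontrivial G := by
    rw [← Finite.one_lt_card_iff_nontrivial, h]; norm_num
  refine { hnt with eq_bot_or_eq_top_of_normal := fun N hN => ?_ }
  by_contra hcon
  push Not at hcon
  obtain ⟨h1, h2⟩ := card_lt_of_ne N hcon.1 hcon.2
  have s1 : Group.IsSolvable N := isSolvable_of_card_lt_sixty _ (by omega)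
  have s2 : Group.IsSolvable (G ⧸ N) := isSolvable_of_card_lt_sixty _ (by omega)
  exact hns (Group.isSolvable_of_ker_le_range N.subtype (QuotientGroup.mk' N) (by simp))

/-- Counting the elements of a family of subgroups with pairwise trivial intersections. -/
theorem ti_count {G : Type*} [Group G] [Finite G] {ι : Type*} [Fintype ι] (H : ι → Subgroup G)
    (hTI : ∀ i j, i ≠ j → H i ⊓ H j = ⊥) : ∑ i, (Nat.card (H i) - 1) + 1 ≤ Nat.card G := by
  classical
  have := Fintype.ofFinite G
  let A : ι → Finset G := fun i => (Finset.univ.filter (· ∈ H i)).erase 1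
  have hA : ∀ i, (A i).card = Nat.card (H i) - 1 := by
    intro i
    rw [Finset.card_erase_of_mem (by simp [one_mem]), Nat.card_eq_fintype_card,
      Fintype.card_subtype]
  have hdisj : ((Finset.univ : Finset ι) : Set ι).PairwiseDisjoint A := by
    intro i _ j _ hij
    rw [Function.onFun, Finset.disjoint_left]
    intro a hai haj
    simp only [A, Finset.mem_erase, Finset.mem_filter, Finset.mem_univ, true_and] at hai haj
    have : a ∈ H i ⊓ H j := ⟨hai.2, haj.2⟩
    rw [hTI i j hij, Subgroup.mem_bot] at this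
    exact hai.1 this
  have hcard := Finset.card_biUnion hdisj
  have hsub : Finset.univ.biUnion A ⊆ (Finset.univ : Finset G).erase 1 := by
    intro a ha
    rw [Finset.mem_biUnion] at ha
    obtain ⟨i, _, hai⟩ := ha
    simp only [A, Finset.mem_erase, Finset.mem_filter, Finset.mem_univ, true_and] at hai
    simp [hai.1]
  have hle := Finset.card_le_card hsub
  rw [hcard, Finset.card_erase_of_mem (Finset.mem_univ _), Finset.card_univ,
    ← Nat.card_eq_fintype_card] at hle
  have hpos : 0 < Nat.card G := Nat.card_pos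
  have hsum : ∑ i, (A i).card = ∑ i, (Nat.card (H i) - 1) := Finset.sum_congr rfl (fun i _ => hA i)
  rw [hsum] at hle
  omega

theorem q8_aux : (QuaternionGroup.a 2 : QuaternionGroup 2) ≠ 1 ∧
    (QuaternionGroup.a 2 : QuaternionGroup 2) * QuaternionGroup.a 2 = 1 ∧
    ∀ s : QuaternionGroup 2, s ≠ 1 → s = QuaternionGroup.a 2 ∨ s * s = QuaternionGroup.a 2 := by
  decide

/-- `z` is the involution of the (quaternion) subgroup `S`: it lies in `S`, has order 2, and every
non-identity element of `S` is `z` or squares to `z`. -/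
def IsInvOf {G : Type*} [Group G] (S : Subgroup G) (z : G) : Prop :=
  z ∈ S ∧ z ≠ 1 ∧ z * z = 1 ∧ ∀ s ∈ S, s ≠ 1 → s = z ∨ s * s = z

theorem exists_isInvOf {G : Type*} [Group G] (S : Subgroup G) (e : S ≃* QuaternionGroup 2) :
    ∃ z, IsInvOf S z := by
  obtain ⟨h1, h2, h3⟩ := q8_aux
  refine ⟨(e.symm (QuaternionGroup.a 2) : S), (e.symm _).2, ?_, ?_, ?_⟩
  · intro h
    apply h1
    have h' : e.symm (QuaternionGroup.a 2) = 1 := Subtype.ext h
    have := congrArg e h'
    simpa using this
  · have : e.symm (QuaternionGroup.a 2) * e.symm (QuaternionGroup.a 2) = 1 := by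
      rw [← map_mul, h2, map_one]
    exact congrArg Subtype.val this
  · intro s hs hs1
    have hne : e ⟨s, hs⟩ ≠ 1 := by
      intro h
      apply hs1
      have h' : (⟨s, hs⟩ : S) = 1 := by
        have := congrArg e.symm h
        simpa using this
      exact congrArg Subtype.val h'
    rcases h3 _ hne with h | h
    · left
      have h' : (⟨s, hs⟩ : S) = e.symm (QuaternionGroup.a 2) := by rw [← h]; simp
      exact congrArg Subtype.val h'
    · right
      have h' : (⟨s, hs⟩ : S) * ⟨s, hs⟩ = e.symm (QuaternionGroup.a 2) := by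
        rw [← h, map_mul]; simp
      exact congrArg Subtype.val h'

theorem IsInvOf.unique {G : Type*} [Group G] {S : Subgroup G} {z : G} (h : IsInvOf S z) {t : G}
    (ht : t ∈ S) (ht1 : t ≠ 1) (ht2 : t * t = 1) : t = z := by
  rcases h.2.2.2 t ht ht1 with h' | h'
  · exact h'
  · exact absurd (h'.symm.trans ht2) h.2.1

theorem IsInvOf.le_centralizer {G : Type*} [Group G] {S : Subgroup G} {z : G} (h : IsInvOf S z) :
    S ≤ Subgroup.centralizer ({z} : Set G) := by
  intro s hs
  rw [Subgroup.mem_centralizer_iff]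
  intro w hw
  rw [Set.mem_singleton_iff] at hw
  subst hw
  have hmem : s * w * s⁻¹ ∈ S := S.mul_mem (S.mul_mem hs h.1) (S.inv_mem hs)
  have hne : s * w * s⁻¹ ≠ 1 := by
    intro h'
    apply h.2.1
    calc w = s⁻¹ * (s * w * s⁻¹) * s := by group
      _ = 1 := by rw [h']; group
  have hsq : s * w * s⁻¹ * (s * w * s⁻¹) = 1 := by
    calc s * w * s⁻¹ * (s * w * s⁻¹) = s * (w * w) * s⁻¹ := by group
      _ = 1 := by rw [h.2.2.1]; group
  have := h.unique hmem hne hsq
  calc w * s = (s * w * s⁻¹) * s := by rw [this]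
    _ = s * w := by group

theorem IsInvOf.normalizer_le {G : Type*} [Group G] {S : Subgroup G} {z : G} (h : IsInvOf S z) :
    Subgroup.normalizer (S : Set G) ≤ Subgroup.centralizer ({z} : Set G) := by
  intro s hs
  rw [Subgroup.mem_centralizer_iff]
  intro w hw
  rw [Set.mem_singleton_iff] at hw
  subst hw
  have hmem : s * w * s⁻¹ ∈ S := (Subgroup.mem_normalizer_iff.mp hs w).mp h.1
  have hne : s * w * s⁻¹ ≠ 1 := by
    intro h'
    apply h.2.1
    calc w = s⁻¹ * (s * w * s⁻¹) * s := by group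
      _ = 1 := by rw [h']; group
  have hsq : s * w * s⁻¹ * (s * w * s⁻¹) = 1 := by
    calc s * w * s⁻¹ * (s * w * s⁻¹) = s * (w * w) * s⁻¹ := by group
      _ = 1 := by rw [h.2.2.1]; group
  have := h.unique hmem hne hsq
  calc w * s = (s * w * s⁻¹) * s := by rw [this]
    _ = s * w := by group

/-- Every involution is conjugate to the involution of a fixed quaternion Sylow 2-subgroup. -/
theorem inv_conj {G : Type*} [Group G] [Finite G] (S : Sylow 2 G) {z : G}
    (hz : IsInvOf (S : Subgroup G) z) {t : G} (ht1 : t ≠ 1) (ht2 : t * t = 1) :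
    ∃ g : G, t = g * z * g⁻¹ := by
  have hp : IsPGroup 2 (Subgroup.zpowers t) := by
    refine IsPGroup.of_card (n := 1) ?_
    rw [Nat.card_zpowers, pow_one]
    exact orderOf_eq_prime (by rw [pow_two]; exact ht2) ht1
  obtain ⟨Q, hQ⟩ := hp.exists_le_sylow
  obtain ⟨g, rfl⟩ := MulAction.exists_smul_eq G S Q
  have htQ : t ∈ ((g • S : Sylow 2 G) : Subgroup G) := hQ (Subgroup.mem_zpowers t)
  rw [Sylow.smul_def, Sylow.pointwise_smul_def, Subgroup.mem_smul_pointwise_iff_exists] at htQ
  obtain ⟨s, hs, hst⟩ := htQ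
  rw [MulAut.smul_def, MulAut.conj_apply] at hst
  have hs1 : s ≠ 1 := by
    rintro rfl
    apply ht1
    rw [← hst]; group
  have hs2 : s * s = 1 := by
    have h' : s = g⁻¹ * t * g := by rw [← hst]; group
    rw [h']
    calc g⁻¹ * t * g * (g⁻¹ * t * g) = g⁻¹ * (t * t) * g := by group
      _ = 1 := by rw [ht2]; group
  have := hz.unique hs hs1 hs2
  exact ⟨g, by rw [← this, hst]⟩

theorem card_centralizer_conj {G : Type*} [Group G] (g z : G) :
    Nat.card (Subgroup.centralizer ({g * z * g⁻¹} : Set G)) =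
      Nat.card (Subgroup.centralizer ({z} : Set G)) := by
  refine Nat.card_congr ⟨fun x => ⟨g⁻¹ * x.1 * g, ?_⟩, fun x => ⟨g * x.1 * g⁻¹, ?_⟩, ?_, ?_⟩
  · have hx := x.2
    rw [Subgroup.mem_centralizer_singleton_iff] at hx ⊢
    calc g⁻¹ * x.1 * g * z = g⁻¹ * (x.1 * (g * z * g⁻¹)) * g := by group
      _ = g⁻¹ * (g * z * g⁻¹ * x.1) * g := by rw [hx]
      _ = z * (g⁻¹ * x.1 * g) := by group
  · have hx := x.2
    rw [Subgroup.mem_centralizer_singleton_iff] at hx ⊢
    calc g * x.1 * g⁻¹ * (g * z * g⁻¹) = g * (x.1 * z) * g⁻¹ := by group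
      _ = g * (z * x.1) * g⁻¹ := by rw [hx]
      _ = g * z * g⁻¹ * (g * x.1 * g⁻¹) := by group
  · intro x
    apply Subtype.ext
    show g * (g⁻¹ * x.1 * g) * g⁻¹ = x.1
    group
  · intro x
    apply Subtype.ext
    show g⁻¹ * (g * x.1 * g⁻¹) * g = x.1
    group

theorem card_quaternion_two : Nat.card (QuaternionGroup 2) = 8 := by
  rw [Nat.card_eq_fintype_card, QuaternionGroup.card]

/-- The involution of a quaternion Sylow 2-subgroup of a non-solvable group of order 120 is central. -/
theorem central_inv {G : Type u} [Group G] [Finite G] (hcard : Nat.card G = 120)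
    (hns : ¬ Group.IsSolvable G)
    (hQ : ∀ Q : Sylow 2 G, Nonempty ((Q : Subgroup G) ≃* QuaternionGroup 2))
    (S : Sylow 2 G) {z : G} (hz : IsInvOf (S : Subgroup G) z) : ∀ g : G, g * z = z * g := by
  classical
  have hall8 : ∀ Q : Sylow 2 G, Nat.card (Q : Subgroup G) = 8 := by
    intro Q
    obtain ⟨e⟩ := hQ Q
    rw [Nat.card_congr e.toEquiv, card_quaternion_two]
  have hS8 := hall8 S
  set C := Subgroup.centralizer ({z} : Set G) with hC
  have hSC : (S : Subgroup G) ≤ C := hz.le_centralizer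
  have h8 : 8 ∣ Nat.card C := hS8 ▸ Subgroup.card_dvd_of_le hSC
  have hCi : Nat.card C * C.index = 120 := by rw [← hcard]; exact Subgroup.card_mul_index C
  by_contra hcon
  have hidx1 : C.index ≠ 1 := by
    intro h1
    apply hcon
    intro g
    have hg : g ∈ C := by rw [Subgroup.index_eq_one.mp h1]; trivial
    exact Subgroup.mem_centralizer_singleton_iff.mp hg
  have hidx : C.index = 3 ∨ C.index = 5 ∨ C.index = 15 := by
    obtain ⟨k, hk⟩ := h8
    have hk15 : k * C.index = 15 := by
      rw [hk, mul_assoc] at hCi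
      omega
    have hdvd : C.index ∣ 15 := Dvd.intro_left k hk15
    have hmem : C.index ∈ Nat.divisors 15 := by simp [hdvd]
    have hd : Nat.divisors 15 = {1, 3, 5, 15} := by decide
    rw [hd] at hmem
    simp only [Finset.mem_insert, Finset.mem_singleton] at hmem
    rcases hmem with h | h | h | h
    · exact absurd h hidx1
    · exact Or.inl h
    · exact Or.inr (Or.inl h)
    · exact Or.inr (Or.inr h)
  let ρ := MulAction.toPermHom G (G ⧸ C)
  have hker : ρ.ker ≤ C := by
    rw [← Subgroup.normalCore_eq_ker]; exact Subgroup.normalCore_le C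
  have hcardPerm : Nat.card (Equiv.Perm (G ⧸ C)) = (C.index).factorial := by
    rw [Nat.card_perm]; rfl
  rcases hidx with h3 | h5 | h15
  · -- index 3
    have hC40 : Nat.card C = 40 := by rw [h3] at hCi; omega
    have s1 : Group.IsSolvable ρ.ker :=
      isSolvable_of_card_lt_sixty _ (lt_of_le_of_lt (Subgroup.card_le_of_le hker) (by omega))
    have s2 : Group.IsSolvable (Equiv.Perm (G ⧸ C)) :=
      isSolvable_of_card_lt_sixty _ (by rw [hcardPerm, h3]; decide)
    exact hns (Group.isSolvable_of_ker_le_range ρ.ker.subtype ρ (by simp))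
  · -- index 5
    have hC24 : Nat.card C = 24 := by rw [h5] at hCi; omega
    have s1 : Group.IsSolvable ρ.ker :=
      isSolvable_of_card_lt_sixty _ (lt_of_le_of_lt (Subgroup.card_le_of_le hker) (by omega))
    have hrange_ns : ¬ Group.IsSolvable ρ.range := fun s2 =>
      hns (Group.isSolvable_of_ker_le_range ρ.ker.subtype ρ.rangeRestrict
        (by rw [MonoidHom.ker_rangeRestrict]; simp))
    have hrange60 : 60 ≤ Nat.card ρ.range := by
      by_contra h
      exact hrange_ns (isSolvable_of_card_lt_sixty _ (by omega))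
    have hcr : Nat.card ρ.range * Nat.card ρ.ker = 120 := by
      rw [← hcard, Subgroup.card_eq_card_quotient_mul_card_subgroup ρ.ker,
        Nat.card_congr (QuotientGroup.quotientKerEquivRange ρ).toEquiv]
    have hkpos : 0 < Nat.card ρ.ker := Nat.card_pos
    have hk2 : Nat.card ρ.ker ≤ 2 := by nlinarith
    rcases (by omega : Nat.card ρ.ker = 1 ∨ Nat.card ρ.ker = 2) with hk1 | hk2'
    · -- `G ≃ Perm (G ⧸ C)`: contradiction via signs
      have hinj : Function.Injective ρ :=
        (MonoidHom.ker_eq_bot_iff ρ).mp (Subgroup.card_eq_one.mp hk1)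
      have hbij : Function.Bijective ρ :=
        hinj.bijective_of_nat_card_le (by rw [hcardPerm, h5, hcard]; decide)
      have h5' : Nat.card (G ⧸ C) = 5 := h5
      haveI : Fintype (G ⧸ C) := Fintype.ofFinite _
      let e : (G ⧸ C) ≃ Fin 5 := Finite.equivFinOfCardEq h5'
      have hab : e.symm 0 ≠ e.symm 1 := fun h => absurd (e.symm.injective h) (by decide)
      have hcd : e.symm 2 ≠ e.symm 3 := fun h => absurd (e.symm.injective h) (by decide)
      obtain ⟨t1, ht1⟩ := hbij.2 (Equiv.swap (e.symm 0) (e.symm 1))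
      obtain ⟨t2, ht2⟩ := hbij.2 (Equiv.swap (e.symm 0) (e.symm 1) * Equiv.swap (e.symm 2) (e.symm 3))
      have hsg1 : Equiv.Perm.sign (ρ t1) = -1 := by rw [ht1, Equiv.Perm.sign_swap hab]
      have hsg2 : Equiv.Perm.sign (ρ t2) = 1 := by
        rw [ht2, Equiv.Perm.sign.map_mul, Equiv.Perm.sign_swap hab, Equiv.Perm.sign_swap hcd]; decide
      have ht1ne : t1 ≠ 1 := by
        rintro rfl
        rw [ρ.map_one, Equiv.Perm.sign.map_one] at hsg1
        exact absurd hsg1 (by decide)
      have ht1sq : t1 * t1 = 1 := by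
        apply hinj
        rw [ρ.map_mul, ht1, ρ.map_one, Equiv.swap_mul_self]
      have ht2ne : t2 ≠ 1 := by
        rintro rfl
        rw [ρ.map_one] at ht2
        have h0 := congrArg (fun σ : Equiv.Perm (G ⧸ C) => σ (e.symm 2)) ht2
        have hne0 : e.symm 2 ≠ e.symm 0 := fun h => absurd (e.symm.injective h) (by decide)
        have hne1 : e.symm 2 ≠ e.symm 1 := fun h => absurd (e.symm.injective h) (by decide)
        have hne3 : e.symm 3 ≠ e.symm 0 := fun h => absurd (e.symm.injective h) (by decide)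
        have hne4 : e.symm 3 ≠ e.symm 1 := fun h => absurd (e.symm.injective h) (by decide)
        simp only [Equiv.Perm.coe_one, id_eq, Equiv.Perm.coe_mul, Function.comp_apply,
          Equiv.swap_apply_left] at h0
        rw [Equiv.swap_apply_of_ne_of_ne hne3 hne4] at h0
        exact hcd h0
      have ht2sq : t2 * t2 = 1 := by
        apply hinj
        have hcomm : Equiv.swap (e.symm 0) (e.symm 1) * Equiv.swap (e.symm 2) (e.symm 3) =
            Equiv.swap (e.symm 2) (e.symm 3) * Equiv.swap (e.symm 0) (e.symm 1) := by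
          have hne0 : e.symm 0 ≠ e.symm 2 := fun h => absurd (e.symm.injective h) (by decide)
          have hne1 : e.symm 0 ≠ e.symm 3 := fun h => absurd (e.symm.injective h) (by decide)
          have hne3 : e.symm 1 ≠ e.symm 2 := fun h => absurd (e.symm.injective h) (by decide)
          have hne4 : e.symm 1 ≠ e.symm 3 := fun h => absurd (e.symm.injective h) (by decide)
          exact (Equiv.Perm.Disjoint.commute
            (by
              rw [Equiv.Perm.disjoint_iff_disjoint_support, Equiv.Perm.support_swap hab,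
                Equiv.Perm.support_swap hcd]
              simp)).eq
        rw [ρ.map_mul, ht2, ρ.map_one]
        calc Equiv.swap (e.symm 0) (e.symm 1) * Equiv.swap (e.symm 2) (e.symm 3) *
              (Equiv.swap (e.symm 0) (e.symm 1) * Equiv.swap (e.symm 2) (e.symm 3))
            = Equiv.swap (e.symm 0) (e.symm 1) * Equiv.swap (e.symm 2) (e.symm 3) *
              (Equiv.swap (e.symm 2) (e.symm 3) * Equiv.swap (e.symm 0) (e.symm 1)) := by
                rw [← hcomm]
          _ = 1 := by
                rw [mul_assoc, ← mul_assoc (Equiv.swap (e.symm 2) (e.symm 3)),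
                  Equiv.swap_mul_self, one_mul, Equiv.swap_mul_self]
      obtain ⟨g1, hg1⟩ := inv_conj S hz ht1ne ht1sq
      obtain ⟨g2, hg2⟩ := inv_conj S hz ht2ne ht2sq
      have hs1 : Equiv.Perm.sign (ρ t1) = Equiv.Perm.sign (ρ z) := by
        rw [hg1, ρ.map_mul, ρ.map_mul, Equiv.Perm.sign.map_mul, Equiv.Perm.sign.map_mul, ρ.map_inv,
          Equiv.Perm.sign.map_inv, mul_comm, ← mul_assoc, inv_mul_cancel, one_mul]
      have hs2 : Equiv.Perm.sign (ρ t2) = Equiv.Perm.sign (ρ z) := by
        rw [hg2, ρ.map_mul, ρ.map_mul, Equiv.Perm.sign.map_mul, Equiv.Perm.sign.map_mul, ρ.map_inv,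
          Equiv.Perm.sign.map_inv, mul_comm, ← mul_assoc, inv_mul_cancel, one_mul]
      rw [hsg1] at hs1
      rw [hsg2, ← hs1] at hs2
      exact absurd hs2 (by decide)
    · -- a normal subgroup of order 2: its involution is central and conjugate to `z`
      obtain ⟨k, hk1, hkuniq⟩ := (Nat.card_eq_two_iff' (1 : ρ.ker)).mp hk2'
      have hkc : ∀ g : G, g * (k : G) * g⁻¹ = k := by
        intro g
        have hmem : g * (k : G) * g⁻¹ ∈ ρ.ker :=
          (inferInstance : ρ.ker.Normal).conj_mem _ k.2 g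
        have hne : (⟨_, hmem⟩ : ρ.ker) ≠ 1 := by
          intro h
          have h' : g * (k : G) * g⁻¹ = 1 := congrArg Subtype.val h
          apply hk1
          apply Subtype.ext
          show (k : G) = 1
          calc (k : G) = g⁻¹ * (g * (k : G) * g⁻¹) * g := by group
            _ = 1 := by rw [h']; group
        exact congrArg Subtype.val (hkuniq _ hne)
      have hk1' : (k : G) ≠ 1 := fun h => hk1 (Subtype.ext h)
      have hksq : (k : G) * k = 1 := by
        by_contra h
        have hne : k * k ≠ 1 := fun h' => h (congrArg Subtype.val h')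
        have h2 := hkuniq _ hne
        exact hk1 (by simpa using h2)
      obtain ⟨g, hg⟩ := inv_conj S hz hk1' hksq
      have hzk : z = k := by
        calc z = g⁻¹ * (g * z * g⁻¹) * g := by group
          _ = g⁻¹ * (k : G) * g := by rw [← hg]
          _ = k := by simpa using hkc g⁻¹
      apply hcon
      intro g'
      rw [hzk]
      calc g' * (k : G) = (g' * (k : G) * g'⁻¹) * g' := by group
        _ = k * g' := by rw [hkc]
  · -- index 15
    have hC8 : Nat.card C = 8 := by rw [h15] at hCi; omega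
    have hCS : (S : Subgroup G) = C := Subgroup.eq_of_le_of_card_ge hSC (by rw [hC8, hS8])
    have hcent : ∀ Q : Sylow 2 G, ∀ w, IsInvOf (Q : Subgroup G) w →
        (Q : Subgroup G) = Subgroup.centralizer {w} := by
      intro Q w hw
      obtain ⟨g, hg⟩ := inv_conj S hz hw.2.1 hw.2.2.1
      have hcw : Nat.card (Subgroup.centralizer ({w} : Set G)) = 8 := by
        rw [hg, card_centralizer_conj]; exact hC8
      exact Subgroup.eq_of_le_of_card_ge hw.le_centralizer (by rw [hcw, hall8 Q])
    have hTI2 : ∀ Q₁ Q₂ : Sylow 2 G, Q₁ ≠ Q₂ → (Q₁ : Subgroup G) ⊓ Q₂ = ⊥ := by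
      intro Q₁ Q₂ hne
      rw [Subgroup.eq_bot_iff_forall]
      intro a ha
      by_contra ha1
      obtain ⟨e₁⟩ := hQ Q₁
      obtain ⟨e₂⟩ := hQ Q₂
      obtain ⟨w₁, hw₁⟩ := exists_isInvOf _ e₁
      obtain ⟨w₂, hw₂⟩ := exists_isInvOf _ e₂
      have hw12 : w₁ = w₂ := by
        rcases hw₁.2.2.2 a ha.1 ha1 with h | h
        · exact hw₂.unique (h ▸ ha.2) hw₁.2.1 hw₁.2.2.1
        · exact hw₂.unique (h ▸ (Subgroup.mul_mem _ ha.2 ha.2)) hw₁.2.1 hw₁.2.2.1
      apply hne
      apply Sylow.ext
      rw [hcent Q₁ w₁ hw₁, hcent Q₂ w₂ hw₂, hw12]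
    have hn2 : Nat.card (Sylow 2 G) = 15 := by
      rw [Sylow.card_eq_index_normalizer S]
      have hN : Subgroup.normalizer (S : Set G) = C :=
        le_antisymm hz.normalizer_le (by rw [← hCS]; exact Subgroup.le_normalizer)
      rw [hN, h15]
    haveI : Fact (Nat.Prime 5) := ⟨by norm_num⟩
    have h5card : ∀ P : Sylow 5 G, Nat.card (P : Subgroup G) = 5 := by
      intro P
      have := (Cfsg.Agent.Lib.helper11.card_sylow_of_card_eq 5 1 24 (by norm_num)
        (by rw [hcard]; norm_num) P).1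
      simpa using this
    have hTI5 : ∀ P₁ P₂ : Sylow 5 G, P₁ ≠ P₂ → (P₁ : Subgroup G) ⊓ P₂ = ⊥ := by
      intro P₁ P₂ hne
      by_contra hbot
      have hdvd : Nat.card ((P₁ : Subgroup G) ⊓ P₂ : Subgroup G) ∣ 5 := by
        have := Subgroup.card_dvd_of_le (inf_le_left : (P₁ : Subgroup G) ⊓ P₂ ≤ P₁)
        rwa [h5card] at this
      have hc1 : Nat.card ((P₁ : Subgroup G) ⊓ P₂ : Subgroup G) ≠ 1 := fun h =>
        hbot (Subgroup.card_eq_one.mp h)
      have hc5 : Nat.card ((P₁ : Subgroup G) ⊓ P₂ : Subgroup G) = 5 := by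
        rcases (Nat.dvd_prime (by norm_num : Nat.Prime 5)).mp hdvd with h | h
        · exact absurd h hc1
        · exact h
      have e1 : (P₁ : Subgroup G) ⊓ P₂ = P₁ :=
        Subgroup.eq_of_le_of_card_ge inf_le_left (by rw [hc5, h5card])
      have e2 : (P₁ : Subgroup G) ⊓ P₂ = P₂ :=
        Subgroup.eq_of_le_of_card_ge inf_le_right (by rw [hc5, h5card])
      exact hne (Sylow.ext (e1.symm.trans e2))
    haveI : Fintype (Sylow 2 G) := Fintype.ofFinite _
    haveI : Fintype (Sylow 5 G) := Fintype.ofFinite _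
    have hcount := ti_count (Sum.elim (fun Q : Sylow 2 G => (Q : Subgroup G))
      (fun P : Sylow 5 G => (P : Subgroup G))) (by
        rintro (Q₁ | P₁) (Q₂ | P₂) hne
        · exact hTI2 Q₁ Q₂ (fun h => hne (congrArg Sum.inl h))
        · exact (Subgroup.disjoint_of_coprime_natCard (by
            show Nat.Coprime (Nat.card (Q₁ : Subgroup G)) (Nat.card (P₂ : Subgroup G))
            rw [hall8, h5card]; decide)).eq_bot
        · exact (Subgroup.disjoint_of_coprime_natCard (by
            show Nat.Coprime (Nat.card (P₁ : Subgroup G)) (Nat.card (Q₂ : Subgroup G))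
            rw [hall8, h5card]; decide)).eq_bot
        · exact hTI5 P₁ P₂ (fun h => hne (congrArg Sum.inr h)))
    rw [Fintype.sum_sum_type] at hcount
    simp only [Sum.elim_inl, Sum.elim_inr, hall8, h5card, Finset.sum_const, Finset.card_univ,
      smul_eq_mul, hcard] at hcount
    rw [← Nat.card_eq_fintype_card, ← Nat.card_eq_fintype_card, hn2] at hcount
    have hmod := card_sylow_modEq_one 5 G
    have hn5 : Nat.card (Sylow 5 G) = 1 := by
      unfold Nat.ModEq at hmod
      omega
    obtain ⟨P⟩ : Nonempty (Sylow 5 G) := inferInstance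
    haveI : Subsingleton (Sylow 5 G) := (Nat.card_eq_one_iff_unique.mp hn5).1
    haveI hPn : (P : Subgroup G).Normal := Sylow.normal_of_subsingleton P
    have s1 : Group.IsSolvable (P : Subgroup G) :=
      isSolvable_of_card_lt_sixty _ (by rw [h5card]; norm_num)
    have s2 : Group.IsSolvable (G ⧸ (P : Subgroup G)) := by
      apply isSolvable_of_card_lt_sixty
      have := Subgroup.card_eq_card_quotient_mul_card_subgroup (P : Subgroup G)
      rw [hcard, h5card] at this
      omega
    exact hns (Group.isSolvable_of_ker_le_range (P : Subgroup G).subtype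
      (QuotientGroup.mk' (P : Subgroup G)) (by simp))

/-- Every non-solvable group of order 120 with quaternion Sylow 2-subgroups is `SL(2,5)`. -/
theorem nonempty_equiv {G : Type u} [Group G] [Finite G] (hcard : Nat.card G = 120)
    (hns : ¬ Group.IsSolvable G)
    (hQ : ∀ Q : Sylow 2 G, Nonempty ((Q : Subgroup G) ≃* QuaternionGroup 2)) :
    Nonempty (G ≃* Matrix.SpecialLinearGroup (Fin 2) (ZMod 5)) := by
  classical
  obtain ⟨S⟩ : Nonempty (Sylow 2 G) := inferInstance
  obtain ⟨e⟩ := hQ S
  obtain ⟨z, hz⟩ := exists_isInvOf _ e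
  have hzc := central_inv hcard hns hQ S hz
  have hz1 : z ≠ 1 := hz.2.1
  have hz2 : z * z = 1 := hz.2.2.1
  have hz2' : z ^ 2 = 1 := by rw [pow_two]; exact hz2
  have hinv : ∀ t : G, t ≠ 1 → t * t = 1 → t = z := by
    intro t ht1 ht2
    obtain ⟨g, hg⟩ := inv_conj S hz ht1 ht2
    rw [hg, hzc g, mul_inv_cancel_right]
  let Z : Subgroup G := Subgroup.zpowers z
  have hZn : Z.Normal := by
    refine ⟨fun n hn g => ?_⟩
    obtain ⟨k, rfl⟩ := Subgroup.mem_zpowers_iff.mp hn
    have hcomm : Commute g z := hzc g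
    have h2 : Commute g (z ^ k) := hcomm.zpow_right k
    rw [h2.eq, mul_inv_cancel_right]
    exact hn
  have hZmem : ∀ w ∈ Z, w = 1 ∨ w = z := by
    intro w hw
    obtain ⟨k, rfl⟩ := Subgroup.mem_zpowers_iff.mp hw
    rcases Int.even_or_odd k with ⟨m, rfl⟩ | ⟨m, rfl⟩
    · left
      rw [← two_mul, zpow_mul, zpow_ofNat, hz2', one_zpow]
    · right
      rw [zpow_add, zpow_mul, zpow_ofNat, hz2', one_zpow, one_mul, zpow_one]
  have hZcard : Nat.card Z = 2 := by
    rw [Nat.card_zpowers]; exact orderOf_eq_prime hz2' hz1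
  have hQcard : Nat.card (G ⧸ Z) = 60 := by
    have := Subgroup.card_eq_card_quotient_mul_card_subgroup Z
    rw [hcard, hZcard] at this
    omega
  have hQns : ¬ Group.IsSolvable (G ⧸ Z) := by
    intro s2
    have s1 : Group.IsSolvable Z := isSolvable_of_card_lt_sixty _ (by rw [hZcard]; norm_num)
    exact hns (Group.isSolvable_of_ker_le_range Z.subtype (QuotientGroup.mk' Z) (by simp))
  haveI hsimple : IsSimpleGroup (G ⧸ Z) := isSimpleGroup_of_card_sixty _ hQcard hQns
  obtain ⟨e₁⟩ := Cfsg.Agent.S0494.result hQcard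
  obtain ⟨e₂⟩ : Nonempty (Cfsg.Agent.S3377.P ≃* alternatingGroup (Fin 5)) := Cfsg.Agent.S3377.result
  let θ : Cfsg.Agent.S3377.P ≃* G ⧸ Z := e₂.trans e₁.symm
  have ha3 : θ Cfsg.Agent.S3377.x ^ 3 = 1 := by
    rw [← map_pow]
    have h : Cfsg.Agent.S3377.x ^ 3 = 1 := by
      rw [pow_succ, pow_succ, pow_one]; exact Cfsg.Agent.S3377.x3
    rw [h, map_one]
  have hb5 : θ Cfsg.Agent.S3377.y ^ 5 = 1 := by
    rw [← map_pow]
    have h : Cfsg.Agent.S3377.y ^ 5 = 1 := by
      rw [pow_succ, pow_succ, pow_succ, pow_succ, pow_one]; exact Cfsg.Agent.S3377.y5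
    rw [h, map_one]
  have hab2 : (θ Cfsg.Agent.S3377.x * θ Cfsg.Agent.S3377.y) ^ 2 = 1 := by
    rw [← map_mul, ← map_pow]
    have h : (Cfsg.Agent.S3377.x * Cfsg.Agent.S3377.y) ^ 2 = 1 := by
      rw [pow_two, ← mul_assoc]; exact Cfsg.Agent.S3377.xy2
    rw [h, map_one]
  have hgen : ∀ H : Subgroup (G ⧸ Z), θ Cfsg.Agent.S3377.x ∈ H → θ Cfsg.Agent.S3377.y ∈ H →
      H = ⊤ := by
    intro H ha hb
    have hc : Subgroup.comap θ.toMonoidHom H = ⊤ := by
      rw [eq_top_iff, ← PresentedGroup.closure_range_of Cfsg.Agent.S3377.rels, Subgroup.closure_le]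
      rintro _ ⟨i, rfl⟩
      fin_cases i
      · exact ha
      · exact hb
    rw [eq_top_iff]
    intro q _
    have hq : θ.symm q ∈ Subgroup.comap θ.toMonoidHom H := by rw [hc]; trivial
    simpa using hq
  generalize θ Cfsg.Agent.S3377.x = abar at ha3 hab2 hgen
  generalize θ Cfsg.Agent.S3377.y = bbar at hb5 hab2 hgen
  obtain ⟨x₀, hx₀⟩ := QuotientGroup.mk'_surjective Z abar
  obtain ⟨y₀, hy₀⟩ := QuotientGroup.mk'_surjective Z bbar
  have hZsq : ∀ w ∈ Z, w ^ 2 = 1 := by
    intro w hw
    rcases hZmem w hw with rfl | rfl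
    · simp
    · exact hz2'
  have hx₀3 : x₀ ^ 3 ∈ Z := by
    rw [← QuotientGroup.eq_one_iff, ← QuotientGroup.mk'_apply, map_pow, hx₀, ha3]
  have hy₀5 : y₀ ^ 5 ∈ Z := by
    rw [← QuotientGroup.eq_one_iff, ← QuotientGroup.mk'_apply, map_pow, hy₀, hb5]
  have hx3 : (x₀ ^ 4) ^ 3 = 1 := by
    calc (x₀ ^ 4) ^ 3 = ((x₀ ^ 3) ^ 2) ^ 2 := by rw [← pow_mul, ← pow_mul, ← pow_mul]
      _ = 1 := by rw [hZsq _ hx₀3, one_pow]
  have hy5 : (y₀ ^ 6) ^ 5 = 1 := by
    calc (y₀ ^ 6) ^ 5 = ((y₀ ^ 5) ^ 2) ^ 3 := by rw [← pow_mul, ← pow_mul, ← pow_mul]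
      _ = 1 := by rw [hZsq _ hy₀5, one_pow]
  have hxbar : QuotientGroup.mk' Z (x₀ ^ 4) = abar := by
    rw [map_pow, hx₀]
    calc abar ^ 4 = abar ^ 3 * abar := pow_succ abar 3
      _ = abar := by rw [ha3, one_mul]
  have hybar : QuotientGroup.mk' Z (y₀ ^ 6) = bbar := by
    rw [map_pow, hy₀]
    calc bbar ^ 6 = bbar ^ 5 * bbar := pow_succ bbar 5
      _ = bbar := by rw [hb5, one_mul]
  generalize x₀ ^ 4 = x at hx3 hxbar
  generalize y₀ ^ 6 = y at hy5 hybar
  have habne : abar * bbar ≠ 1 := by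
    intro h
    have h1 : abar = bbar⁻¹ := eq_inv_of_mul_eq_one_left h
    have h5 : abar ^ 5 = 1 := by rw [h1, inv_pow, hb5, inv_one]
    have ha1 : abar = 1 := by
      calc abar = (abar ^ 3) ^ 2 * (abar ^ 5)⁻¹ := by group
        _ = 1 := by rw [ha3, h5]; simp
    have hb1 : bbar = 1 := by rw [ha1, one_mul] at h; exact h
    have htop := hgen ⊥ (by rw [ha1]; exact one_mem _) (by rw [hb1]; exact one_mem _)
    have hc1 : Nat.card (G ⧸ Z) = 1 := by
      rw [← Subgroup.card_top (G := G ⧸ Z), ← htop, Subgroup.card_bot]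
    omega
  have hxyZ : (x * y) ^ 2 ∈ Z := by
    rw [← QuotientGroup.eq_one_iff, ← QuotientGroup.mk'_apply, map_pow, map_mul, hxbar, hybar, hab2]
  have hxyne : QuotientGroup.mk' Z (x * y) ≠ 1 := by
    rw [map_mul, hxbar, hybar]; exact habne
  have hxy2 : (x * y) ^ 2 = z := by
    rcases hZmem _ hxyZ with h | h
    · exfalso
      have hne1 : x * y ≠ 1 := by
        intro h'
        apply hxyne
        rw [h', map_one]
      have h3 := hinv (x * y) hne1 (by rw [← pow_two]; exact h)
      apply hxyne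
      rw [h3]
      exact (QuotientGroup.eq_one_iff z).mpr (Subgroup.mem_zpowers z)
    · exact h
  have hzx : z⁻¹ * x * z * x⁻¹ = 1 := by
    rw [mul_assoc z⁻¹, hzc x]; group
  have hzy : z⁻¹ * y * z * y⁻¹ = 1 := by
    rw [mul_assoc z⁻¹, hzc y]; group
  have hxyz : (x * y) ^ 2 * z⁻¹ = 1 := by rw [hxy2, mul_inv_cancel]
  let ψ := SL25.homOf x y z hx3 hy5 hz2' hzx hzy hxyz
  have hψx : ψ SL25.x = x := SL25.homOf_x x y z hx3 hy5 hz2' hzx hzy hxyz
  have hψy : ψ SL25.y = y := SL25.homOf_y x y z hx3 hy5 hz2' hzx hzy hxyz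
  have hψz : ψ SL25.z = z := SL25.homOf_z x y z hx3 hy5 hz2' hzx hzy hxyz
  have hsurj : Function.Surjective ψ := by
    have hmap : (ψ.range).map (QuotientGroup.mk' Z) = ⊤ :=
      hgen _ ⟨x, ⟨SL25.x, hψx⟩, hxbar⟩ ⟨y, ⟨SL25.y, hψy⟩, hybar⟩
    have hZle : Z ≤ ψ.range := by
      rw [Subgroup.zpowers_le]
      exact ⟨SL25.z, hψz⟩
    intro g
    have hg : QuotientGroup.mk' Z g ∈ (ψ.range).map (QuotientGroup.mk' Z) := by
      rw [hmap]; trivial
    obtain ⟨h, hh, hhg⟩ := hg
    have hmem : h⁻¹ * g ∈ Z := QuotientGroup.eq.mp hhg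
    have hgeq : g = h * (h⁻¹ * g) := by group
    have hgr : g ∈ ψ.range := by
      rw [hgeq]; exact Subgroup.mul_mem _ hh (hZle hmem)
    exact hgr
  haveI := SL25.finite_P
  have hbij : Function.Bijective ψ :=
    hsurj.bijective_of_nat_card_le (by rw [SL25.card_P, hcard])
  obtain ⟨e₃⟩ := SL25.nonempty_equiv
  exact ⟨(MulEquiv.ofBijective ψ hbij).symm.trans e₃⟩

end Cfsg.Agent.Lib.helper61.SL25U
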