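/-
S0999 (helper21 split), piece GT4a: a finite simple group with more than one Sylow `p`-subgroup
acts faithfully and transitively on its Sylow `p`-subgroups.
-/
import Mathlib

set_option autoImplicit false

namespace Cfsg.Agent.Lib.helper21.BR

/-- GT4a -/
theorem perm_rep_sylow {G : Type*} [Group G] [Finite G] [IsSimpleGroup G] (p : ℕ)
    [Fact p.Prime] (hS : Nat.card (Sylow p G) ≠ 1) :
    ∃ H : Subgroup (Equiv.Perm (Sylow p G)), Nonempty (G ≃* H) ∧
      MulAction.IsPretransitive H (Sylow p G) := by
  classical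
  let φ : G →* Equiv.Perm (Sylow p G) := MulAction.toPermHom G (Sylow p G)
  have hφ : ∀ (g : G) (P : Sylow p G), φ g P = g • P := fun g P => rfl
  have hker : φ.ker = ⊥ := by
    rcases (φ.normal_ker).eq_bot_or_eq_top with h | h
    · exact h
    · exfalso
      apply hS
      have hsub : Subsingleton (Sylow p G) := by
        constructor
        intro P Q
        obtain ⟨g, rfl⟩ := MulAction.exists_smul_eq G P Q
        have hg : g ∈ φ.ker := by rw [h]; trivial
        have h1 : φ g = 1 := hg
        rw [← hφ, h1]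
        rfl
      obtain ⟨P⟩ : Nonempty (Sylow p G) := inferInstance
      exact Nat.card_of_subsingleton P
  have hinj : Function.Injective φ := (MonoidHom.ker_eq_bot_iff φ).mp hker
  refine ⟨φ.range, ⟨MonoidHom.ofInjective hinj⟩, ⟨fun P Q => ?_⟩⟩
  obtain ⟨g, hg⟩ := MulAction.exists_smul_eq G P Q
  exact ⟨⟨φ g, g, rfl⟩, hg⟩

end Cfsg.Agent.Lib.helper21.BR
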