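/-
S0999 (helper21 split), common lemma for GT4b / GT4c: a simple non-cyclic group is perfect.
-/
import Mathlib

set_option autoImplicit false

namespace Cfsg.Agent.Lib.helper21.BR

open scoped commutatorElement

/-- a simple group which is not cyclic is perfect -/
theorem helper61_commutator_eq_top {G : Type*} [Group G] [IsSimpleGroup G] (hG : ¬ IsCyclic G) :
    ⁅(⊤ : Subgroup G), (⊤ : Subgroup G)⁆ = (⊤ : Subgroup G) := by
  rcases (Subgroup.commutator_normal (⊤ : Subgroup G) (⊤ : Subgroup G)).eq_bot_or_eq_top with h | h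
  · exfalso
    apply hG
    have hcomm : ∀ a b : G, a * b = b * a := by
      intro a b
      have h1 : ⁅a, b⁆ ∈ ⁅(⊤ : Subgroup G), (⊤ : Subgroup G)⁆ :=
        Subgroup.commutator_mem_commutator (Subgroup.mem_top a) (Subgroup.mem_top b)
      rw [h, Subgroup.mem_bot] at h1
      exact commutatorElement_eq_one_iff_mul_comm.mp h1
    obtain ⟨g, hg⟩ := exists_ne (1 : G)
    have hN : (Subgroup.zpowers g).Normal :=
      ⟨fun n hn x => by rw [hcomm x n, mul_inv_cancel_right]; exact hn⟩
    rcases hN.eq_bot_or_eq_top with h1 | h1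
    · exact absurd (Subgroup.zpowers_eq_bot.mp h1) hg
    · exact isCyclic_iff_exists_zpowers_eq_top.mpr ⟨g, h1⟩
  · exact h

end Cfsg.Agent.Lib.helper21.BR
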