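/-
S0999 (helper21 split), piece GT4b: `PGL(2, p)`, `p` odd, is not a simple non-cyclic group
(determinant modulo squares).
-/
import Mathlib
import Cfsg.Agent.Lib.helper61.BR_GT4x

set_option autoImplicit false

namespace Cfsg.Agent.Lib.helper21.BR

/-- a simple non-cyclic group has no non-trivial homomorphism to a commutative group -/
theorem helper61_hom_comm_trivial {G : Type*} [Group G] [IsSimpleGroup G] (hG : ¬ IsCyclic G)
    {A : Type*} [CommGroup A] (f : G →* A) (x : G) : f x = 1 := by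
  have hperf := helper61_commutator_eq_top hG
  have h1 : commutator G ≤ f.ker := Abelianization.commutator_subset_ker f
  have h2 : x ∈ commutator G := by
    rw [commutator_def, hperf]; trivial
  exact h1 h2

/-- for odd `p` there is a non-square unit modulo `p` -/
theorem helper61_exists_nonsquare (p : ℕ) [Fact p.Prime] (hp2 : p ≠ 2) :
    ∃ u : (ZMod p)ˣ, ∀ v : (ZMod p)ˣ, v ^ 2 ≠ u := by
  by_contra hcon
  push Not at hcon
  have hsurj : Function.Surjective (fun v : (ZMod p)ˣ => v ^ 2) := hcon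
  have hinj := (Finite.injective_iff_surjective).mpr hsurj
  have h1 : (fun v : (ZMod p)ˣ => v ^ 2) (-1) = (fun v : (ZMod p)ˣ => v ^ 2) 1 := by simp
  have h2 := hinj h1
  have h3 : (-1 : ZMod p) = 1 := by simpa using congrArg Units.val h2
  haveI : Fact (2 < p) := ⟨lt_of_le_of_ne (Fact.out : p.Prime).two_le (Ne.symm hp2)⟩
  exact ZMod.neg_one_ne_one h3

/-- `PGL(2, p)`, `p` odd, has a non-trivial homomorphism to a commutative group -/
theorem helper61_pgl_hom (p : ℕ) [Fact p.Prime] (hp2 : p ≠ 2) :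
    ∃ (A : Type) (_ : CommGroup A) (D : Matrix.ProjGenLinGroup (Fin 2) (ZMod p) →* A)
      (x : Matrix.ProjGenLinGroup (Fin 2) (ZMod p)), D x ≠ 1 := by
  obtain ⟨u, hu⟩ := helper61_exists_nonsquare p hp2
  obtain ⟨S, hSdef⟩ : ∃ S : Subgroup (ZMod p)ˣ,
      S = (powMonoidHom 2 : (ZMod p)ˣ →* (ZMod p)ˣ).range := ⟨_, rfl⟩
  have hSmem : ∀ w : (ZMod p)ˣ, w ∈ S ↔ ∃ v : (ZMod p)ˣ, v ^ 2 = w := by
    intro w
    rw [hSdef]
    exact Iff.rfl
  obtain ⟨ψ₀, hψ₀⟩ : ∃ ψ₀ : GL (Fin 2) (ZMod p) →* (ZMod p)ˣ ⧸ S,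
      ∀ g, ψ₀ g = QuotientGroup.mk' S (Matrix.GeneralLinearGroup.det g) :=
    ⟨(QuotientGroup.mk' S).comp Matrix.GeneralLinearGroup.det, fun g => rfl⟩
  have hcen : Subgroup.center (GL (Fin 2) (ZMod p)) ≤ ψ₀.ker := by
    intro z hz
    rw [Matrix.GeneralLinearGroup.center_eq_range_scalar] at hz
    obtain ⟨v, rfl⟩ := hz
    rw [MonoidHom.mem_ker, hψ₀, QuotientGroup.mk'_apply, QuotientGroup.eq_one_iff, hSmem]
    refine ⟨v, ?_⟩
    ext
    simp
  obtain ⟨g₀, hg₀⟩ : ∃ g₀ : GL (Fin 2) (ZMod p), Matrix.GeneralLinearGroup.det g₀ = u := by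
    refine ⟨Matrix.GeneralLinearGroup.mkOfDetNeZero !![(u : ZMod p), 0; 0, 1]
      (by simp [Matrix.det_fin_two_of]), ?_⟩
    ext
    simp [Matrix.det_fin_two_of, Matrix.GeneralLinearGroup.mkOfDetNeZero]
  refine ⟨(ZMod p)ˣ ⧸ S, inferInstance, QuotientGroup.lift _ ψ₀ hcen,
    Matrix.ProjGenLinGroup.mk g₀, ?_⟩
  intro h1
  have h2 : ψ₀ g₀ = 1 := h1
  rw [hψ₀, hg₀, QuotientGroup.mk'_apply, QuotientGroup.eq_one_iff, hSmem] at h2
  obtain ⟨v, hv⟩ := h2
  exact hu v hv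

/-- GT4b -/
theorem pgl_not_simple {G : Type*} [Group G] [IsSimpleGroup G] (hG : ¬ IsCyclic G) (p : ℕ)
    [Fact p.Prime] (hp2 : p ≠ 2) :
    ¬ Nonempty (G ≃* Matrix.ProjGenLinGroup (Fin 2) (ZMod p)) := by
  rintro ⟨E⟩
  obtain ⟨A, _, D, x, hx⟩ := helper61_pgl_hom p hp2
  apply hx
  have h1 := helper61_hom_comm_trivial hG (D.comp E.toMonoidHom) (E.symm x)
  simpa using h1

end Cfsg.Agent.Lib.helper21.BR
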