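/-
S0999 (helper21 split), piece GT4c: a simple non-cyclic group is not a subgroup of the
one-dimensional semi-affine group of a finite field (which is soluble of derived length ≤ 3).
-/
import Mathlib
import Cfsg.Prelude.Def_Perm
import Cfsg.Agent.Lib.helper61.BR_GT4x

set_option autoImplicit false

namespace Cfsg.Agent.Lib.helper21.BR

open scoped commutatorElement

/-- ring automorphisms of a finite field commute -/
theorem helper61_ringAut_comm {K : Type*} [Field K] [Finite K] (φ ψ : K ≃+* K) (x : K) :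
    φ (ψ x) = ψ (φ x) := by
  by_cases hx : x = 0
  · simp [hx]
  obtain ⟨ζ, hζ⟩ := IsCyclic.exists_generator (α := Kˣ)
  have key : ∀ θ : K ≃+* K, ∃ k : ℤ, ∀ u : Kˣ, Units.map (θ : K →* K) u = u ^ k := by
    intro θ
    obtain ⟨k, hk⟩ := Subgroup.mem_zpowers_iff.mp (hζ (Units.map (θ : K →* K) ζ))
    refine ⟨k, fun u => ?_⟩
    obtain ⟨j, rfl⟩ := Subgroup.mem_zpowers_iff.mp (hζ u)
    rw [map_zpow, ← hk, ← zpow_mul, ← zpow_mul, mul_comm]
  obtain ⟨k, hk⟩ := key φ
  obtain ⟨l, hl⟩ := key ψ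
  have h1 : Units.map (φ : K →* K) (Units.map (ψ : K →* K) (Units.mk0 x hx)) =
      Units.map (ψ : K →* K) (Units.map (φ : K →* K) (Units.mk0 x hx)) := by
    rw [hl, map_zpow, hk, hl]
  have h2 := congrArg Units.val h1
  simpa using h2

/-- the translations of a ring, as a group of permutations -/
def helper61_transl (K : Type*) [Ring K] : Subgroup (Equiv.Perm K) where
  carrier := {σ | ∃ b : K, ∀ x, σ x = x + b}
  one_mem' := ⟨0, fun x => by simp⟩
  mul_mem' := by
    rintro σ τ ⟨b, hσ⟩ ⟨d, hτ⟩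
    exact ⟨d + b, fun x => by simp [hσ, hτ, add_assoc]⟩
  inv_mem' := by
    rintro σ ⟨b, hσ⟩
    refine ⟨-b, fun x => ?_⟩
    apply σ.injective
    rw [hσ (x + -b)]
    simp

/-- the commutator evaluated after `τ σ` -/
theorem helper61_comm_apply {K : Type*} (σ τ : Equiv.Perm K) (x : K) :
    ⁅σ, τ⁆ (τ (σ x)) = σ (τ x) := by
  simp [commutatorElement_def]

theorem helper61_comm_semiaffine_le {K : Type*} [Field K] [Finite K] :
    ⁅Cfsg.semiaffineGroup K, Cfsg.semiaffineGroup K⁆ ≤ Cfsg.affineGroup K := by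
  rw [Subgroup.commutator_le]
  rintro σ ⟨a, b, φ, hσ⟩ τ ⟨c, d, ψ, hτ⟩
  have hcne : (c : K) * ψ (a : K) ≠ 0 :=
    mul_ne_zero c.ne_zero ((map_ne_zero ψ).mpr a.ne_zero)
  have hane : (a : K) * φ (c : K) ≠ 0 :=
    mul_ne_zero a.ne_zero ((map_ne_zero φ).mpr c.ne_zero)
  refine ⟨Units.mk0 ((a : K) * φ (c : K) * ((c : K) * ψ (a : K))⁻¹)
      (mul_ne_zero hane (inv_ne_zero hcne)),
    (a : K) * φ d + b - (a : K) * φ (c : K) * ((c : K) * ψ (a : K))⁻¹ * ((c : K) * ψ b + d),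
    fun y => ?_⟩
  obtain ⟨x, rfl⟩ : ∃ x, τ (σ x) = y := ⟨σ.symm (τ.symm y), by simp⟩
  rw [helper61_comm_apply, hσ (τ x), hτ x, hτ (σ x), hσ x]
  simp only [map_add, map_mul, Units.val_mk0]
  rw [helper61_ringAut_comm φ ψ x]
  field_simp
  ring

theorem helper61_comm_affine_le {K : Type*} [Field K] :
    ⁅Cfsg.affineGroup K, Cfsg.affineGroup K⁆ ≤ helper61_transl K := by
  rw [Subgroup.commutator_le]
  rintro σ ⟨a, b, hσ⟩ τ ⟨c, d, hτ⟩
  refine ⟨(a : K) * d + b - ((c : K) * b + d), fun y => ?_⟩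
  obtain ⟨x, rfl⟩ : ∃ x, τ (σ x) = y := ⟨σ.symm (τ.symm y), by simp⟩
  rw [helper61_comm_apply, hσ (τ x), hτ x, hτ (σ x), hσ x]
  ring

theorem helper61_comm_transl {K : Type*} [Field K] :
    ⁅helper61_transl K, helper61_transl K⁆ = ⊥ := by
  rw [eq_bot_iff, Subgroup.commutator_le]
  rintro σ ⟨b, hσ⟩ τ ⟨d, hτ⟩
  rw [Subgroup.mem_bot, commutatorElement_eq_one_iff_mul_comm]
  ext x
  simp only [Equiv.Perm.mul_apply, hσ, hτ]
  ring

/-- GT4c -/
theorem semiaffine_not_simple {G : Type*} [Group G] [IsSimpleGroup G] (hG : ¬ IsCyclic G)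
    {α : Type*} (H : Subgroup (Equiv.Perm α)) (hiso : Nonempty (G ≃* H))
    {K : Type*} [Field K] [Finite K] (e : α ≃ K)
    (h : ∀ g : H, e.symm.trans (((g : Equiv.Perm α)).trans e) ∈ Cfsg.semiaffineGroup K) :
    False := by
  obtain ⟨E⟩ := hiso
  have hperf := helper61_commutator_eq_top hG
  obtain ⟨ι, hι, hιdef⟩ : ∃ ι : G →* Equiv.Perm K, Function.Injective ι ∧
      ∀ g, ι g = e.symm.trans (((E g : H) : Equiv.Perm α).trans e) := by
    refine ⟨(e.permCongrHom.toMonoidHom).comp (H.subtype.comp E.toMonoidHom),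
      e.permCongrHom.injective.comp (H.subtype_injective.comp E.injective), fun g => ?_⟩
    ext x
    rfl
  have hR : ι.range ≤ Cfsg.semiaffineGroup K := by
    rintro _ ⟨g, rfl⟩
    rw [hιdef]
    exact h (E g)
  have hRR : ⁅ι.range, ι.range⁆ = ι.range := by
    rw [MonoidHom.range_eq_map, ← Subgroup.map_commutator, hperf]
  have h1 : ι.range ≤ Cfsg.affineGroup K := by
    rw [← hRR]
    exact (Subgroup.commutator_mono hR hR).trans helper61_comm_semiaffine_le
  have h2 : ι.range ≤ helper61_transl K := by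
    rw [← hRR]
    exact (Subgroup.commutator_mono h1 h1).trans helper61_comm_affine_le
  have h3 : ι.range = ⊥ := by
    rw [← hRR, eq_bot_iff]
    exact (Subgroup.commutator_mono h2 h2).trans (le_of_eq helper61_comm_transl)
  obtain ⟨g, hg⟩ := exists_ne (1 : G)
  apply hg
  apply hι
  rw [map_one]
  have h4 : ι g ∈ ι.range := ⟨g, rfl⟩
  rw [h3, Subgroup.mem_bot] at h4
  exact h4

end Cfsg.Agent.Lib.helper21.BR
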