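import Mathlib
import Cfsg.Prelude.Def_Characters
import Cfsg.Prelude.Def_Blocks
import Cfsg.Agent.Lib.helper84.BrDefs
import Cfsg.Agent.Lib.helper4.Burnside2

/-!
# S0998 (helper20 split), piece BURN: Burnside's vanishing in a simple group

An irreducible non-principal character of a simple non-cyclic group vanishes at every `s ≠ 1`
whose class size is coprime to the degree.
-/

set_option autoImplicit false

namespace Cfsg.Agent.Lib.helper61.BT

open Cfsg Cfsg.Agent.Lib.helper81 Cfsg.Agent.Lib.helper84.Br
open scoped ComplexConjugate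

universe u

variable {G : Type u} [Group G] [Fintype G]

/-- BURN : Burnside's vanishing (degree coprime to the class size) in a simple group. -/
theorem burnside_vanish [IsSimpleGroup G] (hG : ¬ IsCyclic G) (χ : IrrCharacter G)
    (hχ : χ ≠ trivChar G) (s : G) (hs : s ≠ 1)
    (hcop : Nat.Coprime (charDegree (χ : G → ℂ)) (Subgroup.centralizer ({s} : Set G)).index) :
    (χ : G → ℂ) s = 0 := by
  classical
  have hnc : ¬ ∀ a b : G, a * b = b * a := by
    intro h
    apply hG
    have hpr := Cfsg.Agent.Lib.helper4.prime_card_of_simple_of_comm h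
    haveI : Fact (Nat.card G).Prime := ⟨hpr⟩
    exact isCyclic_of_prime_card (p := Nat.card G) rfl
  have hdeg := irr_one_eq_charDegree χ
  obtain ⟨f, n, ρ, hρ, rfl⟩ := χ
  have := hρ
  have hn : charDegree ρ.character = n := by
    have h1 : ρ.character 1 = (n : ℂ) := by
      simp [Representation.char_one, Module.finrank_fin_fun]
    have h2 : (n : ℂ) = (charDegree ρ.character : ℂ) := by rw [← h1]; exact hdeg
    exact_mod_cast h2.symm
  have hcop' : Nat.Coprime (Module.finrank ℂ (Fin n → ℂ))
      (Subgroup.centralizer ({s} : Set G)).index := by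
    rw [Module.finrank_fin_fun, ← hn]; exact hcop
  rcases Cfsg.Agent.Lib.helper4.char_eq_zero_or_norm_eq_of_coprime ρ s hcop' with h0 | hnorm
  · exact h0
  · exfalso
    obtain ⟨ω, hω⟩ := (Cfsg.Agent.Lib.helper4.norm_char_eq_iff ρ s).mp hnorm
    have hgZ : s ∈ Cfsg.Agent.Lib.helper4.commSubgroup ρ := by
      intro y
      rw [hω]
      ext v
      simp
    have hZ : Cfsg.Agent.Lib.helper4.commSubgroup ρ = ⊤ := by
      rcases IsSimpleGroup.eq_bot_or_eq_top_of_normal (Cfsg.Agent.Lib.helper4.commSubgroup ρ)
        inferInstance with h | h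
      · rw [h, Subgroup.mem_bot] at hgZ
        exact absurd hgZ hs
      · exact h
    have hcomm : ∀ x y : G, ρ x * ρ y = ρ y * ρ x := by
      intro x y
      have : x ∈ Cfsg.Agent.Lib.helper4.commSubgroup ρ := hZ ▸ Subgroup.mem_top x
      exact this y
    rcases IsSimpleGroup.eq_bot_or_eq_top_of_normal (MonoidHom.ker ρ) inferInstance with h | h
    · apply hnc
      intro a b
      have h1 : ρ (a * b * (b * a)⁻¹) = 1 := by
        rw [map_mul, map_mul, hcomm a b, ← map_mul, ← map_mul, mul_inv_cancel, map_one]
      have h2 : a * b * (b * a)⁻¹ ∈ MonoidHom.ker ρ := h1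
      rw [h, Subgroup.mem_bot] at h2
      exact mul_inv_eq_one.mp h2
    · have hone : ∀ x : G, ρ x = 1 := by
        intro x
        have : x ∈ MonoidHom.ker ρ := h ▸ Subgroup.mem_top x
        exact this
      have hchar : ρ.character = fun _ => (n : ℂ) := by
        funext x
        unfold Representation.character
        rw [hone x]
        simp
      have hnorm1 := Cfsg.Agent.Lib.helper4.classInner_irr_self
        (⟨n, ρ, hρ, rfl⟩ : Cfsg.IsIrrCharacter G ρ.character)
      rw [hchar] at hnorm1
      unfold Cfsg.classInner at hnorm1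
      simp only [Complex.conj_natCast, Finset.sum_const, Finset.card_univ, nsmul_eq_mul] at hnorm1
      rw [← Nat.card_eq_fintype_card, ← mul_assoc,
        inv_mul_cancel₀ Cfsg.Agent.Lib.helper4.card_ne_zero_complex, one_mul] at hnorm1
      have hn1 : n * n = 1 := by exact_mod_cast hnorm1
      have hn' : n = 1 := Nat.dvd_one.mp (Dvd.intro n hn1)
      apply hχ
      apply Subtype.ext
      show ρ.character = fun _ => 1
      rw [hchar, hn']
      simp

end Cfsg.Agent.Lib.helper61.BT
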