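import Mathlib
import Cfsg.Prelude.Def_Characters
import Cfsg.Prelude.Def_Blocks
import Cfsg.Agent.Lib.helper84.BrDefs
import Cfsg.Agent.Lib.helper4.KleinChar

/-!
# S0998 (helper20 split), piece CCF: the class multiplication constant of `K_s · K_s` at `y`
-/

set_option autoImplicit false

namespace Cfsg.Agent.Lib.helper61.BT

open Cfsg Cfsg.Agent.Lib.helper81 Cfsg.Agent.Lib.helper84.Br
open scoped ComplexConjugate

universe u

variable {G : Type u} [Group G] [Fintype G]

/-- CCF : the class multiplication constant of `K_s · K_s` at `y` is a natural number. -/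
theorem class_const [Fintype (IrrCharacter G)] (s y : G) :
    ∃ N₀ : ℕ, (N₀ : ℂ) * (Nat.card G : ℂ) =
      ((Subgroup.centralizer ({s} : Set G)).index : ℂ) ^ 2 *
        ∑ χ : IrrCharacter G, conj ((χ : G → ℂ) s) ^ 2 * (χ : G → ℂ) y / (χ : G → ℂ) 1 := by
  classical
  refine ⟨(Finset.univ.filter (fun a : G => IsConj s a ∧ IsConj s (a⁻¹ * y))).card, ?_⟩
  have hN : ((Finset.univ.filter (fun a : G => IsConj s a ∧ IsConj s (a⁻¹ * y))).card : ℂ) =
      Cfsg.Agent.Lib.helper4.classProd s y := by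
    unfold Cfsg.Agent.Lib.helper4.classProd
    rw [Finset.sum_boole]
  rw [hN]
  have hexp := Cfsg.Agent.Lib.helper4.classFunction_eq_sum_irr
    (Cfsg.Agent.Lib.helper4.isClassFunction_classProd s)
  have hval : Cfsg.Agent.Lib.helper4.classProd s y =
      ∑ χ : IrrCharacter G, classInner (Cfsg.Agent.Lib.helper4.classProd s) (χ : G → ℂ) *
        (χ : G → ℂ) y := by
    have h := congrFun hexp y
    rw [h]
    simp [Finset.sum_apply]
  have hinner : ∀ χ : IrrCharacter G,
      classInner (Cfsg.Agent.Lib.helper4.classProd s) (χ : G → ℂ) =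
      (Nat.card G : ℂ)⁻¹ * (conj ((χ : G → ℂ) 1) *
        (centralChar (fun g => conj ((χ : G → ℂ) g)) s) ^ 2) := by
    intro χ
    unfold classInner
    rw [Cfsg.Agent.Lib.helper4.sum_classProd_mul_char s
      (Cfsg.Agent.Lib.helper79.isIrrCharacter_ringHom_comp (starRingEnd ℂ) χ.2)]
  rw [hval, Finset.sum_mul, Finset.mul_sum]
  refine Finset.sum_congr rfl fun χ _ => ?_
  rw [hinner]
  have h1 : (χ : G → ℂ) 1 = (charDegree (χ : G → ℂ) : ℂ) := irr_one_eq_charDegree χ
  have h0 : (χ : G → ℂ) 1 ≠ 0 := by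
    rw [h1]
    exact_mod_cast (irr_charDegree_pos χ).ne'
  have hc : conj ((χ : G → ℂ) 1) = (χ : G → ℂ) 1 := by rw [h1, Complex.conj_natCast]
  have hG0 : (Nat.card G : ℂ) ≠ 0 := Cfsg.Agent.Lib.helper4.card_ne_zero_complex
  simp only [centralChar, hc]
  field_simp

end Cfsg.Agent.Lib.helper61.BT
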