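import Mathlib

/-! S5981 split (helper24), piece CNTDO, core version: the number of solutions of a diagonal
quadratic equation in an odd number of variables, with the binary count (BINCNT) as a hypothesis.
Pure Mathlib. -/

set_option autoImplicit false

namespace Cfsg.Agent.Lib.helper24

/-- The recursion splitting off the first two variables. -/
theorem h61_sfo_diag_rec {F : Type*} [Field F] [Fintype F] [DecidableEq F] (n : ℕ)
    (a b : F) (e : ℤ)
    (hM : ∀ t : F, t ≠ 0 →
      ((Finset.univ.filter (fun p : F × F => a * p.1 ^ 2 + b * p.2 ^ 2 = t)).card : ℤ) =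
        (Fintype.card F : ℤ) - e)
    (hM0 : ((Finset.univ.filter (fun p : F × F => a * p.1 ^ 2 + b * p.2 ^ 2 = 0)).card : ℤ) =
      (Fintype.card F : ℤ) + ((Fintype.card F : ℤ) - 1) * e)
    (d : Fin (n + 2) → F) (h0 : d 0 = a) (h1 : d 1 = b) (c : F) :
    ((Finset.univ.filter (fun x : Fin (n + 2) → F => ∑ j, d j * x j ^ 2 = c)).card : ℤ) =
      (Fintype.card F : ℤ) ^ n * ((Fintype.card F : ℤ) - e) +
        (Fintype.card F : ℤ) * e *
          ((Finset.univ.filter (fun x : Fin n → F => ∑ j, d j.succ.succ * x j ^ 2 = c)).card : ℤ) := by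
  classical
  have key : ∀ x' : Fin n → F,
      (∑ y : F, ∑ z : F,
        (if a * y ^ 2 + (b * z ^ 2 + ∑ j, d j.succ.succ * x' j ^ 2) = c then (1 : ℤ) else 0)) =
      (if ∑ j, d j.succ.succ * x' j ^ 2 = c then
        (Fintype.card F : ℤ) + ((Fintype.card F : ℤ) - 1) * e else (Fintype.card F : ℤ) - e) := by
    intro x'
    generalize (∑ j, d j.succ.succ * x' j ^ 2) = s
    have e1 : (∑ y : F, ∑ z : F, (if a * y ^ 2 + (b * z ^ 2 + s) = c then (1 : ℤ) else 0)) =
        ((Finset.univ.filter (fun p : F × F => a * p.1 ^ 2 + b * p.2 ^ 2 = c - s)).card : ℤ) := by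
      rw [Finset.card_filter, Nat.cast_sum, Fintype.sum_prod_type]
      refine Finset.sum_congr rfl fun y _ => Finset.sum_congr rfl fun z _ => ?_
      have hiff : (a * y ^ 2 + (b * z ^ 2 + s) = c) ↔ (a * y ^ 2 + b * z ^ 2 = c - s) := by
        constructor <;> intro h <;> linear_combination h
      by_cases h : a * y ^ 2 + b * z ^ 2 = c - s
      · rw [if_pos (hiff.2 h), if_pos h, Nat.cast_one]
      · rw [if_neg (fun h' => h (hiff.1 h')), if_neg h, Nat.cast_zero]
    rw [e1]
    by_cases h : s = c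
    · rw [if_pos h, h, sub_self, hM0]
    · rw [if_neg h, hM _ (sub_ne_zero.mpr (Ne.symm h))]
  -- reindex
  have hre : ((Finset.univ.filter (fun x : Fin (n + 2) → F => ∑ j, d j * x j ^ 2 = c)).card : ℤ) =
      ∑ x' : Fin n → F, ∑ y : F, ∑ z : F,
        (if a * y ^ 2 + (b * z ^ 2 + ∑ j, d j.succ.succ * x' j ^ 2) = c then (1 : ℤ) else 0) := by
    have hterm : ∀ (y z : F) (x' : Fin n → F),
        (((if ∑ j : Fin (n + 2), d j * (Fin.cons y (Fin.cons z x') : Fin (n + 2) → F) j ^ 2 = c
          then 1 else 0 : ℕ)) : ℤ) =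
        (if a * y ^ 2 + (b * z ^ 2 + ∑ j, d j.succ.succ * x' j ^ 2) = c then (1 : ℤ) else 0) := by
      intro y z x'
      have hsum : ∑ j : Fin (n + 2), d j * (Fin.cons y (Fin.cons z x') : Fin (n + 2) → F) j ^ 2 =
          a * y ^ 2 + (b * z ^ 2 + ∑ j, d j.succ.succ * x' j ^ 2) := by
        rw [Fin.sum_univ_succ, Fin.sum_univ_succ]
        simp [h0, ← h1]
      rw [hsum]
      by_cases h : a * y ^ 2 + (b * z ^ 2 + ∑ j, d j.succ.succ * x' j ^ 2) = c
      · rw [if_pos h, if_pos h, Nat.cast_one]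
      · rw [if_neg h, if_neg h, Nat.cast_zero]
    rw [Finset.card_filter, Nat.cast_sum]
    rw [← (Fin.consEquiv (fun _ : Fin (n + 2) => F)).sum_comp, Fintype.sum_prod_type]
    calc ∑ y : F, ∑ x₁ : Fin (n + 1) → F,
          (((if ∑ j : Fin (n + 2), d j *
            ((Fin.consEquiv (fun _ : Fin (n + 2) => F)) (y, x₁)) j ^ 2 = c then 1 else 0 : ℕ)) : ℤ)
        = ∑ y : F, ∑ z : F, ∑ x' : Fin n → F,
          (if a * y ^ 2 + (b * z ^ 2 + ∑ j, d j.succ.succ * x' j ^ 2) = c then (1 : ℤ) else 0) := by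
          refine Finset.sum_congr rfl fun y _ => ?_
          rw [← (Fin.consEquiv (fun _ : Fin (n + 1) => F)).sum_comp, Fintype.sum_prod_type]
          refine Finset.sum_congr rfl fun z _ => Finset.sum_congr rfl fun x' _ => ?_
          exact hterm y z x'
      _ = ∑ y : F, ∑ x' : Fin n → F, ∑ z : F,
          (if a * y ^ 2 + (b * z ^ 2 + ∑ j, d j.succ.succ * x' j ^ 2) = c then (1 : ℤ) else 0) :=
          Finset.sum_congr rfl fun y _ => Finset.sum_comm
      _ = _ := Finset.sum_comm
  rw [hre, Finset.sum_congr rfl (fun x' _ => key x')]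
  have hsplit : ∀ x' : Fin n → F,
      (if ∑ j, d j.succ.succ * x' j ^ 2 = c then
        (Fintype.card F : ℤ) + ((Fintype.card F : ℤ) - 1) * e else (Fintype.card F : ℤ) - e) =
      ((Fintype.card F : ℤ) - e) + (Fintype.card F : ℤ) * e *
        (if ∑ j, d j.succ.succ * x' j ^ 2 = c then (1 : ℤ) else 0) := by
    intro x'
    by_cases h : ∑ j, d j.succ.succ * x' j ^ 2 = c
    · rw [if_pos h, if_pos h]; ring
    · rw [if_neg h, if_neg h]; ring
  rw [Finset.sum_congr rfl (fun x' _ => hsplit x'), Finset.sum_add_distrib, Finset.sum_const,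
    Finset.card_univ, ← Finset.mul_sum, Finset.card_filter, Nat.cast_sum]
  have hcard : Fintype.card (Fin n → F) = Fintype.card F ^ n := by
    rw [Fintype.card_fun, Fintype.card_fin]
  rw [hcard, nsmul_eq_mul]
  push_cast
  ring

/-- The base case: one variable. -/
theorem h61_sfo_diag_one {F : Type*} [Field F] [Fintype F] [DecidableEq F] (h2 : (2 : F) ≠ 0)
    (d : Fin 1 → F) (hd : d 0 ≠ 0) :
    ∃ E : ℤ, (E = 1 ∨ E = -1) ∧
      (∀ c : F, c ≠ 0 → IsSquare c →
        ((Finset.univ.filter (fun x : Fin 1 → F => ∑ j, d j * x j ^ 2 = c)).card : ℤ) = 1 + E) ∧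
      (∀ c : F, c ≠ 0 → ¬ IsSquare c →
        ((Finset.univ.filter (fun x : Fin 1 → F => ∑ j, d j * x j ^ 2 = c)).card : ℤ) = 1 - E) := by
  classical
  have hchar : ringChar F ≠ 2 := by
    intro h
    apply h2
    have h3 := CharP.cast_eq_zero F (ringChar F)
    rw [h] at h3
    exact_mod_cast h3
  have hsum : ∀ x : Fin 1 → F, ∑ j, d j * x j ^ 2 = d 0 * x 0 ^ 2 := by
    intro x
    rw [Fin.sum_univ_succ, Fin.sum_univ_zero, add_zero]
  have hcnt2 : ∀ (c w : F), w ≠ 0 → c = d 0 * w ^ 2 →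
      (Finset.univ.filter (fun x : Fin 1 → F => ∑ j, d j * x j ^ 2 = c)).card = 2 := by
    intro c w hw hc
    have hne : (fun _ : Fin 1 => w) ≠ (fun _ : Fin 1 => -w) := by
      intro h
      have h' : w = -w := congrFun h 0
      have h'' : (2 : F) * w = 0 := by linear_combination h'
      rcases mul_eq_zero.mp h'' with h3 | h3
      · exact h2 h3
      · exact hw h3
    have hset : (Finset.univ.filter (fun x : Fin 1 → F => ∑ j, d j * x j ^ 2 = c)) =
        ({fun _ => w, fun _ => -w} : Finset (Fin 1 → F)) := by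
      ext x
      simp only [Finset.mem_filter, Finset.mem_univ, true_and, Finset.mem_insert,
        Finset.mem_singleton, hsum]
      constructor
      · intro h
        have h' : x 0 ^ 2 = w ^ 2 := mul_left_cancel₀ hd (h.trans hc)
        rcases sq_eq_sq_iff_eq_or_eq_neg.mp h' with h'' | h''
        · left
          funext i
          rw [Subsingleton.elim i 0, h'']
        · right
          funext i
          rw [Subsingleton.elim i 0, h'']
      · rintro (rfl | rfl)
        · exact hc.symm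
        · rw [hc, neg_sq]
    rw [hset, Finset.card_pair hne]
  have hcnt0 : ∀ c : F, (∀ y : F, d 0 * y ^ 2 ≠ c) →
      (Finset.univ.filter (fun x : Fin 1 → F => ∑ j, d j * x j ^ 2 = c)).card = 0 := by
    intro c hc
    rw [Finset.card_eq_zero, Finset.filter_eq_empty_iff]
    intro x _
    rw [hsum]
    exact hc _
  by_cases hsq : IsSquare (d 0)
  · obtain ⟨u, hu⟩ := hsq
    have hu0 : u ≠ 0 := by
      rintro rfl
      exact hd (by rw [hu, mul_zero])
    refine ⟨1, Or.inl rfl, ?_, ?_⟩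
    · rintro c hc0 ⟨v, hv⟩
      have hv0 : v ≠ 0 := by
        rintro rfl
        exact hc0 (by rw [hv, mul_zero])
      rw [hcnt2 c (v / u) (div_ne_zero hv0 hu0) (by rw [hu, hv]; field_simp)]
      norm_num
    · intro c _ hcs
      rw [hcnt0 c (fun y hy => hcs ⟨u * y, by rw [← hy, hu]; ring⟩)]
      norm_num
  · refine ⟨-1, Or.inr rfl, ?_, ?_⟩
    · rintro c hc0 ⟨v, hv⟩
      rw [hcnt0 c]
      · norm_num
      · intro y hy
        have hy0 : y ≠ 0 := by
          rintro rfl
          apply hc0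
          rw [← hy]
          ring
        exact hsq ⟨v / y, by
          have h3 : d 0 * y ^ 2 = v * v := hy.trans hv
          field_simp
          linear_combination h3⟩
    · intro c hc0 hcs
      have h1 : quadraticChar F (c * d 0) = 1 := by
        rw [map_mul, quadraticChar_neg_one_iff_not_isSquare.mpr hcs,
          quadraticChar_neg_one_iff_not_isSquare.mpr hsq]
        norm_num
      obtain ⟨v, hv⟩ := (quadraticChar_one_iff_isSquare (mul_ne_zero hc0 hd)).mp h1
      have hv0 : v ≠ 0 := by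
        rintro rfl
        exact mul_ne_zero hc0 hd (by rw [hv, mul_zero])
      rw [hcnt2 c (v / d 0) (div_ne_zero hv0 hd) (by
        field_simp
        linear_combination hv)]
      norm_num

/-- CNTDO, core version: BINCNT as a hypothesis. -/
theorem h61_sfo_count_diag_odd_core {F : Type*} [Field F] [Fintype F] [DecidableEq F]
    (h2 : (2 : F) ≠ 0)
    (hbin : ∀ a b : F, a ≠ 0 → b ≠ 0 → ∃ e : ℤ, (e = 1 ∨ e = -1) ∧
      (∀ t : F, t ≠ 0 →
        ((Finset.univ.filter (fun p : F × F => a * p.1 ^ 2 + b * p.2 ^ 2 = t)).card : ℤ) =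
          (Fintype.card F : ℤ) - e) ∧
      ((Finset.univ.filter (fun p : F × F => a * p.1 ^ 2 + b * p.2 ^ 2 = 0)).card : ℤ) =
        (Fintype.card F : ℤ) + ((Fintype.card F : ℤ) - 1) * e) :
    ∀ (k n : ℕ) (_ : n = 2 * k + 1) (d : Fin n → F) (_ : ∀ j, d j ≠ 0),
    ∃ E : ℤ, (E = 1 ∨ E = -1) ∧
      (∀ c : F, c ≠ 0 → IsSquare c →
        ((Finset.univ.filter (fun x : Fin n → F => ∑ j, d j * x j ^ 2 = c)).card : ℤ) =
          (Fintype.card F : ℤ) ^ k * ((Fintype.card F : ℤ) ^ k + E)) ∧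
      (∀ c : F, c ≠ 0 → ¬ IsSquare c →
        ((Finset.univ.filter (fun x : Fin n → F => ∑ j, d j * x j ^ 2 = c)).card : ℤ) =
          (Fintype.card F : ℤ) ^ k * ((Fintype.card F : ℤ) ^ k - E)) := by
  intro k
  induction k with
  | zero =>
    intro n hn d hd
    have hn1 : n = 1 := by omega
    subst hn1
    obtain ⟨E, hE, h1, h2'⟩ := h61_sfo_diag_one h2 d (hd 0)
    refine ⟨E, hE, ?_, ?_⟩
    · intro c hc hcs
      rw [h1 c hc hcs]
      ring
    · intro c hc hcs
      rw [h2' c hc hcs]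
      ring
  | succ k ih =>
    intro n hn d hd
    obtain ⟨m, rfl⟩ : ∃ m, n = m + 2 := ⟨2 * k + 1, by omega⟩
    have hm : m = 2 * k + 1 := by omega
    obtain ⟨e, he, hM, hM0⟩ := hbin (d 0) (d 1) (hd 0) (hd 1)
    obtain ⟨E, hE, ih1, ih2⟩ := ih m hm (fun j => d j.succ.succ) (fun j => hd _)
    refine ⟨e * E, ?_, ?_, ?_⟩
    · rcases he with rfl | rfl <;> rcases hE with rfl | rfl <;> simp
    · intro c hc hcs
      rw [h61_sfo_diag_rec m (d 0) (d 1) e hM hM0 d rfl rfl c, ih1 c hc hcs, hm]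
      ring
    · intro c hc hcs
      rw [h61_sfo_diag_rec m (d 0) (d 1) e hM hM0 d rfl rfl c, ih2 c hc hcs, hm]
      ring

end Cfsg.Agent.Lib.helper24
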