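import Mathlib
import Cfsg.Agent.Lib.helper24.SfoDefs
import Cfsg.Agent.Lib.helper98.SfoOB
import Cfsg.Agent.Lib.helper6.SfoQBIL

/-! S5981 split (helper24), piece CNTE, core version: transfer of the count `sfoCount Q c` to a
diagonal form by an orthogonal basis (OB, QBIL); the diagonal count CNTDE is a hypothesis. -/

set_option autoImplicit false

namespace Cfsg.Agent.Lib.helper24

open Module Matrix Cfsg.Geo

/-- In coordinates of an orthogonal basis the form is diagonal; so the counts agree. -/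
theorem h61_sfo_count_diag {F : Type*} [Field F] [Fintype F] [DecidableEq F] {n : ℕ}
    (h2 : (2 : F) ≠ 0) (Q : (Fin n → F) → F) (hQ : IsNondegenerateQuadraticForm Q) :
    ∃ δ : Fin n → F, (∀ j, δ j ≠ 0) ∧ ∀ c : F,
      sfoCount Q c = (Finset.univ.filter (fun x : Fin n → F => ∑ j, δ j * x j ^ 2 = c)).card := by
  classical
  obtain ⟨e, hli, horth, hne⟩ := sfo_orth_basis h2 Q hQ
  obtain ⟨-, hadd, -, hQ0, -⟩ := sfo_basic h2 Q hQ
  have hB := hQ.polar_bilinear
  have hB0 : ∀ u : Fin n → F, QuadraticMap.polar Q u 0 = 0 := by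
    intro u
    have h := hB.smul_right 0 u 0
    rw [zero_smul, zero_mul] at h
    exact h
  have hBsum : ∀ (u : Fin n → F) (v : Fin n → (Fin n → F)) (s : Finset (Fin n)),
      (∀ i ∈ s, QuadraticMap.polar Q u (v i) = 0) → QuadraticMap.polar Q u (∑ i ∈ s, v i) = 0 := by
    intro u v s
    induction s using Finset.induction_on with
    | empty =>
      intro _
      rw [Finset.sum_empty]
      exact hB0 u
    | insert a s ha ih =>
      intro h
      rw [Finset.sum_insert ha, hB.add_right, h a (Finset.mem_insert_self a s),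
        ih (fun i hi => h i (Finset.mem_insert_of_mem hi)), add_zero]
  have hQsum : ∀ (x : Fin n → F) (s : Finset (Fin n)),
      Q (∑ i ∈ s, x i • e i) = ∑ i ∈ s, Q (e i) * x i ^ 2 := by
    intro x s
    induction s using Finset.induction_on with
    | empty => rw [Finset.sum_empty, Finset.sum_empty, hQ0]
    | insert a s ha ih =>
      rw [Finset.sum_insert ha, Finset.sum_insert ha, hadd, ih, hQ.smul]
      have h0 : QuadraticMap.polar Q (x a • e a) (∑ i ∈ s, x i • e i) = 0 := by
        apply hBsum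
        intro i hi
        have hia : a ≠ i := fun h => ha (h ▸ hi)
        rw [hB.smul_left, hB.smul_right, horth a i hia, mul_zero, mul_zero]
      rw [h0, add_zero, mul_comm]
  have hspan : Submodule.span F (Set.range e) = ⊤ :=
    hli.span_eq_top_of_card_eq_finrank' (by simp)
  let b : Basis (Fin n) F (Fin n → F) := Basis.mk hli (by rw [hspan])
  have hb : ∀ i, b i = e i := fun i => by
    simp [b]
  have hQv : ∀ v : Fin n → F, Q v = ∑ j, Q (e j) * (b.equivFun v) j ^ 2 := by
    intro v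
    have h1 : v = ∑ i, (b.equivFun v) i • e i := by
      conv_lhs => rw [← b.sum_equivFun v]
      exact Finset.sum_congr rfl (fun i _ => by rw [hb])
    conv_lhs => rw [h1]
    exact hQsum _ _
  refine ⟨fun j => Q (e j), hne, ?_⟩
  intro c
  unfold sfoCount
  rw [Nat.card_eq_fintype_card, ← Fintype.card_subtype]
  apply Fintype.card_congr
  exact Equiv.subtypeEquiv b.equivFun.toEquiv (fun v => by
    show Q v = c ↔ ∑ j, Q (e j) * (b.equivFun v) j ^ 2 = c
    rw [hQv v])

/-- CNTE, core version: CNTDE as a hypothesis. -/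
theorem h61_sfo_count_even_core {F : Type*} [Field F] [Fintype F] [DecidableEq F]
    (h2 : (2 : F) ≠ 0) (k : ℕ) (Q : (Fin (2 * k) → F) → F) (hQ : IsNondegenerateQuadraticForm Q)
    (hde : ∀ (d : Fin (2 * k) → F), (∀ j, d j ≠ 0) →
      ∃ ε : ℤ, (ε = 1 ∨ ε = -1) ∧ ∀ c : F, c ≠ 0 →
        ((Finset.univ.filter (fun x : Fin (2 * k) → F => ∑ j, d j * x j ^ 2 = c)).card : ℤ) =
          (Fintype.card F : ℤ) ^ (k - 1) * ((Fintype.card F : ℤ) ^ k - ε)) :
    ∃ ε : ℤ, (ε = 1 ∨ ε = -1) ∧ ∀ c : F, c ≠ 0 →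
      (sfoCount Q c : ℤ) = (Fintype.card F : ℤ) ^ (k - 1) * ((Fintype.card F : ℤ) ^ k - ε) := by
  obtain ⟨δ, hδ, hcount⟩ := h61_sfo_count_diag h2 Q hQ
  obtain ⟨ε, hε, h⟩ := hde δ hδ
  refine ⟨ε, hε, fun c hc => ?_⟩
  rw [hcount c, h c hc]

end Cfsg.Agent.Lib.helper24
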