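import Mathlib

/-! Piece MARIE-N of the S5987 split (helper24): pure arithmetic, necessity for `i` even
(minus type twin of `stp_arith_nec`). -/

set_option autoImplicit false
set_option linter.unusedVariables false

namespace Cfsg.Agent.Lib.helper24

theorem h61m_ite (j : ℕ) : (if Even j then 1 else 0) = (j + 1) % 2 := by
  split_ifs with h
  · have := Nat.even_iff.mp h
    omega
  · have := Nat.odd_iff.mp (Nat.not_even_iff_odd.mp h)
    omega

theorem h61m_divu {i x r y s : ℕ} (hr : r < i) (hs : s < i) (e : i * x + r = i * y + s) :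
    x = y ∧ r = s := by
  have hi0 : 0 < i := by omega
  have h1 : (i * x + r) / i = x := by
    rw [Nat.mul_add_div hi0, Nat.div_eq_of_lt hr]; rfl
  have h2 : (i * y + s) / i = y := by
    rw [Nat.mul_add_div hi0, Nat.div_eq_of_lt hs]; rfl
  have hxy : x = y := by rw [← h1, e, h2]
  subst hxy
  exact ⟨rfl, by omega⟩

theorem h61m_bad {i t d m M μ j : ℕ} (hi0 : 0 < i) (hM : i * M + μ = m) (hμ : μ < i)
    (hR : 2 * d - i * j < 2 * i + 2 * ((j + 1) % 2))
    (hbad : M ≤ (j + 1 - t) / 2 → 2 * (μ + (j + 1) % 2) ≤ 2 * d - i * j → False) :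
    ∀ a b : ℕ, a + i * b = m → b ≤ (j + 1 - t) / 2 →
        2 * (a + (j + 1) % 2) ≤ 2 * d - i * j → False := by
  intro a b hab hb h2
  have ha : a < i := by omega
  obtain ⟨rfl, rfl⟩ := h61m_divu ha hμ (x := b) (y := M) (by omega)
  exact hbad hb h2

set_option maxHeartbeats 4000000 in
theorem stm_arith_nec (i t d m : ℕ) (hi : Even i) (hi0 : 0 < i) (ht : 1 ≤ t) (hm : 1 ≤ m)
    (hmd : m < d)
    (hcount : ∃ j₀, j₀ < m ∧ ((i ∣ 2 * (d - j₀) ∧ ¬ i ∣ d - j₀) ∨ i ∣ d - j₀ - 1))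
    (hC : ¬ (i ≤ m ∧ t + 2 * (m / i) ≤ (2 * d) / i ∧
      ((2 * (m % i) ≤ i ∧ (2 * d) % i = 0 ∧ Even ((2 * d) / i) ∧ t + 2 * (m / i) < (2 * d) / i) ∨
       (2 * (m % i) ≤ (2 * d) % i ∧ Odd ((2 * d) / i)) ∨
       (2 * (m % i) < (2 * d) % i ∧ Even ((2 * d) / i))))) :
    ∃ j : ℕ, 1 ≤ j ∧ i * j ≤ 2 * d ∧ (i * j = 2 * d → Odd j) ∧
      ∀ a b : ℕ, a + i * b = m → b ≤ (j + 1 - t) / 2 →
        2 * (a + (if Even j then 1 else 0)) ≤ 2 * d - i * j → False := by
  obtain ⟨h, hh⟩ := hi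
  have hM := Nat.div_add_mod m i
  have hμ := Nat.mod_lt m hi0
  have hN := Nat.div_add_mod (2 * d) i
  have hρ := Nat.mod_lt (2 * d) hi0
  generalize m / i = M at *
  generalize m % i = μ at *
  generalize (2 * d) / i = N at *
  generalize (2 * d) % i = ρ at *
  simp only [Nat.odd_iff, Nat.even_iff] at hC
  simp only [h61m_ite]
  simp only [Nat.odd_iff]
  have hiN2 : i * N = 2 * (h * N) := by rw [hh]; ring
  have hρ2 : ρ % 2 = 0 := by omega
  have hM0 : M = 0 → i * M = 0 := by rintro rfl; simp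
  have hM1 : 1 ≤ M → i ≤ i * M := fun h' => Nat.le_mul_of_pos_right i h'
  -- the count hypothesis: `2 d = i C + r`
  obtain ⟨C, r, hC1, hCr, hpar⟩ : ∃ C r, 1 ≤ C ∧ 2 * d = i * C + r ∧
      ((C % 2 = 1 ∧ r < 2 * m) ∨ (C % 2 = 0 ∧ 2 ≤ r ∧ r ≤ 2 * m)) := by
    obtain ⟨j₀, hj₀, hc⟩ := hcount
    rcases hc with ⟨⟨c, hc⟩, hnd⟩ | ⟨c, hc⟩
    · have hc1 : 1 ≤ c := by
        rcases Nat.eq_zero_or_pos c with rfl | h'
        · simp at hc; omega
        · exact h'
      have hodd : c % 2 = 1 := by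
        by_contra hce
        apply hnd
        refine ⟨c / 2, ?_⟩
        have h2 : i * c = 2 * (i * (c / 2)) := by
          have h3 : 2 * (c / 2) = c := by omega
          calc i * c = i * (2 * (c / 2)) := by rw [h3]
            _ = 2 * (i * (c / 2)) := by ring
        omega
      refine ⟨c, 2 * j₀, hc1, by omega, Or.inl ⟨hodd, by omega⟩⟩
    · have hc1 : 1 ≤ c := by
        rcases Nat.eq_zero_or_pos c with rfl | h'
        · simp at hc; omega
        · exact h'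
      refine ⟨2 * c, 2 * j₀ + 2, by omega, ?_, Or.inr ⟨by omega, by omega, by omega⟩⟩
      have : i * (2 * c) = 2 * (i * c) := by ring
      omega
  have hCN : C ≤ N := by
    by_contra hlt
    have h1 : i * (N + 1) ≤ i * C := Nat.mul_le_mul_left i (by omega)
    have h2 : i * (N + 1) = i * N + i := by ring
    omega
  have f0 : N = C → ρ = r := by rintro rfl; omega
  have f1 : N = C + 1 → i + ρ = r := by
    rintro rfl
    have h2 : i * (C + 1) = i * C + i := by ring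
    omega
  have f2 : C + 2 ≤ N → 2 * i + ρ ≤ r := by
    intro h'
    have h1 : i * (C + 2) ≤ i * N := Nat.mul_le_mul_left i h'
    have h2 : i * (C + 2) = i * C + 2 * i := by ring
    omega
  have hN1 : 1 ≤ N := by omega
  have hiN : i ≤ i * N := Nat.le_mul_of_pos_right i hN1
  by_cases hb0 : (0 < ρ ∨ N % 2 = 1) ∧ ¬ (M ≤ (N + 1 - t) / 2 ∧ 2 * (μ + (N + 1) % 2) ≤ ρ)
  · exact ⟨N, hN1, by omega, fun h' => by omega,
      h61m_bad hi0 hM hμ (by omega) (by omega)⟩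
  by_cases hb1 : 2 ≤ N ∧ ¬ (M ≤ (N - t) / 2 ∧ 2 * (μ + N % 2) ≤ i + ρ)
  · have e1 : i * (N - 1) = i * N - i := Nat.mul_sub_one i N
    exact ⟨N - 1, by omega, by omega, fun h' => by omega,
      h61m_bad hi0 hM hμ (by omega) (by omega)⟩
  by_cases hb2 : 3 ≤ N ∧ ρ = 0 ∧ N % 2 = 0 ∧
      ¬ (M ≤ (N - 1 - t) / 2 ∧ 2 * (μ + (N - 1) % 2) ≤ 2 * i + ρ)
  · have e1 : i * (N - 2) = i * N - i * 2 := Nat.mul_sub i N 2
    have e2 : i * 2 ≤ i * N := Nat.mul_le_mul_left i (by omega : 2 ≤ N)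
    exact ⟨N - 2, by omega, by omega, fun h' => by omega,
      h61m_bad hi0 hM hμ (by omega) (by omega)⟩
  exfalso
  omega

end Cfsg.Agent.Lib.helper24
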