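import Mathlib

/-! Piece MARIO of the S5987 split (helper24): pure arithmetic for `i` odd (minus type). -/

set_option autoImplicit false
set_option linter.unusedVariables false

namespace Cfsg.Agent.Lib.helper24

theorem h61o_divu {i x r y s : ℕ} (hr : r < i) (hs : s < i) (e : i * x + r = i * y + s) :
    x = y ∧ r = s := by
  have hi0 : 0 < i := by omega
  have h1 : (i * x + r) / i = x := by
    rw [Nat.mul_add_div hi0, Nat.div_eq_of_lt hr]; rfl
  have h2 : (i * y + s) / i = y := by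
    rw [Nat.mul_add_div hi0, Nat.div_eq_of_lt hs]; rfl
  have hxy : x = y := by rw [← h1, e, h2]
  subst hxy
  exact ⟨rfl, by omega⟩

theorem stm_arith_suff_odd (i d m : ℕ) (hi : Odd i) (hm : 1 ≤ m) (hmd : m < d)
    (hB : i ≤ m ∧ ((2 * d) % (2 * i) = 0 ∨ 2 * (m % i) < (2 * d) % (2 * i)))
    (S k' : ℕ) (hS : 1 ≤ S) (hdim : i * (2 * S) + 2 * k' = 2 * d) (hk : 1 ≤ k') :
    ∃ B a : ℕ, B ≤ S ∧ a + i * B = m ∧ a + 1 ≤ k' := by
  have hi0 : 0 < i := hi.pos
  rw [Nat.mul_mod_mul_left 2 d i] at hB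
  have hM := Nat.div_add_mod m i
  have hμ := Nat.mod_lt m hi0
  have hD := Nat.div_add_mod d i
  have hδ := Nat.mod_lt d hi0
  generalize m / i = M at *
  generalize m % i = μ at *
  generalize d / i = D at *
  generalize d % i = δ at *
  have hiS : i * (2 * S) = 2 * (i * S) := by ring
  have hSD : S ≤ D := by
    by_contra hlt
    have h1 : i * (D + 1) ≤ i * S := Nat.mul_le_mul_left i (by omega)
    have h2 : i * (D + 1) = i * D + i := by ring
    omega
  have hMD : M ≤ D := by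
    by_contra hlt
    have h1 : i * (D + 1) ≤ i * M := Nat.mul_le_mul_left i (by omega)
    have h2 : i * (D + 1) = i * D + i := by ring
    omega
  rcases le_or_gt M S with hMS | hMS
  · -- `B = M`, `a = μ`
    obtain ⟨g, rfl⟩ : ∃ g, D = S + g := ⟨D - S, by omega⟩
    have e1 : i * (S + g) = i * S + i * g := by ring
    have hg0 : g = 0 → i * g = 0 := by rintro rfl; simp
    have hg1 : 1 ≤ g → i ≤ i * g := fun h' => Nat.le_mul_of_pos_right i h'
    exact ⟨M, μ, hMS, by omega, by omega⟩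
  · -- `B = S`, `a = i (M - S) + μ`
    obtain ⟨f, rfl⟩ : ∃ f, M = S + f := ⟨M - S, by omega⟩
    obtain ⟨g, rfl⟩ : ∃ g, D = S + f + g := ⟨D - (S + f), by omega⟩
    have e1 : i * (S + f + g) = i * S + i * f + i * g := by ring
    have e2 : i * (S + f) = i * S + i * f := by ring
    have hg0 : g = 0 → i * g = 0 := by rintro rfl; simp
    have hg1 : 1 ≤ g → i ≤ i * g := fun h' => Nat.le_mul_of_pos_right i h'
    exact ⟨S, i * f + μ, le_rfl, by omega, by omega⟩

theorem stm_arith_nec_odd (i d m : ℕ) (hi : Odd i) (hm : 1 ≤ m) (hmd : m < d)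
    (hcount : ∃ j₀, j₀ < m ∧ ((i ∣ 2 * (d - j₀) ∧ ¬ i ∣ d - j₀) ∨ i ∣ d - j₀ - 1)) :
    i + 1 ≤ d ∧ ((2 * d) % (2 * i) = 0 → i ≤ m) ∧
      ∀ a b : ℕ, a + i * b = m → 2 * a + 2 ≤ (2 * d) % (2 * i) →
        i ≤ m ∧ 2 * (m % i) < (2 * d) % (2 * i) := by
  have hi0 : 0 < i := hi.pos
  rw [Nat.mul_mod_mul_left 2 d i]
  obtain ⟨j₀, hj₀, hc⟩ := hcount
  have hcop : Nat.Coprime i 2 := Nat.coprime_two_right.mpr hi
  obtain ⟨c, hc⟩ : i ∣ d - j₀ - 1 := by
    rcases hc with ⟨h1, h2⟩ | h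
    · exact absurd (hcop.dvd_of_dvd_mul_left h1) h2
    · exact h
  have hc1 : 1 ≤ c := by
    rcases Nat.eq_zero_or_pos c with rfl | h'
    · simp at hc; omega
    · exact h'
  have hic : i ≤ i * c := Nat.le_mul_of_pos_right i hc1
  have hM := Nat.div_add_mod m i
  have hμ := Nat.mod_lt m hi0
  have hD := Nat.div_add_mod d i
  have hδ := Nat.mod_lt d hi0
  generalize m / i = M at *
  generalize m % i = μ at *
  generalize d / i = D at *
  generalize d % i = δ at *
  have hM0 : M = 0 → i * M = 0 := by rintro rfl; simp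
  have hM1 : 1 ≤ M → i ≤ i * M := fun h' => Nat.le_mul_of_pos_right i h'
  -- if `j₀ + 1 < i` then `δ = j₀ + 1`
  have hu : j₀ + 1 < i → δ = j₀ + 1 := fun h' =>
    (h61o_divu hδ h' (x := D) (y := c) (by omega)).2
  refine ⟨by omega, fun h0 => by omega, ?_⟩
  intro a b hab h2
  have ha : a < i := by omega
  obtain ⟨rfl, rfl⟩ := h61o_divu ha hμ (x := b) (y := M) (by omega)
  refine ⟨by omega, by omega⟩

end Cfsg.Agent.Lib.helper24
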