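import Mathlib

/-! Piece ARIE-S of the S5973 split (helper24): pure arithmetic, sufficiency for `i` even. -/

set_option autoImplicit false
set_option linter.unusedVariables false

namespace Cfsg.Agent.Lib.helper24

theorem h61s_ite (j : ℕ) : (if Odd j then 1 else 0) = j % 2 := by
  split_ifs with h
  · exact (Nat.odd_iff.mp h).symm
  · exact (Nat.even_iff.mp (Nat.not_odd_iff_even.mp h)).symm

theorem stp_arith_suff (i t d m : ℕ) (hi : Even i) (hi0 : 0 < i) (ht : 1 ≤ t) (hm : 1 ≤ m)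
    (hmd : m < d)
    (hC : i ≤ m ∧ t + 2 * (m / i) ≤ (2 * d) / i ∧
      ((2 * (m % i) ≤ i ∧ (2 * d) % i = 0 ∧ Odd ((2 * d) / i) ∧ t + 2 * (m / i) < (2 * d) / i) ∨
       (2 * (m % i) ≤ (2 * d) % i ∧ Even ((2 * d) / i)) ∨
       (2 * (m % i) < (2 * d) % i ∧ Odd ((2 * d) / i))))
    (A S k' : ℕ) (hA : 1 ≤ A) (hdim : i * A + 2 * k' = 2 * d) (hAS : A ≤ 2 * S + t)
    (hk0 : k' = 0 → Even A) :
    ∃ B a : ℕ, B ≤ S ∧ a + i * B = m ∧ a + (if Odd A then 1 else 0) ≤ k' := by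
  obtain ⟨h, hh⟩ := hi
  have hM := Nat.div_add_mod m i
  have hμ := Nat.mod_lt m hi0
  have hN := Nat.div_add_mod (2 * d) i
  have hρ := Nat.mod_lt (2 * d) hi0
  generalize m / i = M at *
  generalize m % i = μ at *
  generalize (2 * d) / i = N at *
  generalize (2 * d) % i = ρ at *
  simp only [Nat.odd_iff, Nat.even_iff] at hC hk0
  simp only [h61s_ite]
  have hiN2 : i * N = 2 * (h * N) := by rw [hh]; ring
  have hiA2 : i * A = 2 * (h * A) := by rw [hh]; ring
  have hρ2 : ρ % 2 = 0 := by omega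
  have hAN : A ≤ N := by
    by_contra hlt
    have h1 : i * (N + 1) ≤ i * A := Nat.mul_le_mul_left i (by omega)
    have h2 : i * (N + 1) = i * N + i := by ring
    omega
  obtain ⟨B, f, hBS, hfB, hf⟩ : ∃ B f, B ≤ S ∧ f + B = M ∧ (f = 0 ∨ B = S) := by
    rcases le_total M S with h' | h'
    · exact ⟨M, 0, h', by omega, Or.inl rfl⟩
    · exact ⟨S, M - S, le_rfl, by omega, Or.inr rfl⟩
  have hgle : 2 * f + A ≤ N := by omega
  obtain ⟨g, hg⟩ : ∃ g, N = A + 2 * f + g := ⟨N - A - 2 * f, by omega⟩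
  have e1 : i * N = i * A + 2 * (i * f) + i * g := by rw [hg]; ring
  have e2 : i * M = i * f + i * B := by rw [← hfB]; ring
  have hg0 : g = 0 → i * g = 0 := by rintro rfl; simp
  have hf0 : f = 0 → i * f = 0 := by rintro rfl; simp
  have hg1 : 1 ≤ g → i ≤ i * g := fun h' => Nat.le_mul_of_pos_right i h'
  have hg2 : 2 ≤ g → 2 * i ≤ i * g := fun h' => by
    have := Nat.mul_le_mul_left i h'
    omega
  refine ⟨B, i * f + μ, hBS, by omega, ?_⟩
  omega

end Cfsg.Agent.Lib.helper24
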