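/-
S2221 piece project (owner helper2), PIECE A: transitivity properties of the Sylow 2-subgroups of
symmetric groups.
-/
import Cfsg.Agent.S2222
import Mathlib
import Cfsg.Prelude.Def_TwoFusion
import Cfsg.Agent.Lib.helper15.PermMod

set_option autoImplicit false
set_option linter.unusedVariables false
open Equiv Cfsg.Agent.S2222

namespace Cfsg.Agent.Lib.helper61.SylAlt

/-- PIECE A, part 1 -/
theorem sylow_trans_pow {Ω : Type} [Fintype Ω] [DecidableEq Ω] (k : ℕ) (hΩ : Fintype.card Ω = 2 ^ k)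
    (P : Subgroup (Perm Ω)) (hP2 : IsPGroup 2 P)
    (hcard : Nat.card P = 2 ^ ((Fintype.card Ω).factorial.factorization 2)) (a b : Ω) :
    ∃ g ∈ P, g a = b := by
  have hp2 : Fact (Nat.Prime 2) := ⟨Nat.prime_two⟩
  have hc : Nat.card P = 2 ^ (Nat.card (Perm Ω)).factorization 2 := by
    rw [hcard, Nat.card_perm, Nat.card_eq_fintype_card]
  have h := Cfsg.Agent.Lib.helper15.PermMod.sylow_orbit_eq_univ (G := Perm Ω) (Ω := Ω) (p := 2)
    (f := k) hΩ (Sylow.ofCard P hc) a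
  have hb : b ∈ MulAction.orbit ((Sylow.ofCard P hc : Sylow 2 (Perm Ω)) : Subgroup (Perm Ω)) a := by
    rw [h]; trivial
  obtain ⟨g, hg⟩ := hb
  exact ⟨g.1, g.2, hg⟩

/-- lifting elements of the image of `P` on the set of swaps -/
theorem a_lift {Ω : Type} [Fintype Ω] [DecidableEq Ω] {T : Finset (Perm Ω)}
    (P : Subgroup (Perm Ω)) (hPT : P ≤ stabT T)
    (q : Perm {t // t ∈ T}) (hq : q ∈ ((phiT T).comp (Subgroup.inclusion hPT)).range) :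
    ∃ g ∈ P, ∀ t : {t // t ∈ T}, ((q t : {t // t ∈ T}) : Perm Ω) = g * t * g⁻¹ := by
  obtain ⟨p, rfl⟩ := hq
  exact ⟨p.1, p.2, fun t => rfl⟩

/-- PIECE A, part 2 -/
theorem sylow_trans_swaps {Ω : Type} [Fintype Ω] [DecidableEq Ω] (k : ℕ)
    (hΩ : Fintype.card Ω = 2 ^ k + 1)
    (P : Subgroup (Perm Ω)) (hP2 : IsPGroup 2 P)
    (hcard : Nat.card P = 2 ^ ((Fintype.card Ω).factorial.factorization 2)) (a b : Ω)
    (ha : ∃ t ∈ P, t.IsSwap ∧ t a ≠ a) (hb : ∃ t ∈ P, t.IsSwap ∧ t b ≠ b) :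
    ∃ g ∈ P, g a = b := by
  obtain ⟨T, hmemT, hT, hPT⟩ := exists_swap_pairing P hP2 hcard
  obtain ⟨ta, htaP, htas, htaa⟩ := ha
  obtain ⟨tb, htbP, htbs, htbb⟩ := hb
  have htaT : ta ∈ T := (hmemT ta).mpr ⟨htaP, htas⟩
  have htbT : tb ∈ T := (hmemT tb).mpr ⟨htbP, htbs⟩
  have hTcard : Fintype.card {t // t ∈ T} = 2 ^ (k - 1) := by
    rw [Fintype.card_coe, hT.card, hΩ]
    rcases Nat.eq_zero_or_pos k with h0 | hpos
    · subst h0; norm_num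
    · obtain ⟨j, rfl⟩ : ∃ j, k = j + 1 := ⟨k - 1, by omega⟩
      rw [pow_succ]
      simp
      omega
  obtain ⟨hQ2, hQc⟩ := image_sylow hT P hPT hP2 hcard
  rw [← Fintype.card_coe] at hQc
  obtain ⟨q, hq, hqab⟩ := sylow_trans_pow (k - 1) hTcard _ hQ2 hQc ⟨ta, htaT⟩ ⟨tb, htbT⟩
  obtain ⟨g, hgP, hg⟩ := a_lift P hPT q hq
  have hconj : g * ta * g⁻¹ = tb := by
    rw [← hg ⟨ta, htaT⟩, hqab]
  have e1 := swap_of_isSwap htas htaa
  have h2 : tb = swap (g a) (g (ta a)) := by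
    rw [← hconj]
    nth_rewrite 1 [e1]
    exact swap_apply_apply g a (ta a) ▸ rfl
  by_cases hga : g a = b
  · exact ⟨g, hgP, hga⟩
  · refine ⟨g * ta, P.mul_mem hgP htaP, ?_⟩
    rw [Perm.mul_apply]
    by_contra hne
    apply htbb
    rw [h2]
    exact swap_apply_of_ne_of_ne (Ne.symm hga) (Ne.symm hne)

/-- PIECE A, part 3 -/
theorem swaps_orbit_odd {Ω : Type} [Fintype Ω] [DecidableEq Ω] (P : Subgroup (Perm Ω))
    (hP2 : IsPGroup 2 P)
    (hcard : Nat.card P = 2 ^ ((Fintype.card Ω).factorial.factorization 2))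
    (T : Finset (Perm Ω)) (hmemT : ∀ t, t ∈ T ↔ t ∈ P ∧ t.IsSwap) (hT : Pairing T)
    (hPT : P ≤ stabT T) (k : ℕ) (hk1 : 1 ≤ k) (hk : T.card = 2 ^ k + 1) :
    ∃ t₀ ∈ T, (∀ g ∈ P, g * t₀ * g⁻¹ = t₀) ∧
      ∀ t ∈ T, ∀ s ∈ T, t ≠ t₀ → s ≠ t₀ → ∃ g ∈ P, g * t * g⁻¹ = s := by
  classical
  obtain ⟨hQ2, hQc⟩ := image_sylow hT P hPT hP2 hcard
  rw [← Fintype.card_coe] at hQc
  obtain ⟨Q, hQdef⟩ : ∃ Q, Q = ((phiT T).comp (Subgroup.inclusion hPT)).range := ⟨_, rfl⟩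
  rw [← hQdef] at hQ2 hQc
  have hΩ' : Fintype.card {t // t ∈ T} = 2 ^ k + 1 := by rw [Fintype.card_coe, hk]
  obtain ⟨T', hmemT', hT', hQT'⟩ := exists_swap_pairing Q hQ2 hQc
  have hT'card : T'.card * 2 = 2 ^ k := by
    rw [hT'.card, hΩ']
    obtain ⟨j, rfl⟩ : ∃ j, k = j + 1 := ⟨k - 1, by omega⟩
    rw [pow_succ]
    omega
  have hex : ∃ t₀ : {t // t ∈ T}, ∀ τ ∈ T', τ t₀ = t₀ := by
    by_contra hcon
    push Not at hcon
    have hsub : (Finset.univ : Finset {t // t ∈ T}) ⊆ T'.biUnion (fun τ => τ.support) := by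
      intro x _
      obtain ⟨τ, hτ, hx⟩ := hcon x
      exact Finset.mem_biUnion.mpr ⟨τ, hτ, Perm.mem_support.mpr hx⟩
    have h1 := Finset.card_le_card hsub
    have h2 : (T'.biUnion (fun τ => τ.support)).card ≤ ∑ τ ∈ T', τ.support.card :=
      Finset.card_biUnion_le
    have h3 : ∑ τ ∈ T', τ.support.card = ∑ τ ∈ T', 2 :=
      Finset.sum_congr rfl (fun τ hτ => Perm.card_support_eq_two.2 (hT'.sw τ hτ))
    rw [h3, Finset.sum_const, smul_eq_mul, hT'card] at h2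
    rw [Finset.card_univ, hΩ'] at h1
    omega
  obtain ⟨t₀, ht₀⟩ := hex
  have hfix : ∀ q ∈ Q, q t₀ = t₀ := by
    intro q hq
    apply hT'.cover (q t₀) t₀ _ ht₀
    intro τ hτ
    have h1 := ((mem_stabT.mp (hQT' hq)) τ hτ).2
    have h2 := ht₀ _ h1
    simp only [Perm.mul_apply] at h2
    have h3 := congrArg q h2
    simpa using h3
  refine ⟨t₀.1, t₀.2, ?_, ?_⟩
  · intro g hg
    have hq : (phiT T).comp (Subgroup.inclusion hPT) ⟨g, hg⟩ ∈ Q := by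
      rw [hQdef]; exact ⟨_, rfl⟩
    have h1 := hfix _ hq
    exact congrArg Subtype.val h1
  · intro t ht s hs hne_t hne_s
    have hcov : ∀ x : {t // t ∈ T}, x ≠ t₀ → ∃ τ ∈ Q, τ.IsSwap ∧ τ x ≠ x := by
      intro x hx
      by_contra hcon
      push Not at hcon
      apply hx
      apply hT'.cover x t₀ _ ht₀
      intro τ hτ
      exact hcon τ ((hmemT' τ).mp hτ).1 ((hmemT' τ).mp hτ).2
    have hta := hcov ⟨t, ht⟩ (fun h => hne_t (congrArg Subtype.val h))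
    have hsb := hcov ⟨s, hs⟩ (fun h => hne_s (congrArg Subtype.val h))
    obtain ⟨q, hq, hqts⟩ := sylow_trans_swaps k hΩ' Q hQ2 hQc ⟨t, ht⟩ ⟨s, hs⟩ hta hsb
    rw [hQdef] at hq
    obtain ⟨g, hgP, hg⟩ := a_lift P hPT q hq
    exact ⟨g, hgP, by rw [← hg ⟨t, ht⟩, hqts]⟩

end Cfsg.Agent.Lib.helper61.SylAlt
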