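import Mathlib
import Cfsg.Agent.Lib.helper24.SfoDefs
import Cfsg.Agent.Lib.helper57.SfoBINCNT
import Cfsg.Agent.Lib.helper61.SfoCNTDOcore

/-! S5981 split (helper24), piece CNTDO: `sfo_count_diag_odd`; also a prefixed copy of CNTDE
(`h61_sfo_count_diag_even`), from the same recursion. -/

set_option autoImplicit false

namespace Cfsg.Agent.Lib.helper24

open Module Matrix Cfsg.Geo

/-- CNTDO -/
theorem sfo_count_diag_odd {F : Type*} [Field F] [Fintype F] [DecidableEq F] (h2 : (2 : F) ≠ 0)
    (k : ℕ) (d : Fin (2 * k + 1) → F) (hd : ∀ j, d j ≠ 0) :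
    ∃ E : ℤ, (E = 1 ∨ E = -1) ∧
      (∀ c : F, c ≠ 0 → IsSquare c →
        ((Finset.univ.filter (fun x : Fin (2 * k + 1) → F => ∑ j, d j * x j ^ 2 = c)).card : ℤ) =
          (Fintype.card F : ℤ) ^ k * ((Fintype.card F : ℤ) ^ k + E)) ∧
      (∀ c : F, c ≠ 0 → ¬ IsSquare c →
        ((Finset.univ.filter (fun x : Fin (2 * k + 1) → F => ∑ j, d j * x j ^ 2 = c)).card : ℤ) =
          (Fintype.card F : ℤ) ^ k * ((Fintype.card F : ℤ) ^ k - E)) :=
  h61_sfo_count_diag_odd_core h2 (fun a b ha hb => sfo_bin_count h2 a b ha hb) k (2 * k + 1) rfl d hd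

/-- A copy of CNTDE (prefixed name). -/
theorem h61_sfo_count_diag_even {F : Type*} [Field F] [Fintype F] [DecidableEq F]
    (h2 : (2 : F) ≠ 0) (k : ℕ) (d : Fin (2 * k) → F) (hd : ∀ j, d j ≠ 0) :
    ∃ ε : ℤ, (ε = 1 ∨ ε = -1) ∧ ∀ c : F, c ≠ 0 →
      ((Finset.univ.filter (fun x : Fin (2 * k) → F => ∑ j, d j * x j ^ 2 = c)).card : ℤ) =
        (Fintype.card F : ℤ) ^ (k - 1) * ((Fintype.card F : ℤ) ^ k - ε) := by
  have main : ∀ (k n : ℕ) (_ : n = 2 * k) (d : Fin n → F) (_ : ∀ j, d j ≠ 0),
      ∃ ε : ℤ, (ε = 1 ∨ ε = -1) ∧ ∀ c : F, c ≠ 0 →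
        ((Finset.univ.filter (fun x : Fin n → F => ∑ j, d j * x j ^ 2 = c)).card : ℤ) =
          (Fintype.card F : ℤ) ^ (k - 1) * ((Fintype.card F : ℤ) ^ k - ε) := by
    intro k
    induction k with
    | zero =>
      intro n hn d _
      have hn0 : n = 0 := by omega
      subst hn0
      refine ⟨1, Or.inl rfl, fun c hc => ?_⟩
      have h0 : (Finset.univ.filter (fun x : Fin 0 → F => ∑ j, d j * x j ^ 2 = c)) = ∅ := by
        rw [Finset.filter_eq_empty_iff]
        intro x _
        rw [Finset.univ_eq_empty, Finset.sum_empty]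
        exact fun h => hc h.symm
      rw [h0]
      simp
    | succ k ih =>
      intro n hn d hd
      obtain ⟨m, rfl⟩ : ∃ m, n = m + 2 := ⟨2 * k, by omega⟩
      have hm : m = 2 * k := by omega
      obtain ⟨e, he, hM, hM0⟩ := sfo_bin_count h2 (d 0) (d 1) (hd 0) (hd 1)
      obtain ⟨ε, hε, ih1⟩ := ih m hm (fun j => d j.succ.succ) (fun j => hd _)
      refine ⟨e * ε, ?_, ?_⟩
      · rcases he with rfl | rfl <;> rcases hε with rfl | rfl <;> simp
      · intro c hc
        rw [h61_sfo_diag_rec m (d 0) (d 1) e hM hM0 d rfl rfl c]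
        rcases k with _ | j
        · -- here the induction hypothesis is the case of no variables
          have hm0 : m = 0 := by omega
          subst hm0
          have h0 : (Finset.univ.filter
              (fun x : Fin 0 → F => ∑ j, d j.succ.succ * x j ^ 2 = c)) = ∅ := by
            rw [Finset.filter_eq_empty_iff]
            intro x _
            rw [Finset.univ_eq_empty, Finset.sum_empty]
            exact fun h => hc h.symm
          have h1 := ih1 c hc
          rw [h0] at h1
          simp at h1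
          have hε1 : ε = 1 := by linarith
          rw [h0, hε1]
          simp
        · rw [ih1 c hc, hm]
          simp only [Nat.add_sub_cancel]
          ring
  exact main k (2 * k) rfl d hd

end Cfsg.Agent.Lib.helper24
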