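import Mathlib

/-! S2335 split (helper44), piece FSKEW: `card_skew`. -/

set_option autoImplicit false

namespace Cfsg.Agent.Lib.helper44.SUW

open Matrix Polynomial

/-- A finite set of roots of a nonzero polynomial of degree at most `d` has at most `d` elements. -/
theorem h61_card_le_of_roots {K : Type*} [Field K] [DecidableEq K] (p : K[X]) (hp : p ≠ 0) (d : ℕ)
    (hd : p.natDegree ≤ d) (s : Finset K) (hs : ∀ x ∈ s, p.eval x = 0) : s.card ≤ d := by
  calc s.card ≤ p.roots.toFinset.card := Finset.card_le_card (fun x hx => by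
        rw [Multiset.mem_toFinset, Polynomial.mem_roots hp]
        exact hs x hx)
    _ ≤ Multiset.card p.roots := Multiset.toFinset_card_le _
    _ ≤ p.natDegree := Polynomial.card_roots' p
    _ ≤ d := hd

/-- The polynomial `X ^ q + C a * X` is nonzero of degree at most `q`, for `2 ≤ q`. -/
theorem h61_pow_add_ne {K : Type*} [Field K] (q : ℕ) (hq : 2 ≤ q) (a : K) :
    (X ^ q + C a * X : K[X]) ≠ 0 ∧ (X ^ q + C a * X : K[X]).natDegree ≤ q := by
  have hdeg : (C a * X : K[X]).degree < (q : WithBot ℕ) := by
    refine lt_of_le_of_lt (Polynomial.degree_C_mul_X_le a) ?_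
    exact_mod_cast (by omega : 1 < q)
  have hmon : (X ^ q + C a * X : K[X]).Monic := Polynomial.monic_X_pow_add hdeg
  refine ⟨hmon.ne_zero, ?_⟩
  refine Polynomial.natDegree_add_le_of_degree_le (Polynomial.natDegree_X_pow_le q) ?_
  refine le_trans ((Polynomial.natDegree_C_mul_le a X).trans Polynomial.natDegree_X_le) ?_
  omega

/-- FSKEW (M) -/
theorem card_skew {K : Type*} [Field K] [Fintype K] {q : ℕ} (hK : Fintype.card K = q ^ 2)
    (σ : K →+* K) (hσ : ∀ x, σ x = x ^ q) : Nat.card {c : K // σ c = -c} = q := by
  classical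
  have hq2 : 2 ≤ q := by
    have h1 : 1 < Fintype.card K := Fintype.one_lt_card
    rw [hK] at h1
    by_contra hlt
    have hq1 : q ≤ 1 := by omega
    have : q ^ 2 ≤ 1 ^ 2 := Nat.pow_le_pow_left hq1 2
    omega
  -- the additive map `x ↦ σ x + x`
  let T : K →+ K := σ.toAddMonoidHom + AddMonoidHom.id K
  have hT : ∀ x, T x = x ^ q + x := fun x => by
    change σ x + x = _
    rw [hσ]
  -- the kernel has at most `q` elements
  have hker : Nat.card T.ker ≤ q := by
    obtain ⟨hne, hdeg⟩ := h61_pow_add_ne q hq2 (1 : K)
    have h1 := h61_card_le_of_roots (X ^ q + C (1 : K) * X) hne q hdeg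
      (Finset.univ.filter (fun x : K => T x = 0)) (fun x hx => by
        rw [Finset.mem_filter] at hx
        have := hx.2
        rw [hT] at this
        simp [this])
    have h2 : Nat.card T.ker = (Finset.univ.filter (fun x : K => T x = 0)).card := by
      rw [Nat.card_eq_fintype_card, ← Fintype.card_subtype]
      exact Fintype.card_congr (Equiv.subtypeEquivRight (fun x => AddMonoidHom.mem_ker))
    rw [h2]
    exact h1
  -- the range has at most `q` elements
  have hrange : Nat.card T.range ≤ q := by
    obtain ⟨hne, hdeg⟩ := h61_pow_add_ne q hq2 (-1 : K)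
    have h1 := h61_card_le_of_roots (X ^ q + C (-1 : K) * X) hne q hdeg
      (Finset.univ.filter (fun y : K => y ∈ T.range)) (fun y hy => by
        rw [Finset.mem_filter] at hy
        obtain ⟨x, rfl⟩ := hy.2
        rw [hT]
        have hx2 : (x ^ q) ^ q = x := by
          rw [← pow_mul, ← sq, ← hK]
          exact FiniteField.pow_card x
        have hy : (x ^ q + x) ^ q = x + x ^ q := by
          rw [← hσ (x ^ q + x), map_add, hσ (x ^ q), hσ x, hx2]
        simp only [eval_add, eval_pow, eval_X, eval_mul, eval_C]
        rw [hy]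
        ring)
    have h2 : Nat.card T.range = (Finset.univ.filter (fun y : K => y ∈ T.range)).card := by
      rw [Nat.card_eq_fintype_card, ← Fintype.card_subtype]
    rw [h2]
    exact h1
  have hmul : Nat.card T.ker * Nat.card T.range = q ^ 2 := by
    rw [← hK, ← Nat.card_eq_fintype_card, ← AddSubgroup.card_mul_index T.ker, AddSubgroup.index_ker]
  have hkq : Nat.card T.ker = q := by
    apply le_antisymm hker
    by_contra hlt
    push Not at hlt
    have : Nat.card T.ker * Nat.card T.range < q * q :=
      Nat.mul_lt_mul_of_lt_of_le hlt hrange (by omega)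
    rw [hmul, sq] at this
    exact lt_irrefl _ this
  rw [← hkq]
  refine Nat.card_congr (Equiv.subtypeEquivRight (fun c => ?_))
  rw [AddMonoidHom.mem_ker]
  change σ c = -c ↔ σ c + c = 0
  exact eq_neg_iff_add_eq_zero
end Cfsg.Agent.Lib.helper44.SUW
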