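import Mathlib
import Cfsg.Agent.Lib.helper44.SUWDefs
import Cfsg.Agent.Lib.helper61.SUWFSKEW

/-! S2335 split (helper44), piece COLZ, core version: `col_zero` with the transitivity of `SL_d`
on nonzero vectors (piece SLTR) as a hypothesis, and `m = n + 1`. -/

set_option autoImplicit false

namespace Cfsg.Agent.Lib.helper44.SUW

open Matrix Polynomial

theorem h61_two_le_q {K : Type*} [Field K] [Fintype K] {q : ℕ} (hK : Fintype.card K = q ^ 2) :
    2 ≤ q := by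
  have h1 : 1 < Fintype.card K := Fintype.one_lt_card
  rw [hK] at h1
  by_contra hlt
  have hq1 : q ≤ 1 := by omega
  have : q ^ 2 ≤ 1 ^ 2 := Nat.pow_le_pow_left hq1 2
  omega

theorem h61_sigma_sigma {K : Type*} [Field K] [Fintype K] {q : ℕ} (hK : Fintype.card K = q ^ 2)
    (σ : K →+* K) (hσ : ∀ x, σ x = x ^ q) (x : K) : σ (σ x) = x := by
  rw [hσ, hσ, ← pow_mul, ← sq, ← hK]
  exact FiniteField.pow_card x

/-- The first column of `B† Y B`. -/
theorem h61_col_conj {K : Type*} [Field K] (σ : K →+* K) {n : ℕ}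
    (B Y : Matrix (Fin (n + 1)) (Fin (n + 1)) K) (i : Fin (n + 1)) :
    ((B.map σ)ᵀ * Y * B) i 0 = ∑ k, σ (B k i) * ∑ l, Y k l * B l 0 := by
  simp only [Matrix.mul_apply, Matrix.transpose_apply, Matrix.map_apply, Finset.sum_mul,
    Finset.mul_sum]
  rw [Finset.sum_comm]
  exact Finset.sum_congr rfl (fun k _ => Finset.sum_congr rfl (fun l _ => by ring))

/-- Conjugating by the block diagonal matrix `diag(α, Γ)`, `Γ† = G`. -/
theorem h61_col_block {K : Type*} [Field K] [Fintype K] {q n : ℕ} (hK : Fintype.card K = q ^ 2)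
    (σ : K →+* K) (hσ : ∀ x, σ x = x ^ q)
    (S : Set (Matrix (Fin (n + 1)) (Fin (n + 1)) K))
    (hstab : ∀ Y ∈ S, ∀ B : Matrix (Fin (n + 1)) (Fin (n + 1)) K, B.det = 1 →
      (B.map σ)ᵀ * Y * B ∈ S)
    (Y₁ : Matrix (Fin (n + 1)) (Fin (n + 1)) K) (hY₁ : Y₁ ∈ S) (h00 : Y₁ 0 0 = 0)
    (α : K) (G : Matrix (Fin n) (Fin n) K) (hαG : α * σ G.det = 1) :
    ∃ Y' ∈ S, Y' 0 0 = 0 ∧ ∀ j : Fin n, Y' j.succ 0 = α * ∑ k, G j k * Y₁ k.succ 0 := by
  classical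
  let B : Matrix (Fin (n + 1)) (Fin (n + 1)) K := Matrix.of (fun k i =>
    Fin.cases (Fin.cases α (fun _ => 0) i) (fun k' => Fin.cases 0 (fun i' => σ (G i' k')) i) k)
  have hB00 : B 0 0 = α := rfl
  have hB0s : ∀ i : Fin n, B 0 i.succ = 0 := fun _ => rfl
  have hBs0 : ∀ k : Fin n, B k.succ 0 = 0 := fun _ => rfl
  have hBss : ∀ k i : Fin n, B k.succ i.succ = σ (G i k) := fun _ _ => rfl
  have hsub : B.submatrix (Fin.succAbove 0) Fin.succ = (G.map σ)ᵀ := by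
    ext k i
    rw [Matrix.submatrix_apply, Fin.succAbove_zero, hBss]
    rfl
  have hdet : B.det = 1 := by
    rw [Matrix.det_succ_column_zero, Fin.sum_univ_succ]
    have htail : ∑ i : Fin n, (-1 : K) ^ ((i.succ : Fin (n + 1)) : ℕ) * B i.succ 0 *
        (B.submatrix i.succ.succAbove Fin.succ).det = 0 :=
      Finset.sum_eq_zero (fun i _ => by rw [hBs0]; ring)
    rw [htail, hsub, hB00, Matrix.det_transpose]
    have hm : (G.map σ).det = σ G.det := (RingHom.map_det σ G).symm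
    rw [hm]
    simp [hαG]
  have hin : ∀ k, ∑ l, Y₁ k l * B l 0 = Y₁ k 0 * α := by
    intro k
    rw [Fin.sum_univ_succ, hB00]
    simp [hBs0]
  refine ⟨(B.map σ)ᵀ * Y₁ * B, hstab Y₁ hY₁ B hdet, ?_, ?_⟩
  · rw [h61_col_conj]
    simp only [hin]
    rw [Fin.sum_univ_succ, h00]
    simp [hBs0]
  · intro j
    rw [h61_col_conj]
    simp only [hin]
    rw [Fin.sum_univ_succ, hB0s, map_zero, zero_mul, zero_add, Finset.mul_sum]
    refine Finset.sum_congr rfl (fun k _ => ?_)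
    rw [hBss, h61_sigma_sigma hK σ hσ]
    ring

/-- Moving `x` to the first basis vector. -/
theorem h61_col_normalize {K : Type*} [Field K] {n : ℕ} (σ : K →+* K)
    (hsl : ∀ x y : Fin (n + 1) → K, x ≠ 0 → y ≠ 0 →
      ∃ B : Matrix (Fin (n + 1)) (Fin (n + 1)) K, B.det = 1 ∧ B *ᵥ x = y)
    (S : Set (Matrix (Fin (n + 1)) (Fin (n + 1)) K))
    (hstab : ∀ Y ∈ S, ∀ B : Matrix (Fin (n + 1)) (Fin (n + 1)) K, B.det = 1 →
      (B.map σ)ᵀ * Y * B ∈ S)
    (Y : Matrix (Fin (n + 1)) (Fin (n + 1)) K) (hY : Y ∈ S) (x : Fin (n + 1) → K)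
    (hx : hval σ Y x = 0) (hYx : Y *ᵥ x ≠ 0) :
    ∃ Y₁ ∈ S, Y₁ 0 0 = 0 ∧ ∃ j : Fin n, Y₁ j.succ 0 ≠ 0 := by
  classical
  have hx0 : x ≠ 0 := by
    rintro rfl
    exact hYx (Matrix.mulVec_zero Y)
  have he : (Pi.single 0 1 : Fin (n + 1) → K) ≠ 0 := by
    intro h
    have := congr_fun h 0
    simp at this
  obtain ⟨B, hB, hBx⟩ := hsl _ x he hx0
  have hcol : ∀ l, B l 0 = x l := by
    intro l
    have := congr_fun hBx l
    rw [Matrix.mulVec_single_one] at this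
    exact this
  have hentry : ∀ i, ((B.map σ)ᵀ * Y * B) i 0 = ((B.map σ)ᵀ *ᵥ (Y *ᵥ x)) i := by
    intro i
    rw [h61_col_conj]
    simp only [hcol]
    rfl
  have h00 : ((B.map σ)ᵀ * Y * B) 0 0 = 0 := by
    rw [h61_col_conj]
    simp only [hcol]
    rw [← hx]
    unfold hval
    refine Finset.sum_congr rfl (fun k _ => ?_)
    rw [Finset.mul_sum]
    exact Finset.sum_congr rfl (fun l _ => by ring)
  refine ⟨(B.map σ)ᵀ * Y * B, hstab Y hY B hB, h00, ?_⟩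
  by_contra hall
  push Not at hall
  apply hYx
  have hdet : ((B.map σ)ᵀ).det ≠ 0 := by
    rw [Matrix.det_transpose]
    have hm : (B.map σ).det = σ B.det := (RingHom.map_det σ B).symm
    rw [hm, hB, map_one]
    exact one_ne_zero
  apply Matrix.eq_zero_of_mulVec_eq_zero hdet
  funext i
  rw [← hentry i]
  exact Fin.cases h00 (fun j => hall j) i

/-- The case `m ≥ 3`. -/
theorem h61_col_zero_big {K : Type*} [Field K] [Fintype K] [DecidableEq K] {q n : ℕ}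
    (hK : Fintype.card K = q ^ 2) (σ : K →+* K) (hσ : ∀ x, σ x = x ^ q)
    (hsl : ∀ x y : Fin n → K, x ≠ 0 → y ≠ 0 →
      ∃ B : Matrix (Fin n) (Fin n) K, B.det = 1 ∧ B *ᵥ x = y)
    (S : Set (Matrix (Fin (n + 1)) (Fin (n + 1)) K))
    (hstab : ∀ Y ∈ S, ∀ B : Matrix (Fin (n + 1)) (Fin (n + 1)) K, B.det = 1 →
      (B.map σ)ᵀ * Y * B ∈ S)
    (Y₁ : Matrix (Fin (n + 1)) (Fin (n + 1)) K) (hY₁ : Y₁ ∈ S) (h00 : Y₁ 0 0 = 0)
    (j₀ : Fin n) (hj₀ : Y₁ j₀.succ 0 ≠ 0) :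
    (q ^ (n + n) - 1) / (q + 1) ≤
      Nat.card {b : Fin (n + 1) → K // b 0 = 0 ∧ b ≠ 0 ∧ ∃ Y' ∈ S, ∀ i, Y' i 0 = b i} := by
  classical
  have hc : (fun k : Fin n => Y₁ k.succ 0) ≠ 0 := fun h => hj₀ (congr_fun h j₀)
  have hex : ∀ t : Fin n → K, t ≠ 0 →
      ∃ Y' ∈ S, ∀ i, Y' i 0 = (Fin.cons 0 t : Fin (n + 1) → K) i := by
    intro t ht
    obtain ⟨G, hG, hGc⟩ := hsl _ t hc ht
    obtain ⟨Y', hY', h0, hs⟩ := h61_col_block hK σ hσ S hstab Y₁ hY₁ h00 1 G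
      (by rw [hG, map_one, mul_one])
    refine ⟨Y', hY', fun i => ?_⟩
    refine Fin.cases ?_ (fun j => ?_) i
    · rw [h0]
      rfl
    · rw [hs j, one_mul, Fin.cons_succ, ← hGc]
      rfl
  let f : {t : Fin n → K // t ≠ 0} →
      {b : Fin (n + 1) → K // b 0 = 0 ∧ b ≠ 0 ∧ ∃ Y' ∈ S, ∀ i, Y' i 0 = b i} :=
    fun t => ⟨Fin.cons 0 t.1, rfl, fun h => t.2 (funext fun j => by
      have := congr_fun h j.succ
      simpa using this), hex t.1 t.2⟩
  have hf : Function.Injective f := by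
    intro t t' h
    have h1 : (Fin.cons 0 t.1 : Fin (n + 1) → K) = Fin.cons 0 t'.1 := congrArg Subtype.val h
    apply Subtype.ext
    funext j
    have := congr_fun h1 j.succ
    simpa using this
  have hcard : Nat.card {t : Fin n → K // t ≠ 0} = q ^ (n + n) - 1 := by
    rw [Nat.card_eq_fintype_card, Fintype.card_subtype_compl, Fintype.card_subtype_eq,
      Fintype.card_fun, hK, Fintype.card_fin, ← pow_mul, two_mul]
  calc (q ^ (n + n) - 1) / (q + 1) ≤ q ^ (n + n) - 1 := Nat.div_le_self _ _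
    _ = Nat.card {t : Fin n → K // t ≠ 0} := hcard.symm
    _ ≤ _ := Nat.card_le_card_of_injective f hf

/-- The case `m = 2`. -/
theorem h61_col_zero_small {K : Type*} [Field K] [Fintype K] [DecidableEq K] {q : ℕ}
    (hK : Fintype.card K = q ^ 2) (σ : K →+* K) (hσ : ∀ x, σ x = x ^ q)
    (S : Set (Matrix (Fin (1 + 1)) (Fin (1 + 1)) K))
    (hstab : ∀ Y ∈ S, ∀ B : Matrix (Fin (1 + 1)) (Fin (1 + 1)) K, B.det = 1 →
      (B.map σ)ᵀ * Y * B ∈ S)
    (Y₁ : Matrix (Fin (1 + 1)) (Fin (1 + 1)) K) (hY₁ : Y₁ ∈ S) (h00 : Y₁ 0 0 = 0)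
    (hc : Y₁ (Fin.succ 0) 0 ≠ 0) :
    (q ^ (1 + 1) - 1) / (q + 1) ≤
      Nat.card {b : Fin (1 + 1) → K // b 0 = 0 ∧ b ≠ 0 ∧ ∃ Y' ∈ S, ∀ i, Y' i 0 = b i} := by
  classical
  have hq2 := h61_two_le_q hK
  let φ : K → K := fun α => α * (σ α)⁻¹
  let s : Finset K := Finset.univ.filter (fun α : K => α ≠ 0)
  have hφ0 : ∀ α, α ≠ 0 → φ α ≠ 0 := fun α hα =>
    mul_ne_zero hα (inv_ne_zero ((map_ne_zero σ).mpr hα))
  have hI0 : ∀ v ∈ s.image φ, v ≠ 0 := by
    intro v hv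
    obtain ⟨α, hα, rfl⟩ := Finset.mem_image.mp hv
    exact hφ0 α (Finset.mem_filter.mp hα).2
  have hex : ∀ v ∈ s.image φ, ∃ Y' ∈ S, ∀ i,
      Y' i 0 = (Fin.cons 0 (fun _ => v * Y₁ (Fin.succ 0) 0) : Fin (1 + 1) → K) i := by
    intro v hv
    obtain ⟨α, hα, rfl⟩ := Finset.mem_image.mp hv
    have hα0 : α ≠ 0 := (Finset.mem_filter.mp hα).2
    obtain ⟨Y', hY', h0, hs⟩ := h61_col_block hK σ hσ S hstab Y₁ hY₁ h00 α
      ((σ α)⁻¹ • (1 : Matrix (Fin 1) (Fin 1) K)) (by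
        rw [Matrix.det_smul, Matrix.det_one, Fintype.card_fin, pow_one, mul_one, map_inv₀,
          h61_sigma_sigma hK σ hσ]
        exact mul_inv_cancel₀ hα0)
    refine ⟨Y', hY', fun i => ?_⟩
    refine Fin.cases ?_ (fun j => ?_) i
    · rw [h0]
      rfl
    · have hj : j = 0 := Subsingleton.elim _ _
      subst hj
      rw [hs 0, Fin.cons_succ, Fin.sum_univ_one, Matrix.smul_apply, Matrix.one_apply_eq,
        smul_eq_mul, mul_one]
      change α * ((σ α)⁻¹ * Y₁ (Fin.succ 0) 0) = α * (σ α)⁻¹ * Y₁ (Fin.succ 0) 0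
      ring
  have hfib : ∀ a ∈ s.image φ, (s.filter (fun x => φ x = a)).card ≤ q - 1 := by
    intro a ha
    have ha0 : a ≠ 0 := hI0 a ha
    obtain ⟨hne, hdeg⟩ := h61_pow_add_ne q hq2 (-a⁻¹)
    have h1 := h61_card_le_of_roots _ hne q hdeg (insert 0 (s.filter (fun x => φ x = a))) (by
      intro x hx
      rw [Finset.mem_insert] at hx
      rcases hx with rfl | hx
      · simp [zero_pow (by omega : q ≠ 0)]
      · rw [Finset.mem_filter] at hx
        have hx0 : x ≠ 0 := (Finset.mem_filter.mp hx.1).2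
        have hσx : σ x ≠ 0 := (map_ne_zero σ).mpr hx0
        have h2 : a * x ^ q = x := by
          rw [← hσ x, ← hx.2]
          change x * (σ x)⁻¹ * σ x = x
          rw [inv_mul_cancel_right₀ hσx]
        have h3 : x ^ q = a⁻¹ * x := by
          calc x ^ q = a⁻¹ * (a * x ^ q) := by rw [← mul_assoc, inv_mul_cancel₀ ha0, one_mul]
            _ = a⁻¹ * x := by rw [h2]
        simp only [eval_add, eval_pow, eval_X, eval_mul, eval_C]
        rw [h3]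
        ring)
    rw [Finset.card_insert_of_notMem (by simp [s])] at h1
    omega
  have hs : s.card = q ^ 2 - 1 := by
    change (Finset.univ.filter (fun α : K => α ≠ 0)).card = _
    rw [Finset.filter_ne', Finset.card_erase_of_mem (Finset.mem_univ _), Finset.card_univ, hK]
  have hle : q ^ 2 - 1 ≤ (q - 1) * (s.image φ).card := by
    rw [← hs]
    exact Finset.card_le_mul_card_image s (q - 1) hfib
  let f : {v : K // v ∈ s.image φ} →
      {b : Fin (1 + 1) → K // b 0 = 0 ∧ b ≠ 0 ∧ ∃ Y' ∈ S, ∀ i, Y' i 0 = b i} :=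
    fun v => ⟨Fin.cons 0 (fun _ => v.1 * Y₁ (Fin.succ 0) 0), rfl, fun h => by
      have := congr_fun h (Fin.succ 0)
      rw [Fin.cons_succ] at this
      exact mul_ne_zero (hI0 v.1 v.2) hc this, hex v.1 v.2⟩
  have hf : Function.Injective f := by
    intro v v' h
    have h1 : (Fin.cons 0 (fun _ => v.1 * Y₁ (Fin.succ 0) 0) : Fin (1 + 1) → K) =
        Fin.cons 0 (fun _ => v'.1 * Y₁ (Fin.succ 0) 0) := congrArg Subtype.val h
    apply Subtype.ext
    have := congr_fun h1 (Fin.succ 0)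
    rw [Fin.cons_succ, Fin.cons_succ] at this
    exact mul_right_cancel₀ hc this
  have hfin : (q ^ (1 + 1) - 1) / (q + 1) ≤ (s.image φ).card := by
    apply Nat.div_le_of_le_mul
    calc q ^ (1 + 1) - 1 = q ^ 2 - 1 := rfl
      _ ≤ (q - 1) * (s.image φ).card := hle
      _ ≤ (q + 1) * (s.image φ).card := Nat.mul_le_mul_right _ (by omega)
  calc (q ^ (1 + 1) - 1) / (q + 1) ≤ (s.image φ).card := hfin
    _ = Nat.card {v : K // v ∈ s.image φ} := by
      rw [Nat.card_eq_fintype_card, Fintype.card_coe]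
    _ ≤ _ := Nat.card_le_card_of_injective f hf

/-- COLZ with SLTR as a hypothesis and `m = n + 1`. -/
theorem h61_col_zero_core {K : Type*} [Field K] [Fintype K] [DecidableEq K] {q n : ℕ}
    (hK : Fintype.card K = q ^ 2) (hn : 1 ≤ n) (σ : K →+* K) (hσ : ∀ x, σ x = x ^ q)
    (hsl : ∀ (d : ℕ), 2 ≤ d → ∀ x y : Fin d → K, x ≠ 0 → y ≠ 0 →
      ∃ B : Matrix (Fin d) (Fin d) K, B.det = 1 ∧ B *ᵥ x = y)
    (S : Set (Matrix (Fin (n + 1)) (Fin (n + 1)) K))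
    (hstab : ∀ Y ∈ S, ∀ B : Matrix (Fin (n + 1)) (Fin (n + 1)) K, B.det = 1 →
      (B.map σ)ᵀ * Y * B ∈ S)
    (Y : Matrix (Fin (n + 1)) (Fin (n + 1)) K) (hY : Y ∈ S) (x : Fin (n + 1) → K)
    (hx : hval σ Y x = 0) (hYx : Y *ᵥ x ≠ 0) :
    (q ^ (n + n) - 1) / (q + 1) ≤
      Nat.card {b : Fin (n + 1) → K // b 0 = 0 ∧ b ≠ 0 ∧ ∃ Y' ∈ S, ∀ i, Y' i 0 = b i} := by
  obtain ⟨Y₁, hY₁, h00, j₀, hj₀⟩ :=
    h61_col_normalize σ (hsl (n + 1) (by omega)) S hstab Y hY x hx hYx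
  rcases Nat.lt_or_ge n 2 with h | h
  · have hn1 : n = 1 := by omega
    subst hn1
    have hj : j₀ = 0 := Subsingleton.elim _ _
    subst hj
    exact h61_col_zero_small hK σ hσ S hstab Y₁ hY₁ h00 hj₀
  · exact h61_col_zero_big hK σ hσ (hsl n h) S hstab Y₁ hY₁ h00 j₀ hj₀

end Cfsg.Agent.Lib.helper44.SUW
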