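import Mathlib
import Cfsg.Agent.Lib.helper44.SUWDefs
import Cfsg.Agent.Lib.helper75.SUWSLTR
import Cfsg.Agent.Lib.helper61.SUWCOLZcore

/-! S2335 split (helper44), piece COLZ: `col_zero`. -/

set_option autoImplicit false

namespace Cfsg.Agent.Lib.helper44.SUW

open Matrix

/-- COLZ (L) -/
theorem col_zero {K : Type*} [Field K] [Fintype K] [DecidableEq K] {q m : ℕ}
    (hK : Fintype.card K = q ^ 2) (hm : 2 ≤ m) (σ : K →+* K) (hσ : ∀ x, σ x = x ^ q)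
    (S : Set (Matrix (Fin m) (Fin m) K)) (hS : ∀ Y ∈ S, Y ∈ skewH σ m)
    (hstab : ∀ Y ∈ S, ∀ B : Matrix (Fin m) (Fin m) K, B.det = 1 → (B.map σ)ᵀ * Y * B ∈ S)
    (Y : Matrix (Fin m) (Fin m) K) (hY : Y ∈ S) (x : Fin m → K) (hx : hval σ Y x = 0)
    (hYx : Y *ᵥ x ≠ 0) :
    (q ^ ((m - 1) + (m - 1)) - 1) / (q + 1) ≤
      Nat.card {b : Fin m → K // b ⟨0, by omega⟩ = 0 ∧ b ≠ 0 ∧ ∃ Y' ∈ S, ∀ i, Y' i ⟨0, by omega⟩ = b i} := by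
  obtain ⟨n, rfl⟩ : ∃ n, m = n + 1 := ⟨m - 1, by omega⟩
  exact h61_col_zero_core hK (by omega) σ hσ (fun d hd x y hx hy => sl_trans hd x y hx hy)
    S hstab Y hY x hx hYx

end Cfsg.Agent.Lib.helper44.SUW
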