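import Mathlib
import Cfsg.Agent.Lib.helper89.GfHDefs

/-! S4395 piece EXB sub-split (helper89), leaf XB3: `exb_irr`. -/

set_option autoImplicit false

namespace Cfsg.Agent.Lib.helper3.Gf

universe u

/-- XB3 : nontriviality and irreducibility. -/
theorem exb_irr {L : Type u} [CommRing L] {n : ℕ} (D : H89Data L n) (hne : D.e 1 ≠ 1)
    (htr : ∀ w : L, D.σ w = w → ∃ z : L, z + D.σ z = w)
    (hirr : ∀ X : AddSubgroup L, (∀ x ∈ X, D.e 1 * x ∈ X) → X = ⊥ ∨ X = ⊤) :
    (∃ u ∈ h89P D, h89y D * u * (h89y D)⁻¹ * u⁻¹ ∉ h89N D) ∧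
    (∀ W : Subgroup (H89G D), h89N D ≤ W → W ≤ h89P D →
      (∀ w ∈ W, h89y D * w * (h89y D)⁻¹ ∈ W) → W = h89N D ∨ W = h89P D) := by
  refine ⟨?_, ?_⟩
  · obtain ⟨z₁, hz₁⟩ := htr 1 (map_one D.σ)
    refine ⟨⟨1, z₁, 0, by rw [hz₁, map_one, mul_one]⟩, rfl, ?_⟩
    intro h
    have hx := h.1
    simp only [H89G.mul_x, H89G.mul_k, H89G.inv_x, H89G.inv_k, h89y_x, h89y_k, mul_zero, neg_zero,
      add_zero, zero_add, mul_one, add_neg_cancel, D.e_zero] at hx
    apply hne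
    linear_combination hx
  · intro W hNW hWP hy
    let X : AddSubgroup L :=
      { carrier := {x | ∃ w ∈ W, w.x = x}
        zero_mem' := ⟨1, W.one_mem, rfl⟩
        add_mem' := by
          rintro _ _ ⟨w₁, h₁, rfl⟩ ⟨w₂, h₂, rfl⟩
          refine ⟨w₁ * w₂, W.mul_mem h₁ h₂, ?_⟩
          have hk : w₁.k = 0 := hWP h₁
          rw [H89G.mul_x, hk, D.e_zero, one_mul]
        neg_mem' := by
          rintro _ ⟨w, hw, rfl⟩
          refine ⟨w⁻¹, W.inv_mem hw, ?_⟩
          have hk : w.k = 0 := hWP hw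
          rw [H89G.inv_x, hk, neg_zero, D.e_zero, one_mul] }
    have hX : ∀ x ∈ X, D.e 1 * x ∈ X := by
      rintro _ ⟨w, hw, rfl⟩
      refine ⟨h89y D * w * (h89y D)⁻¹, hy w hw, ?_⟩
      simp
    rcases hirr X hX with h | h
    · left
      refine le_antisymm (fun w hw => ?_) hNW
      have hx : w.x ∈ X := ⟨w, hw, rfl⟩
      rw [h] at hx
      exact ⟨(AddSubgroup.mem_bot).mp hx, hWP hw⟩
    · right
      refine le_antisymm hWP (fun a ha => ?_)
      have hx : a.x ∈ X := by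
        rw [h]
        exact AddSubgroup.mem_top _
      obtain ⟨w, hw, hwx⟩ := hx
      have hmem : w⁻¹ * a ∈ h89N D := by
        refine ⟨?_, ?_⟩
        · rw [H89G.mul_x, H89G.inv_x, H89G.inv_k, hwx]
          ring
        · rw [H89G.mul_k, H89G.inv_k, show w.k = 0 from hWP hw, show a.k = 0 from ha]
          simp
      have hdec : a = w * (w⁻¹ * a) := by group
      rw [hdec]
      exact W.mul_mem hw (hNW hmem)

end Cfsg.Agent.Lib.helper3.Gf
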