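import Mathlib
import Cfsg.Agent.Lib.helper89.GfHDefs

/-! S4395 piece EXB sub-split (helper89), leaf XB4: `exb_nongen`. -/

set_option autoImplicit false

namespace Cfsg.Agent.Lib.helper3.Gf

universe u

/-- XB4 : `N` consists of non-generators (commutators `[(x, ·, 0), (1, ·, 0)] = (0, x - σ x, 0)`). -/
theorem exb_nongen {L : Type u} [CommRing L] {n : ℕ} (D : H89Data L n)
    (htr : ∀ w : L, D.σ w = w → ∃ z : L, z + D.σ z = w)
    (h90 : ∀ z : L, z + D.σ z = 0 → ∃ x : L, z = x - D.σ x) :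
    NonGen (h89N D) := by
  intro S hS
  -- `N` is normal
  have hN : (h89N D).Normal := by
    refine ⟨fun a ha g => ⟨?_, ?_⟩⟩
    · have he : D.e g.k * D.e (-g.k) = 1 := by
        rw [← D.e_add, add_neg_cancel, D.e_zero]
      rw [H89G.mul_x, H89G.mul_x, H89G.mul_k, H89G.inv_x, ha.1, ha.2, add_zero, mul_zero, add_zero]
      linear_combination (-g.x) * he
    · rw [H89G.mul_k, H89G.mul_k, H89G.inv_k, ha.2]
      simp
  -- every element is `s * m`
  have hdec : ∀ g : H89G D, ∃ s ∈ S, ∃ m ∈ h89N D, s * m = g := by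
    intro g
    have hg : g ∈ ((S ⊔ h89N D : Subgroup (H89G D)) : Set (H89G D)) := by
      rw [hS]
      exact Set.mem_univ g
    rw [Subgroup.mul_normal] at hg
    exact Set.mem_mul.mp hg
  -- elements of `S` with prescribed first coordinate
  have hex : ∀ x : L, ∃ s ∈ S, s.x = x ∧ s.k = 0 := by
    intro x
    obtain ⟨z, hz⟩ := htr (x * D.σ x) (by rw [map_mul, D.σ_invol, mul_comm])
    obtain ⟨s, hs, m, hm, hsm⟩ := hdec ⟨x, z, 0, hz⟩
    refine ⟨s, hs, ?_, ?_⟩
    · have h1 := congrArg H89G.x hsm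
      rw [H89G.mul_x, hm.1, mul_zero, add_zero] at h1
      exact h1
    · have h1 := congrArg H89G.k hsm
      rw [H89G.mul_k, hm.2, add_zero] at h1
      exact h1
  obtain ⟨s₁, hs₁, hs₁x, hs₁k⟩ := hex 1
  have hNS : h89N D ≤ S := by
    intro m hm
    have hmz : m.z + D.σ m.z = 0 := by
      have := m.hz
      rw [hm.1, zero_mul] at this
      exact this
    obtain ⟨x, hx⟩ := h90 m.z hmz
    obtain ⟨s, hs, hsx, hsk⟩ := hex x
    have hc : s * s₁ * s⁻¹ * s₁⁻¹ = m := by
      ext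
      · simp only [H89G.mul_x, H89G.mul_k, H89G.inv_x, H89G.inv_k, hsx, hsk, hs₁x, hs₁k, hm.1,
          neg_zero, add_zero, D.e_zero]
        ring
      · simp only [H89G.mul_x, H89G.mul_z, H89G.mul_k, H89G.inv_x, H89G.inv_z, H89G.inv_k, hsx,
          hsk, hs₁x, hs₁k, neg_zero, add_zero, D.e_zero, map_mul, map_neg, map_one]
        rw [hx]
        ring
      · simp only [H89G.mul_k, H89G.inv_k, hsk, hs₁k, hm.2]
        simp
    rw [← hc]
    exact S.mul_mem (S.mul_mem (S.mul_mem hs hs₁) (S.inv_mem hs)) (S.inv_mem hs₁)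
  rw [← hS]
  exact (sup_eq_left.mpr hNS).symm

end Cfsg.Agent.Lib.helper3.Gf
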