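import Mathlib
import Cfsg.Agent.Lib.helper44.SL3Defs
import Cfsg.Agent.Lib.helper48.SL3C4b
import Cfsg.Agent.Lib.helper33.SL3C4c
import Cfsg.Agent.Lib.helper90.SL3C1d
import Cfsg.Agent.Lib.helper83.SL3T2

/-! S2287 piece A24, core version: `a2conf_four` with the conclusion of C4a (`core4_central`)
as a hypothesis.  The parts of TA that are needed are proved inline. -/

set_option autoImplicit false

namespace Cfsg.Agent.Lib.helper44.SL3

/-- The parts of TA (`base_actions`) used for A24. -/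
theorem h61_base_yy {G : Type*} [Group G] {F : Type*} [Field F] (x : F → G) (h c : G) (ω : F)
    (hB : IsBase x h c ω) :
    (∀ b, h * yy x c b * h⁻¹ = yy x c (ω * b)) ∧
    (∀ a b, yy x c (a + b) = yy x c a * yy x c b) ∧
    (∀ a, c * c * yy x c a * (c * c)⁻¹ = x a) := by
  have hc2 : c * c = c⁻¹ := eq_inv_of_mul_eq_one_left hB.c3
  refine ⟨?_, ?_, ?_⟩
  · intro b
    unfold yy
    rw [← hB.k'_x b, hc2]
    group
  · intro a b
    unfold yy
    rw [hB.x_add]
    group
  · intro a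
    unfold yy
    rw [hc2]
    group

/-- A24 with the centrality statement C4a as a hypothesis. -/
theorem a2conf_four_core {G : Type*} [Group G] {F : Type*} [Field F] [Fintype F] [CharP F 2]
    (hcard : Fintype.card F = 4) (x : F → G) (h c : G) (ω : F) (hω : ω ^ 2 = ω + 1)
    (hB : IsBase x h c ω)
    (qa : cm (x ω) (yy x c 1) = cm (x 1) (yy x c ω))
    (qc : h * ZZ x c 1 * h⁻¹ = ZZ x c 1 * cm (x ω) (yy x c 1))
    (r10 : cm (ZZ x c 1) (WW x c 1) = x 1) (qd : cm (ZZ x c 1) (WW x c ω) = x ω)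
    (hcen : ∀ a b a', Commute (x a') (cm (x a) (yy x c b)) ∧
      Commute (yy x c a') (cm (x a) (yy x c b))) :
    IsA2Conf x c := by
  obtain ⟨h_y, y_add, hcx⟩ := h61_base_yy x h c ω hB
  have hbal := core4_balance hcard x (yy x c) h ω hω hB.x_add y_add hB.h_x h_y qa qc hcen
  have hbi := core1_biadd x (yy x c) hB.x_add y_add hcen
  have hbp : ∀ a b, zz x c a b = ZZ x c (a * b) := fun a b => hbal a b
  obtain ⟨-, -, -, -, -, -, h_Z, h_W⟩ := tor2_of_base x h c ω hB hbp
  have hrow : ∀ a b, Commute (x a) (ZZ x c b) := fun a b => (hcen b 1 a).1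
  have hcol : ∀ a b, Commute (yy x c a) (ZZ x c b) := fun a b => (hcen b 1 a).2
  have Z_add : ∀ a b, ZZ x c (a + b) = ZZ x c a * ZZ x c b := fun a b => hbi.1 a b 1
  have W_add : ∀ a b, WW x c (a + b) = WW x c a * WW x c b := by
    intro a b
    unfold WW
    rw [Z_add]
    group
  have xW : ∀ a b, Commute (x a) (WW x c b) := by
    intro a b
    have h2 : yy x c a * ZZ x c b = ZZ x c b * yy x c a := hcol a b
    rw [← hcx a]
    unfold WW
    show c * c * yy x c a * (c * c)⁻¹ * (c * c * ZZ x c b * (c * c)⁻¹) =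
      c * c * ZZ x c b * (c * c)⁻¹ * (c * c * yy x c a * (c * c)⁻¹)
    calc c * c * yy x c a * (c * c)⁻¹ * (c * c * ZZ x c b * (c * c)⁻¹)
        = c * c * (yy x c a * ZZ x c b) * (c * c)⁻¹ := by group
      _ = c * c * (ZZ x c b * yy x c a) * (c * c)⁻¹ := by rw [h2]
      _ = _ := by group
  have hω3 : ω ^ 3 = 1 := by
    have h2 : (2 : F) = 0 := CharP.ofNat_eq_zero F 2
    have e1 : ω ^ 3 = ω ^ 2 * ω := by ring
    rw [e1, hω]
    have e2 : (ω + 1) * ω = ω ^ 2 + ω := by ring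
    rw [e2, hω]
    linear_combination ω * h2
  have hωinv : ω⁻¹ = ω ^ 2 := by
    have hω0 : ω ≠ 0 := hB.ω0
    field_simp
    linear_combination -hω3
  have h_W' : ∀ t, h * WW x c t * h⁻¹ = WW x c (ω ^ 2 * t) := by
    intro t
    rw [h_W t, hωinv]
  have hbm := core4_bm hcard x (ZZ x c) (WW x c) h ω hω hB.x_add Z_add W_add hrow xW r10 qd
    h_Z h_W' hB.h_x
  exact ⟨hB.x_add, hB.c3, hrow, hcol, hbp, hbm⟩

end Cfsg.Agent.Lib.helper44.SL3
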