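import Mathlib
import Cfsg.Agent.Lib.helper44.SL3Defs
import Cfsg.Agent.Lib.helper61.SL3A24core
import Cfsg.Agent.Lib.helper84.SL3C4a

/-! S2287 piece A24: `a2conf_four` (assembly of `a2conf_four_core` and C4a). -/

set_option autoImplicit false

namespace Cfsg.Agent.Lib.helper44.SL3

-- A24
theorem a2conf_four {G : Type*} [Group G] {F : Type*} [Field F] [Fintype F] [CharP F 2]
    (hcard : Fintype.card F = 4) (x : F → G) (h c : G) (ω : F) (hω : ω ^ 2 = ω + 1)
    (hB : IsBase x h c ω)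
    (qa : cm (x ω) (yy x c 1) = cm (x 1) (yy x c ω))
    (qb : cm (x ω) (yy x c 1) * cm (x ω) (yy x c 1) = 1)
    (qc : h * ZZ x c 1 * h⁻¹ = ZZ x c 1 * cm (x ω) (yy x c 1))
    (r10 : cm (ZZ x c 1) (WW x c 1) = x 1) (qd : cm (ZZ x c 1) (WW x c ω) = x ω) :
    IsA2Conf x c := by
  obtain ⟨h_y, y_add, -⟩ := h61_base_yy x h c ω hB
  exact a2conf_four_core hcard x h c ω hω hB qa qc r10 qd
    (core4_central hcard x (yy x c) h ω hω hB.x_add y_add hB.h_x h_y qa qb)

end Cfsg.Agent.Lib.helper44.SL3
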