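import Mathlib
import Cfsg.Agent.Lib.helper44.SL3Defs
import Cfsg.Agent.Lib.helper6.SL3GEN

/-! S2287 piece ABS4, core version: `abs_four` with MOD4 (`base_of_rels_four`) and A24
(`a2conf_four`) as hypotheses. -/

set_option autoImplicit false

namespace Cfsg.Agent.Lib.helper44.SL3

open Polynomial

/-- ABS4 with MOD4 and A24 as hypotheses. -/
theorem abs_four_core {G : Type*} [Group G] {F : Type*} [Field F] [Fintype F]
    [Algebra (ZMod 2) F] (u h c g : G) (ω : F)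
    (hrel : ∀ w ∈ relsFour u h c g, w = 1)
    (hmod : Commute u (h * u * h⁻¹) → h ^ 2 * u * (h ^ 2)⁻¹ = u * (h * u * h⁻¹) →
      u ^ 2 = h * (c * h * c⁻¹) * (c * c * h * (c * c)⁻¹) → c * c * c = 1 →
      Commute h (c * h * c⁻¹) → Commute (h⁻¹ * (c * c * h * (c * c)⁻¹)) u →
      ∃ x : F → G, x 1 = u ∧ IsBase x h c ω ∧
        ∀ f : (ZMod 2)[X], x (aeval ω f) = Pres.polyWord h u f)
    (hA24 : ∀ x : F → G, IsBase x h c ω →
      cm (x ω) (yy x c 1) = cm (x 1) (yy x c ω) →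
      cm (x ω) (yy x c 1) * cm (x ω) (yy x c 1) = 1 →
      h * ZZ x c 1 * h⁻¹ = ZZ x c 1 * cm (x ω) (yy x c 1) →
      cm (ZZ x c 1) (WW x c 1) = x 1 → cm (ZZ x c 1) (WW x c ω) = x ω → IsA2Conf x c) :
    ∃ x : F → G, x 1 = u ∧ IsA2Conf x c ∧
      (∀ f : (ZMod 2)[X], x (aeval ω f) = Pres.polyWord h u f) ∧
      h ∈ rootE x c ∧ c ∈ rootE x c ∧ g ∈ rootE x c := by
  have cm1 : ∀ a b : G, cm a b = 1 → Commute a b := by
    intro a b hab
    unfold cm at hab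
    have h1 : a * b * a⁻¹ = b := mul_inv_eq_one.mp hab
    show a * b = b * a
    calc a * b = a * b * a⁻¹ * a := by group
      _ = b * a := by rw [h1]
  rw [relsFour] at hrel
  simp only [List.forall_mem_cons] at hrel
  obtain ⟨R1, R2, R3, R4, R5, R6, R7, R8, R9, R10, R11, R12, R13, R14, -⟩ := hrel
  have hE : Commute u (h * u * h⁻¹) := cm1 _ _ R1
  have hF : h ^ 2 * u * (h ^ 2)⁻¹ = u * (h * u * h⁻¹) := mul_inv_eq_one.mp R2
  have hup : u ^ 2 = h * (c * h * c⁻¹) * (c * c * h * (c * c)⁻¹) := mul_inv_eq_one.mp R3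
  have hk : Commute h (c * h * c⁻¹) := cm1 _ _ R5
  have r7 : Commute (h⁻¹ * (c * c * h * (c * c)⁻¹)) u := cm1 _ _ R6
  obtain ⟨x, hx1, hB, hpoly⟩ := hmod hE hF hup R4 hk r7
  have hω0 : ω ≠ 0 := hB.ω0
  have xω : x ω = h * u * h⁻¹ := by
    have h1 := hB.h_x 1
    rw [mul_one, hx1] at h1
    exact h1.symm
  have hZ1 : ZZ x c 1 = wz u c := by
    unfold ZZ zz yy wz
    rw [hx1]
  have hZω : ZZ x c ω = wZω u h c := by
    unfold ZZ zz yy wZω
    rw [xω, hx1]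
  have hcmω : cm (x ω) (yy x c 1) = wZω u h c := hZω
  have qa : cm (x ω) (yy x c 1) = cm (x 1) (yy x c ω) := by
    rw [hcmω]
    unfold yy
    rw [xω, hx1]
    exact mul_inv_eq_one.mp R7
  have qb : cm (x ω) (yy x c 1) * cm (x ω) (yy x c 1) = 1 := by
    rw [hcmω]; exact R8
  have qc : h * ZZ x c 1 * h⁻¹ = ZZ x c 1 * cm (x ω) (yy x c 1) := by
    rw [hcmω, hZ1]; exact mul_inv_eq_one.mp R9
  have r10 : cm (ZZ x c 1) (WW x c 1) = x 1 := by
    unfold WW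
    rw [hZ1, hx1]; exact mul_inv_eq_one.mp R10
  have qd : cm (ZZ x c 1) (WW x c ω) = x ω := by
    unfold WW
    rw [hZ1, hZω, xω]; exact mul_inv_eq_one.mp R11
  have hconf : IsA2Conf x c := hA24 x hB qa qb qc r10 qd
  obtain ⟨hxE, hZE, hcE⟩ := rootE_props x c hconf
  have hccE : ∀ e ∈ rootE x c, c * c * e * (c * c)⁻¹ ∈ rootE x c := by
    intro e he
    have h1 := hcE _ (hcE e he)
    have h2 : c * (c * e * c⁻¹) * c⁻¹ = c * c * e * (c * c)⁻¹ := by group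
    rw [h2] at h1; exact h1
  have huE : u ∈ rootE x c := hx1 ▸ hxE 1
  have hwzE : wz u c ∈ rootE x c := hZ1 ▸ hZE 1
  have hwZωE : wZω u h c ∈ rootE x c := hZω ▸ hZE ω
  have hinvE : h⁻¹ * u⁻¹ * h ∈ rootE x c := by
    have h1 := hB.h_x ω⁻¹
    rw [mul_inv_cancel₀ hω0, hx1] at h1
    have h2 : h⁻¹ * u⁻¹ * h = (x ω⁻¹)⁻¹ := by
      rw [← h1]; group
    rw [h2]
    exact inv_mem (hxE _)
  have hhE : h ∈ rootE x c := by
    have h1 : h = w12 u h c := mul_inv_eq_one.mp R12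
    have h2 : w12 u h c ∈ rootE x c := by
      unfold w12
      exact mul_mem (mul_mem (mul_mem (mul_mem (mul_mem hwZωE (hccE _ hinvE)) hwZωE)
        (inv_mem hwzE)) (hccE _ huE)) (inv_mem hwzE)
    rw [← h1] at h2
    exact h2
  have hw21E : w21 u c ∈ rootE x c := by
    unfold w21
    exact mul_mem (mul_mem (hcE _ hwzE) (inv_mem huE)) (hcE _ hwzE)
  have hcE' : c ∈ rootE x c := by
    have h1 : c = w21 u c * (c * w21 u c * c⁻¹) := mul_inv_eq_one.mp R13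
    have h2 : w21 u c * (c * w21 u c * c⁻¹) ∈ rootE x c := mul_mem hw21E (hcE _ hw21E)
    rw [← h1] at h2
    exact h2
  have hgE : g ∈ rootE x c := by
    rw [R14]; exact one_mem _
  exact ⟨x, hx1, hconf, hpoly, hhE, hcE', hgE⟩

end Cfsg.Agent.Lib.helper44.SL3
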