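import Mathlib
import Cfsg.Agent.Lib.helper44.SL3Defs
import Cfsg.Agent.Lib.helper61.SL3ABS4core
import Cfsg.Agent.Lib.helper61.SL3A24
import Cfsg.Agent.Lib.helper73.SL3MOD4

/-! S2287 piece ABS4: `abs_four` (assembly of `abs_four_core`, MOD4 and A24). -/

set_option autoImplicit false

namespace Cfsg.Agent.Lib.helper44.SL3

open Polynomial

-- ABS4
theorem abs_four {G : Type*} [Group G] {F : Type*} [Field F] [Fintype F] [Algebra (ZMod 2) F]
    (hcard : Fintype.card F = 4) (u h c g : G) (ω : F) (hω : ω ^ 2 = ω + 1)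
    (hrel : ∀ w ∈ relsFour u h c g, w = 1) :
    ∃ x : F → G, x 1 = u ∧ IsA2Conf x c ∧
      (∀ f : (ZMod 2)[X], x (aeval ω f) = Pres.polyWord h u f) ∧
      h ∈ rootE x c ∧ c ∈ rootE x c ∧ g ∈ rootE x c := by
  have hch : CharP F 2 := charP_of_injective_algebraMap (algebraMap (ZMod 2) F).injective 2
  exact abs_four_core u h c g ω hrel (base_of_rels_four hcard u h c ω hω)
    (fun x hB => a2conf_four hcard x h c ω hω hB)

end Cfsg.Agent.Lib.helper44.SL3
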