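import Mathlib
import Cfsg.Agent.Lib.helper44.SUODefs

/-! S2334 split (helper44), piece OXU: `xt_comm_uo`. -/

set_option autoImplicit false

namespace Cfsg.Agent.Lib.helper44.SUW

open Matrix

/-- The block matrices `[[1 + C, a C], [b C, 1 - C]]` multiply additively when `a * b = -1`. -/
theorem h61_blk_mul {K : Type*} [Field K] {m : ℕ} (a b : K) (hab : a * b = -1)
    (C D : Matrix (Fin m) (Fin m) K) :
    Matrix.fromBlocks (1 + D) (a • D) (b • D) (1 - D) *
        Matrix.fromBlocks (1 + C) (a • C) (b • C) (1 - C) =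
      Matrix.fromBlocks (1 + (D + C)) (a • (D + C)) (b • (D + C)) (1 - (D + C)) := by
  have hba : b * a = -1 := by
    rw [mul_comm]
    exact hab
  rw [Matrix.fromBlocks_multiply]
  congr 1
  · simp only [add_mul, mul_add, one_mul, mul_one, Matrix.smul_mul, Matrix.mul_smul, smul_smul,
      hab, hba, neg_smul, one_smul]
    abel
  · simp only [add_mul, mul_sub, one_mul, mul_one, Matrix.smul_mul, Matrix.mul_smul, smul_add]
    abel
  · simp only [mul_add, sub_mul, one_mul, mul_one, Matrix.smul_mul, Matrix.mul_smul, smul_add]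
    abel
  · simp only [sub_mul, mul_sub, one_mul, mul_one, Matrix.smul_mul, Matrix.mul_smul, smul_smul,
      hab, hba, neg_smul, one_smul]
    abel

/-- Commutation of `[[Ax, Bx], [Cx, 1]]` with `[[Au, 0], [0, 1]]`. -/
theorem h61_comm_blocks {K : Type*} [Field K] {m : ℕ}
    (Ax Au : Matrix (Fin m ⊕ Fin m) (Fin m ⊕ Fin m) K) (Bx : Matrix (Fin m ⊕ Fin m) (Fin 1) K)
    (Cx : Matrix (Fin 1) (Fin m ⊕ Fin m) K) (h1 : Ax * Au = Au * Ax) (h2 : Au * Bx = Bx)
    (h3 : Cx * Au = Cx) :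
    Matrix.fromBlocks Ax Bx Cx (1 : Matrix (Fin 1) (Fin 1) K) *
        Matrix.fromBlocks Au 0 0 (1 : Matrix (Fin 1) (Fin 1) K) =
      Matrix.fromBlocks Au 0 0 (1 : Matrix (Fin 1) (Fin 1) K) *
        Matrix.fromBlocks Ax Bx Cx (1 : Matrix (Fin 1) (Fin 1) K) := by
  rw [Matrix.fromBlocks_multiply, Matrix.fromBlocks_multiply]
  simp only [Matrix.mul_zero, Matrix.zero_mul, add_zero, zero_add, Matrix.mul_one, Matrix.one_mul,
    h1, h2, h3]

/-- OXU (M) -/
theorem xt_comm_uo {K : Type*} [Field K] (σ : K →+* K) (hσσ : ∀ x, σ (σ x) = x) (ε η : K)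
    (hε : ε * σ ε = -1) {m : ℕ} (t : Fin m → K) (C : Matrix (Fin m) (Fin m) K) :
    xtMat σ ε η t * uoMat σ ε C = uoMat σ ε C * xtMat σ ε η t := by
  have hab : σ ε * ε = -1 := by
    rw [mul_comm]
    exact hε
  have hba : ε * σ ε = -1 := hε
  have hB : (Matrix.of (fun (i : Fin m ⊕ Fin m) (_ : Fin 1) => Sum.elim t (fun j => ε * t j) i)) =
      Matrix.fromRows (Matrix.replicateCol (Fin 1) t) (ε • Matrix.replicateCol (Fin 1) t) := by
    ext i j
    cases i <;> rfl
  have hC : (Matrix.of (fun (_ : Fin 1) (j : Fin m ⊕ Fin m) =>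
        Sum.elim (fun j => - σ (t j)) (fun j => - (σ ε * σ (t j))) j)) =
      Matrix.fromCols (-(Matrix.replicateRow (Fin 1) (fun j => σ (t j))))
        (-(σ ε • Matrix.replicateRow (Fin 1) (fun j => σ (t j)))) := by
    ext i j
    cases j <;> rfl
  have h1 : Matrix.fromBlocks (1 + (-η) • Matrix.vecMulVec t (fun j => σ (t j)))
        (σ ε • ((-η) • Matrix.vecMulVec t (fun j => σ (t j))))
        (ε • ((-η) • Matrix.vecMulVec t (fun j => σ (t j))))
        (1 - (-η) • Matrix.vecMulVec t (fun j => σ (t j))) *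
        Matrix.fromBlocks (1 + C) (σ ε • C) (ε • C) (1 - C) =
      Matrix.fromBlocks (1 + C) (σ ε • C) (ε • C) (1 - C) *
        Matrix.fromBlocks (1 + (-η) • Matrix.vecMulVec t (fun j => σ (t j)))
        (σ ε • ((-η) • Matrix.vecMulVec t (fun j => σ (t j))))
        (ε • ((-η) • Matrix.vecMulVec t (fun j => σ (t j))))
        (1 - (-η) • Matrix.vecMulVec t (fun j => σ (t j))) := by
    rw [h61_blk_mul _ _ hab, h61_blk_mul _ _ hab, add_comm C]
  have h2 : Matrix.fromBlocks (1 + C) (σ ε • C) (ε • C) (1 - C) *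
        (Matrix.of (fun (i : Fin m ⊕ Fin m) (_ : Fin 1) => Sum.elim t (fun j => ε * t j) i)) =
      Matrix.of (fun (i : Fin m ⊕ Fin m) (_ : Fin 1) => Sum.elim t (fun j => ε * t j) i) := by
    rw [hB, Matrix.fromBlocks_mul_fromRows]
    congr 1
    · simp only [Matrix.add_mul, Matrix.one_mul, Matrix.smul_mul, Matrix.mul_smul, smul_smul,
        hab, hba, neg_smul, one_smul]
      abel
    · simp only [Matrix.sub_mul, Matrix.one_mul, Matrix.smul_mul, Matrix.mul_smul, smul_sub]
      abel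
  have h3 : (Matrix.of (fun (_ : Fin 1) (j : Fin m ⊕ Fin m) =>
        Sum.elim (fun j => - σ (t j)) (fun j => - (σ ε * σ (t j))) j)) *
        Matrix.fromBlocks (1 + C) (σ ε • C) (ε • C) (1 - C) =
      Matrix.of (fun (_ : Fin 1) (j : Fin m ⊕ Fin m) =>
        Sum.elim (fun j => - σ (t j)) (fun j => - (σ ε * σ (t j))) j) := by
    rw [hC, Matrix.fromCols_mul_fromBlocks]
    congr 1
    · simp only [Matrix.mul_add, Matrix.mul_one, Matrix.neg_mul, Matrix.smul_mul,
        Matrix.mul_smul, smul_neg, smul_smul, hab, hba, neg_smul, one_smul, neg_neg]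
      abel
    · simp only [Matrix.mul_sub, Matrix.mul_one, Matrix.neg_mul, Matrix.smul_mul,
        Matrix.mul_smul, smul_neg, smul_sub]
      abel
  unfold xtMat uoMat
  rw [Matrix.submatrix_mul_equiv, Matrix.submatrix_mul_equiv]
  congr 1
  exact h61_comm_blocks _ _ _ _ h1 h2 h3

end Cfsg.Agent.Lib.helper44.SUW
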