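import Mathlib
import Cfsg.Agent.Lib.helper45.RUDefs

/-! Piece A3 of the S2279 split (helper45). -/

set_option autoImplicit false

namespace Cfsg.Agent.Lib.helper45.RU

open Matrix Cfsg.Agent.Lib.helper44

variable {n : ℕ} {F : Type*} [Field F] {S : Set (Matrix (Fin n) (Fin n) F)}

/-- A3 -/
theorem Om_two_of (hn : 4 ≤ n) (hS : MatGrp S) (hJ : jm F n ∈ S) (c : F) (l' l : Fin n)
    (hl' : l'.val + 2 = n) (hl : l.val + 1 = n)
    (hT : 1 + vecMulVec ((Pi.single l 1 : Fin n → F) + Pi.single l' 1)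
      ((-(c ^ 3)) • rowv F n 1) ∈ S) :
    c ^ 3 ∈ Om S l 2 := by
  have key : jm F n * tau l 2 (-(c ^ 3)) =
      (1 + vecMulVec ((Pi.single l 1 : Fin n → F) + Pi.single l' 1)
        ((-(c ^ 3)) • rowv F n 1)) * jm F n := by
    unfold tau
    rw [rowv_succ, ← Matrix.smul_vecMul, conj_rankOne, jm_mulVec_single l l' (by omega)]
  have h1 : -(c ^ 3) ∈ Om S l 2 := hS.conj' hJ hT key
  exact (Om_neg_iff hS l hl 2 (by omega)).mp h1

end Cfsg.Agent.Lib.helper45.RU
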