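import Mathlib
import Cfsg.Agent.Lib.helper45.RUDefs

/-! Piece B of the S2279 split (helper45). -/

set_option autoImplicit false

namespace Cfsg.Agent.Lib.helper45.RU

open Matrix Cfsg.Agent.Lib.helper44

variable {n : ℕ} {F : Type*} [Field F] {S : Set (Matrix (Fin n) (Fin n) F)}

/-- B -/
theorem Om_raise_of (hn : 4 ≤ n) (hS : MatGrp S) (hJ : jm F n ∈ S) (c : F) (z l' l : Fin n)
    (hz : z.val = 0) (hl' : l'.val + 2 = n) (hl : l.val + 1 = n)
    (hD0 : 1 + vecMulVec (Pi.single l 1) (c • Pi.single z 1)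
      - vecMulVec (Pi.single l 1 + Pi.single l' 1) (c • altVec F n) ∈ S)
    (k : ℕ) (hk : k + 3 ≤ n) {y : F} (hy : y ∈ Om S l k) : c * y ∈ Om S l (k + 1) := by
  obtain ⟨ε, hε⟩ : ∃ ε : F, ε = (-1 : F) ^ (n - 1) := ⟨_, rfl⟩
  -- dot products
  have d1 : rowv F n k ⬝ᵥ (Pi.single l 1 : Fin n → F) = 0 := rowv_dot_last k l hl (by omega)
  have d2 : rowv F n k ⬝ᵥ (Pi.single l' 1 : Fin n → F) = 0 := by
    rw [dotProduct_single, mul_one]
    exact rowv_apply_eq_zero k l' (by omega)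
  have d3 : rowv F n k ⬝ᵥ ((Pi.single l 1 : Fin n → F) + Pi.single l' 1) = 0 := by
    rw [dotProduct_add, d1, d2, add_zero]
  have hzl : z ≠ l := by
    intro e
    have := congrArg Fin.val e
    omega
  have d4 : (c • (Pi.single z (1 : F) : Fin n → F)) ⬝ᵥ (Pi.single l 1 : Fin n → F) = 0 :=
    smul_single_dotProduct_single c z l hzl
  have d5 : (c • altVec F n) ⬝ᵥ (Pi.single l 1 : Fin n → F) = c * ε := by
    rw [dotProduct_single, mul_one, Pi.smul_apply, smul_eq_mul, hε]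
    congr 1
    show (-1 : F) ^ l.val = _
    congr 1
    omega
  -- the four rank one matrices
  obtain ⟨A, hA⟩ : ∃ A : Matrix (Fin n) (Fin n) F,
      A = vecMulVec (Pi.single l 1) (c • Pi.single z 1) := ⟨_, rfl⟩
  obtain ⟨B, hB⟩ : ∃ B : Matrix (Fin n) (Fin n) F,
      B = vecMulVec (Pi.single l 1 + Pi.single l' 1) (c • altVec F n) := ⟨_, rfl⟩
  obtain ⟨N, hN⟩ : ∃ N : Matrix (Fin n) (Fin n) F,
      N = vecMulVec (Pi.single l 1) (y • rowv F n k) := ⟨_, rfl⟩
  obtain ⟨R, hR⟩ : ∃ R : Matrix (Fin n) (Fin n) F,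
      R = vecMulVec (Pi.single l 1 + Pi.single l' 1) ((-(ε * c * y)) • rowv F n k) := ⟨_, rfl⟩
  have hNA : N * A = 0 := by
    rw [hN, hA, Matrix.vecMulVec_mul_vecMulVec, smul_dotProduct, d1, smul_zero, zero_smul, Matrix.vecMulVec_zero]
  have hNB : N * B = 0 := by
    rw [hN, hB, Matrix.vecMulVec_mul_vecMulVec, smul_dotProduct, d3, smul_zero, zero_smul, Matrix.vecMulVec_zero]
  have hAN : A * N = 0 := by
    rw [hA, hN, Matrix.vecMulVec_mul_vecMulVec, d4, zero_smul, Matrix.vecMulVec_zero]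
  have hBN : B * N = -R := by
    rw [hB, hN, hR, Matrix.vecMulVec_mul_vecMulVec, d5, smul_smul, ← Matrix.vecMulVec_neg,
      ← neg_smul, neg_neg]
    congr 2
    ring
  have hRN : R * N = 0 := by
    rw [hR, hN, Matrix.vecMulVec_mul_vecMulVec, smul_dotProduct, d1, smul_zero, zero_smul, Matrix.vecMulVec_zero]
  have hRA : R * A = 0 := by
    rw [hR, hA, Matrix.vecMulVec_mul_vecMulVec, smul_dotProduct, d1, smul_zero, zero_smul, Matrix.vecMulVec_zero]
  have hRB : R * B = 0 := by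
    rw [hR, hB, Matrix.vecMulVec_mul_vecMulVec, smul_dotProduct, d3, smul_zero, zero_smul, Matrix.vecMulVec_zero]
  have h1 : (1 + N) * (1 + A - B) = 1 + A - B + N := by
    rw [add_mul, one_mul, mul_sub, mul_add, mul_one, hNA, hNB]
    abel
  have h2 : (1 + R) * (1 + A - B + N) = 1 + A - B + N + R := by
    rw [add_mul, one_mul, mul_add, mul_sub, mul_add, mul_one, hRA, hRB, hRN]
    abel
  have h3 : (1 + A - B) * (1 + N) = 1 + A - B + N + R := by
    rw [mul_add, mul_one, sub_mul, add_mul, one_mul, hAN, hBN]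
    abel
  have hτ : 1 + N ∈ S := by rw [hN]; exact hy
  have hd : 1 + A - B ∈ S := by rw [hA, hB]; exact hD0
  have hT' : 1 + R ∈ S := MatGrp_comm_mem hS hd hτ (by rw [h3, h1, h2])
  have key : jm F n * tau l (k + 1) (-(ε * c * y)) = (1 + R) * jm F n := by
    unfold tau
    rw [hR, rowv_succ, ← Matrix.smul_vecMul, conj_rankOne, jm_mulVec_single l l' (by omega)]
  have h4 : -(ε * c * y) ∈ Om S l (k + 1) := hS.conj' hJ hT' key
  have h5 : ε * c * y ∈ Om S l (k + 1) := (Om_neg_iff hS l hl (k + 1) (by omega)).mp h4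
  rcases neg_one_pow_eq_or F (n - 1) with h6 | h6
  · rw [hε, h6, one_mul] at h5
    exact h5
  · rw [hε, h6] at h5
    have h7 : -1 * c * y = -(c * y) := by ring
    rw [h7] at h5
    exact (Om_neg_iff hS l hl (k + 1) (by omega)).mp h5

end Cfsg.Agent.Lib.helper45.RU
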