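/-
S2686 split (owner helper48): shared lemmas for the pieces S-CENT and O-CENT.
A semilinear map `v ↦ h *ᵥ (τ ∘ v)` fixing every line is a scalar (and `τ = 1`); a scalar multiple
of a unipotent matrix that is unipotent has scalar `1`.
-/
import Cfsg.Agent.Lib.helper48.LBRefl

set_option autoImplicit false

namespace Cfsg.Agent.Lib.helper61.S2686

open Matrix Cfsg
open Cfsg.Agent.Lib.helper47.PSLn
open Cfsg.Agent.Lib.helper48.LB

variable {n : ℕ} {F : Type*} [Field F]

/-- a scalar multiple `c • (1 + T)`, `T² = 0`, which is unipotent of class 2 has `c = 1` -/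
theorem sc_scalar_one {ι : Type*} [Fintype ι] [DecidableEq ι] [Nonempty ι] {c : F}
    {T X : Matrix ι ι F} (hX : (X - 1) * (X - 1) = 0) (hTT : T * T = 0) (h : X = c • (1 + T)) :
    c = 1 := by
  have h1 : X - 1 = (c - 1) • (1 : Matrix ι ι F) + c • T := by
    rw [h, smul_add, sub_smul, one_smul]; abel
  rw [h1] at hX
  by_contra hc
  have hc1 : c - 1 ≠ 0 := sub_ne_zero.mpr hc
  have hAT : ((c - 1) • (1 : Matrix ι ι F) + c • T) * T = (c - 1) • T := by
    rw [Matrix.add_mul, Matrix.smul_mul, Matrix.smul_mul, Matrix.one_mul, hTT, smul_zero, add_zero]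
  have h3 : (c - 1) • ((c - 1) • T) = 0 := by
    have h4 := congrArg (fun M => M * T) hX
    simp only [Matrix.zero_mul] at h4
    rw [Matrix.mul_assoc, hAT, Matrix.mul_smul, hAT] at h4
    exact h4
  have hT0 : T = 0 := by
    rcases smul_eq_zero.mp h3 with h | h
    · exact absurd h hc1
    · rcases smul_eq_zero.mp h with h' | h'
      · exact absurd h' hc1
      · exact h'
  rw [hT0, smul_zero, add_zero, Matrix.smul_mul, Matrix.mul_smul, Matrix.one_mul, smul_smul] at hX
  obtain ⟨i⟩ := ‹Nonempty ι›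
  have h5 := congrFun (congrFun hX i) i
  simp only [Matrix.smul_apply, Matrix.one_apply_eq, smul_eq_mul, mul_one, Matrix.zero_apply] at h5
  exact hc1 (mul_self_eq_zero.mp h5)

/-- a semilinear map fixing every line is a scalar, with trivial field automorphism -/
theorem sc_semilinear_scalar (hn : 2 ≤ n) (h : GL (Fin n) F) (τ : F ≃+* F)
    (hv : ∀ v : Fin n → F, v ≠ 0 → ∃ μ : F, h.1 *ᵥ (fun i => τ (v i)) = μ • v) :
    (∃ c : Fˣ, h.1 = (c : F) • (1 : Matrix (Fin n) (Fin n) F)) ∧ τ = 1 := by
  classical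
  have hτsingle : ∀ (i : Fin n) (x : F),
      (fun k => τ ((Pi.single i x : Fin n → F) k)) = Pi.single i (τ x) := by
    intro i x
    funext k
    by_cases hk : k = i
    · subst hk; simp
    · simp [Pi.single_eq_of_ne hk]
  have hoff : ∀ i j : Fin n, j ≠ i → h.1 j i = 0 := by
    intro i j hji
    obtain ⟨μ, hμ⟩ := hv (Pi.single i 1) (by
      intro h0
      have := congrFun h0 i
      simp at this)
    have h1 := congrFun hμ j
    rw [hτsingle, map_one] at h1
    simp only [Matrix.mulVec, dotProduct, Pi.single_apply, mul_ite, mul_one, mul_zero,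
      Finset.sum_ite_eq', Finset.mem_univ, if_true, Pi.smul_apply, smul_eq_mul] at h1
    rw [h1, if_neg hji]
  have hdiag : ∀ (w : Fin n → F) (j : Fin n), (h.1 *ᵥ w) j = h.1 j j * w j := by
    intro w j
    simp only [Matrix.mulVec, dotProduct]
    rw [Finset.sum_eq_single j]
    · intro k _ hkj
      rw [hoff k j (Ne.symm hkj), zero_mul]
    · intro hj
      exact absurd (Finset.mem_univ j) hj
  have heq : ∀ i j : Fin n, i ≠ j → h.1 i i = h.1 j j := by
    intro i j hij
    obtain ⟨μ, hμ⟩ := hv (Pi.single i 1 + Pi.single j 1) (by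
      intro h0
      have := congrFun h0 i
      simp [Pi.single_eq_of_ne hij] at this)
    have hi := congrFun hμ i
    have hj := congrFun hμ j
    rw [hdiag] at hi hj
    simp only [Pi.add_apply, Pi.single_eq_same, Pi.single_eq_of_ne hij,
      Pi.single_eq_of_ne (Ne.symm hij), add_zero, zero_add, map_one, mul_one, Pi.smul_apply,
      smul_eq_mul] at hi hj
    rw [hi, hj]
  obtain ⟨i0, j0, hij0⟩ : ∃ i j : Fin n, i ≠ j :=
    ⟨⟨0, by omega⟩, ⟨1, by omega⟩, by intro h; simp [Fin.ext_iff] at h⟩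
  have hall : ∀ j : Fin n, h.1 j j = h.1 i0 i0 := by
    intro j
    by_cases hj : j = i0
    · rw [hj]
    · exact heq j i0 hj
  have hscal : h.1 = (h.1 i0 i0) • (1 : Matrix (Fin n) (Fin n) F) := by
    ext i j
    by_cases hij : i = j
    · subst hij
      simp [hall i]
    · simp [Matrix.one_apply_ne hij, hoff j i hij]
  have hc0 : h.1 i0 i0 ≠ 0 := by
    intro h0
    rw [h0, zero_smul] at hscal
    have h1 : h.1 * h⁻¹.1 = 1 := by
      rw [← Units.val_mul, mul_inv_cancel]; rfl
    rw [hscal, Matrix.zero_mul] at h1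
    have h2 := congrFun (congrFun h1 i0) i0
    simp at h2
  refine ⟨⟨Units.mk0 _ hc0, hscal⟩, ?_⟩
  ext a
  obtain ⟨μ, hμ⟩ := hv (Pi.single i0 1 + Pi.single j0 a) (by
    intro h0
    have := congrFun h0 i0
    simp [Pi.single_eq_of_ne hij0] at this)
  have hi := congrFun hμ i0
  have hj := congrFun hμ j0
  rw [hdiag] at hi hj
  simp only [Pi.add_apply, Pi.single_eq_same, Pi.single_eq_of_ne hij0,
    Pi.single_eq_of_ne (Ne.symm hij0), add_zero, zero_add, map_one, mul_one, Pi.smul_apply,
    smul_eq_mul] at hi hj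
  rw [hall j0, ← hi] at hj
  exact mul_left_cancel₀ hc0 hj

end Cfsg.Agent.Lib.helper61.S2686
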