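/-
S2686 split (owner helper48), PIECE S-CENT (core form, with the normal form of `a` as a hypothesis):
an automorphism `cAut h * fAut τ` of `PSL_n(F)` fixing the image of the symplectic group pointwise
is trivial.
-/
import Cfsg.Agent.Lib.helper48.LBRefl
import Cfsg.Agent.Lib.helper61.S2686Semi

set_option autoImplicit false
set_option linter.unusedSectionVars false

namespace Cfsg.Agent.Lib.helper61.S2686

open Matrix Cfsg
open Cfsg.Agent.Lib.helper47.PSLn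
open Cfsg.Agent.Lib.helper48.LB

variable {n : ℕ} {F : Type*} [Field F] [Fintype F]

/-- the square of the standard alternating matrix -/
theorem sc_stdAlt_sq (m : ℕ) :
    Cfsg.Agent.Lib.helper50.stdAlt m F * Cfsg.Agent.Lib.helper50.stdAlt m F = -1 := by
  unfold Cfsg.Agent.Lib.helper50.stdAlt
  rw [Matrix.fromBlocks_multiply, ← Matrix.fromBlocks_one, Matrix.fromBlocks_neg]
  simp

theorem sc_Aalt_sq {m : ℕ} (e : Fin n ≃ Fin m ⊕ Fin m) :
    (Cfsg.Agent.Lib.helper50.Aalt (F := F) e).1 * (Cfsg.Agent.Lib.helper50.Aalt (F := F) e).1 = -1 := by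
  show (Cfsg.Agent.Lib.helper50.stdAlt m F).submatrix e e *
    (Cfsg.Agent.Lib.helper50.stdAlt m F).submatrix e e = -1
  rw [Matrix.submatrix_mul_equiv, sc_stdAlt_sq]
  ext i j
  simp [Matrix.one_apply]

/-- the transvection data attached to a skew matrix `J` with `J * J = -1` -/
theorem sc_transv (h2 : (2 : F) ≠ 0) (J : Matrix (Fin n) (Fin n) F) (hJt : Jᵀ = -J)
    (hJJ : J * J = -1) (v : Fin n → F) :
    (J *ᵥ v) ⬝ᵥ v = 0 ∧
    (vecMulVec v (J *ᵥ v)) * (vecMulVec v (J *ᵥ v)) = 0 ∧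
    (1 + vecMulVec v (J *ᵥ v)).det = 1 ∧
    (1 + vecMulVec v (J *ᵥ v)) * J * (1 + vecMulVec v (J *ᵥ v))ᵀ = J := by
  have halt : (J *ᵥ v) ⬝ᵥ v = 0 := by
    have e1 : (J *ᵥ v) ⬝ᵥ v = v ⬝ᵥ (J *ᵥ v) := dotProduct_comm _ _
    have e2 : v ⬝ᵥ (J *ᵥ v) = (Jᵀ *ᵥ v) ⬝ᵥ v := by
      rw [Matrix.dotProduct_mulVec, Matrix.mulVec_transpose]
    rw [hJt, Matrix.neg_mulVec, neg_dotProduct] at e2
    have e3 : (J *ᵥ v) ⬝ᵥ v + (J *ᵥ v) ⬝ᵥ v = 0 := by
      nth_rewrite 1 [e1]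
      rw [e2]; ring
    have e4 : (2 : F) * ((J *ᵥ v) ⬝ᵥ v) = 0 := by rw [two_mul]; exact e3
    rcases mul_eq_zero.mp e4 with h | h
    · exact absurd h h2
    · exact h
  have halt' : v ⬝ᵥ (J *ᵥ v) = 0 := by rw [dotProduct_comm]; exact halt
  have hJJv : J *ᵥ (J *ᵥ v) = -v := by
    rw [Matrix.mulVec_mulVec, hJJ, Matrix.neg_mulVec, Matrix.one_mulVec]
  have hvJ : (J *ᵥ v) ᵥ* J = v := by
    rw [← Matrix.mulVec_transpose, hJt, Matrix.neg_mulVec, hJJv, neg_neg]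
  refine ⟨halt, ?_, ?_, ?_⟩
  · rw [Matrix.vecMulVec_mul_vecMulVec, halt, zero_smul, Matrix.vecMulVec_zero]
  · rw [Matrix.vecMulVec_eq (Fin 1), Matrix.det_one_add_replicateCol_mul_replicateRow, halt,
      add_zero]
  · rw [Matrix.transpose_add, Matrix.transpose_one, Matrix.transpose_vecMulVec]
    rw [Matrix.add_mul, Matrix.one_mul, Matrix.mul_add, Matrix.mul_one, Matrix.add_mul,
      Matrix.vecMulVec_mul, hvJ, Matrix.mul_vecMulVec, hJJv, Matrix.vecMulVec_mul_vecMulVec,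
      halt', zero_smul, Matrix.vecMulVec_zero, Matrix.neg_vecMulVec]
    abel

/-- S-CENT, with the normal form of `a` as a hypothesis -/
theorem symp_cent_of (hn : 3 ≤ n) (h2 : (2 : F) ≠ 0) {m : ℕ} (e : Fin n ≃ Fin m ⊕ Fin m)
    (a : MulAut (ProjectiveSpecialLinearGroup (Fin n) F))
    (hOI : ∃ (h : GL (Fin n) F) (τ : F ≃+* F), a = cAut h * fAut τ)
    (hfix : ∀ s : SpecialLinearGroup (Fin n) F,
      s.1 * (Cfsg.Agent.Lib.helper50.Aalt (F := F) e).1 * s.1ᵀ =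
        (Cfsg.Agent.Lib.helper50.Aalt (F := F) e).1 → a (pr s) = pr s) : a = 1 := by
  classical
  obtain ⟨h, τ, rfl⟩ := hOI
  obtain ⟨J, hJ⟩ : ∃ J : Matrix (Fin n) (Fin n) F, J = (Cfsg.Agent.Lib.helper50.Aalt (F := F) e).1 :=
    ⟨_, rfl⟩
  rw [← hJ] at hfix
  have hJt : Jᵀ = -J := by rw [hJ]; exact Cfsg.Agent.Lib.helper50.Aalt_transpose e
  have hJJ : J * J = -1 := by rw [hJ]; exact sc_Aalt_sq e
  have hne : Nonempty (Fin n) := ⟨⟨0, by omega⟩⟩
  have hhinv : h⁻¹.1 * h.1 = 1 := by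
    rw [← Units.val_mul, inv_mul_cancel]; rfl
  have hhinv' : h.1 * h⁻¹.1 = 1 := by
    rw [← Units.val_mul, mul_inv_cancel]; rfl
  have key : ∀ v : Fin n → F, v ≠ 0 → ∃ μ : F, h.1 *ᵥ (fun i => τ (v i)) = μ • v := by
    intro v hv
    obtain ⟨halt, hNN, hdet, hpres⟩ := sc_transv h2 J hJt hJJ v
    have hw : J *ᵥ v ≠ 0 := by
      intro h0
      apply hv
      have : J *ᵥ (J *ᵥ v) = -v := by
        rw [Matrix.mulVec_mulVec, hJJ, Matrix.neg_mulVec, Matrix.one_mulVec]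
      rw [h0, Matrix.mulVec_zero] at this
      exact neg_eq_zero.mp this.symm
    obtain ⟨k, hk⟩ : ∃ k, (J *ᵥ v) k ≠ 0 := by
      by_contra hcon
      push Not at hcon
      exact hw (funext hcon)
    obtain ⟨s, hs⟩ : ∃ s : SpecialLinearGroup (Fin n) F, s.1 = 1 + vecMulVec v (J *ᵥ v) :=
      ⟨⟨_, hdet⟩, rfl⟩
    have hfx := hfix s (by rw [hs]; exact hpres)
    rw [MulAut.mul_apply, fAut_pr, cAut_pr, pr_eq_iff] at hfx
    obtain ⟨c, -, hc⟩ := hfx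
    rw [conjSL_coe, mapSL_coe, hs] at hc
    -- the image of the transvection under `τ`
    have hmap : (1 + vecMulVec v (J *ᵥ v)).map τ =
        1 + vecMulVec (fun i => τ (v i)) (fun i => τ ((J *ᵥ v) i)) := by
      ext i j
      simp only [Matrix.map_apply, Matrix.add_apply, Matrix.vecMulVec_apply, map_add, map_mul]
      by_cases hij : i = j
      · subst hij; simp
      · simp [Matrix.one_apply_ne hij]
    have hτdot : (fun i => τ ((J *ᵥ v) i)) ⬝ᵥ (fun i => τ (v i)) = 0 := by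
      have : (fun i => τ ((J *ᵥ v) i)) ⬝ᵥ (fun i => τ (v i)) = τ ((J *ᵥ v) ⬝ᵥ v) := by
        simp only [dotProduct, map_sum, map_mul]
      rw [this, halt, map_zero]
    have hNN' : vecMulVec (fun i => τ (v i)) (fun i => τ ((J *ᵥ v) i)) *
        vecMulVec (fun i => τ (v i)) (fun i => τ ((J *ᵥ v) i)) = 0 := by
      rw [Matrix.vecMulVec_mul_vecMulVec, hτdot, zero_smul, Matrix.vecMulVec_zero]
    obtain ⟨N'', hN''⟩ : ∃ N'' : Matrix (Fin n) (Fin n) F,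
        N'' = vecMulVec (fun i => τ (v i)) (fun i => τ ((J *ᵥ v) i)) := ⟨_, rfl⟩
    rw [← hN''] at hmap hNN'
    have hc' : (1 + vecMulVec v (J *ᵥ v)) = c • (1 + h.1 * N'' * h⁻¹.1) := by
      have e1 : h.1 * (1 + N'') * h⁻¹.1 = 1 + h.1 * N'' * h⁻¹.1 := by
        rw [Matrix.mul_add, Matrix.mul_one, Matrix.add_mul, hhinv']
      rw [← e1, ← hmap]
      exact hc
    have hTT : (h.1 * N'' * h⁻¹.1) * (h.1 * N'' * h⁻¹.1) = 0 := by
      have e2 : (h.1 * N'' * h⁻¹.1) * (h.1 * N'' * h⁻¹.1) =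
          h.1 * (N'' * (h⁻¹.1 * h.1) * N'') * h⁻¹.1 := by
        simp only [Matrix.mul_assoc]
      rw [e2, hhinv, Matrix.mul_one, hNN', Matrix.mul_zero, Matrix.zero_mul]
    have hXX : ((1 + vecMulVec v (J *ᵥ v)) - 1) * ((1 + vecMulVec v (J *ᵥ v)) - 1) = 0 := by
      rw [add_sub_cancel_left]; exact hNN
    have hc1 : c = 1 := sc_scalar_one hXX hTT hc'
    rw [hc1, one_smul] at hc'
    have hN : vecMulVec v (J *ᵥ v) = h.1 * N'' * h⁻¹.1 := add_left_cancel hc'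
    have hNh : vecMulVec v (J *ᵥ v) * h.1 = h.1 * N'' := by
      rw [hN, Matrix.mul_assoc, hhinv, Matrix.mul_one]
    -- evaluate at a suitable vector
    have h3 : (vecMulVec v (J *ᵥ v) * h.1) *ᵥ (Pi.single k (τ ((J *ᵥ v) k))⁻¹ : Fin n → F) =
        (h.1 * N'') *ᵥ (Pi.single k (τ ((J *ᵥ v) k))⁻¹ : Fin n → F) := by rw [hNh]
    rw [← Matrix.mulVec_mulVec, ← Matrix.mulVec_mulVec, Matrix.vecMulVec_mulVec, hN'',
      Matrix.vecMulVec_mulVec] at h3
    have h4 : (fun i => τ ((J *ᵥ v) i)) ⬝ᵥ (Pi.single k (τ ((J *ᵥ v) k))⁻¹ : Fin n → F) = 1 := by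
      rw [dotProduct_single]
      exact mul_inv_cancel₀ (fun h0 => hk ((map_eq_zero τ).mp h0))
    rw [h4] at h3
    refine ⟨(J *ᵥ v) ⬝ᵥ (h.1 *ᵥ (Pi.single k (τ ((J *ᵥ v) k))⁻¹ : Fin n → F)), ?_⟩
    have h5 : (MulOpposite.op (1 : F)) • (fun i => τ (v i)) = fun i => τ (v i) := by
      funext i
      simp
    rw [h5] at h3
    rw [← h3]
    funext i
    simp [mul_comm]
  obtain ⟨⟨c, hc⟩, hτ⟩ := sc_semilinear_scalar (by omega) h τ key
  rw [hτ, map_one, mul_one]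
  exact cAut_eq_one_of_scalar h c hc

end Cfsg.Agent.Lib.helper61.S2686
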