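/-
S2686 split (owner helper48), PIECE S-CENT: an automorphism of odd order of `PSL_n(F)` fixing the
image of the symplectic group pointwise is trivial.
-/
import Cfsg.Agent.Lib.helper48.LBRefl
import Cfsg.Agent.Lib.helper32.S2686OI
import Cfsg.Agent.Lib.helper61.S2686SCENT0

set_option autoImplicit false

namespace Cfsg.Agent.Lib.helper61.S2686

open Matrix Cfsg
open Cfsg.Agent.Lib.helper47.PSLn
open Cfsg.Agent.Lib.helper48.LB
open Cfsg.Agent.Lib.helper48.AbsBal (fixG)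

variable {n : ℕ} {F : Type*} [Field F] [Fintype F]

/-- PIECE S-CENT -/
theorem symp_cent {r f : ℕ} [Fact r.Prime] (hF : Fintype.card F = r ^ f) (hn : 3 ≤ n)
    (h2 : (2 : F) ≠ 0) {m : ℕ} (e : Fin n ≃ Fin m ⊕ Fin m)
    (a : MulAut (ProjectiveSpecialLinearGroup (Fin n) F)) (ha : Odd (orderOf a))
    (hfix : ∀ s : SpecialLinearGroup (Fin n) F,
      s.1 * (Cfsg.Agent.Lib.helper50.Aalt (F := F) e).1 * s.1ᵀ = (Cfsg.Agent.Lib.helper50.Aalt (F := F) e).1 → a (pr s) = pr s) : a = 1 := by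
  obtain ⟨h, τ, ha', -⟩ := Cfsg.Agent.Lib.helper32.S2686.odd_aut_form hF hn a ha
  exact symp_cent_of hn h2 e a ⟨h, τ, ha'⟩ hfix

end Cfsg.Agent.Lib.helper61.S2686
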