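/-
S2522 (helper51 split), piece CH2B core: `choice2` with the three other pieces (`nonev_z`,
`ch2_h3`, `child_of_vec`) taken as hypotheses.
-/
import Mathlib
import Cfsg.Agent.Lib.helper51.LevDefs
import Cfsg.Agent.Lib.helper80.LevUTIL

set_option autoImplicit false

namespace Cfsg.Agent.Lib.helper51.Lev

open Matrix

variable {K : Type*} [Field K]

/-- internal form of `choice2`: the pieces `nonev_z`, `ch2_h3`, `child_of_vec` are hypotheses. -/
theorem helper61_choice2_of {ι : Type} [Fintype ι] [DecidableEq ι]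
    (h3 : 3 ≤ Fintype.card ι) (g : Matrix ι ι K) (hdet : g.det = 1) (hinv : IsUnit (g - 1))
    (hns : NonScalar g) (s p : K) (hq : g * g = s • g - p • (1 : Matrix ι ι K)) (hp : p ≠ 1)
    (hR1 : ¬ IsR1 g) (c r : ι → K) (hc : c ≠ 0) (hr : r ≠ 0)
    (hNZ : ∀ ρ d : ι → K, ρ ≠ 0 →
      ∃ z : ι → K, LinearIndependent K ![z, g *ᵥ z] ∧ ρ ⬝ᵥ z ≠ 0 ∧ ∀ a : K, z ≠ a • d)
    (hA : ∀ z : ι → K, LinearIndependent K ![z, g *ᵥ z] → ∀ t : K, t * (1 - s + p) = 1 - p →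
      ∀ lam : ι → K, lam ⬝ᵥ z = 1 + t → lam ⬝ᵥ (g *ᵥ z) = t → ∀ s' : K,
      (∀ h, lam ⬝ᵥ h = 0 → Dt g (z - g *ᵥ z) lam (Dt g (z - g *ᵥ z) lam h) =
        s' • Dt g (z - g *ᵥ z) lam h - h) → IsR1 g)
    (hC : ∀ x lam : ι → K, lam ⬝ᵥ x = 1 → lam ⬝ᵥ (g *ᵥ x) = 1 →
      (∀ a : K, ∃ h, lam ⬝ᵥ h = 0 ∧ Dt g x lam h ≠ a • h) →
      (∀ h, lam ⬝ᵥ h = 0 → Dt g x lam h = h → h = 0) →
      (Fintype.card ι = 3 ∨
        ∀ s : K, ∃ h, lam ⬝ᵥ h = 0 ∧ Dt g x lam (Dt g x lam h) ≠ s • Dt g x lam h - h) →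
      g *ᵥ x ≠ x → (∃ h, lam ⬝ᵥ h = 0 ∧ lam ⬝ᵥ (g *ᵥ h) ≠ 0) → lam ⬝ᵥ c ≠ 0 → r ⬝ᵥ x ≠ 0 →
      Child g c r) : Child g c r := by
  classical
  -- the quadratic relation on vectors
  have hgg : ∀ w : ι → K, g *ᵥ (g *ᵥ w) = s • (g *ᵥ w) - p • w := by
    intro w
    rw [Matrix.mulVec_mulVec, hq, Matrix.sub_mulVec, Matrix.smul_mulVec, Matrix.smul_mulVec,
      Matrix.one_mulVec]
  -- `g - 1` is injective
  obtain ⟨u, hu⟩ := hinv
  have hUiU : ((u⁻¹ : (Matrix ι ι K)ˣ) : Matrix ι ι K) * (g - 1) = 1 := by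
    rw [← hu]; exact Units.inv_mul u
  have hUw : ∀ w : ι → K, (g - 1) *ᵥ w = g *ᵥ w - w := by
    intro w; rw [Matrix.sub_mulVec, Matrix.one_mulVec]
  have hinj : ∀ w : ι → K, g *ᵥ w = w → w = 0 := by
    intro w hw
    have h1 : (g - 1) *ᵥ w = 0 := by rw [hUw, hw, sub_self]
    have h2 : ((u⁻¹ : (Matrix ι ι K)ˣ) : Matrix ι ι K) *ᵥ ((g - 1) *ᵥ w) = w := by
      rw [Matrix.mulVec_mulVec, hUiU, Matrix.one_mulVec]
    rw [h1, Matrix.mulVec_zero] at h2
    exact h2.symm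
  have hginj : ∀ w : ι → K, g *ᵥ w = 0 → w = 0 := by
    intro w hw
    have h2 : g⁻¹ *ᵥ (g *ᵥ w) = w := by
      rw [Matrix.mulVec_mulVec, Matrix.nonsing_inv_mul g (by rw [hdet]; exact isUnit_one),
        Matrix.one_mulVec]
    rw [hw, Matrix.mulVec_zero] at h2
    exact h2.symm
  -- the two scalar facts
  have he : 1 - s + p ≠ 0 := by
    intro he
    apply hns
    refine ⟨p, ?_⟩
    apply Matrix.mulVec_injective
    funext w
    have h1 : g *ᵥ (g *ᵥ w - p • w) = g *ᵥ w - p • w := by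
      rw [Matrix.mulVec_sub, Matrix.mulVec_smul, hgg]
      have hs : s = 1 + p := by linear_combination -he
      rw [hs]
      module
    have h2 := hinj _ h1
    rw [Matrix.smul_mulVec, Matrix.one_mulVec]
    exact sub_eq_zero.mp h2
  have hp0 : p ≠ 0 := by
    intro hp0
    apply hns
    refine ⟨s, ?_⟩
    apply Matrix.mulVec_injective
    funext w
    have h1 : g *ᵥ (g *ᵥ w - s • w) = 0 := by
      rw [Matrix.mulVec_sub, Matrix.mulVec_smul, hgg, hp0]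
      module
    have h2 := hginj _ h1
    rw [Matrix.smul_mulVec, Matrix.one_mulVec]
    exact sub_eq_zero.mp h2
  obtain ⟨t, ht⟩ : ∃ t : K, t * (1 - s + p) = 1 - p := ⟨(1 - p) / (1 - s + p), by field_simp⟩
  have ht0 : t ≠ 0 := by
    intro h0
    rw [h0, zero_mul] at ht
    exact hp (by linear_combination ht)
  -- the vector `z`
  have hρ : r ᵥ* (1 - g) ≠ 0 := by
    intro h0
    apply hr
    have h1 : r ᵥ* (g - 1) = 0 := by
      have : (g - 1 : Matrix ι ι K) = -(1 - g) := by abel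
      rw [this, Matrix.vecMul_neg, h0, neg_zero]
    have hUUi : (g - 1) * ((u⁻¹ : (Matrix ι ι K)ˣ) : Matrix ι ι K) = 1 := by
      rw [← hu]; exact Units.mul_inv u
    have h2 : (r ᵥ* (g - 1)) ᵥ* ((u⁻¹ : (Matrix ι ι K)ˣ) : Matrix ι ι K) = r := by
      rw [Matrix.vecMul_vecMul, hUUi, Matrix.vecMul_one]
    rw [h1, Matrix.zero_vecMul] at h2
    exact h2.symm
  obtain ⟨z, hz, hρz, hzd⟩ := hNZ (r ᵥ* (1 - g))
    (((u⁻¹ : (Matrix ι ι K)ˣ) : Matrix ι ι K) *ᵥ (((u⁻¹ : (Matrix ι ι K)ˣ) : Matrix ι ι K) *ᵥ c)) hρ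
  have hzne : z ≠ g *ᵥ z := by
    intro h
    have := hz.injective (a₁ := 0) (a₂ := 1) (by simpa using h)
    exact absurd this (by decide)
  -- the functional `lam`
  have key : ∃ lam : ι → K, lam ⬝ᵥ z = 1 + t ∧ lam ⬝ᵥ (g *ᵥ z) = t ∧ lam ⬝ᵥ c ≠ 0 := by
    by_cases hcT : c ∈ Submodule.span K (Set.range ![z, g *ᵥ z])
    · obtain ⟨lam, hlam⟩ := exists_dual ![z, g *ᵥ z] hz ![1 + t, t]
      have h0 : lam ⬝ᵥ z = 1 + t := by simpa using hlam 0
      have h1 : lam ⬝ᵥ (g *ᵥ z) = t := by simpa using hlam 1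
      refine ⟨lam, h0, h1, ?_⟩
      obtain ⟨f, hf⟩ := (Submodule.mem_span_range_iff_exists_fun K).mp hcT
      rw [Fin.sum_univ_two] at hf
      simp only [Matrix.cons_val_zero, Matrix.cons_val_one] at hf
      intro hlc
      have h2 : f 0 * (1 + t) + f 1 * t = 0 := by
        rw [← hf, dotProduct_add, dotProduct_smul, dotProduct_smul, h0, h1] at hlc
        simpa using hlc
      have h3' : (1 - p) • c = f 0 • ((g - 1) *ᵥ ((g - 1) *ᵥ z)) := by
        rw [hUw, hUw, Matrix.mulVec_sub, hgg, ← hf]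
        have e1 : f 0 * (s - 2) = (1 - p) * f 1 := by
          linear_combination (-(1 - s + p)) * h2 + (f 0 + f 1) * ht
        have : (f 0 * (s - 2)) • (g *ᵥ z) = ((1 - p) * f 1) • (g *ᵥ z) := by rw [e1]
        linear_combination (norm := module) -this
      have h4 : (1 - p) • (((u⁻¹ : (Matrix ι ι K)ˣ) : Matrix ι ι K) *ᵥ
          (((u⁻¹ : (Matrix ι ι K)ˣ) : Matrix ι ι K) *ᵥ c)) = f 0 • z := by
        rw [← Matrix.mulVec_smul, ← Matrix.mulVec_smul, h3', Matrix.mulVec_smul, Matrix.mulVec_smul,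
          Matrix.mulVec_mulVec _ _ (g - 1), hUiU, Matrix.one_mulVec,
          Matrix.mulVec_mulVec _ _ (g - 1), hUiU, Matrix.one_mulVec]
      have hf0 : f 0 ≠ 0 := by
        intro hf0
        rw [hf0, zero_mul, zero_add] at h2
        have hf1 : f 1 = 0 := by
          rcases mul_eq_zero.mp h2 with h | h
          · exact h
          · exact absurd h ht0
        apply hc
        rw [← hf, hf0, hf1, zero_smul, zero_smul, add_zero]
      apply hzd ((1 - p) / f 0)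
      rw [div_eq_inv_mul, mul_smul, h4, smul_smul, inv_mul_cancel₀ hf0, one_smul]
    · have hli : LinearIndependent K ![c, z, g *ᵥ z] :=
        linearIndependent_finCons.mpr ⟨hz, hcT⟩
      obtain ⟨lam, hlam⟩ := exists_dual ![c, z, g *ᵥ z] hli ![1, 1 + t, t]
      refine ⟨lam, by simpa using hlam 1, by simpa using hlam 2, ?_⟩
      have h0 : lam ⬝ᵥ c = 1 := by simpa using hlam 0
      rw [h0]
      exact one_ne_zero
  obtain ⟨lam, hl0, hl1, hl6⟩ := key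
  -- facts about `x = z - g z`
  have hgx : g *ᵥ (z - g *ᵥ z) = (1 - s) • (g *ᵥ z) + p • z := by
    rw [Matrix.mulVec_sub, hgg]; module
  have hx1 : lam ⬝ᵥ (z - g *ᵥ z) = 1 := by
    rw [dotProduct_sub, hl0, hl1]; ring
  have hgx1 : lam ⬝ᵥ (g *ᵥ (z - g *ᵥ z)) = 1 := by
    rw [hgx, dotProduct_add, dotProduct_smul, dotProduct_smul, hl0, hl1]
    simp only [smul_eq_mul]
    linear_combination ht
  have h4 : g *ᵥ (z - g *ᵥ z) ≠ z - g *ᵥ z := by
    intro h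
    exact hzne (sub_eq_zero.mp (hinj _ h))
  have h7 : r ⬝ᵥ (z - g *ᵥ z) ≠ 0 := by
    have : z - g *ᵥ z = (1 - g) *ᵥ z := by rw [Matrix.sub_mulVec, Matrix.one_mulVec]
    rw [this, Matrix.dotProduct_mulVec]
    exact hρz
  -- the vector `c₁ = g x - x`
  have hc1 : g *ᵥ (z - g *ᵥ z) - (z - g *ᵥ z) = (2 - s) • (g *ᵥ z) + (p - 1) • z := by
    rw [hgx]; module
  have hc1ne : g *ᵥ (z - g *ᵥ z) - (z - g *ᵥ z) ≠ 0 := fun h => h4 (sub_eq_zero.mp h)
  have hlc1 : lam ⬝ᵥ (g *ᵥ (z - g *ᵥ z) - (z - g *ᵥ z)) = 0 := by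
    rw [dotProduct_sub, hgx1, hx1, sub_self]
  have hggx : g *ᵥ (g *ᵥ (z - g *ᵥ z) - (z - g *ᵥ z)) =
      (s - 1) • (g *ᵥ (z - g *ᵥ z)) - p • (z - g *ᵥ z) := by
    rw [Matrix.mulVec_sub, hgg]; module
  have hlgc1 : lam ⬝ᵥ (g *ᵥ (g *ᵥ (z - g *ᵥ z) - (z - g *ᵥ z))) = -(1 - s + p) := by
    rw [hggx, dotProduct_sub, dotProduct_smul, dotProduct_smul, hgx1, hx1]
    simp only [smul_eq_mul]
    ring
  have hDc1 : Dt g (z - g *ᵥ z) lam (g *ᵥ (z - g *ᵥ z) - (z - g *ᵥ z)) =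
      p • (g *ᵥ (z - g *ᵥ z) - (z - g *ᵥ z)) := by
    unfold Dt
    rw [hlgc1, hggx]; module
  -- a vector outside `T = span (z, g z)`
  have hT : Submodule.span K (Set.range ![z, g *ᵥ z]) ≠ ⊤ := by
    intro htop
    have h1 := finrank_range_le_card (R := K) ![z, g *ᵥ z]
    rw [Set.finrank, htop, finrank_top, Module.finrank_fintype_fun_eq_card, Fintype.card_fin] at h1
    omega
  obtain ⟨w, hw⟩ : ∃ w : ι → K, w ∉ Submodule.span K (Set.range ![z, g *ᵥ z]) := by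
    by_contra hcon
    push Not at hcon
    exact hT (eq_top_iff.mpr fun x _ => hcon x)
  have hzT : z ∈ Submodule.span K (Set.range ![z, g *ᵥ z]) :=
    Submodule.subset_span ⟨0, rfl⟩
  have hgzT : g *ᵥ z ∈ Submodule.span K (Set.range ![z, g *ᵥ z]) :=
    Submodule.subset_span ⟨1, rfl⟩
  refine hC (z - g *ᵥ z) lam hx1 hgx1 ?_ ?_ ?_ h4 ?_ hl6 h7
  · -- h1
    intro a
    by_cases ha : a = p
    · subst ha
      refine ⟨w - (lam ⬝ᵥ w) • (z - g *ᵥ z), ?_, ?_⟩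
      · rw [dotProduct_sub, dotProduct_smul, hx1]; simp
      · intro hD
        apply hw
        unfold Dt at hD
        set h := w - (lam ⬝ᵥ w) • (z - g *ᵥ z) with hh
        set κ := lam ⬝ᵥ (g *ᵥ h) with hκ
        -- apply `g` to `hD`
        have hD2 : g *ᵥ (g *ᵥ h - κ • g *ᵥ (z - g *ᵥ z)) = g *ᵥ (a • h) := by rw [hD]
        rw [Matrix.mulVec_sub, Matrix.mulVec_smul, Matrix.mulVec_smul, hgg, hgg] at hD2
        have h5 : (a * (1 - s + a)) • h =
            (-(a * κ)) • (g *ᵥ (z - g *ᵥ z) - (z - g *ᵥ z)) := by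
          linear_combination (norm := module) (s - a) • hD - hD2
        have h6 : h = (-(a * κ) / (a * (1 - s + a))) •
            (g *ᵥ (z - g *ᵥ z) - (z - g *ᵥ z)) := by
          rw [div_eq_inv_mul, mul_smul, ← h5, smul_smul,
            inv_mul_cancel₀ (mul_ne_zero hp0 he), one_smul]
        have h7' : w = h + (lam ⬝ᵥ w) • (z - g *ᵥ z) := by rw [hh]; abel
        rw [h7', h6, hc1]
        refine Submodule.add_mem _ (Submodule.smul_mem _ _ (Submodule.add_mem _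
          (Submodule.smul_mem _ _ hgzT) (Submodule.smul_mem _ _ hzT)))
          (Submodule.smul_mem _ _ (Submodule.sub_mem _ hzT hgzT))
    · refine ⟨g *ᵥ (z - g *ᵥ z) - (z - g *ᵥ z), hlc1, ?_⟩
      rw [hDc1]
      intro h
      have h' : (p - a) • (g *ᵥ (z - g *ᵥ z) - (z - g *ᵥ z)) = 0 := by
        rw [sub_smul, h, sub_self]
      rcases smul_eq_zero.mp h' with h'' | h''
      · exact ha (sub_eq_zero.mp h'').symm
      · exact hc1ne h''
  · -- h2
    intro h hlh hD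
    unfold Dt at hD
    set κ := lam ⬝ᵥ (g *ᵥ h) with hκ
    have h1 : g *ᵥ (h + κ • g *ᵥ z) = h + κ • g *ᵥ z := by
      rw [Matrix.mulVec_add, Matrix.mulVec_smul]
      rw [Matrix.mulVec_sub] at hD
      linear_combination (norm := module) hD
    have h2 := hinj _ h1
    have h3' : h = (-κ) • g *ᵥ z := by
      rw [neg_smul]; exact eq_neg_of_add_eq_zero_left h2
    have h4' : κ = 0 := by
      have : lam ⬝ᵥ h = -κ * t := by rw [h3', dotProduct_smul, hl1, smul_eq_mul]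
      rw [hlh] at this
      rcases mul_eq_zero.mp this.symm with h | h
      · exact neg_eq_zero.mp h
      · exact absurd h ht0
    rw [h3', h4', neg_zero, zero_smul]
  · -- h3
    right
    by_contra hcon
    push Not at hcon
    obtain ⟨s', hs'⟩ := hcon
    exact hR1 (hA z hz t ht lam hl0 hl1 s' hs')
  · -- h5
    exact ⟨g *ᵥ (z - g *ᵥ z) - (z - g *ᵥ z), hlc1, by rw [hlgc1]; exact neg_ne_zero.mpr he⟩

end Cfsg.Agent.Lib.helper51.Lev
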