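/-
S2522 (helper51 split), piece CH2B: `choice2`, verbatim skeleton statement.
-/
import Mathlib
import Cfsg.Agent.Lib.helper51.LevDefs
import Cfsg.Agent.Lib.helper61.LevCH2Bcore
import Cfsg.Agent.Lib.helper82.LevCH2A
import Cfsg.Agent.Lib.helper46.LevNONEV
import Cfsg.Agent.Lib.helper63.LevCHILD

set_option autoImplicit false

namespace Cfsg.Agent.Lib.helper51.Lev

open Matrix

variable {K : Type*} [Field K]

/-- PIECE CH2: the choice of `(x, lam)` when `g` satisfies a quadratic with constant term `≠ 1`. -/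
theorem choice2 (hK : 4 ≤ Cardinal.mk K) {ι : Type} [Fintype ι] [DecidableEq ι]
    (h3 : 3 ≤ Fintype.card ι) (g : Matrix ι ι K) (hdet : g.det = 1) (hinv : IsUnit (g - 1))
    (hns : NonScalar g) (s p : K) (hq : g * g = s • g - p • (1 : Matrix ι ι K)) (hp : p ≠ 1)
    (hR1 : ¬ IsR1 g) (c r : ι → K) (hc : c ≠ 0) (hr : r ≠ 0) : Child g c r :=
  helper61_choice2_of h3 g hdet hinv hns s p hq hp hR1 c r hc hr
    (fun ρ d hρ => nonev_z hK g hns s p hq ρ d hρ)
    (fun z hz t ht lam hl0 hl1 s' hbad =>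
      ch2_h3 h3 g hdet hinv hns s p hq hp z hz t ht lam hl0 hl1 s' hbad)
    (fun x lam hx hgx h1 h2 h3' h4 h5 h6 h7 =>
      child_of_vec g hdet x lam c r hx hgx h1 h2 h3' h4 h5 h6 h7)

end Cfsg.Agent.Lib.helper51.Lev
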