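import Mathlib
import Cfsg.Agent.Lib.helper69.StemSylow

/-! Piece A of the S2111 split (helper51): lifts of the centre `t 0 b` commute pairwise. -/

set_option autoImplicit false

namespace Cfsg.Agent.Lib.helper61.S2111

open scoped commutatorElement
open Cfsg.Agent.Lib.helper69

/-- PIECE A: lifts of the centre `t 0 b` commute pairwise. -/
theorem helper61_stepA {G Γ F : Type*} [Group G] [Group Γ] [Field F] (σ : Γ →* G)
    (hsurj : Function.Surjective σ) (hc : σ.ker ≤ Subgroup.center Γ) (e : ℕ)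
    (hθ : ∀ x : F, (x ^ e) ^ e = x ^ 2)
    (t : F → F → G) (ht : ∀ a b c d, t a b * t c d = t (a + c) (b + d + a ^ e * c))
    (htor : ∀ μ : F, μ ≠ 0 → ∃ h : G, ∀ a b, h * t a b * h⁻¹ = t (μ * a) (μ * μ ^ e * b))
    (a₀ b₀ : F) (ha : a₀ ≠ 0) (hb : b₀ ≠ 0) (hab : b₀ ^ 2 = a₀ ^ 2 + 1)
    (hν : a₀ ^ 4 + a₀ ^ 2 + 1 ≠ 0)
    (x y : Γ) (hx : ∃ b, σ x = t 0 b) (hy : ∃ b, σ y = t 0 b) : x * y = y * x := by
  refine comm_of_root_subgroup σ hsurj hc (t 0) ?_ ?_ a₀ b₀ ha hb hab hν x y ?_ ?_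
  · intro s s'
    rw [ht]
    simp
  · intro c hc0
    have hce : c ^ e ≠ 0 := pow_ne_zero e hc0
    obtain ⟨h, hh⟩ := htor ((c ^ e / c) ^ 2) (pow_ne_zero 2 (div_ne_zero hce hc0))
    refine ⟨h, fun s => ?_⟩
    rw [hh, mul_zero]
    congr 1
    have h1 : ((c ^ e / c) ^ 2) ^ e = (c ^ 2 / c ^ e) ^ 2 := by
      rw [← pow_mul, mul_comm, pow_mul, div_pow, hθ]
    rw [h1]
    field_simp
  · obtain ⟨b, hb'⟩ := hx
    exact ⟨b, hb'.symm⟩
  · obtain ⟨b, hb'⟩ := hy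
    exact ⟨b, hb'.symm⟩

end Cfsg.Agent.Lib.helper61.S2111
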