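import Mathlib
import Cfsg.Agent.Lib.helper51.S2113Defs
import Cfsg.Agent.Lib.helper69.StemSylow

/-! Piece R4 of the S2113 split (helper51): lifts of `T 0 u v` commute pairwise. -/

set_option autoImplicit false

namespace Cfsg.Agent.Lib.helper61.S2113

open scoped commutatorElement
open Cfsg.Agent.Lib.helper69 Cfsg.Agent.Lib.helper51.S2113

/-- PIECE R4: lifts of `T 0 u v` commute pairwise. -/
theorem helper61_r4 {K G Γ : Type*} [Field K] [Group G] [Group Γ] (σ : Γ →* G)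
    (hsurj : Function.Surjective σ) (hc : σ.ker ≤ Subgroup.center Γ) (T : K → K → K → G) (e : ℕ)
    (c : K → K → K) (D : UData K G T e c)
    (h2 : ∀ x y : Γ, (∃ u v, σ x = T 0 u v) → (∃ w, σ y = T 0 0 w) → x * y = y * x)
    (hsq : ∀ B : K → K → Γ, (∀ s s' t, B (s + s') t = B s t * B s' t) →
      (∀ s t t', B s (t + t') = B s t * B s t') →
      (∀ a s t, a ≠ 0 → B (a ^ 2 * s) (a ^ 2 * t) = B s t) → ∀ s t, B s t = 1)
    (x y : Γ) (hx : ∃ u v, σ x = T 0 u v) (hy : ∃ u v, σ y = T 0 u v) : x * y = y * x := by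
  obtain ⟨ℓ, hℓ⟩ := hsurj.hasRightInverse
  have hcomm1 : ∀ (a z : Γ), (∃ u v, σ a = T 0 u v) → (∃ w, σ z = T 0 0 w) → ⁅a, z⁆ = 1 := by
    intro a z ha hz
    rw [commutatorElement_eq_one_iff_mul_comm]
    exact h2 a z ha hz
  have hcomm2 : ∀ (a z : Γ), (∃ u v, σ a = T 0 u v) → (∃ w, σ z = T 0 0 w) → ⁅z, a⁆ = 1 := by
    intro a z ha hz
    rw [commutatorElement_eq_one_iff_mul_comm]
    exact (h2 a z ha hz).symm
  have hcen : ∀ u u' : K, ⁅ℓ (T 0 u 0), ℓ (T 0 u' 0)⁆ ∈ Subgroup.center Γ := by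
    intro u u'
    apply commutatorElement_mem_center_of_central σ hc
    rw [hℓ, hℓ, D.mid, D.mid, add_comm]
  have hβ : ∀ u u' : K, ⁅ℓ (T 0 u 0), ℓ (T 0 u' 0)⁆ = 1 := by
    apply hsq (fun u u' => ⁅ℓ (T 0 u 0), ℓ (T 0 u' 0)⁆)
    · intro u u'' u'
      show ⁅ℓ (T 0 (u + u'') 0), ℓ (T 0 u' 0)⁆ =
        ⁅ℓ (T 0 u 0), ℓ (T 0 u' 0)⁆ * ⁅ℓ (T 0 u'' 0), ℓ (T 0 u' 0)⁆
      rw [← stem_commutatorElement_mul_left _ _ _ (hcen u'' u')]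
      apply commutatorElement_congr_of_central σ hc
      · rw [map_mul, hℓ, hℓ, hℓ, D.mid]
      · rfl
    · intro u u' u''
      show ⁅ℓ (T 0 u 0), ℓ (T 0 (u' + u'') 0)⁆ =
        ⁅ℓ (T 0 u 0), ℓ (T 0 u' 0)⁆ * ⁅ℓ (T 0 u 0), ℓ (T 0 u'' 0)⁆
      rw [← stem_commutatorElement_mul_right _ _ _ (hcen u u'')]
      apply commutatorElement_congr_of_central σ hc
      · rfl
      · rw [map_mul, hℓ, hℓ, hℓ, D.mid]
    · intro a s t ha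
      show ⁅ℓ (T 0 (a ^ 2 * s) 0), ℓ (T 0 (a ^ 2 * t) 0)⁆ = ⁅ℓ (T 0 s 0), ℓ (T 0 t 0)⁆
      have hφ0 : (a ^ e) ^ 3 ≠ 0 := pow_ne_zero _ (pow_ne_zero _ ha)
      have hν0 : (a ^ e) ^ 3 / a ≠ 0 := div_ne_zero hφ0 ha
      have h1 : (((a ^ e) ^ 3 / a) ^ e) ^ 3 = a ^ 3 / (a ^ e) ^ 3 := by
        rw [div_pow, div_pow]
        congr 1
        calc (((a ^ e) ^ 3) ^ e) ^ 3 = (((a ^ e) ^ e) ^ 3) ^ 3 := by ring
          _ = a ^ 3 := by rw [D.frob]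
      have key : (a ^ e) ^ 3 / a * (((a ^ e) ^ 3 / a) ^ e) ^ 3 = a ^ 2 := by
        rw [h1]
        field_simp
      obtain ⟨h, hh⟩ := D.tor _ hν0
      rw [← commutatorElement_conj_of_central (ℓ h) _ _ (hcen s t)]
      apply commutatorElement_congr_of_central σ hc
      · rw [map_mul, map_mul, map_inv, hℓ, hℓ, hℓ, hh, mul_zero, mul_zero, key]
      · rw [map_mul, map_mul, map_inv, hℓ, hℓ, hℓ, hh, mul_zero, mul_zero, key]
  obtain ⟨u, v, hx⟩ := hx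
  obtain ⟨u', v', hy⟩ := hy
  have hsplit : ∀ u v : K, T 0 u 0 * T 0 0 v = T 0 u v := by
    intro u v
    rw [D.top_r, zero_add]
  have e1 : ⁅x, y⁆ = ⁅ℓ (T 0 u 0) * ℓ (T 0 0 v), y⁆ := by
    apply commutatorElement_congr_of_central σ hc
    · rw [map_mul, hℓ, hℓ, hsplit, hx]
    · rfl
  have e2 : ⁅ℓ (T 0 0 v), y⁆ = 1 := hcomm2 y _ ⟨u', v', hy⟩ ⟨v, hℓ _⟩
  have e3 : ⁅ℓ (T 0 u 0), y⁆ = ⁅ℓ (T 0 u 0), ℓ (T 0 u' 0) * ℓ (T 0 0 v')⁆ := by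
    apply commutatorElement_congr_of_central σ hc
    · rfl
    · rw [map_mul, hℓ, hℓ, hsplit, hy]
  have e4 : ⁅ℓ (T 0 u 0), ℓ (T 0 0 v')⁆ = 1 := hcomm1 _ _ ⟨u, 0, hℓ _⟩ ⟨v', hℓ _⟩
  rw [stem_commutatorElement_mul_left _ _ _ (by rw [e2]; exact Subgroup.one_mem _), e2, mul_one,
    e3, stem_commutatorElement_mul_right _ _ _ (by rw [e4]; exact Subgroup.one_mem _), e4,
    mul_one, hβ] at e1
  exact commutatorElement_eq_one_iff_mul_comm.mp e1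

end Cfsg.Agent.Lib.helper61.S2113
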