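/-
S3571 (helper7 split), piece EMB: a group with a normal subgroup `T ≅ A_m` (`m ≥ 5`, `m ≠ 6`)
and `C_G(T) = 1` embeds into `Perm (Fin m)` with `T` mapped onto `A_m`.
-/
import Mathlib
import Cfsg.Agent.S2119

set_option autoImplicit false

namespace Cfsg.Agent.Lib.helper61.AD

open scoped Pointwise
open Equiv MulAction

/-- EMB -/
theorem exists_embedding {G : Type*} [Group G] [Finite G] (T : Subgroup G) (hT : T.Normal)
    (hTc : Subgroup.centralizer (T : Set G) = ⊥) (m : ℕ) (hm : 5 ≤ m) (h6 : m ≠ 6)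
    (eT : ↥T ≃* ↥(alternatingGroup (Fin m))) :
    ∃ ρ : G →* Perm (Fin m), Function.Injective ρ ∧ T.map ρ = alternatingGroup (Fin m) := by
  classical
  let c : G →* MulAut T := MulAut.conjNormal
  have hc : Function.Injective c := by
    rw [injective_iff_map_eq_one]
    intro g hg
    have hmem : g ∈ Subgroup.centralizer (T : Set G) := by
      rw [Subgroup.mem_centralizer_iff]
      intro h hh
      have h1 := congrArg (fun f : MulAut T => ((f ⟨h, hh⟩ : T) : G)) hg
      simp only [c, MulAut.conjNormal_apply, MulAut.one_apply] at h1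
      calc h * g = (g * h * g⁻¹) * g := by rw [h1]
        _ = g * h := by group
    rw [hTc] at hmem
    exact Subgroup.mem_bot.mp hmem
  let Φ : Perm (Fin m) ≃* MulAut ↥(alternatingGroup (Fin m)) :=
    MulEquiv.ofBijective MulAut.conjNormal (Cfsg.Agent.S2119.result m (by omega) h6)
  let ρ : G →* Perm (Fin m) := Φ.symm.toMonoidHom.comp ((MulAut.congr eT).toMonoidHom.comp c)
  have hρT : ∀ t : T, ρ (t : G) = ((eT t : alternatingGroup (Fin m)) : Perm (Fin m)) := by
    intro t
    show Φ.symm ((MulAut.congr eT) (c (t : G))) = _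
    rw [MulEquiv.symm_apply_eq]
    ext a : 1
    apply Subtype.ext
    show ((eT (c (t : G) (eT.symm a)) : alternatingGroup (Fin m)) : Perm (Fin m)) =
      ((MulAut.conjNormal ((eT t : alternatingGroup (Fin m)) : Perm (Fin m)) a :
        alternatingGroup (Fin m)) : Perm (Fin m))
    rw [MulAut.conjNormal_apply]
    have h2 : c (t : G) (eT.symm a) = t * eT.symm a * t⁻¹ := by
      apply Subtype.ext
      simp [c, MulAut.conjNormal_apply]
    rw [h2, map_mul, map_mul, map_inv, MulEquiv.apply_symm_apply]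
    simp
  refine ⟨ρ, ?_, ?_⟩
  · exact Φ.symm.injective.comp ((MulAut.congr eT).injective.comp hc)
  · apply le_antisymm
    · rintro _ ⟨t, ht, rfl⟩
      have := hρT ⟨t, ht⟩
      simp only at this
      rw [this]
      exact (eT ⟨t, ht⟩).2
    · intro a ha
      refine ⟨(eT.symm ⟨a, ha⟩ : G), (eT.symm ⟨a, ha⟩).2, ?_⟩
      rw [hρT, MulEquiv.apply_symm_apply]

end Cfsg.Agent.Lib.helper61.AD
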