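/-
S3571 (helper7 split), piece M6d: a subgroup of relative index six in `A_6` misses a whole
class of elements of order three.
-/
import Mathlib

set_option autoImplicit false

namespace Cfsg.Agent.Lib.helper61.AD

open scoped Pointwise
open Equiv MulAction

/-- the fixed-point-free element of order three of `A_6` -/
def helper61_sigma : Perm (Fin 6) := swap 0 1 * swap 1 2 * (swap 3 4 * swap 4 5)

theorem helper61_sigma_sign : Perm.sign helper61_sigma = 1 := by
  unfold helper61_sigma
  simp [Perm.sign_mul, Perm.sign_swap]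

theorem helper61_sigma_fpf : ∀ i : Fin 6, helper61_sigma i ≠ i := by
  unfold helper61_sigma
  decide

theorem helper61_sigma_order : orderOf helper61_sigma = 3 := by
  haveI : Fact (Nat.Prime 3) := ⟨by norm_num⟩
  refine orderOf_eq_prime ?_ ?_
  · ext i
    unfold helper61_sigma
    revert i
    decide
  · intro h
    have := helper61_sigma_fpf 0
    rw [h] at this
    exact this rfl

/-- M6d -/
theorem alt6_relIndex_six (K : Subgroup (Perm (Fin 6)))
    (hK : K.relIndex (alternatingGroup (Fin 6)) = 6) :
    ∃ x ∈ alternatingGroup (Fin 6), orderOf x = 3 ∧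
      ∀ g ∈ alternatingGroup (Fin 6), g * x * g⁻¹ ∉ K := by
  classical
  let K' : Subgroup (alternatingGroup (Fin 6)) := K.subgroupOf (alternatingGroup (Fin 6))
  have hidx : K'.index = 6 := hK
  have hXcard : Nat.card (alternatingGroup (Fin 6) ⧸ K') = 6 := hidx
  haveI : Finite (alternatingGroup (Fin 6) ⧸ K') :=
    Nat.finite_of_card_ne_zero (by rw [hXcard]; norm_num)
  haveI : Fintype (alternatingGroup (Fin 6) ⧸ K') := Fintype.ofFinite _
  let φ : alternatingGroup (Fin 6) →* Perm (alternatingGroup (Fin 6) ⧸ K') :=
    MulAction.toPermHom (alternatingGroup (Fin 6)) (alternatingGroup (Fin 6) ⧸ K')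
  have hφ : ∀ (a b : alternatingGroup (Fin 6)),
      φ a (b : alternatingGroup (Fin 6) ⧸ K') = ((a * b : alternatingGroup (Fin 6)) :
        alternatingGroup (Fin 6) ⧸ K') := fun a b => rfl
  haveI hsimple : IsSimpleGroup (alternatingGroup (Fin 6)) :=
    alternatingGroup.isSimpleGroup (by simp)
  have hker : φ.ker = ⊥ := by
    rcases (φ.normal_ker).eq_bot_or_eq_top with h | h
    · exact h
    · exfalso
      have htop : K' = ⊤ := by
        rw [eq_top_iff]
        intro a _
        have ha : a ∈ φ.ker := by rw [h]; trivial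
        have h1 : φ a = 1 := ha
        have h2 := hφ a 1
        rw [h1, Perm.one_apply, eq_comm, QuotientGroup.eq] at h2
        have h3 : a⁻¹ ∈ K' := by simpa using h2
        exact (Subgroup.inv_mem_iff K').mp h3
      rw [htop, Subgroup.index_top] at hidx
      omega
  have hinj : Function.Injective φ := (MonoidHom.ker_eq_bot_iff φ).mp hker
  have hAcard : Nat.card (alternatingGroup (Fin 6)) = 360 := by
    rw [nat_card_alternatingGroup]
    simp [Nat.factorial]
  have hrange : φ.range = alternatingGroup (alternatingGroup (Fin 6) ⧸ K') := by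
    apply Equiv.Perm.eq_alternatingGroup_of_index_eq_two
    have h1 : Nat.card φ.range = 360 := by
      rw [← hAcard]
      exact (Nat.card_congr (MonoidHom.ofInjective hinj).toEquiv).symm
    have h2 : Nat.card (Perm (alternatingGroup (Fin 6) ⧸ K')) = 720 := by
      rw [Nat.card_perm, hXcard]
      rfl
    have h3 := φ.range.index_mul_card
    rw [h1, h2] at h3
    omega
  -- transport `sigma`
  have e : (alternatingGroup (Fin 6) ⧸ K') ≃ Fin 6 := Finite.equivFinOfCardEq hXcard
  have hy : e.symm.permCongr helper61_sigma ∈ φ.range := by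
    rw [hrange, Perm.mem_alternatingGroup, Perm.sign_permCongr]
    exact helper61_sigma_sign
  obtain ⟨x, hx⟩ := hy
  refine ⟨(x : Perm (Fin 6)), x.2, ?_, ?_⟩
  · rw [Subgroup.orderOf_coe, ← orderOf_injective φ hinj x, hx]
    have : e.symm.permCongr helper61_sigma = (e.symm.permCongrHom) helper61_sigma := rfl
    rw [this, MulEquiv.orderOf_eq]
    exact helper61_sigma_order
  · intro g hg hmem
    have h1 : φ x (((⟨g, hg⟩ : alternatingGroup (Fin 6))⁻¹ : alternatingGroup (Fin 6)) :
        alternatingGroup (Fin 6) ⧸ K') =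
        (((⟨g, hg⟩ : alternatingGroup (Fin 6))⁻¹ : alternatingGroup (Fin 6)) :
        alternatingGroup (Fin 6) ⧸ K') := by
      rw [hφ, eq_comm, QuotientGroup.eq]
      show _ ∈ K.subgroupOf (alternatingGroup (Fin 6))
      rw [Subgroup.mem_subgroupOf]
      simpa [mul_assoc] using hmem
    rw [hx, Equiv.permCongr_apply] at h1
    have h2 := congrArg e h1
    simp only [Equiv.symm_symm, Equiv.apply_symm_apply] at h2
    exact helper61_sigma_fpf _ h2

end Cfsg.Agent.Lib.helper61.AD
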