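/-
S3571 (helper7 split), piece PA core: the intransitive case, with the pieces NT1a/NT1b, NT2,
X1, X2, AIDX taken as hypotheses.
-/
import Mathlib

set_option autoImplicit false

namespace Cfsg.Agent.Lib.helper61.AD

open scoped Pointwise
open Equiv MulAction

/-- PA core (intransitive case) -/
theorem helper61_perm_case_intrans_core (m : ℕ) (hm : 5 ≤ m) (Γ H : Subgroup (Perm (Fin m)))
    (hA : alternatingGroup (Fin m) ≤ Γ) (hHΓ : H ≤ Γ)
    (hmax : ∀ L : Subgroup (Perm (Fin m)), H ≤ L → L ≤ Γ → L = H ∨ L = Γ)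
    (s : Set (Fin m)) (hs : s.Nonempty) (hsc : sᶜ.Nonempty)
    (hHs : H ≤ stabilizer (Perm (Fin m)) s)
    (r : ℕ) (hr : r.Prime) (hrd : r ∣ H.relIndex (alternatingGroup (Fin m)))
    (hmaxr : ∀ q : ℕ, q.Prime → q ∣ H.relIndex (alternatingGroup (Fin m)) → q ≤ r)
    (hNT1 : ∀ k : ℕ, 1 ≤ k → 2 * k ≤ m →
      ∃ p : ℕ, p.Prime ∧ p ∣ m.choose k ∧ (k < p ∨ m < p ^ 2))
    (hNT2 : ∀ k r : ℕ, r.Prime → k ≤ m → r ∣ m.choose k → (k < r ∨ m < r ^ 2) →
      m % r < k % r)
    (hX1 : ∀ r : ℕ, r.Prime → r ≤ m → (r = 2 → 4 ∣ m) →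
      ∃ x : Perm (Fin m), x ∈ alternatingGroup (Fin m) ∧ orderOf x = r ∧
        (Finset.univ.filter (fun i : Fin m => x i = i)).card = m % r)
    (hX2 : ∀ r : ℕ, r.Prime → ∀ x : Perm (Fin m), orderOf x = r →
      (Finset.univ.filter (fun i : Fin m => x i = i)).card = m % r →
      ∀ s : Set (Fin m), x ∈ stabilizer (Perm (Fin m)) s → s.ncard % r ≤ m % r)
    (hAIDX : ∀ s : Set (Fin m),
      (stabilizer (Perm (Fin m)) s).relIndex (alternatingGroup (Fin m)) = m.choose s.ncard) :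
    ∃ x ∈ alternatingGroup (Fin m), orderOf x = r ∧
      ∀ g ∈ alternatingGroup (Fin m), g * x * g⁻¹ ∉ H := by
  classical
  -- Step 1: `H = Γ ⊓ Stab(s)`
  have hHeq : H = Γ ⊓ stabilizer (Perm (Fin m)) s := by
    rcases hmax (Γ ⊓ stabilizer (Perm (Fin m)) s) (le_inf hHΓ hHs) inf_le_left with h | h
    · exact h.symm
    · exfalso
      have hΓs : Γ ≤ stabilizer (Perm (Fin m)) s := by
        rw [← h]; exact inf_le_right
      obtain ⟨a, ha⟩ := hs
      obtain ⟨b, hb⟩ := hsc
      have hab : a ≠ b := fun h => hb (h ▸ ha)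
      obtain ⟨c, -, hc⟩ := Finset.exists_mem_notMem_of_card_lt_card
        (s := ({a, b} : Finset (Fin m))) (t := Finset.univ) (by
          calc _ ≤ 2 := Finset.card_le_two
            _ < Fintype.card (Fin m) := by rw [Fintype.card_fin]; omega
            _ = Finset.univ.card := Finset.card_univ.symm)
      have hca : c ≠ a := fun h => hc (by simp [h])
      have hcb : c ≠ b := fun h => hc (by simp [h])
      have hg : swap a b * swap b c ∈ alternatingGroup (Fin m) := by
        rw [Perm.mem_alternatingGroup, Perm.sign_mul, Perm.sign_swap hab, Perm.sign_swap hcb.symm]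
        rfl
      have hgab : (swap a b * swap b c) a = b := by
        rw [Perm.mul_apply, swap_apply_of_ne_of_ne hab hca.symm, swap_apply_left]
      have hgs := hΓs (hA hg)
      rw [mem_stabilizer_iff] at hgs
      have h1 : (swap a b * swap b c) • a ∈ (swap a b * swap b c) • s :=
        Set.smul_mem_smul_set ha
      rw [hgs, Perm.smul_def, hgab] at h1
      exact hb h1
  -- Step 2: the smaller of `s`, `sᶜ`
  obtain ⟨s', hs', hk2, hstab⟩ : ∃ s' : Set (Fin m), s'.Nonempty ∧ 2 * s'.ncard ≤ m ∧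
      stabilizer (Perm (Fin m)) s' = stabilizer (Perm (Fin m)) s := by
    by_cases h : 2 * s.ncard ≤ m
    · exact ⟨s, hs, h, rfl⟩
    · refine ⟨sᶜ, hsc, ?_, stabilizer_compl _ _⟩
      have h1 := Set.ncard_add_ncard_compl s
      rw [Nat.card_eq_fintype_card, Fintype.card_fin] at h1
      omega
  have hk1 : 1 ≤ s'.ncard := (Set.ncard_pos (Set.toFinite s')).mpr hs'
  -- Step 3: the index
  have hrel : H.relIndex (alternatingGroup (Fin m)) = m.choose s'.ncard := by
    rw [hHeq, ← hstab, ← hAIDX s',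
      ← Subgroup.inf_relIndex_right (Γ ⊓ stabilizer (Perm (Fin m)) s') (alternatingGroup (Fin m)),
      ← Subgroup.inf_relIndex_right (stabilizer (Perm (Fin m)) s') (alternatingGroup (Fin m))]
    congr 1
    rw [inf_comm Γ, inf_assoc, inf_eq_right.mpr hA]
  rw [hrel] at hrd hmaxr
  -- Step 4: number theory
  obtain ⟨p, hp, hpd, hpk⟩ := hNT1 s'.ncard hk1 hk2
  have hpr : p ≤ r := hmaxr p hp hpd
  have hkr : s'.ncard < r ∨ m < r ^ 2 := by
    rcases hpk with h | h
    · left; omega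
    · right
      calc m < p ^ 2 := h
        _ ≤ r ^ 2 := Nat.pow_le_pow_left hpr 2
  have hlt : m % r < s'.ncard % r := hNT2 s'.ncard r hr (by omega) hrd hkr
  have hrm : r ≤ m := by
    have h1 : m.choose s'.ncard ∣ m.factorial := by
      have h2 := Nat.choose_mul_factorial_mul_factorial (show s'.ncard ≤ m by omega)
      rw [mul_assoc] at h2
      exact Dvd.intro _ h2
    exact (hr.dvd_factorial).mp (hrd.trans h1)
  have h4 : r = 2 → 4 ∣ m := by
    intro h2
    subst h2
    have hk1' : s'.ncard = 1 := by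
      rcases hkr with h | h
      · omega
      · exfalso; omega
    rw [hk1', Nat.choose_one_right] at hrd hmaxr
    obtain ⟨m', rfl⟩ := hrd
    obtain ⟨q, hq, hqd⟩ := Nat.exists_prime_and_dvd (show m' ≠ 1 by omega)
    have hq2 : q ≤ 2 := hmaxr q hq (Dvd.dvd.mul_left hqd 2)
    have hq2' : q = 2 := le_antisymm hq2 hq.two_le
    subst hq2'
    obtain ⟨m'', rfl⟩ := hqd
    exact ⟨m'', by ring⟩
  -- Step 5: the element
  obtain ⟨x, hxA, hxo, hxfix⟩ := hX1 r hr hrm h4
  refine ⟨x, hxA, hxo, ?_⟩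
  intro g hg hmem
  have hmem' : g * x * g⁻¹ ∈ stabilizer (Perm (Fin m)) s' := by
    rw [hstab]; exact hHs hmem
  have hx' : x ∈ stabilizer (Perm (Fin m)) (g⁻¹ • s') := by
    rw [mem_stabilizer_iff] at hmem' ⊢
    calc x • g⁻¹ • s' = g⁻¹ • ((g * x * g⁻¹) • s') := by
          simp [smul_smul, mul_assoc]
      _ = g⁻¹ • s' := by rw [hmem']
  have h5 := hX2 r hr x hxo hxfix (g⁻¹ • s') hx'
  have h6 : (g⁻¹ • s').ncard = s'.ncard :=
    Set.ncard_image_of_injective _ (MulAction.injective g⁻¹)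
  rw [h6] at h5
  omega

end Cfsg.Agent.Lib.helper61.AD
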