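import Mathlib
import Cfsg.Agent.Lib.helper95.APDefs

/-! S2276 split (helper95), piece GREEDY: `greedy`. -/

set_option autoImplicit false

namespace Cfsg.Agent.Lib.helper95.AP

open Equiv

/-- A descending list of `p`-powers all dividing `T` has sum at most `T`, or a prefix of sum `T`. -/
theorem helper61_prefix_fill (p : ℕ) (hp : p.Prime) :
    ∀ (S : List ℕ), S.Pairwise (· ≥ ·) → (∀ c ∈ S, ∃ j : ℕ, c = p ^ j) →
      ∀ T : ℕ, (∀ c ∈ S, c ∣ T) → S.sum ≤ T ∨ ∃ L : List ℕ, L <+: S ∧ L.sum = T := by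
  intro S
  induction S with
  | nil =>
    intro _ _ T _
    left
    simp
  | cons c S' ih =>
    intro hsort hpow T hdiv
    rcases Nat.eq_zero_or_pos T with hT | hT
    · right
      exact ⟨[], List.nil_prefix, by simp [hT]⟩
    · have hcT : c ∣ T := hdiv c (List.mem_cons_self)
      have hcle : c ≤ T := Nat.le_of_dvd hT hcT
      rw [List.pairwise_cons] at hsort
      obtain ⟨j, hj⟩ := hpow c (List.mem_cons_self)
      have hdiv' : ∀ c' ∈ S', c' ∣ T - c := by
        intro c' hc'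
        obtain ⟨j', hj'⟩ := hpow c' (List.mem_cons_of_mem _ hc')
        have hle : c' ≤ c := hsort.1 c' hc'
        have hjj : j' ≤ j := by
          rw [hj, hj'] at hle
          exact (Nat.pow_le_pow_iff_right hp.one_lt).mp hle
        have hc'c : c' ∣ c := by
          rw [hj, hj']
          exact pow_dvd_pow p hjj
        exact Nat.dvd_sub (hc'c.trans hcT) hc'c
      rcases ih hsort.2 (fun c' hc' => hpow c' (List.mem_cons_of_mem _ hc')) (T - c) hdiv' with h | h
      · left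
        rw [List.sum_cons]
        omega
      · right
        obtain ⟨L, hL, hLs⟩ := h
        refine ⟨c :: L, ?_, ?_⟩
        · exact (List.prefix_cons_inj c).mpr hL
        · rw [List.sum_cons, hLs]
          omega

/-- [GREEDY] a descending list of parts of `μ` filling `p^e` as far as possible -/
theorem greedy (p : ℕ) (hp : p.Prime) (e n : ℕ) (μ : Multiset ℕ) (hμ0 : μ ≠ 0)
    (hμ : ∀ c ∈ μ, ∃ j : ℕ, 1 ≤ j ∧ c = p ^ j ∧ c < p ^ e) (hn : p ^ e ≤ n) (hsum : μ.sum ≤ n) :
    ∃ L : List ℕ, L ≠ [] ∧ L.Pairwise (· ≥ ·) ∧ (L : Multiset ℕ) ≤ μ ∧ L.sum ≤ p ^ e ∧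
      p ^ e - L.sum ≤ n - μ.sum := by
  have hS : ((μ.sort (· ≥ ·) : List ℕ) : Multiset ℕ) = μ := Multiset.sort_eq μ (· ≥ ·)
  have hsort : (μ.sort (· ≥ ·)).Pairwise (· ≥ ·) := Multiset.pairwise_sort μ (· ≥ ·)
  have hmem : ∀ c ∈ μ.sort (· ≥ ·), c ∈ μ := fun c hc => (Multiset.mem_sort (· ≥ ·)).mp hc
  have hpos : 0 < p ^ e := pow_pos hp.pos e
  rcases helper61_prefix_fill p hp (μ.sort (· ≥ ·)) hsort
      (fun c hc => by
        obtain ⟨j, -, hj, -⟩ := hμ c (hmem c hc)
        exact ⟨j, hj⟩)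
      (p ^ e)
      (fun c hc => by
        obtain ⟨j, -, hj, hlt⟩ := hμ c (hmem c hc)
        rw [hj] at hlt ⊢
        exact pow_dvd_pow p ((Nat.pow_lt_pow_iff_right hp.one_lt).mp hlt).le) with h | h
  · refine ⟨μ.sort (· ≥ ·), ?_, hsort, ?_, h, ?_⟩
    · intro h0
      apply hμ0
      rw [← hS, h0]
      rfl
    · rw [hS]
    · have hs : (μ.sort (· ≥ ·)).sum = μ.sum := by
        rw [← Multiset.sum_coe, hS]
      rw [hs]
      omega
  · obtain ⟨L, hL, hLs⟩ := h
    refine ⟨L, ?_, hsort.sublist hL.sublist, ?_, hLs.le, ?_⟩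
    · intro h0
      rw [h0] at hLs
      simp at hLs
      omega
    · rw [← hS]
      exact Multiset.coe_le.mpr hL.sublist.subperm
    · rw [hLs]
      omega

end Cfsg.Agent.Lib.helper95.AP
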