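import Mathlib
import Cfsg.Agent.Lib.helper95.APDefs
import Cfsg.Agent.Lib.helper61.APGREEDY

/-! S2276 split (helper95), piece CATBIG, core version: the pieces PPOW (for `W`), B0, INTV and
RED (for `U`, `W`, degree `p^e`) are hypotheses. -/

set_option autoImplicit false

namespace Cfsg.Agent.Lib.helper95.AP

open Equiv

/-- CATBIG from PPOW, B0, INTV, RED (as hypotheses) and GREEDY. -/
theorem helper61_catbig_core (n : ℕ) (p : ℕ) (hp : p.Prime) (U W : Perm (Fin n)) (hW : W ≠ 1)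
    (e : ℕ) (h5 : 5 ≤ p ^ e) (hM : p ^ e ∈ U.cycleType) (hWM : ∀ c ∈ W.cycleType, c ≤ p ^ e)
    (hppow : ∀ c ∈ W.cycleType, ∃ j : ℕ, 1 ≤ j ∧ c = p ^ j)
    (hb0 : ∃ b : Perm (Fin (p ^ e)), b.cycleType = {p ^ e} ∧ GoodBoth p (finRotate (p ^ e)) b)
    (hintv : ∀ L : List ℕ, L ≠ [] → L.Pairwise (· ≥ ·) →
      (∀ l ∈ L, ∃ j : ℕ, 1 ≤ j ∧ l = p ^ j ∧ l < p ^ e) → L.sum ≤ p ^ e →
      ∃ b : Perm (Fin (p ^ e)), b.cycleType = (L : Multiset ℕ) ∧ GoodBoth p (finRotate (p ^ e)) b)
    (hred : ∀ a b : Perm (Fin (p ^ e)), a.cycleType ≤ U.cycleType →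
      p ^ e - a.support.card ≤ n - U.support.card → b.cycleType ≤ W.cycleType →
      p ^ e - b.support.card ≤ n - W.support.card → GoodBoth p a b →
      ∃ g : Perm (Fin n), Perm.sign g = 1 ∧ Good p U (g * W * g⁻¹)) :
    ∃ g : Perm (Fin n), Perm.sign g = 1 ∧ Good p U (g * W * g⁻¹) := by
  have hact : (finRotate (p ^ e)).cycleType = {p ^ e} :=
    cycleType_finRotate_of_le (by omega)
  have hasupp : (finRotate (p ^ e)).support.card = p ^ e := by
    rw [← Perm.sum_cycleType, hact, Multiset.sum_singleton]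
  have ha : (finRotate (p ^ e)).cycleType ≤ U.cycleType := by
    rw [hact]
    exact Multiset.singleton_le.mpr hM
  have ha' : p ^ e - (finRotate (p ^ e)).support.card ≤ n - U.support.card := by
    rw [hasupp]
    omega
  by_cases hmem : p ^ e ∈ W.cycleType
  · obtain ⟨b, hbt, hgood⟩ := hb0
    have hbsupp : b.support.card = p ^ e := by
      rw [← Perm.sum_cycleType, hbt, Multiset.sum_singleton]
    refine hred _ b ha ha' ?_ ?_ hgood
    · rw [hbt]
      exact Multiset.singleton_le.mpr hmem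
    · rw [hbsupp]
      omega
  · have hμ : ∀ c ∈ W.cycleType, ∃ j : ℕ, 1 ≤ j ∧ c = p ^ j ∧ c < p ^ e := by
      intro c hc
      obtain ⟨j, hj1, hj⟩ := hppow c hc
      refine ⟨j, hj1, hj, lt_of_le_of_ne (hWM c hc) ?_⟩
      intro h
      exact hmem (h ▸ hc)
    have hμ0 : W.cycleType ≠ 0 := fun h => hW (Perm.cycleType_eq_zero.mp h)
    have hn : p ^ e ≤ n := by
      have h1 : p ^ e ≤ U.cycleType.sum := Multiset.le_sum_of_mem hM
      have h2 := U.sum_cycleType_le
      rw [Fintype.card_fin] at h2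
      omega
    have hsum : W.cycleType.sum ≤ n := by
      have h2 := W.sum_cycleType_le
      rw [Fintype.card_fin] at h2
      exact h2
    obtain ⟨L, hL0, hLsort, hLle, hLsum, hLrest⟩ := greedy p hp e n W.cycleType hμ0 hμ hn hsum
    obtain ⟨b, hbt, hgood⟩ := hintv L hL0 hLsort
      (fun l hl => hμ l (Multiset.mem_of_le hLle (Multiset.mem_coe.mpr hl))) hLsum
    have hbsupp : b.support.card = L.sum := by
      rw [← Perm.sum_cycleType, hbt, Multiset.sum_coe]
    refine hred _ b ha ha' ?_ ?_ hgood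
    · rw [hbt]
      exact hLle
    · rw [hbsupp, ← Perm.sum_cycleType W]
      exact hLrest

end Cfsg.Agent.Lib.helper95.AP
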