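import Mathlib
import Cfsg.Agent.Lib.helper95.APDefs
import Cfsg.Agent.Lib.helper77.APPPOW
import Cfsg.Agent.Lib.helper77.APRED
import Cfsg.Agent.Lib.helper57.APB0
import Cfsg.Agent.Lib.helper29.APINTV
import Cfsg.Agent.Lib.helper61.APCATBIGcore

/-! S2276 split (helper95), piece CATBIG: `catbig`. -/

set_option autoImplicit false

namespace Cfsg.Agent.Lib.helper95.AP

open Equiv

/-- [CATBIG] `U` has a cycle of length `p^e ≥ 5` which is at least as long as every cycle of `W`;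
uses PPOW, GREEDY, INTV, B0, RED -/
theorem catbig (n : ℕ) (p : ℕ) (hp : p.Prime) (hp3 : 3 ≤ p) (U W : Perm (Fin n)) (hW : W ≠ 1)
    (hW' : ∃ k : ℕ, orderOf W = p ^ k) (e : ℕ) (h5 : 5 ≤ p ^ e)
    (hM : p ^ e ∈ U.cycleType) (hWM : ∀ c ∈ W.cycleType, c ≤ p ^ e) :
    ∃ g : Perm (Fin n), Perm.sign g = 1 ∧ Good p U (g * W * g⁻¹) :=
  helper61_catbig_core n p hp U W hW e h5 hM hWM (ppow p hp W hW') (b0 p hp hp3 e h5)
    (fun L hL0 hsort hpow hsum => h29_intv p hp hp3 e L hL0 hsort hpow hsum)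
    (fun a b ha ha' hb hb' h => red p hp U W a b ha ha' hb hb' h)

end Cfsg.Agent.Lib.helper95.AP
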