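import Mathlib

/-!
# Groups of order 2520 acting faithfully on an elementary abelian group of order 16

A group of order `2520` acting faithfully (by automorphisms) on an elementary abelian
`2`-group `V` of order `16` is `2`-transitive on the `15` nonzero elements of `V`.
-/

set_option autoImplicit false

namespace Cfsg.Agent.Lib.helper61.Act16

open MulAction

/-- Fixed point congruence for a self-map of prime order on an invariant subset. -/
theorem ncard_modEq_fixed {α : Type*} [Finite α] (p : ℕ) [Fact p.Prime] (f : α → α) (S : Set α)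
    (hS : ∀ x ∈ S, f x ∈ S) (hf : ∀ x ∈ S, f^[p] x = x) :
    S.ncard ≡ {x ∈ S | f x = x}.ncard [MOD p] := by
  classical
  let _inst : Fintype α := Fintype.ofFinite α
  let f' : Function.End ↥S := fun x => ⟨f x.1, hS x.1 x.2⟩
  have hpow : ∀ n : ℕ, ∀ x : ↥S, ((f' ^ n) x : α) = f^[n] x.1 := by
    intro n
    induction n with
    | zero => intro x; rfl
    | succ n ih =>
      intro x
      rw [pow_succ, Function.iterate_succ_apply]
      exact ih (f' x)
  have h1 : f' ^ p ^ 1 = 1 := by
    rw [pow_one]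
    funext x
    apply Subtype.ext
    rw [hpow]
    exact hf x.1 x.2
  have h2 := Equiv.Perm.card_fixedPoints_modEq (f := f') (p := p) (n := 1) h1
  rw [← Nat.card_eq_fintype_card, ← Nat.card_eq_fintype_card, Nat.card_coe_set_eq,
    Nat.card_coe_set_eq] at h2
  have h3 : Subtype.val '' Function.fixedPoints f' = {x ∈ S | f x = x} := by
    ext x
    constructor
    · rintro ⟨⟨y, hy⟩, hfix, rfl⟩
      exact ⟨hy, congrArg Subtype.val hfix⟩
    · rintro ⟨hx, hfx⟩
      exact ⟨⟨x, hx⟩, Subtype.ext hfx, rfl⟩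
  rw [← h3, Set.ncard_image_of_injective _ Subtype.val_injective]
  exact h2

section Ext

variable {V : Type*} [AddCommGroup V]

/-- In an elementary abelian 2-group: the subgroup generated by `K` and `x`. -/
def ext2 (h2 : ∀ x : V, x + x = 0) (K : AddSubgroup V) (x : V) : AddSubgroup V where
  carrier := {y | y ∈ K ∨ y + x ∈ K}
  zero_mem' := Or.inl K.zero_mem
  add_mem' := by
    rintro a b (ha | ha) (hb | hb)
    · exact Or.inl (K.add_mem ha hb)
    · right
      have := K.add_mem ha hb
      rwa [← add_assoc] at this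
    · right
      have := K.add_mem ha hb
      rwa [add_right_comm] at this
    · left
      have := K.add_mem ha hb
      have e : a + x + (b + x) = a + b := by
        calc a + x + (b + x) = a + b + (x + x) := by abel
          _ = a + b := by rw [h2, add_zero]
      rwa [e] at this
  neg_mem' := by
    intro a ha
    have : -a = a := neg_eq_of_add_eq_zero_right (h2 a)
    rw [this]
    exact ha

variable (h2 : ∀ x : V, x + x = 0)

theorem mem_ext2 {K : AddSubgroup V} {x y : V} : y ∈ ext2 h2 K x ↔ y ∈ K ∨ y + x ∈ K := Iff.rfl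

theorem le_ext2 (K : AddSubgroup V) (x : V) : K ≤ ext2 h2 K x := fun _ hy => Or.inl hy

theorem self_mem_ext2 (K : AddSubgroup V) (x : V) : x ∈ ext2 h2 K x :=
  Or.inr (by rw [h2]; exact K.zero_mem)

theorem ext2_le {K M : AddSubgroup V} {x : V} (hK : K ≤ M) (hx : x ∈ M) : ext2 h2 K x ≤ M := by
  rintro y (hy | hy)
  · exact hK hy
  · exact (AddSubgroup.add_mem_cancel_right M hx).mp (hK hy)

theorem card_ext2_ge [Finite V] {K : AddSubgroup V} {x : V} (hx : x ∉ K) :
    2 * Nat.card K ≤ Nat.card (ext2 h2 K x) := by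
  have hle := le_ext2 h2 K x
  obtain ⟨m, hm⟩ := AddSubgroup.card_dvd_of_le hle
  have hpos : 0 < Nat.card (ext2 h2 K x) := Nat.card_pos
  have hKpos : 0 < Nat.card K := Nat.card_pos
  have hm1 : m ≠ 1 := by
    rintro rfl
    have : K = ext2 h2 K x := AddSubgroup.eq_of_le_of_card_ge hle (by omega)
    exact hx (this ▸ self_mem_ext2 h2 K x)
  have hm0 : m ≠ 0 := by
    rintro rfl
    omega
  rw [hm]
  nlinarith [show 2 ≤ m by omega]

theorem card_ext2_le [Finite V] (K : AddSubgroup V) (x : V) :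
    Nat.card (ext2 h2 K x) ≤ 2 * Nat.card K := by
  have hsub : (ext2 h2 K x : Set V) ⊆ (K : Set V) ∪ (fun y => y + x) '' (K : Set V) := by
    rintro y (hy | hy)
    · exact Or.inl hy
    · right
      refine ⟨y + x, hy, ?_⟩
      show y + x + x = y
      rw [add_assoc, h2, add_zero]
  have e1 : Nat.card (ext2 h2 K x) = (ext2 h2 K x : Set V).ncard := Nat.card_coe_set_eq _
  have e2 : Nat.card K = (K : Set V).ncard := Nat.card_coe_set_eq _
  rw [e1, e2]
  calc (ext2 h2 K x : Set V).ncard ≤ ((K : Set V) ∪ (fun y => y + x) '' (K : Set V)).ncard :=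
        Set.ncard_le_ncard hsub (Set.toFinite _)
    _ ≤ (K : Set V).ncard + ((fun y => y + x) '' (K : Set V)).ncard := Set.ncard_union_le _ _
    _ ≤ (K : Set V).ncard + (K : Set V).ncard := by
        have := Set.ncard_image_le (f := fun y => y + x) (s := (K : Set V)) (Set.toFinite _)
        omega
    _ = 2 * (K : Set V).ncard := by ring

end Ext

section Fix

variable {V : Type*} [AddCommGroup V] {H : Type*} [Group H] [DistribMulAction H V]

/-- The subgroup of fixed vectors of `g`. -/
def fixG (g : H) : AddSubgroup V where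
  carrier := {x | g • x = x}
  zero_mem' := smul_zero g
  add_mem' := by
    intro a b ha hb
    have ha' : g • a = a := ha
    have hb' : g • b = b := hb
    show g • (a + b) = a + b
    rw [smul_add, ha', hb']
  neg_mem' := by
    intro a ha
    have ha' : g • a = a := ha
    show g • (-a) = -a
    rw [smul_neg, ha']

theorem mem_fixG {g : H} {x : V} : x ∈ fixG g ↔ g • x = x := Iff.rfl

variable [Fintype V] [FaithfulSMul H V]

omit [FaithfulSMul H V] in
theorem card_fix_dvd (hV : Fintype.card V = 16) (g : H) : Nat.card (fixG (V := V) g) ∣ 16 := by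
  have := AddSubgroup.card_addSubgroup_dvd_card (fixG (V := V) g)
  rwa [Nat.card_eq_fintype_card (α := V), hV] at this

theorem eq_one_of_card_fix (hV : Fintype.card V = 16) (g : H)
    (h : 16 ≤ Nat.card (fixG (V := V) g)) : g = 1 := by
  have hd := card_fix_dvd hV g
  have h16 : Nat.card (fixG (V := V) g) = 16 := le_antisymm (Nat.le_of_dvd (by norm_num) hd) h
  have htop : fixG (V := V) g = ⊤ := by
    apply AddSubgroup.eq_top_of_card_eq
    rw [h16, Nat.card_eq_fintype_card, hV]
  apply FaithfulSMul.eq_of_smul_eq_smul (α := V)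
  intro x
  have hx : x ∈ fixG (V := V) g := htop ▸ AddSubgroup.mem_top x
  rw [one_smul]
  exact hx

omit [FaithfulSMul H V] in
theorem card_fix_modEq (hV : Fintype.card V = 16) (p : ℕ) [Fact p.Prime] (g : H)
    (hg : g ^ p = 1) : 16 ≡ Nat.card (fixG (V := V) g) [MOD p] := by
  have h := ncard_modEq_fixed p (fun x : V => g • x) Set.univ (fun x _ => Set.mem_univ _)
    (fun x _ => by rw [smul_iterate, hg]; exact one_smul _ x)
  rw [Set.ncard_univ, Nat.card_eq_fintype_card, hV] at h
  have e : {x ∈ (Set.univ : Set V) | g • x = x} = (fixG (V := V) g : Set V) := by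
    ext x
    simp [fixG]
  rw [e] at h
  have e1 : Nat.card (fixG (V := V) g) = (fixG (V := V) g : Set V).ncard := Nat.card_coe_set_eq _
  rw [e1]
  exact h

theorem fix5 (hV : Fintype.card V = 16) (g : H) (hg : orderOf g = 5) (x : V) (hx : g • x = x) :
    x = 0 := by
  have : Fact (Nat.Prime 5) := ⟨by norm_num⟩
  have hd := card_fix_dvd (V := V) hV g
  have hm := card_fix_modEq (V := V) hV 5 g (by rw [← hg]; exact pow_orderOf_eq_one g)
  have hlt : Nat.card (fixG (V := V) g) < 16 := by
    by_contra hcon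
    have := eq_one_of_card_fix hV g (not_lt.mp hcon)
    rw [this, orderOf_one] at hg
    omega
  have h1 : Nat.card (fixG (V := V) g) = 1 := by
    generalize Nat.card (fixG (V := V) g) = n at *
    unfold Nat.ModEq at hm
    interval_cases n <;> omega
  have hbot : fixG (V := V) g = ⊥ := AddSubgroup.eq_bot_of_card_eq _ h1
  have hx' : x ∈ fixG (V := V) g := hx
  rw [hbot] at hx'
  exact (AddSubgroup.mem_bot).mp hx'

theorem fix7 (hV : Fintype.card V = 16) (g : H) (hg : orderOf g = 7) :
    Nat.card (fixG (V := V) g) = 2 := by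
  have : Fact (Nat.Prime 7) := ⟨by norm_num⟩
  have hd := card_fix_dvd (V := V) hV g
  have hm := card_fix_modEq (V := V) hV 7 g (by rw [← hg]; exact pow_orderOf_eq_one g)
  have hlt : Nat.card (fixG (V := V) g) < 16 := by
    by_contra hcon
    have := eq_one_of_card_fix hV g (not_lt.mp hcon)
    rw [this, orderOf_one] at hg
    omega
  generalize Nat.card (fixG (V := V) g) = n at *
  unfold Nat.ModEq at hm
  interval_cases n <;> omega

theorem fix7_unique (hV : Fintype.card V = 16) (h2 : ∀ x : V, x + x = 0) (g : H)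
    (hg : orderOf g = 7) {a b : V} (ha : g • a = a) (hb : g • b = b) (ha0 : a ≠ 0) (hb0 : b ≠ 0) :
    a = b := by
  by_contra hab
  have h7 := fix7 (V := V) hV g hg
  have ha1 : a ∉ (⊥ : AddSubgroup V) := fun h => ha0 (AddSubgroup.mem_bot.mp h)
  have c1 := card_ext2_ge h2 ha1
  rw [AddSubgroup.card_bot] at c1
  have hb1 : b ∉ ext2 h2 ⊥ a := by
    rintro (h | h)
    · exact hb0 (AddSubgroup.mem_bot.mp h)
    · have h' : b + a = 0 := AddSubgroup.mem_bot.mp h
      apply hab
      have : a = -b := eq_neg_of_add_eq_zero_right h'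
      rw [this, neg_eq_of_add_eq_zero_right (h2 b)]
  have c2 := card_ext2_ge h2 hb1
  have hle : ext2 h2 (ext2 h2 ⊥ a) b ≤ fixG (V := V) g :=
    ext2_le h2 (ext2_le h2 bot_le ha) hb
  have c3 := AddSubgroup.card_le_of_le hle
  omega

end Fix

section Sets

variable {V : Type*} [AddCommGroup V] [Fintype V]

theorem ncard_ne_zero_set (hV : Fintype.card V = 16) : {y : V | y ≠ 0}.ncard = 15 := by
  have h := Set.ncard_add_ncard_compl ({0} : Set V)
  rw [Set.ncard_singleton, Nat.card_eq_fintype_card, hV] at h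
  have e : {y : V | y ≠ 0} = ({0} : Set V)ᶜ := by
    ext y
    simp
  rw [e]
  omega

theorem ncard_ne_pair (hV : Fintype.card V = 16) {c : V} (hc : c ≠ 0) :
    {y : V | y ≠ 0 ∧ y ≠ c}.ncard = 14 := by
  have h := Set.ncard_add_ncard_compl ({0, c} : Set V)
  rw [Set.ncard_pair hc.symm, Nat.card_eq_fintype_card, hV] at h
  have e : {y : V | y ≠ 0 ∧ y ≠ c} = ({0, c} : Set V)ᶜ := by
    ext y
    simp
  rw [e]
  omega

omit [Fintype V] in
theorem eq_of_add_eq_zero (h2 : ∀ x : V, x + x = 0) {a b : V} (h : a + b = 0) : a = b := by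
  have : a = -b := eq_neg_of_add_eq_zero_left h
  rw [this, neg_eq_of_add_eq_zero_right (h2 b)]

omit [Fintype V] in
theorem swap_eq (h2 : ∀ x : V, x + x = 0) {a b c d : V} (h : a + b = c + d) : a + c = b + d := by
  have e1 : a + c = (a + b) + c + b - (b + b) := by abel
  rw [e1, h, h2]
  have e2 : c + d + c + b - 0 = (c + c) + (b + d) := by abel
  rw [e2, h2, zero_add]

end Sets

section Main

variable {V : Type*} [AddCommGroup V] [Fintype V] {H : Type*} [Group H] [DistribMulAction H V]
  [Finite H] [FaithfulSMul H V]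

omit [Fintype V] [Finite H] [FaithfulSMul H V] in
theorem orbit_sub {x : V} (hx : x ≠ 0) : orbit H x ⊆ {y : V | y ≠ 0} := by
  rintro y ⟨g, rfl⟩
  show g • x ≠ 0
  rwa [Ne, smul_eq_zero_iff_eq]

theorem orbit_ncard (hV : Fintype.card V = 16) (h2 : ∀ x : V, x + x = 0)
    (hH : Nat.card H = 2520) {x : V} (hx : x ≠ 0) : (orbit H x).ncard = 15 := by
  have hsub : orbit H x ⊆ {y : V | y ≠ 0} := orbit_sub hx
  have hle : (orbit H x).ncard ≤ 15 := by
    rw [← ncard_ne_zero_set hV]
    exact Set.ncard_le_ncard hsub (Set.toFinite _)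
  have hmul : Nat.card (stabilizer H x) * (stabilizer H x).index = Nat.card H :=
    Subgroup.card_mul_index _
  rw [index_stabilizer, hH] at hmul
  have hk0 : (orbit H x).ncard ≠ 0 := by
    intro h
    rw [h] at hmul
    omega
  have h5 : ¬ 5 ∣ Nat.card (stabilizer H x) := by
    intro hdvd
    have : Fact (Nat.Prime 5) := ⟨by norm_num⟩
    obtain ⟨t, ht⟩ := exists_prime_orderOf_dvd_card' 5 hdvd
    have ht' : orderOf (t : H) = 5 := by
      rw [Subgroup.orderOf_coe]
      exact ht
    exact hx (fix5 hV (t : H) ht' x (mem_stabilizer_iff.mp t.2))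
  have h5k : 5 ∣ (orbit H x).ncard := by
    have : 5 ∣ Nat.card (stabilizer H x) * (orbit H x).ncard := by
      rw [hmul]
      norm_num
    exact ((Nat.Prime.dvd_mul (by norm_num)).mp this).resolve_left h5
  by_contra hne
  have h7 : 7 ∣ Nat.card (stabilizer H x) := by
    have : 7 ∣ Nat.card (stabilizer H x) * (orbit H x).ncard := by
      rw [hmul]
      norm_num
    refine ((Nat.Prime.dvd_mul (by norm_num)).mp this).resolve_right ?_
    intro h7
    omega
  have : Fact (Nat.Prime 7) := ⟨by norm_num⟩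
  obtain ⟨t, ht⟩ := exists_prime_orderOf_dvd_card' 7 h7
  have ht' : orderOf (t : H) = 7 := by
    rw [Subgroup.orderOf_coe]
    exact ht
  have htx : (t : H) • x = x := mem_stabilizer_iff.mp t.2
  have hmod := ncard_modEq_fixed 7 (fun y : V => (t : H) • y) (orbit H x)
    (fun y hy => by
      obtain ⟨g, rfl⟩ := hy
      exact ⟨(t : H) * g, mul_smul _ _ _⟩)
    (fun y _ => by
      rw [smul_iterate, ← ht', pow_orderOf_eq_one]
      exact one_smul _ y)
  have e : {y ∈ orbit H x | (t : H) • y = y} = {x} := by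
    ext y
    constructor
    · rintro ⟨hy, hty⟩
      have hy0 : y ≠ 0 := hsub hy
      exact fix7_unique hV h2 (t : H) ht' hty htx hy0 hx
    · intro hy
      have hy' : y = x := hy
      rw [hy']
      exact ⟨mem_orbit_self _, htx⟩
  rw [e, Set.ncard_singleton] at hmod
  unfold Nat.ModEq at hmod
  omega

theorem trans1 (hV : Fintype.card V = 16) (h2 : ∀ x : V, x + x = 0)
    (hH : Nat.card H = 2520) {x y : V} (hx : x ≠ 0) (hy : y ≠ 0) : ∃ g : H, g • x = y := by
  have hsub : orbit H x ⊆ {y : V | y ≠ 0} := orbit_sub hx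
  have heq : orbit H x = {y : V | y ≠ 0} :=
    Set.eq_of_subset_of_ncard_le hsub
      (by rw [orbit_ncard hV h2 hH hx, ncard_ne_zero_set hV]) (Set.toFinite _)
  have hmem : y ∈ orbit H x := by
    rw [heq]
    exact hy
  exact hmem

theorem card_stab (hV : Fintype.card V = 16) (h2 : ∀ x : V, x + x = 0)
    (hH : Nat.card H = 2520) {c : V} (hc : c ≠ 0) : Nat.card (stabilizer H c) = 168 := by
  have hmul := Subgroup.card_mul_index (stabilizer H c)
  rw [index_stabilizer, orbit_ncard hV h2 hH hc, hH] at hmul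
  omega

omit [Fintype V] [Finite H] [FaithfulSMul H V] in
theorem orbit_stab_sub {c x : V} (hx0 : x ≠ 0) (hxc : x ≠ c) :
    orbit (stabilizer H c) x ⊆ {y : V | y ≠ 0 ∧ y ≠ c} := by
  rintro y ⟨s, rfl⟩
  have hs : (s : H) • c = c := mem_stabilizer_iff.mp s.2
  refine ⟨?_, ?_⟩
  · show (s : H) • x ≠ 0
    rwa [Ne, smul_eq_zero_iff_eq]
  · show (s : H) • x ≠ c
    intro h
    exact hxc (smul_left_cancel (s : H) (h.trans hs.symm))

theorem orbit_stab_ncard (hV : Fintype.card V = 16) (h2 : ∀ x : V, x + x = 0)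
    (hH : Nat.card H = 2520) {c x : V} (hc : c ≠ 0) (hx0 : x ≠ 0) (hxc : x ≠ c) :
    (orbit (stabilizer H c) x).ncard = 7 ∨ (orbit (stabilizer H c) x).ncard = 14 := by
  have hle : (orbit (stabilizer H c) x).ncard ≤ 14 := by
    rw [← ncard_ne_pair hV hc]
    exact Set.ncard_le_ncard (orbit_stab_sub hx0 hxc) (Set.toFinite _)
  have hmul := Subgroup.card_mul_index (stabilizer (stabilizer H c) x)
  rw [index_stabilizer, card_stab hV h2 hH hc] at hmul
  have h7 : ¬ 7 ∣ Nat.card (stabilizer (stabilizer H c) x) := by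
    intro hdvd
    have : Fact (Nat.Prime 7) := ⟨by norm_num⟩
    obtain ⟨t, ht⟩ := exists_prime_orderOf_dvd_card' 7 hdvd
    have ht' : orderOf ((t : stabilizer H c) : H) = 7 := by
      rw [Subgroup.orderOf_coe, Subgroup.orderOf_coe]
      exact ht
    have htc : ((t : stabilizer H c) : H) • c = c :=
      mem_stabilizer_iff.mp (t : stabilizer H c).2
    have htx : ((t : stabilizer H c) : H) • x = x := mem_stabilizer_iff.mp t.2
    exact hxc (fix7_unique hV h2 _ ht' htx htc hx0 hc)
  have h7k : 7 ∣ (orbit (stabilizer H c) x).ncard := by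
    have : 7 ∣ Nat.card (stabilizer (stabilizer H c) x) * (orbit (stabilizer H c) x).ncard := by
      rw [hmul]
      norm_num
    exact ((Nat.Prime.dvd_mul (by norm_num)).mp this).resolve_left h7
  have hk0 : (orbit (stabilizer H c) x).ncard ≠ 0 := by
    intro h
    rw [h] at hmul
    omega
  omega

/-- `P H c`: the stabilizer of `c` is transitive on the vectors other than `0` and `c`. -/
def P (H : Type*) [Group H] [DistribMulAction H V] (c : V) : Prop :=
  ∀ x y : V, x ≠ 0 → x ≠ c → y ≠ 0 → y ≠ c → ∃ s : H, s • c = c ∧ s • x = y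

omit [Finite H] [FaithfulSMul H V] in
theorem P_of_14 (hV : Fintype.card V = 16) {c x : V} (hc : c ≠ 0) (hx0 : x ≠ 0) (hxc : x ≠ c)
    (h14 : (orbit (stabilizer H c) x).ncard = 14) : P H c := by
  have heq : orbit (stabilizer H c) x = {y : V | y ≠ 0 ∧ y ≠ c} :=
    Set.eq_of_subset_of_ncard_le (orbit_stab_sub hx0 hxc)
      (by rw [h14, ncard_ne_pair hV hc]) (Set.toFinite _)
  intro x' y' hx'0 hx'c hy'0 hy'c
  have h1 : x' ∈ orbit (stabilizer H c) x := by
    rw [heq]
    exact ⟨hx'0, hx'c⟩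
  have h2 : y' ∈ orbit (stabilizer H c) x := by
    rw [heq]
    exact ⟨hy'0, hy'c⟩
  obtain ⟨a, ha⟩ := h1
  obtain ⟨b, hb⟩ := h2
  have ha' : (a : H) • x = x' := ha
  have hb' : (b : H) • x = y' := hb
  have hac : (a : H) • c = c := mem_stabilizer_iff.mp a.2
  have hbc : (b : H) • c = c := mem_stabilizer_iff.mp b.2
  refine ⟨(b : H) * (a : H)⁻¹, ?_, ?_⟩
  · rw [mul_smul, inv_smul_eq_iff.mpr hac.symm, hbc]
  · rw [mul_smul, ← ha', inv_smul_smul, hb']

theorem two_trans_of_P (hV : Fintype.card V = 16) (h2 : ∀ x : V, x + x = 0)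
    (hH : Nat.card H = 2520) {c : V} (hc : c ≠ 0) (hP : P H c) (v w v' w' : V)
    (hv : v ≠ 0) (hw : w ≠ 0) (hvw : v ≠ w) (hv' : v' ≠ 0) (hw' : w' ≠ 0) (hvw' : v' ≠ w') :
    ∃ g : H, g • v = v' ∧ g • w = w' := by
  obtain ⟨a, ha⟩ := trans1 (H := H) hV h2 hH hv hc
  obtain ⟨b, hb⟩ := trans1 (H := H) hV h2 hH hv' hc
  have h1 : a • w ≠ 0 := by rwa [Ne, smul_eq_zero_iff_eq]
  have h2' : a • w ≠ c := by
    rw [← ha]
    intro h
    exact hvw (smul_left_cancel a h).symm
  have h3 : b • w' ≠ 0 := by rwa [Ne, smul_eq_zero_iff_eq]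
  have h4 : b • w' ≠ c := by
    rw [← hb]
    intro h
    exact hvw' (smul_left_cancel b h).symm
  obtain ⟨s, hsc, hs⟩ := hP (a • w) (b • w') h1 h2' h3 h4
  refine ⟨b⁻¹ * s * a, ?_, ?_⟩
  · rw [mul_smul, mul_smul, ha, hsc, inv_smul_eq_iff, hb]
  · rw [mul_smul, mul_smul, hs, inv_smul_smul]

theorem no_shift (hV : Fintype.card V = 16) (h2 : ∀ x : V, x + x = 0)
    (hH : Nat.card H = 2520) {c : V} (hc : c ≠ 0) (hP : ¬ P H c) (s : H) (hsc : s • c = c)
    (x : V) (hx0 : x ≠ 0) (hxc : x ≠ c) : s • x ≠ x + c := by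
  intro hsx
  apply hP
  apply P_of_14 hV hc hx0 hxc
  rcases orbit_stab_ncard hV h2 hH hc hx0 hxc with h7 | h14
  · exfalso
    have : Fact (Nat.Prime 2) := ⟨by norm_num⟩
    have hmod := ncard_modEq_fixed 2 (fun y : V => y + c) (orbit (stabilizer H c) x)
      (fun y hy => by
        obtain ⟨a, rfl⟩ := hy
        have hac : (a : H) • c = c := mem_stabilizer_iff.mp a.2
        refine ⟨a * ⟨s, mem_stabilizer_iff.mpr hsc⟩, ?_⟩
        show ((a : H) * s) • x = (a : H) • x + c
        rw [mul_smul, hsx, smul_add, hac])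
      (fun y _ => by
        show y + c + c = y
        rw [add_assoc, h2, add_zero])
    have e : {y ∈ orbit (stabilizer H c) x | y + c = y} = ∅ := by
      ext y
      simp only [Set.mem_ofPred_eq, Set.mem_empty_iff_false, iff_false, not_and]
      intro _ h
      exact hc (add_eq_left.mp h)
    rw [e, Set.ncard_empty, h7] at hmod
    unfold Nat.ModEq at hmod
    omega
  · exact h14

theorem main_contra (hV : Fintype.card V = 16) (h2 : ∀ x : V, x + x = 0)
    (hH : Nat.card H = 2520) (hnP : ∀ c : V, c ≠ 0 → ¬ P H c) {v u : V} (hv : v ≠ 0)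
    (hu : u ≠ 0) (hvu : v ≠ u) : False := by
  have hu1 : u ∉ (⊥ : AddSubgroup V) := fun h => hu (AddSubgroup.mem_bot.mp h)
  have hv1 : v ∉ ext2 h2 ⊥ u := by
    rintro (h | h)
    · exact hv (AddSubgroup.mem_bot.mp h)
    · exact hvu (eq_of_add_eq_zero h2 (AddSubgroup.mem_bot.mp h))
  have cE1 : 2 ≤ Nat.card (ext2 h2 ⊥ u) := by
    have := card_ext2_ge h2 hu1
    rwa [AddSubgroup.card_bot] at this
  have cE1' : Nat.card (ext2 h2 ⊥ u) ≤ 2 := by
    have := card_ext2_le h2 ⊥ u
    rwa [AddSubgroup.card_bot] at this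
  obtain ⟨E2, hE2⟩ : ∃ E2 : AddSubgroup V, E2 = ext2 h2 (ext2 h2 ⊥ u) v := ⟨_, rfl⟩
  have cE2 : 4 ≤ Nat.card E2 := by
    have := card_ext2_ge h2 hv1
    rw [hE2]
    omega
  have cE2' : Nat.card E2 ≤ 4 := by
    have := card_ext2_le h2 (ext2 h2 ⊥ u) v
    rw [hE2]
    omega
  have huE2 : u ∈ E2 := by
    rw [hE2]
    exact le_ext2 h2 _ v (self_mem_ext2 h2 ⊥ u)
  have hvE2 : v ∈ E2 := by
    rw [hE2]
    exact self_mem_ext2 h2 _ v
  have hE2mem : ∀ y : V, y ∈ E2 → y = 0 ∨ y = u ∨ y = v ∨ y = u + v := by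
    intro y hy
    rw [hE2] at hy
    rcases hy with (h | h) | (h | h)
    · exact Or.inl (AddSubgroup.mem_bot.mp h)
    · exact Or.inr (Or.inl (eq_of_add_eq_zero h2 (AddSubgroup.mem_bot.mp h)))
    · exact Or.inr (Or.inr (Or.inl (eq_of_add_eq_zero h2 (AddSubgroup.mem_bot.mp h))))
    · refine Or.inr (Or.inr (Or.inr (eq_of_add_eq_zero h2 ?_)))
      have h' : y + v + u = 0 := AddSubgroup.mem_bot.mp h
      rw [← h']
      abel
  have hE2le : ∀ r : H, r • u = u → r • v = v → E2 ≤ fixG (V := V) r := by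
    intro r hru hrv
    rw [hE2]
    exact ext2_le h2 (ext2_le h2 bot_le hru) hrv
  obtain ⟨x3, hx3⟩ : ∃ x3 : V, x3 ∉ E2 := by
    by_contra hcon
    push Not at hcon
    have htop : E2 = ⊤ := (AddSubgroup.eq_top_iff' E2).mpr hcon
    have hc : Nat.card E2 = 16 := by
      rw [htop, AddSubgroup.card_top, Nat.card_eq_fintype_card, hV]
    omega
  have cE3 : 8 ≤ Nat.card (ext2 h2 E2 x3) := by
    have := card_ext2_ge h2 hx3
    omega
  have cE3' : Nat.card (ext2 h2 E2 x3) ≤ 8 := by
    have := card_ext2_le h2 E2 x3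
    omega
  obtain ⟨x4, hx4⟩ : ∃ x4 : V, x4 ∉ ext2 h2 E2 x3 := by
    by_contra hcon
    push Not at hcon
    have htop : ext2 h2 E2 x3 = ⊤ := (AddSubgroup.eq_top_iff' _).mpr hcon
    have hc : Nat.card (ext2 h2 E2 x3) = 16 := by
      rw [htop, AddSubgroup.card_top, Nat.card_eq_fintype_card, hV]
    omega
  have hx4' : x4 ∉ E2 := fun h => hx4 (le_ext2 h2 E2 x3 h)
  have cE4 : 16 ≤ Nat.card (ext2 h2 (ext2 h2 E2 x3) x4) := by
    have := card_ext2_ge h2 hx4
    omega
  have huv : u ≠ v := fun h => hvu h.symm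
  have huv0 : u + v ≠ 0 := fun h => huv (eq_of_add_eq_zero h2 h)
  -- the two-point stabilizer
  have hT : Nat.card (stabilizer (stabilizer H v) u) = 24 := by
    have hmul := Subgroup.card_mul_index (stabilizer (stabilizer H v) u)
    rw [index_stabilizer, card_stab hV h2 hH hv] at hmul
    rcases orbit_stab_ncard hV h2 hH hv hu huv with h7 | h14
    · rw [h7] at hmul
      omega
    · exact absurd (P_of_14 hV hv hu huv h14) (hnP v hv)
  obtain ⟨σ, hσ⟩ : ∃ σ : stabilizer (stabilizer H v) u → H,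
      σ = fun t : stabilizer (stabilizer H v) u => ((t : stabilizer H v) : H) := ⟨_, rfl⟩
  have σmul : ∀ t t' : stabilizer (stabilizer H v) u, σ (t'⁻¹ * t) = (σ t')⁻¹ * σ t := by
    intro t t'
    rw [hσ]
    rfl
  have σinj : Function.Injective σ := by
    intro t t' h
    rw [hσ] at h
    exact Subtype.ext (Subtype.ext h)
  have fixv : ∀ t, σ t • v = v := by
    intro t
    rw [hσ]
    exact mem_stabilizer_iff.mp (t : stabilizer H v).2
  have fixu : ∀ t, σ t • u = u := by
    intro t
    rw [hσ]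
    exact mem_stabilizer_iff.mp t.2
  have key : ∀ t, ∀ x : V, x ∉ E2 → σ t • x + x ∈ E2 → σ t • x = x := by
    intro t x hx hmem
    have hx0 : x ≠ 0 := fun h => hx (h ▸ E2.zero_mem)
    have hxu : x ≠ u := fun h => hx (h ▸ huE2)
    have hxv : x ≠ v := fun h => hx (h ▸ hvE2)
    have hxuv : x ≠ u + v := fun h => hx (h ▸ E2.add_mem huE2 hvE2)
    rcases hE2mem _ hmem with h | h | h | h
    · exact eq_of_add_eq_zero h2 h
    · exfalso
      have h' : σ t • x = x + u := by
        have e : σ t • x = (σ t • x + x) + x := by rw [add_assoc, h2, add_zero]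
        rw [e, h, add_comm]
      exact no_shift hV h2 hH hu (hnP u hu) (σ t) (fixu t) x hx0 hxu h'
    · exfalso
      have h' : σ t • x = x + v := by
        have e : σ t • x = (σ t • x + x) + x := by rw [add_assoc, h2, add_zero]
        rw [e, h, add_comm]
      exact no_shift hV h2 hH hv (hnP v hv) (σ t) (fixv t) x hx0 hxv h'
    · exfalso
      have h' : σ t • x = x + (u + v) := by
        have e : σ t • x = (σ t • x + x) + x := by rw [add_assoc, h2, add_zero]
        rw [e, h, add_comm]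
      have hsuv : σ t • (u + v) = u + v := by rw [smul_add, fixu t, fixv t]
      exact no_shift hV h2 hH huv0 (hnP _ huv0) (σ t) hsuv x hx0 hxuv h'
  have hA : ∀ x : V, x ∉ E2 → (Set.range (fun t => σ t • x)).ncard ≤ 4 := by
    intro x hx
    have hinj : Set.InjOn (fun q : V × V => q.1 + q.2)
        (Set.range (fun t => σ t • x) ×ˢ (E2 : Set V)) := by
      rintro ⟨a, y⟩ ⟨ha, hy⟩ ⟨a', y'⟩ ⟨ha', hy'⟩ heq
      obtain ⟨t, rfl⟩ := ha
      obtain ⟨t', rfl⟩ := ha'
      have heq' : σ t • x + y = σ t' • x + y' := heq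
      have hy1 : y ∈ E2 := hy
      have hy1' : y' ∈ E2 := hy'
      have hsum : σ t • x + σ t' • x ∈ E2 := by
        rw [swap_eq h2 heq']
        exact E2.add_mem hy1 hy1'
      have hr : σ (t'⁻¹ * t) • x = x := by
        apply key (t'⁻¹ * t) x hx
        have e : σ (t'⁻¹ * t) • x + x = (σ t')⁻¹ • (σ t • x + σ t' • x) := by
          rw [smul_add, σmul, mul_smul, inv_smul_smul]
        rw [e]
        have hfix : (σ t')⁻¹ • (σ t • x + σ t' • x) = σ t • x + σ t' • x := by
          have hle := hE2le (σ t')⁻¹ (inv_smul_eq_iff.mpr (fixu t').symm)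
            (inv_smul_eq_iff.mpr (fixv t').symm)
          exact hle hsum
        rw [hfix]
        exact hsum
      have haa : σ t • x = σ t' • x := by
        rw [σmul, mul_smul, inv_smul_eq_iff] at hr
        exact hr
      have hyy : y = y' := by
        rw [haa] at heq'
        exact add_left_cancel heq'
      exact Prod.ext haa hyy
    have hcard : (Set.range (fun t => σ t • x) ×ˢ (E2 : Set V)).ncard
        ≤ (Set.univ : Set V).ncard :=
      Set.ncard_le_ncard_of_injOn (fun q : V × V => q.1 + q.2) (fun _ _ => Set.mem_univ _) hinj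
        (Set.toFinite _)
    rw [Set.ncard_prod, Set.ncard_univ, Nat.card_eq_fintype_card, hV] at hcard
    have e2 : Nat.card E2 = (E2 : Set V).ncard := Nat.card_coe_set_eq _
    rw [← e2] at hcard
    nlinarith
  have hinj : Function.Injective (fun t => (σ t • x3, σ t • x4)) := by
    intro t t' heq
    have h3 : σ t • x3 = σ t' • x3 := congrArg Prod.fst heq
    have h4 : σ t • x4 = σ t' • x4 := congrArg Prod.snd heq
    have r3 : ((σ t')⁻¹ * σ t) • x3 = x3 := by rw [mul_smul, h3, inv_smul_smul]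
    have r4 : ((σ t')⁻¹ * σ t) • x4 = x4 := by rw [mul_smul, h4, inv_smul_smul]
    have ru : ((σ t')⁻¹ * σ t) • u = u := by rw [mul_smul, fixu t, inv_smul_eq_iff, fixu t']
    have rv : ((σ t')⁻¹ * σ t) • v = v := by rw [mul_smul, fixv t, inv_smul_eq_iff, fixv t']
    have hle : ext2 h2 (ext2 h2 E2 x3) x4 ≤ fixG (V := V) ((σ t')⁻¹ * σ t) :=
      ext2_le h2 (ext2_le h2 (hE2le _ ru rv) r3) r4
    have hr1 : (σ t')⁻¹ * σ t = 1 :=
      eq_one_of_card_fix hV _ (le_trans cE4 (AddSubgroup.card_le_of_le hle))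
    rw [inv_mul_eq_one] at hr1
    exact σinj hr1.symm
  have hcount : Nat.card (stabilizer (stabilizer H v) u)
      ≤ (Set.range (fun t => σ t • x3) ×ˢ Set.range (fun t => σ t • x4)).ncard := by
    have := Set.ncard_le_ncard_of_injOn
      (s := (Set.univ : Set (stabilizer (stabilizer H v) u)))
      (fun t => (σ t • x3, σ t • x4))
      (t := Set.range (fun t => σ t • x3) ×ˢ Set.range (fun t => σ t • x4))
      (fun t _ => ⟨⟨t, rfl⟩, ⟨t, rfl⟩⟩) hinj.injOn (Set.toFinite _)
    rwa [Set.ncard_univ] at this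
  rw [Set.ncard_prod, hT] at hcount
  have a3 := hA x3 hx3
  have a4 := hA x4 hx4'
  nlinarith

/-- A group of order `2520` acting faithfully on an elementary abelian group of order `16`
is `2`-transitive on the nonzero vectors. -/
theorem two_transitive (hV : Fintype.card V = 16) (h2 : ∀ x : V, x + x = 0)
    (hH : Nat.card H = 2520) (v w v' w' : V)
    (hv : v ≠ 0) (hw : w ≠ 0) (hvw : v ≠ w) (hv' : v' ≠ 0) (hw' : w' ≠ 0) (hvw' : v' ≠ w') :
    ∃ g : H, g • v = v' ∧ g • w = w' := by
  by_cases hex : ∃ c : V, c ≠ 0 ∧ P H c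
  · obtain ⟨c, hc, hP⟩ := hex
    exact two_trans_of_P hV h2 hH hc hP v w v' w' hv hw hvw hv' hw' hvw'
  · exfalso
    push Not at hex
    exact main_contra hV h2 hH hex hv hw hvw

end Main

end Cfsg.Agent.Lib.helper61.Act16
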