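import Mathlib
import Cfsg.Prelude.Def_Characters
import Cfsg.Prelude.Def_Blocks

/-! Piece R01 of the S4504 R sub-split (helper84). -/

set_option autoImplicit false

open Cfsg

namespace Cfsg.Agent.Lib.helper2.BG

universe u

theorem helper61_r01_card_sylow {K : Type u} [Group K] [Finite K] (p : ℕ) [Fact p.Prime]
    (hdiv : p ∣ Nat.card K) (hsq : ¬ p ^ 2 ∣ Nat.card K) (Q : Sylow p K) :
    Nat.card Q = p := by
  have hp : p.Prime := Fact.out
  have hne : Nat.card K ≠ 0 := Nat.card_pos.ne'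
  have h1 : 1 ≤ (Nat.card K).factorization p :=
    (hp.dvd_iff_one_le_factorization hne).mp hdiv
  have h2 : ¬ 2 ≤ (Nat.card K).factorization p := fun h =>
    hsq ((hp.pow_dvd_iff_le_factorization hne).mpr h)
  have h3 : (Nat.card K).factorization p = 1 := by omega
  rw [Sylow.card_eq_multiplicity, h3, pow_one]

/-- endomorphisms of a one-dimensional coordinate space are scalars -/
theorem helper61_r01_end_one (f : Module.End ℂ (Fin 1 → ℂ)) (v : Fin 1 → ℂ) :
    f v = (f (fun _ => 1) 0) • v := by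
  have hv : v = (v 0) • (fun _ : Fin 1 => (1 : ℂ)) := by
    ext i
    fin_cases i
    simp
  conv_lhs => rw [hv]
  rw [map_smul]
  ext i
  fin_cases i
  simp [mul_comm]

theorem helper61_r01_end_comm (f g : Module.End ℂ (Fin 1 → ℂ)) : f * g = g * f := by
  refine LinearMap.ext fun v => ?_
  rw [Module.End.mul_apply, Module.End.mul_apply, helper61_r01_end_one f (g v), helper61_r01_end_one g v,
    helper61_r01_end_one g (f v), helper61_r01_end_one f v, smul_comm]

/-- R1 (V0): `p ≥ 5`. -/
theorem R_p_ge_five {G : Type u} [Group G] [Finite G] (p : ℕ) [Fact p.Prime]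
    (hdiv : p ∣ Nat.card G) (hsq : ¬ p ^ 2 ∣ Nat.card G)
    (hnn : ∀ H : Subgroup G, H.Normal → Nat.card H ≠ p) (χ : G → ℂ)
    (hχ : Cfsg.IsCharacter G χ) (hfaith : ∀ g : G, χ g = χ 1 → g = 1)
    (hdeg : 2 * Cfsg.charDegree χ + 1 = p) : 5 ≤ p := by
  have hp : p.Prime := Fact.out
  obtain ⟨n, ρ, hρ⟩ := hχ
  have hχ1 : χ 1 = (n : ℂ) := by
    rw [← hρ]
    simp [Representation.character]
  have hdn : Cfsg.charDegree χ = n := by
    unfold Cfsg.charDegree
    rw [hχ1]
    simp
  rw [hdn] at hdeg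
  by_contra hlt
  have hn1 : n = 1 := by
    rcases Nat.lt_or_ge n 2 with h | h
    · interval_cases n
      · exact absurd hp (by rw [← hdeg]; norm_num)
      · rfl
    · omega
  subst hn1
  -- `G` is commutative
  have hcomm : ∀ g h : G, g * h = h * g := by
    intro g h
    have h1 : ρ (g * h * g⁻¹ * h⁻¹) = 1 := by
      rw [map_mul, map_mul, map_mul, mul_assoc (ρ g), helper61_r01_end_comm (ρ h) (ρ g⁻¹),
        ← mul_assoc (ρ g), ← map_mul ρ g, mul_inv_cancel, map_one, one_mul, ← map_mul,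
        mul_inv_cancel, map_one]
    have h2 : χ (g * h * g⁻¹ * h⁻¹) = χ 1 := by
      rw [← hρ]
      simp only [Representation.character]
      rw [h1, ← map_one ρ]
    have h3 := hfaith _ h2
    calc g * h = (g * h * g⁻¹ * h⁻¹) * (h * g) := by group
      _ = h * g := by rw [h3, one_mul]
  obtain ⟨P⟩ : Nonempty (Sylow p G) := inferInstance
  have hcP := helper61_r01_card_sylow p hdiv hsq P
  refine hnn (P : Subgroup G) ⟨fun x hx g => ?_⟩ hcP
  rw [hcomm g x, mul_assoc, mul_inv_cancel, mul_one]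
  exact hx

end Cfsg.Agent.Lib.helper2.BG
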