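import Mathlib

/-! Piece R02 of the S4504 R sub-split (helper84). -/

set_option autoImplicit false

namespace Cfsg.Agent.Lib.helper2.BG

universe u

theorem helper61_r02_card_sylow {K : Type u} [Group K] [Finite K] (p : ℕ) [Fact p.Prime]
    (hdiv : p ∣ Nat.card K) (hsq : ¬ p ^ 2 ∣ Nat.card K) (Q : Sylow p K) :
    Nat.card Q = p := by
  have hp : p.Prime := Fact.out
  have hne : Nat.card K ≠ 0 := Nat.card_pos.ne'
  have h1 : 1 ≤ (Nat.card K).factorization p :=
    (hp.dvd_iff_one_le_factorization hne).mp hdiv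
  have h2 : ¬ 2 ≤ (Nat.card K).factorization p := fun h =>
    hsq ((hp.pow_dvd_iff_le_factorization hne).mpr h)
  have h3 : (Nat.card K).factorization p = 1 := by omega
  rw [Sylow.card_eq_multiplicity, h3, pow_one]

/-- R2 (generic): an element of order `p` generates a Sylow `p`-subgroup when `p² ∤ |K|`. -/
theorem R_exists_sylow {K : Type u} [Group K] [Finite K] (p : ℕ) [Fact p.Prime]
    (hsq : ¬ p ^ 2 ∣ Nat.card K) (x : K) (hx : orderOf x = p) :
    ∃ Q : Sylow p K, (Q : Subgroup K) = Subgroup.zpowers x := by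
  have hcz : Nat.card (Subgroup.zpowers x) = p := by rw [Nat.card_zpowers, hx]
  have hpg : IsPGroup p (Subgroup.zpowers x) := IsPGroup.of_card (n := 1) (by rw [hcz, pow_one])
  obtain ⟨Q, hQ⟩ := hpg.exists_le_sylow
  have hdiv : p ∣ Nat.card K := hx ▸ orderOf_dvd_natCard x
  have hcQ := helper61_r02_card_sylow p hdiv hsq Q
  refine ⟨Q, (Subgroup.eq_of_le_of_card_ge hQ ?_).symm⟩
  rw [hcz]
  exact hcQ.le

end Cfsg.Agent.Lib.helper2.BG
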