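import Mathlib
import Cfsg.Agent.S0713

/-!
Generation of alternating groups by two cycles: generic lemmas
(transitivity, primitivity, normalisation, transport along equivalences).
-/

namespace Cfsg.Agent.Lib.helper61.CycGen

open Equiv Equiv.Perm MulAction Subgroup

section generic

variable {α : Type*} [Fintype α] [DecidableEq α]

/-- If a subgroup contains a cycle `y` and every point can be moved into the support of `y`,
the subgroup is transitive. -/
theorem pretrans_of_cycle (G : Subgroup (Perm α)) {y : Perm α} (hy : y.IsCycle) (hyG : y ∈ G)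
    (h : ∀ a : α, ∃ g ∈ G, g a ∈ y.support) : MulAction.IsPretransitive G α := by
  obtain ⟨b0, hb0, hb⟩ := hy
  have key : ∀ a : α, ∃ g : G, g • a = b0 := by
    intro a
    obtain ⟨g, hg, hga⟩ := h a
    obtain ⟨i, hi⟩ := hb (mem_support.mp hga)
    refine ⟨⟨y ^ (-i) * g, G.mul_mem (G.zpow_mem hyG _) hg⟩, ?_⟩
    change (y ^ (-i) * g) a = b0
    rw [Perm.mul_apply, ← hi, ← Perm.mul_apply, ← zpow_add, neg_add_cancel, zpow_zero,
      Perm.one_apply]
  constructor
  intro a b
  obtain ⟨g, hg⟩ := key a
  obtain ⟨g', hg'⟩ := key b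
  exact ⟨g'⁻¹ * g, by rw [mul_smul, hg, ← hg', inv_smul_smul]⟩

/-- A transitive group containing a cycle of prime length `q > |α|/2` is primitive. -/
theorem prim_of_cycle (G : Subgroup (Perm α)) [MulAction.IsPretransitive G α] {y : Perm α}
    (hy : y.IsCycle) (hyG : y ∈ G) (hq : y.support.card.Prime)
    (hlt : Fintype.card α < 2 * y.support.card) : MulAction.IsPreprimitive G α := by
  classical
  have h1 := Equiv.Perm.isPretransitive_of_isCycle_mem hy hyG
  have hcard : Nat.card (SubMulAction.ofFixingSubgroup G ((y.support : Set α)ᶜ)) =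
      y.support.card := by
    rw [Nat.card_eq_fintype_card, Fintype.card_subtype]
    apply congr_arg
    ext x
    simp [SubMulAction.mem_ofFixingSubgroup_iff]
  have h2 : IsPreprimitive (fixingSubgroup G ((y.support : Set α)ᶜ))
      (SubMulAction.ofFixingSubgroup G ((y.support : Set α)ᶜ)) := by
    apply IsPreprimitive.of_prime_card
    rw [hcard]; exact hq
  apply IsPreprimitive.of_card_lt
    (f := SubMulAction.ofFixingSubgroup_equivariantMap G ((y.support : Set α)ᶜ))
  rw [Nat.card_eq_fintype_card]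
  have hr : Set.range (SubMulAction.ofFixingSubgroup_equivariantMap G ((y.support : Set α)ᶜ)) =
      (y.support : Set α) := by
    ext a
    constructor
    · rintro ⟨⟨b, hb⟩, rfl⟩
      have := (SubMulAction.mem_ofFixingSubgroup_iff G).mp hb
      change b ∈ (y.support : Set α)
      simpa using this
    · intro ha
      refine ⟨⟨a, ?_⟩, rfl⟩
      rw [SubMulAction.mem_ofFixingSubgroup_iff]
      simpa using ha
  rw [hr, Set.ncard_coe_finset]
  exact hlt

/-- Normalisation in the twin-prime case: a primitive group of degree `p + 2` containing a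
`p`-cycle contains a `p`-cycle fixing two given points and mapping `a2` to `a3`. -/
theorem normalize (G : Subgroup (Perm α)) (hG : IsPreprimitive G α) {x : Perm α}
    (hx : x.IsCycle) (hxG : x ∈ G) {p : ℕ} (hp : p.Prime) (hxp : x.support.card = p)
    (hcard : Fintype.card α = p + 2) (a0 a1 a2 a3 : α) (h01 : a0 ≠ a1)
    (h20 : a2 ≠ a0) (h21 : a2 ≠ a1) (h30 : a3 ≠ a0) (h31 : a3 ≠ a1) (h23 : a2 ≠ a3) :
    ∃ x' ∈ G, x'.IsCycle ∧ x'.support.card = p ∧ x' a0 = a0 ∧ x' a1 = a1 ∧ x' a2 = a3 ∧
      ∀ a, a ≠ a0 → a ≠ a1 → x' a ≠ a := by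
  have hp2 := hp.two_le
  have hsn : ((x.support : Set α)ᶜ).ncard = 1 + 1 := by
    have h1 := Set.ncard_add_ncard_compl (x.support : Set α)
    rw [Set.ncard_coe_finset, hxp, Nat.card_eq_fintype_card, hcard] at h1
    omega
  have h2t : IsMultiplyPretransitive G α 2 :=
    hG.is_two_pretransitive hsn (by rw [Nat.card_eq_fintype_card, hcard]; omega)
      (Equiv.Perm.isPretransitive_of_isCycle_mem hx hxG)
  have hcc : (x.supportᶜ : Finset α).card = 2 := by
    rw [Finset.card_compl, hxp, hcard]; omega
  obtain ⟨b0, b1, hb01, hb⟩ := Finset.card_eq_two.mp hcc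
  have hb0 : x b0 = b0 := by
    have : b0 ∈ (x.supportᶜ : Finset α) := by rw [hb]; simp
    simpa using this
  have hb1 : x b1 = b1 := by
    have : b1 ∈ (x.supportᶜ : Finset α) := by rw [hb]; simp
    simpa using this
  obtain ⟨g, hg0, hg1⟩ := MulAction.is_two_pretransitive_iff.mp h2t hb01 h01
  have hg0' : (g : Perm α) b0 = a0 := hg0
  have hg1' : (g : Perm α) b1 = a1 := hg1
  set x1 : Perm α := (g : Perm α) * x * (g : Perm α)⁻¹ with hx1
  have hx1G : x1 ∈ G := G.mul_mem (G.mul_mem g.2 hxG) (G.inv_mem g.2)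
  have hx1c : x1.IsCycle := hx.conj
  have hx1s : x1.support.card = p := by rw [hx1, card_support_conj, hxp]
  have hx10 : x1 a0 = a0 := by
    have : (g : Perm α)⁻¹ a0 = b0 := by rw [← hg0']; simp
    rw [hx1, Perm.mul_apply, Perm.mul_apply, this, hb0, hg0']
  have hx11 : x1 a1 = a1 := by
    have : (g : Perm α)⁻¹ a1 = b1 := by rw [← hg1']; simp
    rw [hx1, Perm.mul_apply, Perm.mul_apply, this, hb1, hg1']
  have hcc1 : (x1.supportᶜ : Finset α) = {a0, a1} := by
    symm
    apply Finset.eq_of_subset_of_card_le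
    · intro a ha
      simp only [Finset.mem_insert, Finset.mem_singleton] at ha
      rcases ha with rfl | rfl <;> simpa
    · rw [Finset.card_compl, hx1s, hcard, Finset.card_pair h01]; omega
  have hmem : ∀ a, a ≠ a0 → a ≠ a1 → x1 a ≠ a := by
    intro a h0 h1 hfix
    have : a ∈ (x1.supportᶜ : Finset α) := by simpa using hfix
    rw [hcc1] at this
    simp only [Finset.mem_insert, Finset.mem_singleton] at this
    rcases this with h | h
    · exact h0 h
    · exact h1 h
  obtain ⟨i, hi⟩ := hx1c.exists_pow_eq (hmem a2 h20 h21) (hmem a3 h30 h31)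
  have hord : orderOf x1 = p := by rw [hx1c.orderOf, hx1s]
  have hcop : Nat.Coprime i (orderOf x1) := by
    rw [hord, Nat.coprime_comm, hp.coprime_iff_not_dvd]
    intro hdvd
    obtain ⟨k, rfl⟩ := hdvd
    rw [pow_mul, ← hord, pow_orderOf_eq_one, one_pow, Perm.one_apply] at hi
    exact h23 hi
  refine ⟨x1 ^ i, G.pow_mem hx1G i, hx1c.pow_iff.mpr hcop, ?_, ?_, ?_, hi, ?_⟩
  · rw [support_pow_coprime hcop, hx1s]
  · exact (Perm.pow_apply_eq_self_of_apply_eq_self hx10 i)
  · exact (Perm.pow_apply_eq_self_of_apply_eq_self hx11 i)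
  · intro a h0 h1
    have h := hmem a h0 h1
    rw [← Perm.mem_support] at h ⊢
    rw [support_pow_coprime hcop]; exact h

/-- An element of odd order is even. -/
theorem sign_eq_one_of_odd_order {x : Perm α} (h : Odd (orderOf x)) : Perm.sign x = 1 := by
  have h1 : (Perm.sign x) ^ orderOf x = 1 := by rw [← map_pow, pow_orderOf_eq_one, map_one]
  rcases Int.units_eq_one_or (Perm.sign x) with h2 | h2
  · exact h2
  · rw [h2, h.neg_one_pow] at h1
    exact absurd h1 (by decide)

end generic

section transport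

variable {α β : Type*} [Fintype α] [DecidableEq α] [Fintype β] [DecidableEq β]

/-- The closure of a pair is carried isomorphically by an injective hom. -/
noncomputable def closureEquiv {G H : Type*} [Group G] [Group H] (Φ : G →* H)
    (hΦ : Function.Injective Φ) (x y : G) :
    closure ({x, y} : Set G) ≃* closure ({Φ x, Φ y} : Set H) :=
  ((closure ({x, y} : Set G)).equivMapOfInjective Φ hΦ).trans
    (MulEquiv.subgroupCongr (by rw [MonoidHom.map_closure, Set.image_pair]))

/-- Transport of `alternatingGroup ≤ closure` along a sign preserving isomorphism. -/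
theorem alt_le_of_map (Φ : Perm α ≃* Perm β) (hs : ∀ g, Perm.sign (Φ g) = Perm.sign g)
    (x y : Perm α) (h : alternatingGroup β ≤ closure {Φ x, Φ y}) :
    alternatingGroup α ≤ closure {x, y} := by
  intro g hg
  have h1 : Φ g ∈ alternatingGroup β := by
    rw [Perm.mem_alternatingGroup, hs]; exact Perm.mem_alternatingGroup.mp hg
  have h2 := h h1
  have h3 : closure ({Φ x, Φ y} : Set (Perm β)) = (closure ({x, y} : Set (Perm α))).map
      (Φ : Perm α →* Perm β) := by
    rw [MonoidHom.map_closure, Set.image_pair]; rfl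
  rw [h3] at h2
  obtain ⟨k, hk, hkg⟩ := h2
  have : k = g := Φ.injective hkg
  rw [← this]; exact hk

/-- An element of prime order `N = n + 2` on a type of cardinality `N` can be transported
to `finRotate`. -/
theorem exists_equiv_finRotate {n : ℕ} (hN : (n + 2).Prime) (hc : Fintype.card α = n + 2)
    (y : Perm α) (hy : orderOf y = n + 2) :
    ∃ Φ : Perm α ≃* Perm (Fin (n + 2)), (∀ g, Perm.sign (Φ g) = Perm.sign g) ∧
      Φ y = finRotate (n + 2) := by
  let e0 : α ≃ Fin (n + 2) := Fintype.equivFinOfCardEq hc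
  have ho : orderOf (e0.permCongrHom y) = n + 2 := by
    rw [MulEquiv.orderOf_eq, hy]
  have hcyc : (e0.permCongrHom y).IsCycle :=
    isCycle_of_prime_order'' (by rw [Fintype.card_fin]; exact hN) (by rw [ho, Fintype.card_fin])
  have h1 : (e0.permCongrHom y).cycleType = {n + 2} := by
    rw [hcyc.cycleType, ← hcyc.orderOf, ho]
  have h2 : IsConj (e0.permCongrHom y) (finRotate (n + 2)) := by
    rw [isConj_iff_cycleType_eq, h1, cycleType_finRotate]
  obtain ⟨c, hc⟩ := isConj_iff.mp h2
  refine ⟨e0.permCongrHom.trans (MulAut.conj c), ?_, ?_⟩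
  · intro g
    rw [MulEquiv.trans_apply, MulAut.conj_apply, Perm.sign_mul, Perm.sign_mul, Perm.sign_inv,
      mul_right_comm, Int.units_mul_self, one_mul]
    exact Perm.sign_permCongr e0 g
  · rw [MulEquiv.trans_apply, MulAut.conj_apply, hc]

end transport

section twin

variable {α : Type*} [Fintype α] [DecidableEq α]

/-- A subgroup containing an element of prime order equal to the degree is primitive. -/
theorem prim_of_full_cycle (G : Subgroup (Perm α)) {y : Perm α} (hyG : y ∈ G)
    (hN : (Fintype.card α).Prime) (hy : orderOf y = Fintype.card α) :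
    MulAction.IsPreprimitive G α := by
  have hcyc : y.IsCycle := isCycle_of_prime_order'' hN hy
  have hsupp : y.support = Finset.univ := by
    apply Finset.eq_univ_of_card
    rw [← hcyc.orderOf, hy]
  have : MulAction.IsPretransitive G α :=
    pretrans_of_cycle G hcyc hyG (fun a => ⟨1, G.one_mem, by rw [hsupp]; simp⟩)
  exact IsPreprimitive.of_prime_card (by rw [Nat.card_eq_fintype_card]; exact hN)

/-- If `w` moves `i` but `w ^ r` fixes it (`r` prime, `|α| < 2r`), some power of `w` is an
`r`-cycle. -/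
theorem exists_prime_cycle_of_pow_fix {w : Perm α} {r : ℕ} (hr : r.Prime)
    (hlt : Fintype.card α < 2 * r) (i : α) (h1 : w i ≠ i) (h2 : (w ^ r) i = i) :
    ∃ k : ℕ, (w ^ k).IsCycle ∧ (w ^ k).support.card = r := by
  have hdvd : r ∣ orderOf w := by
    by_contra hnd
    have hcop : Nat.Coprime r (orderOf w) := (Nat.Prime.coprime_iff_not_dvd hr).mpr hnd
    obtain ⟨m, hm⟩ := exists_pow_eq_self_of_coprime hcop
    apply h1
    conv_lhs => rw [← hm]
    exact Perm.pow_apply_eq_self_of_apply_eq_self h2 m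
  have hpos : 0 < orderOf w := orderOf_pos w
  obtain ⟨c, hc⟩ := hdvd
  have hc0 : c ≠ 0 := by rintro rfl; rw [mul_zero] at hc; omega
  have hord : orderOf (w ^ c) = r := by
    rw [orderOf_pow_of_dvd hc0 ⟨r, by rw [hc, mul_comm]⟩, hc,
      Nat.mul_div_cancel _ (Nat.pos_of_ne_zero hc0)]
  have hcyc : (w ^ c).IsCycle := isCycle_of_prime_order' (by rw [hord]; exact hr) (by rw [hord]; exact hlt)
  exact ⟨c, hcyc, by rw [← hcyc.orderOf, hord]⟩

/-- Reduction of the twin case to normalised `p`-cycles. -/
theorem twin_reduce {p : ℕ} (hp : p.Prime) (hp3 : 3 ≤ p) (hN : (p + 2).Prime)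
    (hc : Fintype.card α = p + 2) (x y : Perm α) (hx : orderOf x = p) (hy : orderOf y = p + 2)
    (a0 a1 a2 a3 : α) (h01 : a0 ≠ a1)
    (h20 : a2 ≠ a0) (h21 : a2 ≠ a1) (h30 : a3 ≠ a0) (h31 : a3 ≠ a1) (h23 : a2 ≠ a3)
    (hcore : ∀ x' : Perm α, x'.IsCycle → x'.support.card = p → x' a0 = a0 → x' a1 = a1 →
      x' a2 = a3 → (∀ a, a ≠ a0 → a ≠ a1 → x' a ≠ a) → alternatingGroup α ≤ closure {x', y}) :
    alternatingGroup α ≤ closure {x, y} := by
  have hxG : x ∈ closure ({x, y} : Set (Perm α)) := subset_closure (by simp)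
  have hyG : y ∈ closure ({x, y} : Set (Perm α)) := subset_closure (by simp)
  have hprim : MulAction.IsPreprimitive (closure ({x, y} : Set (Perm α))) α :=
    prim_of_full_cycle _ hyG (by rw [hc]; exact hN) (by rw [hy, hc])
  have hxc : x.IsCycle :=
    isCycle_of_prime_order' (by rw [hx]; exact hp) (by rw [hx, hc]; omega)
  have hxs : x.support.card = p := by rw [← hxc.orderOf, hx]
  obtain ⟨x', hx'G, hx'c, hx's, h0, h1, h2, hmv⟩ :=
    normalize _ hprim hxc hxG hp hxs hc a0 a1 a2 a3 h01 h20 h21 h30 h31 h23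
  refine le_trans (hcore x' hx'c hx's h0 h1 h2 hmv) ?_
  rw [closure_le]
  intro g hg
  simp only [Set.mem_insert_iff, Set.mem_singleton_iff] at hg
  rcases hg with rfl | rfl
  · exact hx'G
  · exact hyG

end twin


end Cfsg.Agent.Lib.helper61.CycGen
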