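import Cfsg.Agent.Lib.helper61.TW13C4
import Cfsg.Agent.Lib.helper61.TW13C5
import Cfsg.Agent.Lib.helper61.TW13C6
import Cfsg.Agent.Lib.helper61.TW13C7
import Cfsg.Agent.Lib.helper61.TW13C8
import Cfsg.Agent.Lib.helper61.TW13C9
import Cfsg.Agent.Lib.helper61.TW13C10
import Cfsg.Agent.Lib.helper61.TW13C11
import Cfsg.Agent.Lib.helper61.TW13C12

/-!
# All enumeration chunks for the twin pair `(11, 13)`

Shared library file of seat `helper61`.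
-/

set_option autoImplicit false

namespace Cfsg.Agent.Lib.helper61.TW13

theorem root_all : ∀ a ∈ cands, ∀ b ∈ cands, a ≠ b → ∃ H, root a b H = true := by
  intro a ha b hb hab
  simp only [cands, List.mem_cons, List.not_mem_nil, or_false] at ha hb
  rcases ha with rfl | rfl | rfl | rfl | rfl | rfl | rfl | rfl | rfl
  · rcases hb with rfl | rfl | rfl | rfl | rfl | rfl | rfl | rfl | rfl
    · exact absurd rfl hab
    · exact ⟨_, chunk_4_5⟩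
    · exact ⟨_, chunk_4_6⟩
    · exact ⟨_, chunk_4_7⟩
    · exact ⟨_, chunk_4_8⟩
    · exact ⟨_, chunk_4_9⟩
    · exact ⟨_, chunk_4_10⟩
    · exact ⟨_, chunk_4_11⟩
    · exact ⟨_, chunk_4_12⟩
  · rcases hb with rfl | rfl | rfl | rfl | rfl | rfl | rfl | rfl | rfl
    · exact ⟨_, chunk_5_4⟩
    · exact absurd rfl hab
    · exact ⟨_, chunk_5_6⟩
    · exact ⟨_, chunk_5_7⟩
    · exact ⟨_, chunk_5_8⟩
    · exact ⟨_, chunk_5_9⟩
    · exact ⟨_, chunk_5_10⟩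
    · exact ⟨_, chunk_5_11⟩
    · exact ⟨_, chunk_5_12⟩
  · rcases hb with rfl | rfl | rfl | rfl | rfl | rfl | rfl | rfl | rfl
    · exact ⟨_, chunk_6_4⟩
    · exact ⟨_, chunk_6_5⟩
    · exact absurd rfl hab
    · exact ⟨_, chunk_6_7⟩
    · exact ⟨_, chunk_6_8⟩
    · exact ⟨_, chunk_6_9⟩
    · exact ⟨_, chunk_6_10⟩
    · exact ⟨_, chunk_6_11⟩
    · exact ⟨_, chunk_6_12⟩
  · rcases hb with rfl | rfl | rfl | rfl | rfl | rfl | rfl | rfl | rfl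
    · exact ⟨_, chunk_7_4⟩
    · exact ⟨_, chunk_7_5⟩
    · exact ⟨_, chunk_7_6⟩
    · exact absurd rfl hab
    · exact ⟨_, chunk_7_8⟩
    · exact ⟨_, chunk_7_9⟩
    · exact ⟨_, chunk_7_10⟩
    · exact ⟨_, chunk_7_11⟩
    · exact ⟨_, chunk_7_12⟩
  · rcases hb with rfl | rfl | rfl | rfl | rfl | rfl | rfl | rfl | rfl
    · exact ⟨_, chunk_8_4⟩
    · exact ⟨_, chunk_8_5⟩
    · exact ⟨_, chunk_8_6⟩
    · exact ⟨_, chunk_8_7⟩
    · exact absurd rfl hab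
    · exact ⟨_, chunk_8_9⟩
    · exact ⟨_, chunk_8_10⟩
    · exact ⟨_, chunk_8_11⟩
    · exact ⟨_, chunk_8_12⟩
  · rcases hb with rfl | rfl | rfl | rfl | rfl | rfl | rfl | rfl | rfl
    · exact ⟨_, chunk_9_4⟩
    · exact ⟨_, chunk_9_5⟩
    · exact ⟨_, chunk_9_6⟩
    · exact ⟨_, chunk_9_7⟩
    · exact ⟨_, chunk_9_8⟩
    · exact absurd rfl hab
    · exact ⟨_, chunk_9_10⟩
    · exact ⟨_, chunk_9_11⟩
    · exact ⟨_, chunk_9_12⟩
  · rcases hb with rfl | rfl | rfl | rfl | rfl | rfl | rfl | rfl | rfl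
    · exact ⟨_, chunk_10_4⟩
    · exact ⟨_, chunk_10_5⟩
    · exact ⟨_, chunk_10_6⟩
    · exact ⟨_, chunk_10_7⟩
    · exact ⟨_, chunk_10_8⟩
    · exact ⟨_, chunk_10_9⟩
    · exact absurd rfl hab
    · exact ⟨_, chunk_10_11⟩
    · exact ⟨_, chunk_10_12⟩
  · rcases hb with rfl | rfl | rfl | rfl | rfl | rfl | rfl | rfl | rfl
    · exact ⟨_, chunk_11_4⟩
    · exact ⟨_, chunk_11_5⟩
    · exact ⟨_, chunk_11_6⟩
    · exact ⟨_, chunk_11_7⟩
    · exact ⟨_, chunk_11_8⟩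
    · exact ⟨_, chunk_11_9⟩
    · exact ⟨_, chunk_11_10⟩
    · exact absurd rfl hab
    · exact ⟨_, chunk_11_12⟩
  · rcases hb with rfl | rfl | rfl | rfl | rfl | rfl | rfl | rfl | rfl
    · exact ⟨_, chunk_12_4⟩
    · exact ⟨_, chunk_12_5⟩
    · exact ⟨_, chunk_12_6⟩
    · exact ⟨_, chunk_12_7⟩
    · exact ⟨_, chunk_12_8⟩
    · exact ⟨_, chunk_12_9⟩
    · exact ⟨_, chunk_12_10⟩
    · exact ⟨_, chunk_12_11⟩
    · exact absurd rfl hab

end Cfsg.Agent.Lib.helper61.TW13
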