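import Cfsg.Agent.Lib.helper61.TW13Sound

/-!
# The twin pair `(11, 13)`: from the enumeration to permutations

Shared library file of seat `helper61`; everything lives in `Cfsg.Agent.Lib.helper61.TW13`.
-/

set_option autoImplicit false

namespace Cfsg.Agent.Lib.helper61.TW13

open Equiv Equiv.Perm

/-- The base-16 table of a permutation of `Fin 13`. -/
def tab (x : Perm (Fin 13)) : ℕ := ∑ i : Fin 13, (x i : ℕ) * 16 ^ (i : ℕ)

theorem lookup_tab (x : Perm (Fin 13)) (j : Fin 13) : lookup (tab x) j = x j :=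
  digit (fun i => (x i : ℕ)) (fun i => by have := (x i).2; omega) j

theorem rep_ev1 (x : Perm (Fin 13)) (k : ℕ) :
    Rep (ev1 (tab x) k) (x * (finRotate 13) ^ k) := by
  intro j hj
  show lookup (tab x) ((j + k) % 13) = _
  have h := lookup_tab x ((finRotate 13 ^ k) ⟨j, hj⟩)
  rw [finRotate_pow_val] at h
  exact h

theorem pow_fix {x : Perm (Fin 13)} {a : Fin 13} (h : x a = a) (t : ℕ) : (x ^ t) a = a := by
  induction t with
  | zero => rfl
  | succ t ih => rw [pow_succ, Perm.mul_apply, h, ih]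

theorem core (x : Perm (Fin 13)) (hx : x.IsCycle) (hs : x.support.card = 11)
    (h0 : x 0 = 0) (h1 : x 1 = 1) (h2 : x 2 = 3)
    (hroot : ∀ a ∈ cands, ∀ b ∈ cands, a ≠ b → ∃ H, root a b H = true) :
    ∃ w ∈ Subgroup.closure ({x, finRotate 13} : Set (Perm (Fin 13))),
      ∃ i : Fin 13, w i ≠ i ∧ (w ^ 7) i = i := by
  have hord : orderOf x = 11 := by rw [hx.orderOf, hs]
  have hx2 : x 2 ≠ 2 := by rw [h2]; decide
  -- the orbit of `2`
  have hσ0 : (x ^ 0) 2 = 2 := rfl
  have hσ1 : (x ^ 1) 2 = 3 := by rw [pow_one, h2]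
  have hσ11 : (x ^ 11) 2 = 2 := by rw [← hord, pow_orderOf_eq_one]; rfl
  have hσs : ∀ t, x ((x ^ t) 2) = (x ^ (t + 1)) 2 := fun t => by
    rw [pow_succ', Perm.mul_apply]
  have hmoved : ∀ t, x ((x ^ t) 2) ≠ (x ^ t) 2 := by
    intro t h
    have h' : (x ^ t) (x 2) = (x ^ t) 2 := by
      rw [← Perm.mul_apply, ← pow_succ, pow_succ', Perm.mul_apply]; exact h
    exact hx2 ((x ^ t).injective h')
  have hinj : ∀ a b, a < 11 → b < 11 → (x ^ a) 2 = (x ^ b) 2 → a = b := by
    intro a b ha hb hab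
    by_contra hne
    wlog hlt : a < b generalizing a b
    · exact this b a hb ha hab.symm (Ne.symm hne) (by omega)
    have h : (x ^ (b - a)) ((x ^ a) 2) = (x ^ a) 2 := by
      rw [← Perm.mul_apply, ← pow_add, Nat.sub_add_cancel hlt.le, hab]
    have h1' : x ^ (b - a) = 1 := (hx.pow_eq_one_iff' (hmoved a)).mpr h
    have hdvd : 11 ∣ b - a := by
      rw [← hord]; exact orderOf_dvd_of_pow_eq_one h1'
    omega
  have hne0 : ∀ t, (x ^ t) 2 ≠ 0 := by
    intro t h
    have h' : (x ^ t) 2 = (x ^ t) 0 := by rw [h, pow_fix h0]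
    exact absurd ((x ^ t).injective h') (by decide)
  have hne1 : ∀ t, (x ^ t) 2 ≠ 1 := by
    intro t h
    have h' : (x ^ t) 2 = (x ^ t) 1 := by rw [h, pow_fix h1]
    exact absurd ((x ^ t).injective h') (by decide)
  -- natural number values
  set s : ℕ → ℕ := fun t => (((x ^ t) 2 : Fin 13) : ℕ) with hs_def
  have hs0 : s 0 = 2 := rfl
  have hs1 : s 1 = 3 := by show (((x ^ 1) 2 : Fin 13) : ℕ) = 3; rw [hσ1]; rfl
  have hs11 : s 11 = 2 := by show (((x ^ 11) 2 : Fin 13) : ℕ) = 2; rw [hσ11]; rfl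
  have hsinj : ∀ a b, a < 11 → b < 11 → s a = s b → a = b :=
    fun a b ha hb h => hinj a b ha hb (Fin.ext h)
  have hslt : ∀ t, s t < 13 := fun t => ((x ^ t) 2).2
  have hsne0 : ∀ t, s t ≠ 0 := fun t h => hne0 t (Fin.ext h)
  have hsne1 : ∀ t, s t ≠ 1 := fun t h => hne1 t (Fin.ext h)
  have hcand : ∀ t, 2 ≤ t → t < 11 → s t ∈ cands := by
    intro t ht1 ht2
    have ha := hslt t
    have hb := hsne0 t
    have hc := hsne1 t
    have hd : s t ≠ 2 := fun h => by
      have := hsinj t 0 ht2 (by norm_num) (h.trans hs0.symm); omega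
    have he : s t ≠ 3 := fun h => by
      have := hsinj t 1 ht2 (by norm_num) (h.trans hs1.symm); omega
    simp only [cands, List.mem_cons, List.not_mem_nil, or_false]
    omega
  have hsne : ∀ a b, a < 11 → b < 11 → a ≠ b → s a ≠ s b :=
    fun a b ha hb hab h => hab (hsinj a b ha hb h)
  -- the enumeration
  obtain ⟨H, hH⟩ := hroot (s 2) (hcand 2 (by norm_num) (by norm_num)) (s 3)
    (hcand 3 (by norm_num) (by norm_num)) (hsne 2 3 (by norm_num) (by norm_num) (by norm_num))
  have hnd : [s 4, s 5, s 6, s 7, s 8, s 9, s 10].Nodup := by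
    simp only [List.nodup_cons, List.mem_cons, List.not_mem_nil, or_false, not_or,
      List.nodup_nil, not_false_eq_true, and_true]
    refine ⟨⟨?_, ?_, ?_, ?_, ?_, ?_⟩, ⟨?_, ?_, ?_, ?_, ?_⟩, ⟨?_, ?_, ?_, ?_⟩, ⟨?_, ?_, ?_⟩,
      ⟨?_, ?_⟩, ?_⟩ <;> exact hsne _ _ (by norm_num) (by norm_num) (by norm_num)
  have hfresh : ∀ c ∈ [s 4, s 5, s 6, s 7, s 8, s 9, s 10],
      c ∈ cands ∧ (1 <<< s 2 ||| 1 <<< s 3).testBit c = false := by
    intro c hc
    have key : ∀ t, 4 ≤ t → t < 11 →
        s t ∈ cands ∧ (1 <<< s 2 ||| 1 <<< s 3).testBit (s t) = false := by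
      intro t ht1 ht2
      refine ⟨hcand t (by omega) ht2, ?_⟩
      rw [Nat.testBit_or, Nat.one_shiftLeft, Nat.one_shiftLeft, Nat.testBit_two_pow,
        Nat.testBit_two_pow]
      have e1 := hsne 2 t (by norm_num) ht2 (by omega)
      have e2 := hsne 3 t (by norm_num) ht2 (by omega)
      simp [e1, e2]
    simp only [List.mem_cons, List.not_mem_nil, or_false] at hc
    rcases hc with rfl | rfl | rfl | rfl | rfl | rfl | rfl
    · exact key 4 (by norm_num) (by norm_num)
    · exact key 5 (by norm_num) (by norm_num)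
    · exact key 6 (by norm_num) (by norm_num)
    · exact key 7 (by norm_num) (by norm_num)
    · exact key 8 (by norm_num) (by norm_num)
    · exact key 9 (by norm_num) (by norm_num)
    · exact key 10 (by norm_num) (by norm_num)
  obtain ⟨h, hv⟩ := dfs_sound 7 _ _ _ _ hH [s 4, s 5, s 6, s 7, s 8, s 9, s 10] rfl hnd hfresh
  -- the table
  have htab : tfin (16 + 3 * 16 ^ 2 + s 2 * 16 ^ 3 + s 3 * 16 ^ s 2) (s 3)
      [s 4, s 5, s 6, s 7, s 8, s 9, s 10] = tab x := by
    have hU : (Finset.univ : Finset (Fin 13)) =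
        insert 0 (insert 1 ((Finset.range 11).image (fun t => (x ^ t) 2))) := by
      symm
      apply Finset.eq_univ_of_card
      rw [Finset.card_insert_of_notMem, Finset.card_insert_of_notMem,
        Finset.card_image_of_injOn, Finset.card_range]
      · rfl
      · intro a ha b hb hab
        exact hinj a b (Finset.mem_range.mp ha) (Finset.mem_range.mp hb) hab
      · intro h
        obtain ⟨t, -, ht⟩ := Finset.mem_image.mp h
        exact hne1 t ht
      · intro h
        rcases Finset.mem_insert.mp h with h | h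
        · exact absurd h (by decide)
        · obtain ⟨t, -, ht⟩ := Finset.mem_image.mp h
          exact hne0 t ht
    have hsum : tab x = 16 + ∑ t ∈ Finset.range 11, s (t + 1) * 16 ^ s t := by
      unfold tab
      rw [hU, Finset.sum_insert, Finset.sum_insert, Finset.sum_image]
      · rw [h0, h1]
        simp only [Fin.val_zero, Fin.val_one, zero_mul, zero_add, pow_one, one_mul]
        refine congrArg (16 + ·) (Finset.sum_congr rfl fun t _ => ?_)
        rw [hσs t]
      · intro a ha b hb hab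
        exact hinj a b (Finset.mem_range.mp ha) (Finset.mem_range.mp hb) hab
      · intro h
        obtain ⟨t, -, ht⟩ := Finset.mem_image.mp h
        exact hne1 t ht
      · intro h
        rcases Finset.mem_insert.mp h with h | h
        · exact absurd h (by decide)
        · obtain ⟨t, -, ht⟩ := Finset.mem_image.mp h
          exact hne0 t ht
    rw [hsum]
    simp only [tfin, Finset.sum_range_succ, Finset.sum_range_zero, zero_add]
    rw [hs0, hs1, hs11]
    ring
  rw [htab] at hv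
  obtain ⟨i, hi, hcase⟩ := verify_sound _ _ hv
  have hi13 : i < 13 := by omega
  have hxm : x ∈ Subgroup.closure ({x, finRotate 13} : Set (Perm (Fin 13))) :=
    Subgroup.subset_closure (Set.mem_insert _ _)
  have hym : finRotate 13 ∈ Subgroup.closure ({x, finRotate 13} : Set (Perm (Fin 13))) :=
    Subgroup.subset_closure (Set.mem_insert_of_mem _ rfl)
  have hw : ∀ k, x * finRotate 13 ^ k ∈ Subgroup.closure ({x, finRotate 13} : Set (Perm (Fin 13))) :=
    fun k => Subgroup.mul_mem _ hxm (Subgroup.pow_mem _ hym k)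
  rcases hcase with ⟨c, hc⟩ | ⟨b, c, hc⟩ | ⟨a, b, c, hc⟩
  · exact ⟨_, hw c, ⟨i, hi13⟩, on7_rep (rep_ev1 x c) i hi13 hc⟩
  · exact ⟨_, Subgroup.mul_mem _ (hw b) (hw c), ⟨i, hi13⟩,
      on7_rep ((rep_ev1 x b).comp (rep_ev1 x c)) i hi13 hc⟩
  · exact ⟨_, Subgroup.mul_mem _ (hw a) (Subgroup.mul_mem _ (hw b) (hw c)), ⟨i, hi13⟩,
      on7_rep ((rep_ev1 x a).comp ((rep_ev1 x b).comp (rep_ev1 x c))) i hi13 hc⟩

end Cfsg.Agent.Lib.helper61.TW13
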