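import Cfsg.Agent.Lib.helper61.CycGen
import Cfsg.Agent.Lib.helper61.TW13All
import Cfsg.Agent.Lib.helper61.TW13Core

/-!
# An `11`-cycle and a `13`-cycle on 13 points generate the alternating group

Shared library file of seat `helper61`.
-/

set_option autoImplicit false

namespace Cfsg.Agent.Lib.helper61.CycGen

open Equiv Equiv.Perm MulAction Subgroup

theorem tw13_fin (x : Perm (Fin 13)) (hx : orderOf x = 11) :
    alternatingGroup (Fin 13) ≤ closure {x, finRotate 13} := by
  have hy : orderOf (finRotate 13) = 11 + 2 := by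
    rw [(isCycle_finRotate (n := 11)).orderOf, support_finRotate]; rfl
  refine twin_reduce (p := 11) (by norm_num) (by norm_num) (by norm_num) (by simp) x
    (finRotate 13) hx hy 0 1 2 3 (by decide) (by decide) (by decide) (by decide) (by decide)
    (by decide) ?_
  intro x' hc hs h0 h1 h2 _
  obtain ⟨w, hw, i, hi1, hi2⟩ := TW13.core x' hc hs h0 h1 h2 TW13.root_all
  obtain ⟨k, hkc, hks⟩ := exists_prime_cycle_of_pow_fix (r := 7) (by norm_num) (by simp) i hi1 hi2
  have hyG : finRotate 13 ∈ closure ({x', finRotate 13} : Set (Perm (Fin 13))) :=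
    subset_closure (by simp)
  have hprim : MulAction.IsPreprimitive (closure ({x', finRotate 13} : Set (Perm (Fin 13))))
      (Fin 13) :=
    prim_of_full_cycle _ hyG (by rw [Fintype.card_fin]; norm_num) (by rw [hy]; simp)
  exact Cfsg.Agent.S0713.result _ hprim (p := 7) (by norm_num) (by simp) (by simp) hkc hks
    (Subgroup.pow_mem _ hw k)

theorem tw13 {α : Type*} [Fintype α] [DecidableEq α] (hc : Fintype.card α = 13) (x y : Perm α)
    (hx : orderOf x = 11) (hy : orderOf y = 13) : alternatingGroup α ≤ closure {x, y} := by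
  obtain ⟨Φ, hs, hΦy⟩ := exists_equiv_finRotate (n := 11) (by norm_num) hc y hy
  apply alt_le_of_map Φ hs
  rw [hΦy]
  exact tw13_fin (Φ x) (by rw [MulEquiv.orderOf_eq, hx])

end Cfsg.Agent.Lib.helper61.CycGen
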