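import Cfsg.Agent.Lib.helper61.Twin7
import Cfsg.Agent.Lib.helper61.Twin13
import Cfsg.Agent.Lib.helper61.Special6

/-!
# Two elements of prime orders `p < q` generating an alternating group

Shared library file of seat `helper61`.
-/

set_option autoImplicit false

namespace Cfsg.Agent.Lib.helper61.CycGen

open Equiv Equiv.Perm MulAction Subgroup

section

variable {β : Type*} [Fintype β] [DecidableEq β]

/-- An element of prime order is a cycle or moves at least `2p` points. -/
theorem isCycle_or_two_mul_le {x : Perm β} {p : ℕ} (hp : p.Prime) (hxo : orderOf x = p) :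
    x.IsCycle ∨ 2 * p ≤ x.support.card := by
  obtain ⟨n, hn⟩ := cycleType_prime_order (σ := x) (by rw [hxo]; exact hp)
  rcases Nat.eq_zero_or_pos n with h0 | hpos
  · left
    rw [← card_cycleType_eq_one, hn, h0]; simp
  · right
    rw [← sum_cycleType, hn, hxo, Multiset.sum_replicate, smul_eq_mul]
    exact Nat.mul_le_mul_right p (by omega)

/-- Primitivity of the group generated by two elements of prime order whose supports cover
everything and overlap. -/
theorem prim_of_orders (x y : Perm β) {p q : ℕ} (hp : p.Prime) (hq : q.Prime)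
    (hxo : orderOf x = p) (hyo : orderOf y = q) (hcov : ∀ a, x a ≠ a ∨ y a ≠ a)
    (hmeet : Fintype.card β < p + q) (hlt : Fintype.card β < 2 * q) :
    y.IsCycle ∧ y.support.card = q ∧
      MulAction.IsPreprimitive (closure ({x, y} : Set (Perm β))) β := by
  have hxG : x ∈ closure ({x, y} : Set (Perm β)) := subset_closure (by simp)
  have hyG : y ∈ closure ({x, y} : Set (Perm β)) := subset_closure (by simp)
  have hyc : y.IsCycle :=
    isCycle_of_prime_order' (by rw [hyo]; exact hq) (by rw [hyo]; exact hlt)
  have hys : y.support.card = q := by rw [← hyc.orderOf, hyo]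
  have htr : MulAction.IsPretransitive (closure ({x, y} : Set (Perm β))) β := by
    apply pretrans_of_cycle _ hyc hyG
    intro a
    by_cases hya : y a = a
    · have hxa : x a ≠ a := (hcov a).resolve_right (not_not.mpr hya)
      have hcyc : (x.cycleOf a).IsCycle := isCycle_cycleOf x hxa
      have hord : orderOf (x.cycleOf a) = p := by
        have hdvd := orderOf_cycleOf_dvd_orderOf x a
        rw [hxo] at hdvd
        rcases (Nat.dvd_prime hp).mp hdvd with h1 | h1
        · exfalso
          rw [orderOf_eq_one_iff, cycleOf_eq_one_iff] at h1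
          exact hxa h1
        · exact h1
      have hcs : (x.cycleOf a).support.card = p := by rw [← hcyc.orderOf, hord]
      have hne : ((x.cycleOf a).support ∩ y.support).Nonempty := by
        apply Finset.inter_nonempty_of_card_lt_card_add_card (Finset.subset_univ _)
          (Finset.subset_univ _)
        rw [Finset.card_univ, hcs, hys]; exact hmeet
      obtain ⟨b, hb⟩ := hne
      rw [Finset.mem_inter, mem_support_cycleOf_iff] at hb
      obtain ⟨⟨⟨i, hi⟩, _⟩, hby⟩ := hb
      exact ⟨x ^ i, Subgroup.zpow_mem _ hxG i, by rw [hi]; exact hby⟩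
    · exact ⟨1, one_mem _, by rw [Perm.one_apply, Perm.mem_support]; exact hya⟩
  exact ⟨hyc, hys, prim_of_cycle _ hyc hyG (by rw [hys]; exact hq) (by rw [hys]; exact hlt)⟩

/-- The closure of two even permutations containing the alternating group is isomorphic to an
alternating group on `Fin`. -/
theorem nonempty_equiv_alt_of_le (x y : Perm β) (hx : Perm.sign x = 1) (hy : Perm.sign y = 1)
    (h : alternatingGroup β ≤ closure ({x, y} : Set (Perm β))) :
    Nonempty (closure ({x, y} : Set (Perm β)) ≃* alternatingGroup (Fin (Fintype.card β))) := by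
  have heq : closure ({x, y} : Set (Perm β)) = alternatingGroup β := by
    apply le_antisymm _ h
    rw [closure_le]
    intro g hg
    simp only [Set.mem_insert_iff, Set.mem_singleton_iff] at hg
    rcases hg with rfl | rfl
    · exact Perm.mem_alternatingGroup.mpr hx
    · exact Perm.mem_alternatingGroup.mpr hy
  exact ⟨(MulEquiv.subgroupCongr heq).trans (Equiv.altCongrHom (Fintype.equivFin β))⟩

/-- The pairs of primes used for degree at most `m`. -/
def Good (m p q : ℕ) : Prop :=
  (3 ≤ p ∧ m < 2 * p ∧ p + 4 ≤ q ∧ q ≤ m) ∨ (p = 3 ∧ q = 5 ∧ m ≤ 6) ∨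
    (p = 5 ∧ q = 7 ∧ m ≤ 10) ∨ (p = 11 ∧ q = 13 ∧ m ≤ 16)

theorem main_abstract (x y : Perm β) {p q m : ℕ} (hp : p.Prime) (hq : q.Prime)
    (hxo : orderOf x = p) (hyo : orderOf y = q) (hcov : ∀ a, x a ≠ a ∨ y a ≠ a)
    (hm : Fintype.card β ≤ m) (hgood : Good m p q) :
    ∃ d : ℕ, 5 ≤ d ∧ Nonempty (closure ({x, y} : Set (Perm β)) ≃* alternatingGroup (Fin d)) := by
  have hxG : x ∈ closure ({x, y} : Set (Perm β)) := subset_closure (by simp)
  have hyG : y ∈ closure ({x, y} : Set (Perm β)) := subset_closure (by simp)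
  have hcx := isCycle_or_two_mul_le hp hxo
  have hsx : x.support.card ≤ Fintype.card β := Finset.card_le_univ _
  have hsy : y.support.card ≤ Fintype.card β := Finset.card_le_univ _
  -- numerical facts common to all cases
  have hnum : 3 ≤ p ∧ p < q ∧ Fintype.card β < p + q ∧ Fintype.card β < 2 * q ∧ 5 ≤ q := by
    rcases hgood with ⟨h1, h2, h3, h4⟩ | ⟨rfl, rfl, h⟩ | ⟨rfl, rfl, h⟩ | ⟨rfl, rfl, h⟩ <;>
      refine ⟨?_, ?_, ?_, ?_, ?_⟩ <;> omega
  obtain ⟨hp3, hpq, hmeet, hlt, hq5⟩ := hnum
  obtain ⟨hyc, hys, hprim⟩ := prim_of_orders x y hp hq hxo hyo hcov hmeet hlt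
  have hcard5 : 5 ≤ Fintype.card β := by omega
  have hxsign : Perm.sign x = 1 :=
    sign_eq_one_of_odd_order (by rw [hxo]; exact hp.odd_of_ne_two (by omega))
  have hysign : Perm.sign y = 1 :=
    sign_eq_one_of_odd_order (by rw [hyo]; exact hq.odd_of_ne_two (by omega))
  -- the generic conclusion once the alternating group is contained
  have fin : alternatingGroup β ≤ closure ({x, y} : Set (Perm β)) →
      ∃ d : ℕ, 5 ≤ d ∧ Nonempty (closure ({x, y} : Set (Perm β)) ≃* alternatingGroup (Fin d)) :=
    fun h => ⟨Fintype.card β, hcard5, nonempty_equiv_alt_of_le x y hxsign hysign h⟩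
  -- Jordan with `x`
  have jx : x.IsCycle → p + 3 ≤ Fintype.card β →
      alternatingGroup β ≤ closure ({x, y} : Set (Perm β)) := fun hxc h =>
    Cfsg.Agent.S0713.result _ hprim hp hcard5 h hxc (by rw [← hxc.orderOf, hxo]) hxG
  rcases hgood with ⟨h1, h2, h3, h4⟩ | ⟨rfl, rfl, h⟩ | ⟨rfl, rfl, h⟩ | ⟨rfl, rfl, h⟩
  · -- generic pair
    have hxc : x.IsCycle := hcx.resolve_right (by omega)
    exact fin (jx hxc (by omega))
  · -- (3, 5)
    rcases hcx with hxc | h6
    · apply fin
      have h3c : x.IsThreeCycle := by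
        rw [← card_support_eq_three_iff, ← hxc.orderOf, hxo]
      exact alternatingGroup_le_of_isPreprimitive_of_isThreeCycle_mem hprim h3c hxG
    · have hc6 : Fintype.card β = 6 := by omega
      have hfull : x.support = Finset.univ := Finset.eq_univ_of_card _ (by omega)
      have hfpf : ∀ a, x a ≠ a := fun a => by
        rw [← Perm.mem_support, hfull]; exact Finset.mem_univ a
      rcases special6 hc6 x y hxo hfpf hyo with h' | h'
      · exact fin h'
      · exact ⟨5, le_refl 5, h'⟩
  · -- (5, 7)
    apply fin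
    rcases Nat.lt_or_ge (Fintype.card β) 10 with h10 | h10
    · have hxc : x.IsCycle := hcx.resolve_right (by omega)
      rcases Nat.lt_or_ge (Fintype.card β) 8 with h8 | h8
      · exact tw7 (by omega) x y hxo hyo
      · exact jx hxc (by omega)
    · exact Cfsg.Agent.S0713.result _ hprim hq hcard5 (by omega) hyc hys hyG
  · -- (11, 13)
    apply fin
    have hxc : x.IsCycle := hcx.resolve_right (by omega)
    rcases Nat.lt_or_ge (Fintype.card β) 14 with h14 | h14
    · exact tw13 (by omega) x y hxo hyo
    · exact jx hxc (by omega)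

end

end Cfsg.Agent.Lib.helper61.CycGen
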