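import Mathlib
import Cfsg.Agent.Lib.helper61.SL25Unique
import Cfsg.Agent.Lib.helper61.Act16

/-!
# Recognising `GL_3(2)` inside the automorphism group of an elementary abelian group of order 16

* `G3`: a non-solvable group acting faithfully on an elementary abelian group of order `8`
  is `GL_3(2)`.
* `linA`: a non-solvable group acting faithfully on an elementary abelian group of order `16`,
  without nontrivial normal `2`-subgroups and containing an element of order `7`, is `GL_3(2)`
  or has order divisible by `5`.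
-/

set_option autoImplicit false

namespace Cfsg.Agent.Lib.helper61.GL3Rec

universe u

open MulAction Cfsg.Agent.Lib.helper61.Act16

/-- Groups of order `84` are solvable. -/
theorem isSolvable_of_card_84 (G : Type u) [Group G] [Finite G] (h : Nat.card G = 84) :
    Group.IsSolvable G := by
  classical
  have : Fact (Nat.Prime 7) := ⟨by norm_num⟩
  obtain ⟨P⟩ : Nonempty (Sylow 7 G) := inferInstance
  have hP := Cfsg.Agent.Lib.helper11.card_sylow_of_card_eq 7 1 12 (by norm_num) (by rw [h]; norm_num) P
  have hmod := card_sylow_modEq_one 7 G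
  have hdvd : Nat.card (Sylow 7 G) ∣ 12 := by
    have := P.card_dvd_index
    rwa [hP.2] at this
  have hn7 : Nat.card (Sylow 7 G) = 1 := by
    have hle : Nat.card (Sylow 7 G) ≤ 12 := Nat.le_of_dvd (by norm_num) hdvd
    unfold Nat.ModEq at hmod
    generalize Nat.card (Sylow 7 G) = n at *
    interval_cases n <;> omega
  have : Subsingleton (Sylow 7 G) := (Nat.card_eq_one_iff_unique.mp hn7).1
  have hPn : (P : Subgroup G).Normal := Sylow.normal_of_subsingleton P
  have s1 : Group.IsSolvable (P : Subgroup G) :=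
    SL25U.isSolvable_of_card_lt_sixty _ (by rw [hP.1]; norm_num)
  have s2 : Group.IsSolvable (G ⧸ (P : Subgroup G)) := by
    apply SL25U.isSolvable_of_card_lt_sixty
    have := Subgroup.card_eq_card_quotient_mul_card_subgroup (P : Subgroup G)
    rw [h, hP.1] at this
    omega
  exact Group.isSolvable_of_ker_le_range (P : Subgroup G).subtype
    (QuotientGroup.mk' (P : Subgroup G)) (by simp)

/-- A non-solvable group acting faithfully on an elementary abelian group of order `8`
is `GL_3(2)`. -/
theorem G3 {H : Type u} [Group H] [Finite H] {U : Type*} [AddCommGroup U]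
    (hU : Nat.card U = 8) (h2 : ∀ x : U, x + x = 0)
    (φ : H →* AddMonoid.End U) (hφ : Function.Injective φ) (hns : ¬ Group.IsSolvable H) :
    Nonempty (H ≃* Matrix.GeneralLinearGroup (Fin 3) (ZMod 2)) := by
  classical
  have h2' : ∀ x : U, 2 • x = 0 := fun x => by rw [two_nsmul]; exact h2 x
  let _mod : Module (ZMod 2) U := AddCommGroup.zmodModule h2'
  have _fin : Finite U := Nat.finite_of_card_ne_zero (by rw [hU]; norm_num)
  have hrank : Module.finrank (ZMod 2) U = 3 := by
    have h := Module.natCard_eq_pow_finrank (K := ZMod 2) (V := U)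
    rw [hU, Nat.card_zmod] at h
    have h3 : (2 : ℕ) ^ 3 = 2 ^ Module.finrank (ZMod 2) U := by rw [← h]; norm_num
    exact (Nat.pow_right_injective (le_refl 2) h3).symm
  let b : Module.Basis (Fin 3) (ZMod 2) U := Module.finBasisOfFinrankEq (ZMod 2) U hrank
  let toLin : AddMonoid.End U →* Module.End (ZMod 2) U :=
    { toFun := fun f => AddMonoidHom.toZModLinearMap 2 f
      map_one' := rfl
      map_mul' := fun f g => rfl }
  let ψ : H →* Matrix (Fin 3) (Fin 3) (ZMod 2) :=
    ((LinearMap.toMatrixAlgEquiv b : Module.End (ZMod 2) U →* Matrix (Fin 3) (Fin 3) (ZMod 2)).comp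
      toLin).comp φ
  have hψ : Function.Injective ψ := by
    intro x y hxy
    apply hφ
    have h1 : toLin (φ x) = toLin (φ y) := (LinearMap.toMatrixAlgEquiv b).injective hxy
    apply AddMonoidHom.ext
    intro u
    exact congrArg (fun l : Module.End (ZMod 2) U => l u) h1
  let Ψ : H →* Matrix.GeneralLinearGroup (Fin 3) (ZMod 2) := ψ.toHomUnits
  have hΨ : Function.Injective Ψ := by
    intro x y hxy
    apply hψ
    exact congrArg Units.val hxy
  have hGL : Nat.card (Matrix.GeneralLinearGroup (Fin 3) (ZMod 2)) = 168 := by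
    rw [Matrix.card_GL_field]
    simp [Fin.prod_univ_three]
  have hdvd : Nat.card H ∣ 168 := by
    rw [← hGL]
    exact Subgroup.card_dvd_of_injective Ψ hΨ
  have h60 : 60 ≤ Nat.card H := by
    by_contra hlt
    exact hns (SL25U.isSolvable_of_card_lt_sixty H (by omega))
  have h84 : Nat.card H ≠ 84 := fun h => hns (isSolvable_of_card_84 H h)
  have h168 : Nat.card H = 168 := by
    obtain ⟨k, hk⟩ := hdvd
    have hk2 : k ≤ 2 := by nlinarith
    interval_cases k <;> omega
  have hbij : Function.Bijective Ψ := hΨ.bijective_of_nat_card_le (by rw [hGL, h168])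
  exact ⟨MulEquiv.ofBijective Ψ hbij⟩

/-- A homomorphism whose kernel consists of elements of square one is injective when there
are no nontrivial normal `2`-subgroups. -/
theorem inj_of_sq {H : Type*} [Group H] {M : Type*} [Monoid M] (φ : H →* M)
    (hN2 : ∀ N : Subgroup H, N.Normal → IsPGroup 2 N → N = ⊥)
    (hsq : ∀ k : H, φ k = 1 → k ^ 2 = 1) : Function.Injective φ := by
  have hK : φ.ker = ⊥ := by
    apply hN2 _ (MonoidHom.normal_ker φ)
    intro k
    refine ⟨1, ?_⟩
    apply Subtype.ext
    rw [pow_one]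
    exact hsq k.1 (MonoidHom.mem_ker.mp k.2)
  intro a b hab
  have h1 : φ (b⁻¹ * a) = 1 := by
    rw [map_mul, hab, ← map_mul, inv_mul_cancel, map_one]
  have h2 : b⁻¹ * a ∈ φ.ker := MonoidHom.mem_ker.mpr h1
  rw [hK, Subgroup.mem_bot] at h2
  calc a = b * (b⁻¹ * a) := by group
    _ = b := by rw [h2, mul_one]

section LinA

variable {V : Type*} [AddCommGroup V] [Fintype V] {H : Type u} [Group H] [DistribMulAction H V]
  [Finite H] [FaithfulSMul H V]

/-- The case where a nonzero vector is fixed by the whole group. -/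
theorem of_fixed (hV : Fintype.card V = 16) (h2 : ∀ x : V, x + x = 0)
    (hN2 : ∀ N : Subgroup H, N.Normal → IsPGroup 2 N → N = ⊥)
    (hns : ¬ Group.IsSolvable H) (v0 : V) (hv0 : v0 ≠ 0) (hfix : ∀ h : H, h • v0 = v0) :
    Nonempty (H ≃* Matrix.GeneralLinearGroup (Fin 3) (ZMod 2)) := by
  classical
  let N0 : AddSubgroup V := ext2 h2 ⊥ v0
  have hN0 : ∀ y, y ∈ N0 ↔ y = 0 ∨ y = v0 := by
    intro y
    constructor
    · rintro (h | h)
      · left
        exact AddSubgroup.mem_bot.mp h
      · right
        exact eq_of_add_eq_zero h2 (AddSubgroup.mem_bot.mp h)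
    · rintro (h | h)
      · left
        rw [h]
        exact AddSubgroup.zero_mem _
      · right
        rw [h, h2]
        exact AddSubgroup.zero_mem _
  have hN0c : Nat.card N0 = 2 := by
    have h1 := card_ext2_ge h2 (K := (⊥ : AddSubgroup V)) (x := v0)
      (fun h => hv0 (AddSubgroup.mem_bot.mp h))
    have h3 := card_ext2_le h2 (⊥ : AddSubgroup V) v0
    rw [AddSubgroup.card_bot] at h1 h3
    show Nat.card (ext2 h2 ⊥ v0) = 2
    omega
  have hUc : Nat.card (V ⧸ N0) = 8 := by
    have h1 := AddSubgroup.card_eq_card_quotient_mul_card_addSubgroup N0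
    rw [hN0c, Nat.card_eq_fintype_card, hV] at h1
    omega
  have hU2 : ∀ x : V ⧸ N0, x + x = 0 := by
    intro x
    obtain ⟨v, rfl⟩ := QuotientAddGroup.mk_surjective x
    show ((v + v : V) : V ⧸ N0) = 0
    rw [h2]
    rfl
  have hinv : ∀ h : H, N0 ≤ N0.comap (DistribSMul.toAddMonoidHom V h) := by
    intro h y hy
    rw [AddSubgroup.mem_comap]
    show h • y ∈ N0
    rcases (hN0 y).mp hy with h0 | h0
    · rw [h0, smul_zero]
      exact N0.zero_mem
    · rw [h0, hfix h]
      exact (hN0 v0).mpr (Or.inr rfl)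
  let φ : H →* AddMonoid.End (V ⧸ N0) :=
    { toFun := fun h => QuotientAddGroup.map N0 N0 (DistribSMul.toAddMonoidHom V h) (hinv h)
      map_one' := by
        apply AddMonoidHom.ext
        intro x
        obtain ⟨v, rfl⟩ := QuotientAddGroup.mk_surjective x
        show (((1 : H) • v : V) : V ⧸ N0) = (v : V ⧸ N0)
        rw [one_smul]
      map_mul' := by
        intro a b
        apply AddMonoidHom.ext
        intro x
        obtain ⟨v, rfl⟩ := QuotientAddGroup.mk_surjective x
        show (((a * b) • v : V) : V ⧸ N0) = ((a • (b • v) : V) : V ⧸ N0)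
        rw [mul_smul] }
  have hφ : ∀ (h : H) (v : V), φ h (v : V ⧸ N0) = ((h • v : V) : V ⧸ N0) := fun _ _ => rfl
  have hsq : ∀ k : H, φ k = 1 → k ^ 2 = 1 := by
    intro k hk
    apply FaithfulSMul.eq_of_smul_eq_smul (α := V)
    intro v
    rw [one_smul, pow_two, mul_smul]
    have h1 : ((k • v : V) : V ⧸ N0) = (v : V ⧸ N0) := by
      rw [← hφ, hk]
      rfl
    rw [QuotientAddGroup.eq] at h1
    have hd : k • v + v ∈ N0 := by
      have h3 : -(k • v) = k • v := neg_eq_of_add_eq_zero_right (h2 _)
      rwa [h3] at h1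
    have hkd : k • (k • v + v) = k • v + v := by
      rcases (hN0 _).mp hd with h0 | h0
      · rw [h0, smul_zero]
      · rw [h0, hfix k]
    rw [smul_add] at hkd
    exact add_right_cancel (hkd.trans (add_comm _ _))
  have hinj := inj_of_sq φ hN2 hsq
  exact G3 hUc hU2 φ hinj hns

/-- The case where the vector fixed by an element of order `7` has an orbit of length `8`. -/
theorem of_orbit8 (hV : Fintype.card V = 16) (h2 : ∀ x : V, x + x = 0)
    (hN2 : ∀ N : Subgroup H, N.Normal → IsPGroup 2 N → N = ⊥)
    (hns : ¬ Group.IsSolvable H) (g : H) (hg : orderOf g = 7) (v0 : V) (hv0 : v0 ≠ 0)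
    (hgv0 : g • v0 = v0) (h8 : (orbit H v0).ncard = 8) :
    Nonempty (H ≃* Matrix.GeneralLinearGroup (Fin 3) (ZMod 2)) := by
  classical
  have hg7 : g ^ 7 = 1 := by
    rw [← hg]
    exact pow_orderOf_eq_one g
  have h7 : ∀ x : V, (7 : ℕ) • x = x := by
    intro x
    rw [show (7 : ℕ) = 1 + 2 + 2 + 2 from rfl, add_nsmul, add_nsmul, add_nsmul, two_nsmul, h2,
      one_nsmul, add_zero, add_zero, add_zero]
  -- the norm map of `g`
  let Nm : V →+ V := ∑ i ∈ Finset.range 7, DistribSMul.toAddMonoidHom V (g ^ i)
  have hNm : ∀ x, Nm x = ∑ i ∈ Finset.range 7, (g ^ i) • x := by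
    intro x
    show (∑ i ∈ Finset.range 7, DistribSMul.toAddMonoidHom V (g ^ i)) x = _
    rw [AddMonoidHom.finsetSum_apply]
    rfl
  have hshift : ∀ x, ∑ i ∈ Finset.range 7, (g ^ (i + 1)) • x = Nm x := by
    intro x
    rw [hNm, Finset.sum_range_succ (fun i => (g ^ (i + 1)) • x) 6,
      Finset.sum_range_succ' (fun i => (g ^ i) • x) 6]
    show _ + (g ^ 7) • x = _ + (g ^ 0) • x
    rw [hg7, pow_zero]
  have hNg : ∀ x, Nm (g • x) = Nm x := by
    intro x
    rw [← hshift x, hNm]
    apply Finset.sum_congr rfl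
    intro i _
    rw [pow_succ, mul_smul]
  have hgN : ∀ x, g • Nm x = Nm x := by
    intro x
    calc g • Nm x = g • ∑ i ∈ Finset.range 7, (g ^ i) • x := by rw [hNm]
      _ = ∑ i ∈ Finset.range 7, (g ^ (i + 1)) • x := by
        rw [Finset.smul_sum]
        apply Finset.sum_congr rfl
        intro i _
        rw [pow_succ', mul_smul]
      _ = Nm x := hshift x
  have hN01 : ∀ x, Nm x = 0 ∨ Nm x = v0 := by
    intro x
    by_cases h : Nm x = 0
    · exact Or.inl h
    · exact Or.inr (fix7_unique hV h2 g hg (hgN x) hgv0 h hv0)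
  have hpowv0 : ∀ i : ℕ, (g ^ i) • v0 = v0 := by
    intro i
    induction i with
    | zero => rw [pow_zero, one_smul]
    | succ i ih => rw [pow_succ, mul_smul, hgv0, ih]
  have hNv0 : Nm v0 = v0 := by
    rw [hNm, Finset.sum_congr rfl (fun i _ => hpowv0 i), Finset.sum_const, Finset.card_range]
    exact h7 v0
  have hv0W : v0 ∉ Nm.ker := by
    intro h
    rw [AddMonoidHom.mem_ker, hNv0] at h
    exact hv0 h
  have hcases : ∀ x, x ∈ Nm.ker ∨ x + v0 ∈ Nm.ker := by
    intro x
    rcases hN01 x with h | h
    · exact Or.inl (AddMonoidHom.mem_ker.mpr h)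
    · right
      rw [AddMonoidHom.mem_ker, map_add, h, hNv0, h2]
  have hext : ext2 h2 Nm.ker v0 = ⊤ := by
    rw [eq_top_iff]
    intro x _
    exact hcases x
  have hWc : Nat.card Nm.ker = 8 := by
    have h1 := card_ext2_ge h2 hv0W
    have h3 := card_ext2_le h2 Nm.ker v0
    rw [hext, AddSubgroup.card_top, Nat.card_eq_fintype_card (α := V), hV] at h1 h3
    omega
  -- the nonzero vectors outside the orbit
  have hOsub : orbit H v0 ⊆ {y : V | y ≠ 0} := orbit_sub hv0
  let B : Set V := {y : V | y ≠ 0} \ orbit H v0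
  have hBc : B.ncard = 7 := by
    show ({y : V | y ≠ 0} \ orbit H v0).ncard = 7
    rw [Set.ncard_sdiff hOsub (Set.toFinite _), ncard_ne_zero_set hV, h8]
  have hBinv : ∀ h : H, ∀ y, y ∈ B → h • y ∈ B := by
    intro h y hy
    refine ⟨?_, ?_⟩
    · show h • y ≠ 0
      rw [Ne, smul_eq_zero_iff_eq]
      exact hy.1
    · intro hmem
      apply hy.2
      obtain ⟨k, hk⟩ := MulAction.mem_orbit_iff.mp hmem
      refine MulAction.mem_orbit_iff.mpr ⟨h⁻¹ * k, ?_⟩
      rw [mul_smul, hk, inv_smul_smul]
  have hnotfix : ¬ ∀ h : H, h • v0 = v0 := by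
    intro hall
    have h1 : orbit H v0 = {v0} := by
      ext y
      constructor
      · intro hy
        obtain ⟨k, hk⟩ := MulAction.mem_orbit_iff.mp hy
        rw [← hk, hall k]
        rfl
      · intro hy
        rw [Set.mem_singleton_iff.mp hy]
        exact mem_orbit_self _
    rw [h1, Set.ncard_singleton] at h8
    omega
  have hBW : ∀ y ∈ B, Nm y = 0 := by
    have : Fact (Nat.Prime 7) := ⟨by norm_num⟩
    let B' : Set V := {y | y ∈ B ∧ Nm y = v0}
    have hmod := ncard_modEq_fixed 7 (fun x : V => g • x) B'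
      (fun y hy => ⟨hBinv g y hy.1, by rw [hNg]; exact hy.2⟩)
      (fun y _ => by
        rw [smul_iterate, hg7]
        exact one_smul _ y)
    have e : {y ∈ B' | g • y = y} = ∅ := by
      ext y
      simp only [Set.mem_empty_iff_false, iff_false]
      rintro ⟨hy, hgy⟩
      have hy0 : y ≠ 0 := hy.1.1
      have : y = v0 := fix7_unique hV h2 g hg hgy hgv0 hy0 hv0
      exact hy.1.2 (this ▸ mem_orbit_self _)
    rw [e, Set.ncard_empty] at hmod
    have hsub : B' ⊆ B := fun y hy => hy.1
    have hle : B'.ncard ≤ 7 := by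
      rw [← hBc]
      exact Set.ncard_le_ncard hsub (Set.toFinite _)
    have h07 : B'.ncard = 0 ∨ B'.ncard = 7 := by
      unfold Nat.ModEq at hmod
      omega
    rcases h07 with h0 | h7'
    · intro y hy
      rcases hN01 y with h | h
      · exact h
      · exfalso
        have hy' : y ∈ B' := ⟨hy, h⟩
        rw [Set.ncard_eq_zero (Set.toFinite _)] at h0
        rw [h0] at hy'
        exact hy'
    · exfalso
      have hBB : B' = B := Set.eq_of_subset_of_ncard_le hsub (by rw [hBc, h7']) (Set.toFinite _)
      have hall : ∀ y ∈ B, Nm y = v0 := by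
        intro y hy
        have hy' : y ∈ B' := hBB ▸ hy
        exact hy'.2
      let Bf : Finset V := Finset.univ.filter (fun y => y ∈ B)
      have hBf : ∀ y, y ∈ Bf ↔ y ∈ B := by
        intro y
        simp [Bf]
      have hBfc : Bf.card = 7 := by
        rw [← hBc, ← Set.ncard_coe_finset]
        congr 1
        ext y
        exact hBf y
      have hσ : ∀ h : H, h • (∑ y ∈ Bf, y) = ∑ y ∈ Bf, y := by
        intro h
        rw [Finset.smul_sum]
        apply Finset.sum_bij (fun y _ => h • y)
        · intro y hy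
          exact (hBf _).mpr (hBinv h y ((hBf y).mp hy))
        · intro y1 _ y2 _ h12
          exact MulAction.injective h h12
        · intro z hz
          refine ⟨h⁻¹ • z, (hBf _).mpr (hBinv h⁻¹ z ((hBf z).mp hz)), ?_⟩
          exact smul_inv_smul h z
        · intro y _
          rfl
      have e1 : ∑ y ∈ Bf, Nm y = v0 := by
        rw [Finset.sum_congr rfl (fun y hy => hall y ((hBf y).mp hy)), Finset.sum_const, hBfc]
        exact h7 v0
      have e2 : ∑ y ∈ Bf, Nm y = ∑ y ∈ Bf, y := by
        rw [Finset.sum_congr rfl (fun y _ => hNm y), Finset.sum_comm]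
        rw [Finset.sum_congr rfl (fun i _ => (Finset.smul_sum (r := g ^ i) (f := fun y => y)
          (s := Bf)).symm)]
        have hpow : ∀ i : ℕ, (g ^ i) • (∑ y ∈ Bf, y) = ∑ y ∈ Bf, y := fun i => hσ (g ^ i)
        rw [Finset.sum_congr rfl (fun i _ => hpow i), Finset.sum_const, Finset.card_range]
        exact h7 _
      apply hnotfix
      intro h
      have h3 : v0 = ∑ y ∈ Bf, y := e1.symm.trans e2
      rw [h3]
      exact hσ h
  have hWset : (Nm.ker : Set V) = insert 0 B := by
    symm
    apply Set.eq_of_subset_of_ncard_le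
    · intro y hy
      rcases hy with hy | hy
      · rw [hy]
        exact Nm.ker.zero_mem
      · exact AddMonoidHom.mem_ker.mpr (hBW y hy)
    · rw [Set.ncard_insert_of_notMem (fun h => h.1 rfl) (Set.toFinite _), hBc,
        ← Nat.card_coe_set_eq]
      exact hWc.le
    · exact Set.toFinite _
  have hWinv : ∀ h : H, ∀ y, y ∈ Nm.ker → h • y ∈ Nm.ker := by
    intro h y hy
    have hy' : y ∈ (Nm.ker : Set V) := hy
    rw [hWset] at hy'
    have : h • y ∈ (Nm.ker : Set V) := by
      rw [hWset]
      rcases hy' with h0 | h0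
      · left
        rw [h0, smul_zero]
      · right
        exact hBinv h y h0
    exact this
  let φ : H →* AddMonoid.End ↥Nm.ker :=
    { toFun := fun h => ((DistribSMul.toAddMonoidHom V h).comp Nm.ker.subtype).codRestrict
        Nm.ker (fun w => hWinv h w.1 w.2)
      map_one' := by
        apply AddMonoidHom.ext
        intro w
        apply Subtype.ext
        show (1 : H) • (w : V) = w
        rw [one_smul]
      map_mul' := by
        intro a b
        apply AddMonoidHom.ext
        intro w
        apply Subtype.ext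
        show (a * b) • (w : V) = a • (b • (w : V))
        rw [mul_smul] }
  have hφ : ∀ (h : H) (w : ↥Nm.ker), ((φ h w : ↥Nm.ker) : V) = h • (w : V) := fun _ _ => rfl
  have hsq : ∀ k : H, φ k = 1 → k ^ 2 = 1 := by
    intro k hk
    have hkw : ∀ w ∈ Nm.ker, k • w = w := by
      intro w hw
      have := hφ k ⟨w, hw⟩
      rw [hk] at this
      exact this.symm
    have hu : k • v0 + v0 ∈ Nm.ker := by
      rcases hcases (k • v0) with h | h
      · exfalso
        apply hv0W
        have := hWinv k⁻¹ _ h
        rwa [inv_smul_smul] at this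
      · exact h
    have hku := hkw _ hu
    rw [smul_add] at hku
    have hkkv0 : k • k • v0 = v0 := add_right_cancel (hku.trans (add_comm _ _))
    apply FaithfulSMul.eq_of_smul_eq_smul (α := V)
    intro x
    rw [one_smul, pow_two, mul_smul]
    rcases hcases x with h | h
    · rw [hkw x h, hkw x h]
    · have h1 := hkw _ h
      rw [smul_add] at h1
      -- h1 : k • x + k • v0 = x + v0
      have h3 : k • (k • x + k • v0) = k • (x + v0) := congrArg (fun z => k • z) h1
      rw [smul_add, smul_add, hkkv0, h1] at h3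
      exact add_right_cancel h3
  have hinj := inj_of_sq φ hN2 hsq
  have hU2 : ∀ x : ↥Nm.ker, x + x = 0 := fun x => Subtype.ext (h2 x.1)
  exact G3 hWc hU2 φ hinj hns

/-- A non-solvable group acting faithfully on an elementary abelian group of order `16`,
without nontrivial normal `2`-subgroups and containing an element of order `7`, is `GL_3(2)`
or has order divisible by `5`. -/
theorem linA (hV : Fintype.card V = 16) (h2 : ∀ x : V, x + x = 0)
    (hN2 : ∀ N : Subgroup H, N.Normal → IsPGroup 2 N → N = ⊥)
    (hns : ¬ Group.IsSolvable H) (g : H) (hg : orderOf g = 7) :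
    Nonempty (H ≃* Matrix.GeneralLinearGroup (Fin 3) (ZMod 2)) ∨ 5 ∣ Nat.card H := by
  classical
  have : Fact (Nat.Prime 7) := ⟨by norm_num⟩
  have hfix2 := fix7 (V := V) hV g hg
  obtain ⟨v0, hv0mem, hv0⟩ : ∃ x ∈ fixG (V := V) g, x ≠ 0 := by
    rcases AddSubgroup.bot_or_exists_ne_zero (fixG (V := V) g) with h | h
    · rw [h, AddSubgroup.card_bot] at hfix2
      omega
    · exact h
  have hgv0 : g • v0 = v0 := hv0mem
  have hOsub : orbit H v0 ⊆ {y : V | y ≠ 0} := orbit_sub hv0
  have hle : (orbit H v0).ncard ≤ 15 := by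
    rw [← ncard_ne_zero_set hV]
    exact Set.ncard_le_ncard hOsub (Set.toFinite _)
  have hpos : 0 < (orbit H v0).ncard := by
    rw [Set.ncard_pos (Set.toFinite _)]
    exact ⟨v0, mem_orbit_self _⟩
  have hmod := ncard_modEq_fixed 7 (fun y : V => g • y) (orbit H v0)
    (fun y hy => by
      obtain ⟨k, hk⟩ := MulAction.mem_orbit_iff.mp hy
      exact MulAction.mem_orbit_iff.mpr ⟨g * k, by rw [mul_smul, hk]⟩)
    (fun y _ => by
      rw [smul_iterate, ← hg, pow_orderOf_eq_one]
      exact one_smul _ y)
  have e : {y ∈ orbit H v0 | g • y = y} = {v0} := by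
    ext y
    constructor
    · rintro ⟨hy, hty⟩
      have hy0 : y ≠ 0 := hOsub hy
      exact fix7_unique hV h2 g hg hty hgv0 hy0 hv0
    · intro hy
      have hy' : y = v0 := hy
      rw [hy']
      exact ⟨mem_orbit_self _, hgv0⟩
  rw [e, Set.ncard_singleton] at hmod
  have hs : (orbit H v0).ncard = 1 ∨ (orbit H v0).ncard = 8 ∨ (orbit H v0).ncard = 15 := by
    unfold Nat.ModEq at hmod
    omega
  rcases hs with h1 | h8 | h15
  · left
    obtain ⟨a, ha⟩ := Set.ncard_eq_one.mp h1
    have hv0a : v0 = a := by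
      have : v0 ∈ orbit H v0 := mem_orbit_self _
      rw [ha] at this
      exact this
    have hfix : ∀ h : H, h • v0 = v0 := by
      intro h
      have : h • v0 ∈ orbit H v0 := MulAction.mem_orbit _ _
      rw [ha, Set.mem_singleton_iff] at this
      rw [this]
      exact hv0a.symm
    exact of_fixed hV h2 hN2 hns v0 hv0 hfix
  · left
    exact of_orbit8 hV h2 hN2 hns g hg v0 hv0 hgv0 h8
  · right
    have hmul := Subgroup.card_mul_index (stabilizer H v0)
    rw [index_stabilizer, h15] at hmul
    rw [← hmul]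
    exact Dvd.intro_left _ (by norm_num : (3 : ℕ) * 5 = 15) |>.trans (Dvd.intro_left _ rfl)

end LinA

end Cfsg.Agent.Lib.helper61.GL3Rec
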