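import Cfsg.Agent.Lib.helper61.J1Data

/-!
Kernel evaluation of the certificate checks for `J₁` (helper61).
The two closure checks are cut into chunks of 3 blocks so that no single declaration needs much memory.
-/

set_option autoImplicit false

namespace Cfsg.Agent.Lib.helper61.J1

theorem chkA_split (gen : M7) (n : ℕ) : ∀ (bs : List (M7 × List ℕ))
    (ws : List (List (ℕ × ℕ × ℕ))),
    chkA gen (bs.take n) (ws.take n) = true → chkA gen (bs.drop n) (ws.drop n) = true →
    chkA gen bs ws = true := by
  induction n with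
  | zero =>
    intro bs ws _ h
    simpa using h
  | succ n ih =>
    intro bs ws h1 h2
    match bs, ws, h1, h2 with
    | [], [], _, _ => rfl
    | [], _ :: _, h1, _ => simp [chkA] at h1
    | _ :: _, [], h1, _ => simp [chkA] at h1
    | b :: bs, w :: ws, h1, h2 =>
      simp only [List.take_succ_cons, List.drop_succ_cons, chkA, Bool.and_eq_true] at h1 h2 ⊢
      exact ⟨h1.1, ih bs ws h1.2 h2⟩

/-- `Blocks` with the first `3 * k` entries dropped. -/
def BDA : ℕ → List (M7 × List ℕ)
  | 0 => Blocks
  | k + 1 => (BDA k).drop 3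

/-- `WX` with the first `3 * k` entries dropped. -/
def WDX : ℕ → List (List (ℕ × ℕ × ℕ))
  | 0 => WX
  | k + 1 => (WDX k).drop 3

/-- `WY` with the first `3 * k` entries dropped. -/
def WDY : ℕ → List (List (ℕ × ℕ × ℕ))
  | 0 => WY
  | k + 1 => (WDY k).drop 3

theorem chkA_X0 : chkA Xm ((BDA 0).take 3) ((WDX 0).take 3) = true := by decide +kernel

theorem chkA_X1 : chkA Xm ((BDA 1).take 3) ((WDX 1).take 3) = true := by decide +kernel

theorem chkA_X2 : chkA Xm ((BDA 2).take 3) ((WDX 2).take 3) = true := by decide +kernel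

theorem chkA_X3 : chkA Xm ((BDA 3).take 3) ((WDX 3).take 3) = true := by decide +kernel

theorem chkA_X4 : chkA Xm ((BDA 4).take 3) ((WDX 4).take 3) = true := by decide +kernel

theorem chkA_X5 : chkA Xm ((BDA 5).take 3) ((WDX 5).take 3) = true := by decide +kernel

theorem chkA_X6 : chkA Xm ((BDA 6).take 3) ((WDX 6).take 3) = true := by decide +kernel

theorem chkA_X7 : chkA Xm (BDA 7) (WDX 7) = true := by decide +kernel

theorem chkA_X : chkA Xm Blocks WX = true :=
  chkA_split Xm 3 (BDA 0) (WDX 0) chkA_X0 <|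
  chkA_split Xm 3 (BDA 1) (WDX 1) chkA_X1 <|
  chkA_split Xm 3 (BDA 2) (WDX 2) chkA_X2 <|
  chkA_split Xm 3 (BDA 3) (WDX 3) chkA_X3 <|
  chkA_split Xm 3 (BDA 4) (WDX 4) chkA_X4 <|
  chkA_split Xm 3 (BDA 5) (WDX 5) chkA_X5 <|
  chkA_split Xm 3 (BDA 6) (WDX 6) chkA_X6 chkA_X7

theorem chkA_Y0 : chkA Ym ((BDA 0).take 3) ((WDY 0).take 3) = true := by decide +kernel

theorem chkA_Y1 : chkA Ym ((BDA 1).take 3) ((WDY 1).take 3) = true := by decide +kernel

theorem chkA_Y2 : chkA Ym ((BDA 2).take 3) ((WDY 2).take 3) = true := by decide +kernel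

theorem chkA_Y3 : chkA Ym ((BDA 3).take 3) ((WDY 3).take 3) = true := by decide +kernel

theorem chkA_Y4 : chkA Ym ((BDA 4).take 3) ((WDY 4).take 3) = true := by decide +kernel

theorem chkA_Y5 : chkA Ym ((BDA 5).take 3) ((WDY 5).take 3) = true := by decide +kernel

theorem chkA_Y6 : chkA Ym ((BDA 6).take 3) ((WDY 6).take 3) = true := by decide +kernel

theorem chkA_Y7 : chkA Ym (BDA 7) (WDY 7) = true := by decide +kernel

theorem chkA_Y : chkA Ym Blocks WY = true :=
  chkA_split Ym 3 (BDA 0) (WDY 0) chkA_Y0 <|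
  chkA_split Ym 3 (BDA 1) (WDY 1) chkA_Y1 <|
  chkA_split Ym 3 (BDA 2) (WDY 2) chkA_Y2 <|
  chkA_split Ym 3 (BDA 3) (WDY 3) chkA_Y3 <|
  chkA_split Ym 3 (BDA 4) (WDY 4) chkA_Y4 <|
  chkA_split Ym 3 (BDA 5) (WDY 5) chkA_Y5 <|
  chkA_split Ym 3 (BDA 6) (WDY 6) chkA_Y6 chkA_Y7

theorem chkT_true : chkT = true := by decide +kernel

theorem chkR_true : chkR = true := by decide +kernel

theorem tw_check : wordF tw one (fun m => M7.beq m tm) = true := by decide +kernel

theorem aw_check : wordF aw one (fun m => M7.beq m am) = true := by decide +kernel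

theorem bw_check : wordF bw one (fun m => M7.beq m bm) = true := by decide +kernel

theorem ab_check : (mulF am tm fun x => mulF tm am fun y => M7.beq x y) = true ∧
    (mulF bm tm fun x => mulF tm bm fun y => M7.beq x y) = true ∧
    (pwF am 3 fun y => M7.beq y one) = true ∧ (pwF bm 5 fun y => M7.beq y one) = true ∧
    (mulF am bm fun x => pwF x 2 fun y => M7.beq y one) = true ∧ M7.beq am one = false ∧
    (pwF tm 2 fun y => M7.beq y one) = true ∧ M7.beq tm one = false := by decide +kernel

theorem ow2_check : wordF ow2 one (fun m => ordF m 1 m) = true := by decide +kernel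

theorem ow3_check : wordF ow3 one (fun m => ordF m 2 m) = true := by decide +kernel

theorem ow5_check : wordF ow5 one (fun m => ordF m 4 m) = true := by decide +kernel

theorem ow6_check : wordF ow6 one (fun m => ordF m 5 m) = true := by decide +kernel

theorem ow7_check : wordF ow7 one (fun m => ordF m 6 m) = true := by decide +kernel

theorem ow10_check : wordF ow10 one (fun m => ordF m 9 m) = true := by decide +kernel

theorem ow11_check : wordF ow11 one (fun m => ordF m 10 m) = true := by decide +kernel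

theorem ow15_check : wordF ow15 one (fun m => ordF m 14 m) = true := by decide +kernel

theorem ow19_check : wordF ow19 one (fun m => ordF m 18 m) = true := by decide +kernel

end Cfsg.Agent.Lib.helper61.J1
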