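import Cfsg.Agent.Lib.helper61.J1Data

/-!
Kernel evaluation of the certificate checks for `J₁` (helper61): the centraliser list is closed under products.
The check is cut into chunks of 15 first factors so that no single declaration needs much memory.
-/

set_option autoImplicit false

namespace Cfsg.Agent.Lib.helper61.J1

theorem chkB_append (l1 l2 : List M7) : chkB (l1 ++ l2) = (chkB l1 && chkB l2) := by
  unfold chkB
  rw [List.all_append]

theorem chkB_split (n : ℕ) (l : List M7) (h1 : chkB (l.take n) = true)
    (h2 : chkB (l.drop n) = true) : chkB l = true := by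
  rw [← List.take_append_drop n l, chkB_append, h1, h2]
  rfl

/-- `Slist` with the first `15 * k` entries dropped. -/
def SD : ℕ → List M7
  | 0 => Slist
  | k + 1 => (SD k).drop 15

theorem chkB_c0 : chkB ((SD 0).take 15) = true := by decide +kernel

theorem chkB_c1 : chkB ((SD 1).take 15) = true := by decide +kernel

theorem chkB_c2 : chkB ((SD 2).take 15) = true := by decide +kernel

theorem chkB_c3 : chkB ((SD 3).take 15) = true := by decide +kernel

theorem chkB_c4 : chkB ((SD 4).take 15) = true := by decide +kernel

theorem chkB_c5 : chkB ((SD 5).take 15) = true := by decide +kernel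

theorem chkB_c6 : chkB ((SD 6).take 15) = true := by decide +kernel

theorem chkB_c7 : chkB (SD 7) = true := by decide +kernel

theorem chkB_all : chkB Slist = true :=
  chkB_split 15 (SD 0) chkB_c0 <| chkB_split 15 (SD 1) chkB_c1 <|
  chkB_split 15 (SD 2) chkB_c2 <| chkB_split 15 (SD 3) chkB_c3 <|
  chkB_split 15 (SD 4) chkB_c4 <| chkB_split 15 (SD 5) chkB_c5 <|
  chkB_split 15 (SD 6) chkB_c6 chkB_c7

end Cfsg.Agent.Lib.helper61.J1
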