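import Cfsg.Agent.Lib.helper61.J1Data

/-!
Kernel evaluation of the certificate checks for `J₁` (helper61): orders of the products `r * s`.
The check is cut into chunks of 3 blocks so that no single declaration needs much memory.
-/

set_option autoImplicit false

namespace Cfsg.Agent.Lib.helper61.J1

theorem chkC_split (n : ℕ) : ∀ (bs : List (M7 × List ℕ)) (ws : List (List ℕ)),
    chkC (bs.take n) (ws.take n) = true → chkC (bs.drop n) (ws.drop n) = true →
    chkC bs ws = true := by
  induction n with
  | zero =>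
    intro bs ws _ h
    simpa using h
  | succ n ih =>
    intro bs ws h1 h2
    match bs, ws, h1, h2 with
    | [], [], _, _ => rfl
    | [], _ :: _, h1, _ => simp [chkC] at h1
    | _ :: _, [], h1, _ => simp [chkC] at h1
    | b :: bs, w :: ws, h1, h2 =>
      simp only [List.take_succ_cons, List.drop_succ_cons, chkC, Bool.and_eq_true] at h1 h2 ⊢
      exact ⟨h1.1, ih bs ws h1.2 h2⟩

/-- `Blocks` with the first `3 * k` entries dropped. -/
def BDC : ℕ → List (M7 × List ℕ)
  | 0 => Blocks
  | k + 1 => (BDC k).drop 3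

/-- `WC` with the first `3 * k` entries dropped. -/
def WDC : ℕ → List (List ℕ)
  | 0 => WC
  | k + 1 => (WDC k).drop 3

theorem chkC_c0 : chkC ((BDC 0).take 3) ((WDC 0).take 3) = true := by decide +kernel

theorem chkC_c1 : chkC ((BDC 1).take 3) ((WDC 1).take 3) = true := by decide +kernel

theorem chkC_c2 : chkC ((BDC 2).take 3) ((WDC 2).take 3) = true := by decide +kernel

theorem chkC_c3 : chkC ((BDC 3).take 3) ((WDC 3).take 3) = true := by decide +kernel

theorem chkC_c4 : chkC ((BDC 4).take 3) ((WDC 4).take 3) = true := by decide +kernel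

theorem chkC_c5 : chkC ((BDC 5).take 3) ((WDC 5).take 3) = true := by decide +kernel

theorem chkC_c6 : chkC ((BDC 6).take 3) ((WDC 6).take 3) = true := by decide +kernel

theorem chkC_c7 : chkC (BDC 7) (WDC 7) = true := by decide +kernel

theorem chkC_all : chkC Blocks WC = true :=
  chkC_split 3 (BDC 0) (WDC 0) chkC_c0 <| chkC_split 3 (BDC 1) (WDC 1) chkC_c1 <|
  chkC_split 3 (BDC 2) (WDC 2) chkC_c2 <| chkC_split 3 (BDC 3) (WDC 3) chkC_c3 <|
  chkC_split 3 (BDC 4) (WDC 4) chkC_c4 <| chkC_split 3 (BDC 5) (WDC 5) chkC_c5 <|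
  chkC_split 3 (BDC 6) (WDC 6) chkC_c6 chkC_c7

end Cfsg.Agent.Lib.helper61.J1
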