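import Mathlib
import Cfsg.Prelude.Def_Spor_J1

/-!
Kernel-friendly arithmetic for `7 × 7` matrices over `ZMod 11` (helper61), used for the Janko group `J₁`.

* `M7`: a matrix stored as 49 natural numbers; `mul`, `one`, `M7.beq`; `mulF`: the same product in
  continuation-passing style forcing every entry (fast in the kernel), `mulF_eq`.
* `toMat : M7 → Matrix (Fin 7) (Fin 7) (ZMod 11)`, `toMat_mul`, `toMat_one`, `toMat_inj` (on normalised matrices).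
* `pwF`, `pwP`: powers with exponent in `ordList`; `toMat_pwP`.
* `Xm`, `Ym`: the two generators; `wordM`, `wordGL`: words in the generators.
-/

set_option autoImplicit false

namespace Cfsg.Agent.Lib.helper61.J1

/-- A row of seven residues modulo 11 (stored as natural numbers). -/
structure V7 where
  a0 : ℕ
  a1 : ℕ
  a2 : ℕ
  a3 : ℕ
  a4 : ℕ
  a5 : ℕ
  a6 : ℕ

/-- A `7 × 7` matrix modulo 11 (stored as natural numbers). -/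
structure M7 where
  r0 : V7
  r1 : V7
  r2 : V7
  r3 : V7
  r4 : V7
  r5 : V7
  r6 : V7

/-- Evaluate a natural number before passing it on (kernel-friendly strictness). -/
@[reducible] def force {A : Type} (n : ℕ) (k : ℕ → A) : A :=
  Nat.rec (k 0) (fun m _ => k (Nat.succ m)) n

theorem force_eq {A : Type} (n : ℕ) (k : ℕ → A) : force n k = k n := by
  cases n <;> rfl

/-- Strict matrix product in continuation-passing style. -/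
def mulF {A : Type} (P Q : M7) (k : M7 → A) : A :=
  match P, Q with
  | ⟨⟨a00, a01, a02, a03, a04, a05, a06⟩, ⟨a10, a11, a12, a13, a14, a15, a16⟩, ⟨a20, a21, a22, a23, a24, a25, a26⟩, ⟨a30, a31, a32, a33, a34, a35, a36⟩, ⟨a40, a41, a42, a43, a44, a45, a46⟩, ⟨a50, a51, a52, a53, a54, a55, a56⟩, ⟨a60, a61, a62, a63, a64, a65, a66⟩⟩, ⟨⟨b00, b01, b02, b03, b04, b05, b06⟩, ⟨b10, b11, b12, b13, b14, b15, b16⟩, ⟨b20, b21, b22, b23, b24, b25, b26⟩, ⟨b30, b31, b32, b33, b34, b35, b36⟩, ⟨b40, b41, b42, b43, b44, b45, b46⟩, ⟨b50, b51, b52, b53, b54, b55, b56⟩, ⟨b60, b61, b62, b63, b64, b65, b66⟩⟩ =>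
    force (Nat.mod (Nat.add (Nat.add (Nat.add (Nat.add (Nat.add (Nat.add (Nat.mul a00 b00) (Nat.mul a01 b10)) (Nat.mul a02 b20)) (Nat.mul a03 b30)) (Nat.mul a04 b40)) (Nat.mul a05 b50)) (Nat.mul a06 b60)) 11) fun c00 =>
    force (Nat.mod (Nat.add (Nat.add (Nat.add (Nat.add (Nat.add (Nat.add (Nat.mul a00 b01) (Nat.mul a01 b11)) (Nat.mul a02 b21)) (Nat.mul a03 b31)) (Nat.mul a04 b41)) (Nat.mul a05 b51)) (Nat.mul a06 b61)) 11) fun c01 =>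
    force (Nat.mod (Nat.add (Nat.add (Nat.add (Nat.add (Nat.add (Nat.add (Nat.mul a00 b02) (Nat.mul a01 b12)) (Nat.mul a02 b22)) (Nat.mul a03 b32)) (Nat.mul a04 b42)) (Nat.mul a05 b52)) (Nat.mul a06 b62)) 11) fun c02 =>
    force (Nat.mod (Nat.add (Nat.add (Nat.add (Nat.add (Nat.add (Nat.add (Nat.mul a00 b03) (Nat.mul a01 b13)) (Nat.mul a02 b23)) (Nat.mul a03 b33)) (Nat.mul a04 b43)) (Nat.mul a05 b53)) (Nat.mul a06 b63)) 11) fun c03 =>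
    force (Nat.mod (Nat.add (Nat.add (Nat.add (Nat.add (Nat.add (Nat.add (Nat.mul a00 b04) (Nat.mul a01 b14)) (Nat.mul a02 b24)) (Nat.mul a03 b34)) (Nat.mul a04 b44)) (Nat.mul a05 b54)) (Nat.mul a06 b64)) 11) fun c04 =>
    force (Nat.mod (Nat.add (Nat.add (Nat.add (Nat.add (Nat.add (Nat.add (Nat.mul a00 b05) (Nat.mul a01 b15)) (Nat.mul a02 b25)) (Nat.mul a03 b35)) (Nat.mul a04 b45)) (Nat.mul a05 b55)) (Nat.mul a06 b65)) 11) fun c05 =>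
    force (Nat.mod (Nat.add (Nat.add (Nat.add (Nat.add (Nat.add (Nat.add (Nat.mul a00 b06) (Nat.mul a01 b16)) (Nat.mul a02 b26)) (Nat.mul a03 b36)) (Nat.mul a04 b46)) (Nat.mul a05 b56)) (Nat.mul a06 b66)) 11) fun c06 =>
    force (Nat.mod (Nat.add (Nat.add (Nat.add (Nat.add (Nat.add (Nat.add (Nat.mul a10 b00) (Nat.mul a11 b10)) (Nat.mul a12 b20)) (Nat.mul a13 b30)) (Nat.mul a14 b40)) (Nat.mul a15 b50)) (Nat.mul a16 b60)) 11) fun c10 =>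
    force (Nat.mod (Nat.add (Nat.add (Nat.add (Nat.add (Nat.add (Nat.add (Nat.mul a10 b01) (Nat.mul a11 b11)) (Nat.mul a12 b21)) (Nat.mul a13 b31)) (Nat.mul a14 b41)) (Nat.mul a15 b51)) (Nat.mul a16 b61)) 11) fun c11 =>
    force (Nat.mod (Nat.add (Nat.add (Nat.add (Nat.add (Nat.add (Nat.add (Nat.mul a10 b02) (Nat.mul a11 b12)) (Nat.mul a12 b22)) (Nat.mul a13 b32)) (Nat.mul a14 b42)) (Nat.mul a15 b52)) (Nat.mul a16 b62)) 11) fun c12 =>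
    force (Nat.mod (Nat.add (Nat.add (Nat.add (Nat.add (Nat.add (Nat.add (Nat.mul a10 b03) (Nat.mul a11 b13)) (Nat.mul a12 b23)) (Nat.mul a13 b33)) (Nat.mul a14 b43)) (Nat.mul a15 b53)) (Nat.mul a16 b63)) 11) fun c13 =>
    force (Nat.mod (Nat.add (Nat.add (Nat.add (Nat.add (Nat.add (Nat.add (Nat.mul a10 b04) (Nat.mul a11 b14)) (Nat.mul a12 b24)) (Nat.mul a13 b34)) (Nat.mul a14 b44)) (Nat.mul a15 b54)) (Nat.mul a16 b64)) 11) fun c14 =>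
    force (Nat.mod (Nat.add (Nat.add (Nat.add (Nat.add (Nat.add (Nat.add (Nat.mul a10 b05) (Nat.mul a11 b15)) (Nat.mul a12 b25)) (Nat.mul a13 b35)) (Nat.mul a14 b45)) (Nat.mul a15 b55)) (Nat.mul a16 b65)) 11) fun c15 =>
    force (Nat.mod (Nat.add (Nat.add (Nat.add (Nat.add (Nat.add (Nat.add (Nat.mul a10 b06) (Nat.mul a11 b16)) (Nat.mul a12 b26)) (Nat.mul a13 b36)) (Nat.mul a14 b46)) (Nat.mul a15 b56)) (Nat.mul a16 b66)) 11) fun c16 =>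
    force (Nat.mod (Nat.add (Nat.add (Nat.add (Nat.add (Nat.add (Nat.add (Nat.mul a20 b00) (Nat.mul a21 b10)) (Nat.mul a22 b20)) (Nat.mul a23 b30)) (Nat.mul a24 b40)) (Nat.mul a25 b50)) (Nat.mul a26 b60)) 11) fun c20 =>
    force (Nat.mod (Nat.add (Nat.add (Nat.add (Nat.add (Nat.add (Nat.add (Nat.mul a20 b01) (Nat.mul a21 b11)) (Nat.mul a22 b21)) (Nat.mul a23 b31)) (Nat.mul a24 b41)) (Nat.mul a25 b51)) (Nat.mul a26 b61)) 11) fun c21 =>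
    force (Nat.mod (Nat.add (Nat.add (Nat.add (Nat.add (Nat.add (Nat.add (Nat.mul a20 b02) (Nat.mul a21 b12)) (Nat.mul a22 b22)) (Nat.mul a23 b32)) (Nat.mul a24 b42)) (Nat.mul a25 b52)) (Nat.mul a26 b62)) 11) fun c22 =>
    force (Nat.mod (Nat.add (Nat.add (Nat.add (Nat.add (Nat.add (Nat.add (Nat.mul a20 b03) (Nat.mul a21 b13)) (Nat.mul a22 b23)) (Nat.mul a23 b33)) (Nat.mul a24 b43)) (Nat.mul a25 b53)) (Nat.mul a26 b63)) 11) fun c23 =>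
    force (Nat.mod (Nat.add (Nat.add (Nat.add (Nat.add (Nat.add (Nat.add (Nat.mul a20 b04) (Nat.mul a21 b14)) (Nat.mul a22 b24)) (Nat.mul a23 b34)) (Nat.mul a24 b44)) (Nat.mul a25 b54)) (Nat.mul a26 b64)) 11) fun c24 =>
    force (Nat.mod (Nat.add (Nat.add (Nat.add (Nat.add (Nat.add (Nat.add (Nat.mul a20 b05) (Nat.mul a21 b15)) (Nat.mul a22 b25)) (Nat.mul a23 b35)) (Nat.mul a24 b45)) (Nat.mul a25 b55)) (Nat.mul a26 b65)) 11) fun c25 =>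
    force (Nat.mod (Nat.add (Nat.add (Nat.add (Nat.add (Nat.add (Nat.add (Nat.mul a20 b06) (Nat.mul a21 b16)) (Nat.mul a22 b26)) (Nat.mul a23 b36)) (Nat.mul a24 b46)) (Nat.mul a25 b56)) (Nat.mul a26 b66)) 11) fun c26 =>
    force (Nat.mod (Nat.add (Nat.add (Nat.add (Nat.add (Nat.add (Nat.add (Nat.mul a30 b00) (Nat.mul a31 b10)) (Nat.mul a32 b20)) (Nat.mul a33 b30)) (Nat.mul a34 b40)) (Nat.mul a35 b50)) (Nat.mul a36 b60)) 11) fun c30 =>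
    force (Nat.mod (Nat.add (Nat.add (Nat.add (Nat.add (Nat.add (Nat.add (Nat.mul a30 b01) (Nat.mul a31 b11)) (Nat.mul a32 b21)) (Nat.mul a33 b31)) (Nat.mul a34 b41)) (Nat.mul a35 b51)) (Nat.mul a36 b61)) 11) fun c31 =>
    force (Nat.mod (Nat.add (Nat.add (Nat.add (Nat.add (Nat.add (Nat.add (Nat.mul a30 b02) (Nat.mul a31 b12)) (Nat.mul a32 b22)) (Nat.mul a33 b32)) (Nat.mul a34 b42)) (Nat.mul a35 b52)) (Nat.mul a36 b62)) 11) fun c32 =>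
    force (Nat.mod (Nat.add (Nat.add (Nat.add (Nat.add (Nat.add (Nat.add (Nat.mul a30 b03) (Nat.mul a31 b13)) (Nat.mul a32 b23)) (Nat.mul a33 b33)) (Nat.mul a34 b43)) (Nat.mul a35 b53)) (Nat.mul a36 b63)) 11) fun c33 =>
    force (Nat.mod (Nat.add (Nat.add (Nat.add (Nat.add (Nat.add (Nat.add (Nat.mul a30 b04) (Nat.mul a31 b14)) (Nat.mul a32 b24)) (Nat.mul a33 b34)) (Nat.mul a34 b44)) (Nat.mul a35 b54)) (Nat.mul a36 b64)) 11) fun c34 =>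
    force (Nat.mod (Nat.add (Nat.add (Nat.add (Nat.add (Nat.add (Nat.add (Nat.mul a30 b05) (Nat.mul a31 b15)) (Nat.mul a32 b25)) (Nat.mul a33 b35)) (Nat.mul a34 b45)) (Nat.mul a35 b55)) (Nat.mul a36 b65)) 11) fun c35 =>
    force (Nat.mod (Nat.add (Nat.add (Nat.add (Nat.add (Nat.add (Nat.add (Nat.mul a30 b06) (Nat.mul a31 b16)) (Nat.mul a32 b26)) (Nat.mul a33 b36)) (Nat.mul a34 b46)) (Nat.mul a35 b56)) (Nat.mul a36 b66)) 11) fun c36 =>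
    force (Nat.mod (Nat.add (Nat.add (Nat.add (Nat.add (Nat.add (Nat.add (Nat.mul a40 b00) (Nat.mul a41 b10)) (Nat.mul a42 b20)) (Nat.mul a43 b30)) (Nat.mul a44 b40)) (Nat.mul a45 b50)) (Nat.mul a46 b60)) 11) fun c40 =>
    force (Nat.mod (Nat.add (Nat.add (Nat.add (Nat.add (Nat.add (Nat.add (Nat.mul a40 b01) (Nat.mul a41 b11)) (Nat.mul a42 b21)) (Nat.mul a43 b31)) (Nat.mul a44 b41)) (Nat.mul a45 b51)) (Nat.mul a46 b61)) 11) fun c41 =>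
    force (Nat.mod (Nat.add (Nat.add (Nat.add (Nat.add (Nat.add (Nat.add (Nat.mul a40 b02) (Nat.mul a41 b12)) (Nat.mul a42 b22)) (Nat.mul a43 b32)) (Nat.mul a44 b42)) (Nat.mul a45 b52)) (Nat.mul a46 b62)) 11) fun c42 =>
    force (Nat.mod (Nat.add (Nat.add (Nat.add (Nat.add (Nat.add (Nat.add (Nat.mul a40 b03) (Nat.mul a41 b13)) (Nat.mul a42 b23)) (Nat.mul a43 b33)) (Nat.mul a44 b43)) (Nat.mul a45 b53)) (Nat.mul a46 b63)) 11) fun c43 =>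
    force (Nat.mod (Nat.add (Nat.add (Nat.add (Nat.add (Nat.add (Nat.add (Nat.mul a40 b04) (Nat.mul a41 b14)) (Nat.mul a42 b24)) (Nat.mul a43 b34)) (Nat.mul a44 b44)) (Nat.mul a45 b54)) (Nat.mul a46 b64)) 11) fun c44 =>
    force (Nat.mod (Nat.add (Nat.add (Nat.add (Nat.add (Nat.add (Nat.add (Nat.mul a40 b05) (Nat.mul a41 b15)) (Nat.mul a42 b25)) (Nat.mul a43 b35)) (Nat.mul a44 b45)) (Nat.mul a45 b55)) (Nat.mul a46 b65)) 11) fun c45 =>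
    force (Nat.mod (Nat.add (Nat.add (Nat.add (Nat.add (Nat.add (Nat.add (Nat.mul a40 b06) (Nat.mul a41 b16)) (Nat.mul a42 b26)) (Nat.mul a43 b36)) (Nat.mul a44 b46)) (Nat.mul a45 b56)) (Nat.mul a46 b66)) 11) fun c46 =>
    force (Nat.mod (Nat.add (Nat.add (Nat.add (Nat.add (Nat.add (Nat.add (Nat.mul a50 b00) (Nat.mul a51 b10)) (Nat.mul a52 b20)) (Nat.mul a53 b30)) (Nat.mul a54 b40)) (Nat.mul a55 b50)) (Nat.mul a56 b60)) 11) fun c50 =>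
    force (Nat.mod (Nat.add (Nat.add (Nat.add (Nat.add (Nat.add (Nat.add (Nat.mul a50 b01) (Nat.mul a51 b11)) (Nat.mul a52 b21)) (Nat.mul a53 b31)) (Nat.mul a54 b41)) (Nat.mul a55 b51)) (Nat.mul a56 b61)) 11) fun c51 =>
    force (Nat.mod (Nat.add (Nat.add (Nat.add (Nat.add (Nat.add (Nat.add (Nat.mul a50 b02) (Nat.mul a51 b12)) (Nat.mul a52 b22)) (Nat.mul a53 b32)) (Nat.mul a54 b42)) (Nat.mul a55 b52)) (Nat.mul a56 b62)) 11) fun c52 =>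
    force (Nat.mod (Nat.add (Nat.add (Nat.add (Nat.add (Nat.add (Nat.add (Nat.mul a50 b03) (Nat.mul a51 b13)) (Nat.mul a52 b23)) (Nat.mul a53 b33)) (Nat.mul a54 b43)) (Nat.mul a55 b53)) (Nat.mul a56 b63)) 11) fun c53 =>
    force (Nat.mod (Nat.add (Nat.add (Nat.add (Nat.add (Nat.add (Nat.add (Nat.mul a50 b04) (Nat.mul a51 b14)) (Nat.mul a52 b24)) (Nat.mul a53 b34)) (Nat.mul a54 b44)) (Nat.mul a55 b54)) (Nat.mul a56 b64)) 11) fun c54 =>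
    force (Nat.mod (Nat.add (Nat.add (Nat.add (Nat.add (Nat.add (Nat.add (Nat.mul a50 b05) (Nat.mul a51 b15)) (Nat.mul a52 b25)) (Nat.mul a53 b35)) (Nat.mul a54 b45)) (Nat.mul a55 b55)) (Nat.mul a56 b65)) 11) fun c55 =>
    force (Nat.mod (Nat.add (Nat.add (Nat.add (Nat.add (Nat.add (Nat.add (Nat.mul a50 b06) (Nat.mul a51 b16)) (Nat.mul a52 b26)) (Nat.mul a53 b36)) (Nat.mul a54 b46)) (Nat.mul a55 b56)) (Nat.mul a56 b66)) 11) fun c56 =>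
    force (Nat.mod (Nat.add (Nat.add (Nat.add (Nat.add (Nat.add (Nat.add (Nat.mul a60 b00) (Nat.mul a61 b10)) (Nat.mul a62 b20)) (Nat.mul a63 b30)) (Nat.mul a64 b40)) (Nat.mul a65 b50)) (Nat.mul a66 b60)) 11) fun c60 =>
    force (Nat.mod (Nat.add (Nat.add (Nat.add (Nat.add (Nat.add (Nat.add (Nat.mul a60 b01) (Nat.mul a61 b11)) (Nat.mul a62 b21)) (Nat.mul a63 b31)) (Nat.mul a64 b41)) (Nat.mul a65 b51)) (Nat.mul a66 b61)) 11) fun c61 =>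
    force (Nat.mod (Nat.add (Nat.add (Nat.add (Nat.add (Nat.add (Nat.add (Nat.mul a60 b02) (Nat.mul a61 b12)) (Nat.mul a62 b22)) (Nat.mul a63 b32)) (Nat.mul a64 b42)) (Nat.mul a65 b52)) (Nat.mul a66 b62)) 11) fun c62 =>
    force (Nat.mod (Nat.add (Nat.add (Nat.add (Nat.add (Nat.add (Nat.add (Nat.mul a60 b03) (Nat.mul a61 b13)) (Nat.mul a62 b23)) (Nat.mul a63 b33)) (Nat.mul a64 b43)) (Nat.mul a65 b53)) (Nat.mul a66 b63)) 11) fun c63 =>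
    force (Nat.mod (Nat.add (Nat.add (Nat.add (Nat.add (Nat.add (Nat.add (Nat.mul a60 b04) (Nat.mul a61 b14)) (Nat.mul a62 b24)) (Nat.mul a63 b34)) (Nat.mul a64 b44)) (Nat.mul a65 b54)) (Nat.mul a66 b64)) 11) fun c64 =>
    force (Nat.mod (Nat.add (Nat.add (Nat.add (Nat.add (Nat.add (Nat.add (Nat.mul a60 b05) (Nat.mul a61 b15)) (Nat.mul a62 b25)) (Nat.mul a63 b35)) (Nat.mul a64 b45)) (Nat.mul a65 b55)) (Nat.mul a66 b65)) 11) fun c65 =>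
    force (Nat.mod (Nat.add (Nat.add (Nat.add (Nat.add (Nat.add (Nat.add (Nat.mul a60 b06) (Nat.mul a61 b16)) (Nat.mul a62 b26)) (Nat.mul a63 b36)) (Nat.mul a64 b46)) (Nat.mul a65 b56)) (Nat.mul a66 b66)) 11) fun c66 =>
    k ⟨⟨c00, c01, c02, c03, c04, c05, c06⟩, ⟨c10, c11, c12, c13, c14, c15, c16⟩, ⟨c20, c21, c22, c23, c24, c25, c26⟩, ⟨c30, c31, c32, c33, c34, c35, c36⟩, ⟨c40, c41, c42, c43, c44, c45, c46⟩, ⟨c50, c51, c52, c53, c54, c55, c56⟩, ⟨c60, c61, c62, c63, c64, c65, c66⟩⟩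

/-- Matrix product. -/
def mul (P Q : M7) : M7 :=
  ⟨⟨Nat.mod (Nat.add (Nat.add (Nat.add (Nat.add (Nat.add (Nat.add (Nat.mul P.r0.a0 Q.r0.a0) (Nat.mul P.r0.a1 Q.r1.a0)) (Nat.mul P.r0.a2 Q.r2.a0)) (Nat.mul P.r0.a3 Q.r3.a0)) (Nat.mul P.r0.a4 Q.r4.a0)) (Nat.mul P.r0.a5 Q.r5.a0)) (Nat.mul P.r0.a6 Q.r6.a0)) 11,
    Nat.mod (Nat.add (Nat.add (Nat.add (Nat.add (Nat.add (Nat.add (Nat.mul P.r0.a0 Q.r0.a1) (Nat.mul P.r0.a1 Q.r1.a1)) (Nat.mul P.r0.a2 Q.r2.a1)) (Nat.mul P.r0.a3 Q.r3.a1)) (Nat.mul P.r0.a4 Q.r4.a1)) (Nat.mul P.r0.a5 Q.r5.a1)) (Nat.mul P.r0.a6 Q.r6.a1)) 11,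
    Nat.mod (Nat.add (Nat.add (Nat.add (Nat.add (Nat.add (Nat.add (Nat.mul P.r0.a0 Q.r0.a2) (Nat.mul P.r0.a1 Q.r1.a2)) (Nat.mul P.r0.a2 Q.r2.a2)) (Nat.mul P.r0.a3 Q.r3.a2)) (Nat.mul P.r0.a4 Q.r4.a2)) (Nat.mul P.r0.a5 Q.r5.a2)) (Nat.mul P.r0.a6 Q.r6.a2)) 11,
    Nat.mod (Nat.add (Nat.add (Nat.add (Nat.add (Nat.add (Nat.add (Nat.mul P.r0.a0 Q.r0.a3) (Nat.mul P.r0.a1 Q.r1.a3)) (Nat.mul P.r0.a2 Q.r2.a3)) (Nat.mul P.r0.a3 Q.r3.a3)) (Nat.mul P.r0.a4 Q.r4.a3)) (Nat.mul P.r0.a5 Q.r5.a3)) (Nat.mul P.r0.a6 Q.r6.a3)) 11,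
    Nat.mod (Nat.add (Nat.add (Nat.add (Nat.add (Nat.add (Nat.add (Nat.mul P.r0.a0 Q.r0.a4) (Nat.mul P.r0.a1 Q.r1.a4)) (Nat.mul P.r0.a2 Q.r2.a4)) (Nat.mul P.r0.a3 Q.r3.a4)) (Nat.mul P.r0.a4 Q.r4.a4)) (Nat.mul P.r0.a5 Q.r5.a4)) (Nat.mul P.r0.a6 Q.r6.a4)) 11,
    Nat.mod (Nat.add (Nat.add (Nat.add (Nat.add (Nat.add (Nat.add (Nat.mul P.r0.a0 Q.r0.a5) (Nat.mul P.r0.a1 Q.r1.a5)) (Nat.mul P.r0.a2 Q.r2.a5)) (Nat.mul P.r0.a3 Q.r3.a5)) (Nat.mul P.r0.a4 Q.r4.a5)) (Nat.mul P.r0.a5 Q.r5.a5)) (Nat.mul P.r0.a6 Q.r6.a5)) 11,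
    Nat.mod (Nat.add (Nat.add (Nat.add (Nat.add (Nat.add (Nat.add (Nat.mul P.r0.a0 Q.r0.a6) (Nat.mul P.r0.a1 Q.r1.a6)) (Nat.mul P.r0.a2 Q.r2.a6)) (Nat.mul P.r0.a3 Q.r3.a6)) (Nat.mul P.r0.a4 Q.r4.a6)) (Nat.mul P.r0.a5 Q.r5.a6)) (Nat.mul P.r0.a6 Q.r6.a6)) 11⟩,
   ⟨Nat.mod (Nat.add (Nat.add (Nat.add (Nat.add (Nat.add (Nat.add (Nat.mul P.r1.a0 Q.r0.a0) (Nat.mul P.r1.a1 Q.r1.a0)) (Nat.mul P.r1.a2 Q.r2.a0)) (Nat.mul P.r1.a3 Q.r3.a0)) (Nat.mul P.r1.a4 Q.r4.a0)) (Nat.mul P.r1.a5 Q.r5.a0)) (Nat.mul P.r1.a6 Q.r6.a0)) 11,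
    Nat.mod (Nat.add (Nat.add (Nat.add (Nat.add (Nat.add (Nat.add (Nat.mul P.r1.a0 Q.r0.a1) (Nat.mul P.r1.a1 Q.r1.a1)) (Nat.mul P.r1.a2 Q.r2.a1)) (Nat.mul P.r1.a3 Q.r3.a1)) (Nat.mul P.r1.a4 Q.r4.a1)) (Nat.mul P.r1.a5 Q.r5.a1)) (Nat.mul P.r1.a6 Q.r6.a1)) 11,
    Nat.mod (Nat.add (Nat.add (Nat.add (Nat.add (Nat.add (Nat.add (Nat.mul P.r1.a0 Q.r0.a2) (Nat.mul P.r1.a1 Q.r1.a2)) (Nat.mul P.r1.a2 Q.r2.a2)) (Nat.mul P.r1.a3 Q.r3.a2)) (Nat.mul P.r1.a4 Q.r4.a2)) (Nat.mul P.r1.a5 Q.r5.a2)) (Nat.mul P.r1.a6 Q.r6.a2)) 11,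
    Nat.mod (Nat.add (Nat.add (Nat.add (Nat.add (Nat.add (Nat.add (Nat.mul P.r1.a0 Q.r0.a3) (Nat.mul P.r1.a1 Q.r1.a3)) (Nat.mul P.r1.a2 Q.r2.a3)) (Nat.mul P.r1.a3 Q.r3.a3)) (Nat.mul P.r1.a4 Q.r4.a3)) (Nat.mul P.r1.a5 Q.r5.a3)) (Nat.mul P.r1.a6 Q.r6.a3)) 11,
    Nat.mod (Nat.add (Nat.add (Nat.add (Nat.add (Nat.add (Nat.add (Nat.mul P.r1.a0 Q.r0.a4) (Nat.mul P.r1.a1 Q.r1.a4)) (Nat.mul P.r1.a2 Q.r2.a4)) (Nat.mul P.r1.a3 Q.r3.a4)) (Nat.mul P.r1.a4 Q.r4.a4)) (Nat.mul P.r1.a5 Q.r5.a4)) (Nat.mul P.r1.a6 Q.r6.a4)) 11,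
    Nat.mod (Nat.add (Nat.add (Nat.add (Nat.add (Nat.add (Nat.add (Nat.mul P.r1.a0 Q.r0.a5) (Nat.mul P.r1.a1 Q.r1.a5)) (Nat.mul P.r1.a2 Q.r2.a5)) (Nat.mul P.r1.a3 Q.r3.a5)) (Nat.mul P.r1.a4 Q.r4.a5)) (Nat.mul P.r1.a5 Q.r5.a5)) (Nat.mul P.r1.a6 Q.r6.a5)) 11,
    Nat.mod (Nat.add (Nat.add (Nat.add (Nat.add (Nat.add (Nat.add (Nat.mul P.r1.a0 Q.r0.a6) (Nat.mul P.r1.a1 Q.r1.a6)) (Nat.mul P.r1.a2 Q.r2.a6)) (Nat.mul P.r1.a3 Q.r3.a6)) (Nat.mul P.r1.a4 Q.r4.a6)) (Nat.mul P.r1.a5 Q.r5.a6)) (Nat.mul P.r1.a6 Q.r6.a6)) 11⟩,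
   ⟨Nat.mod (Nat.add (Nat.add (Nat.add (Nat.add (Nat.add (Nat.add (Nat.mul P.r2.a0 Q.r0.a0) (Nat.mul P.r2.a1 Q.r1.a0)) (Nat.mul P.r2.a2 Q.r2.a0)) (Nat.mul P.r2.a3 Q.r3.a0)) (Nat.mul P.r2.a4 Q.r4.a0)) (Nat.mul P.r2.a5 Q.r5.a0)) (Nat.mul P.r2.a6 Q.r6.a0)) 11,
    Nat.mod (Nat.add (Nat.add (Nat.add (Nat.add (Nat.add (Nat.add (Nat.mul P.r2.a0 Q.r0.a1) (Nat.mul P.r2.a1 Q.r1.a1)) (Nat.mul P.r2.a2 Q.r2.a1)) (Nat.mul P.r2.a3 Q.r3.a1)) (Nat.mul P.r2.a4 Q.r4.a1)) (Nat.mul P.r2.a5 Q.r5.a1)) (Nat.mul P.r2.a6 Q.r6.a1)) 11,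
    Nat.mod (Nat.add (Nat.add (Nat.add (Nat.add (Nat.add (Nat.add (Nat.mul P.r2.a0 Q.r0.a2) (Nat.mul P.r2.a1 Q.r1.a2)) (Nat.mul P.r2.a2 Q.r2.a2)) (Nat.mul P.r2.a3 Q.r3.a2)) (Nat.mul P.r2.a4 Q.r4.a2)) (Nat.mul P.r2.a5 Q.r5.a2)) (Nat.mul P.r2.a6 Q.r6.a2)) 11,
    Nat.mod (Nat.add (Nat.add (Nat.add (Nat.add (Nat.add (Nat.add (Nat.mul P.r2.a0 Q.r0.a3) (Nat.mul P.r2.a1 Q.r1.a3)) (Nat.mul P.r2.a2 Q.r2.a3)) (Nat.mul P.r2.a3 Q.r3.a3)) (Nat.mul P.r2.a4 Q.r4.a3)) (Nat.mul P.r2.a5 Q.r5.a3)) (Nat.mul P.r2.a6 Q.r6.a3)) 11,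
    Nat.mod (Nat.add (Nat.add (Nat.add (Nat.add (Nat.add (Nat.add (Nat.mul P.r2.a0 Q.r0.a4) (Nat.mul P.r2.a1 Q.r1.a4)) (Nat.mul P.r2.a2 Q.r2.a4)) (Nat.mul P.r2.a3 Q.r3.a4)) (Nat.mul P.r2.a4 Q.r4.a4)) (Nat.mul P.r2.a5 Q.r5.a4)) (Nat.mul P.r2.a6 Q.r6.a4)) 11,
    Nat.mod (Nat.add (Nat.add (Nat.add (Nat.add (Nat.add (Nat.add (Nat.mul P.r2.a0 Q.r0.a5) (Nat.mul P.r2.a1 Q.r1.a5)) (Nat.mul P.r2.a2 Q.r2.a5)) (Nat.mul P.r2.a3 Q.r3.a5)) (Nat.mul P.r2.a4 Q.r4.a5)) (Nat.mul P.r2.a5 Q.r5.a5)) (Nat.mul P.r2.a6 Q.r6.a5)) 11,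
    Nat.mod (Nat.add (Nat.add (Nat.add (Nat.add (Nat.add (Nat.add (Nat.mul P.r2.a0 Q.r0.a6) (Nat.mul P.r2.a1 Q.r1.a6)) (Nat.mul P.r2.a2 Q.r2.a6)) (Nat.mul P.r2.a3 Q.r3.a6)) (Nat.mul P.r2.a4 Q.r4.a6)) (Nat.mul P.r2.a5 Q.r5.a6)) (Nat.mul P.r2.a6 Q.r6.a6)) 11⟩,
   ⟨Nat.mod (Nat.add (Nat.add (Nat.add (Nat.add (Nat.add (Nat.add (Nat.mul P.r3.a0 Q.r0.a0) (Nat.mul P.r3.a1 Q.r1.a0)) (Nat.mul P.r3.a2 Q.r2.a0)) (Nat.mul P.r3.a3 Q.r3.a0)) (Nat.mul P.r3.a4 Q.r4.a0)) (Nat.mul P.r3.a5 Q.r5.a0)) (Nat.mul P.r3.a6 Q.r6.a0)) 11,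
    Nat.mod (Nat.add (Nat.add (Nat.add (Nat.add (Nat.add (Nat.add (Nat.mul P.r3.a0 Q.r0.a1) (Nat.mul P.r3.a1 Q.r1.a1)) (Nat.mul P.r3.a2 Q.r2.a1)) (Nat.mul P.r3.a3 Q.r3.a1)) (Nat.mul P.r3.a4 Q.r4.a1)) (Nat.mul P.r3.a5 Q.r5.a1)) (Nat.mul P.r3.a6 Q.r6.a1)) 11,
    Nat.mod (Nat.add (Nat.add (Nat.add (Nat.add (Nat.add (Nat.add (Nat.mul P.r3.a0 Q.r0.a2) (Nat.mul P.r3.a1 Q.r1.a2)) (Nat.mul P.r3.a2 Q.r2.a2)) (Nat.mul P.r3.a3 Q.r3.a2)) (Nat.mul P.r3.a4 Q.r4.a2)) (Nat.mul P.r3.a5 Q.r5.a2)) (Nat.mul P.r3.a6 Q.r6.a2)) 11,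
    Nat.mod (Nat.add (Nat.add (Nat.add (Nat.add (Nat.add (Nat.add (Nat.mul P.r3.a0 Q.r0.a3) (Nat.mul P.r3.a1 Q.r1.a3)) (Nat.mul P.r3.a2 Q.r2.a3)) (Nat.mul P.r3.a3 Q.r3.a3)) (Nat.mul P.r3.a4 Q.r4.a3)) (Nat.mul P.r3.a5 Q.r5.a3)) (Nat.mul P.r3.a6 Q.r6.a3)) 11,
    Nat.mod (Nat.add (Nat.add (Nat.add (Nat.add (Nat.add (Nat.add (Nat.mul P.r3.a0 Q.r0.a4) (Nat.mul P.r3.a1 Q.r1.a4)) (Nat.mul P.r3.a2 Q.r2.a4)) (Nat.mul P.r3.a3 Q.r3.a4)) (Nat.mul P.r3.a4 Q.r4.a4)) (Nat.mul P.r3.a5 Q.r5.a4)) (Nat.mul P.r3.a6 Q.r6.a4)) 11,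
    Nat.mod (Nat.add (Nat.add (Nat.add (Nat.add (Nat.add (Nat.add (Nat.mul P.r3.a0 Q.r0.a5) (Nat.mul P.r3.a1 Q.r1.a5)) (Nat.mul P.r3.a2 Q.r2.a5)) (Nat.mul P.r3.a3 Q.r3.a5)) (Nat.mul P.r3.a4 Q.r4.a5)) (Nat.mul P.r3.a5 Q.r5.a5)) (Nat.mul P.r3.a6 Q.r6.a5)) 11,
    Nat.mod (Nat.add (Nat.add (Nat.add (Nat.add (Nat.add (Nat.add (Nat.mul P.r3.a0 Q.r0.a6) (Nat.mul P.r3.a1 Q.r1.a6)) (Nat.mul P.r3.a2 Q.r2.a6)) (Nat.mul P.r3.a3 Q.r3.a6)) (Nat.mul P.r3.a4 Q.r4.a6)) (Nat.mul P.r3.a5 Q.r5.a6)) (Nat.mul P.r3.a6 Q.r6.a6)) 11⟩,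
   ⟨Nat.mod (Nat.add (Nat.add (Nat.add (Nat.add (Nat.add (Nat.add (Nat.mul P.r4.a0 Q.r0.a0) (Nat.mul P.r4.a1 Q.r1.a0)) (Nat.mul P.r4.a2 Q.r2.a0)) (Nat.mul P.r4.a3 Q.r3.a0)) (Nat.mul P.r4.a4 Q.r4.a0)) (Nat.mul P.r4.a5 Q.r5.a0)) (Nat.mul P.r4.a6 Q.r6.a0)) 11,
    Nat.mod (Nat.add (Nat.add (Nat.add (Nat.add (Nat.add (Nat.add (Nat.mul P.r4.a0 Q.r0.a1) (Nat.mul P.r4.a1 Q.r1.a1)) (Nat.mul P.r4.a2 Q.r2.a1)) (Nat.mul P.r4.a3 Q.r3.a1)) (Nat.mul P.r4.a4 Q.r4.a1)) (Nat.mul P.r4.a5 Q.r5.a1)) (Nat.mul P.r4.a6 Q.r6.a1)) 11,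
    Nat.mod (Nat.add (Nat.add (Nat.add (Nat.add (Nat.add (Nat.add (Nat.mul P.r4.a0 Q.r0.a2) (Nat.mul P.r4.a1 Q.r1.a2)) (Nat.mul P.r4.a2 Q.r2.a2)) (Nat.mul P.r4.a3 Q.r3.a2)) (Nat.mul P.r4.a4 Q.r4.a2)) (Nat.mul P.r4.a5 Q.r5.a2)) (Nat.mul P.r4.a6 Q.r6.a2)) 11,
    Nat.mod (Nat.add (Nat.add (Nat.add (Nat.add (Nat.add (Nat.add (Nat.mul P.r4.a0 Q.r0.a3) (Nat.mul P.r4.a1 Q.r1.a3)) (Nat.mul P.r4.a2 Q.r2.a3)) (Nat.mul P.r4.a3 Q.r3.a3)) (Nat.mul P.r4.a4 Q.r4.a3)) (Nat.mul P.r4.a5 Q.r5.a3)) (Nat.mul P.r4.a6 Q.r6.a3)) 11,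
    Nat.mod (Nat.add (Nat.add (Nat.add (Nat.add (Nat.add (Nat.add (Nat.mul P.r4.a0 Q.r0.a4) (Nat.mul P.r4.a1 Q.r1.a4)) (Nat.mul P.r4.a2 Q.r2.a4)) (Nat.mul P.r4.a3 Q.r3.a4)) (Nat.mul P.r4.a4 Q.r4.a4)) (Nat.mul P.r4.a5 Q.r5.a4)) (Nat.mul P.r4.a6 Q.r6.a4)) 11,
    Nat.mod (Nat.add (Nat.add (Nat.add (Nat.add (Nat.add (Nat.add (Nat.mul P.r4.a0 Q.r0.a5) (Nat.mul P.r4.a1 Q.r1.a5)) (Nat.mul P.r4.a2 Q.r2.a5)) (Nat.mul P.r4.a3 Q.r3.a5)) (Nat.mul P.r4.a4 Q.r4.a5)) (Nat.mul P.r4.a5 Q.r5.a5)) (Nat.mul P.r4.a6 Q.r6.a5)) 11,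
    Nat.mod (Nat.add (Nat.add (Nat.add (Nat.add (Nat.add (Nat.add (Nat.mul P.r4.a0 Q.r0.a6) (Nat.mul P.r4.a1 Q.r1.a6)) (Nat.mul P.r4.a2 Q.r2.a6)) (Nat.mul P.r4.a3 Q.r3.a6)) (Nat.mul P.r4.a4 Q.r4.a6)) (Nat.mul P.r4.a5 Q.r5.a6)) (Nat.mul P.r4.a6 Q.r6.a6)) 11⟩,
   ⟨Nat.mod (Nat.add (Nat.add (Nat.add (Nat.add (Nat.add (Nat.add (Nat.mul P.r5.a0 Q.r0.a0) (Nat.mul P.r5.a1 Q.r1.a0)) (Nat.mul P.r5.a2 Q.r2.a0)) (Nat.mul P.r5.a3 Q.r3.a0)) (Nat.mul P.r5.a4 Q.r4.a0)) (Nat.mul P.r5.a5 Q.r5.a0)) (Nat.mul P.r5.a6 Q.r6.a0)) 11,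
    Nat.mod (Nat.add (Nat.add (Nat.add (Nat.add (Nat.add (Nat.add (Nat.mul P.r5.a0 Q.r0.a1) (Nat.mul P.r5.a1 Q.r1.a1)) (Nat.mul P.r5.a2 Q.r2.a1)) (Nat.mul P.r5.a3 Q.r3.a1)) (Nat.mul P.r5.a4 Q.r4.a1)) (Nat.mul P.r5.a5 Q.r5.a1)) (Nat.mul P.r5.a6 Q.r6.a1)) 11,
    Nat.mod (Nat.add (Nat.add (Nat.add (Nat.add (Nat.add (Nat.add (Nat.mul P.r5.a0 Q.r0.a2) (Nat.mul P.r5.a1 Q.r1.a2)) (Nat.mul P.r5.a2 Q.r2.a2)) (Nat.mul P.r5.a3 Q.r3.a2)) (Nat.mul P.r5.a4 Q.r4.a2)) (Nat.mul P.r5.a5 Q.r5.a2)) (Nat.mul P.r5.a6 Q.r6.a2)) 11,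
    Nat.mod (Nat.add (Nat.add (Nat.add (Nat.add (Nat.add (Nat.add (Nat.mul P.r5.a0 Q.r0.a3) (Nat.mul P.r5.a1 Q.r1.a3)) (Nat.mul P.r5.a2 Q.r2.a3)) (Nat.mul P.r5.a3 Q.r3.a3)) (Nat.mul P.r5.a4 Q.r4.a3)) (Nat.mul P.r5.a5 Q.r5.a3)) (Nat.mul P.r5.a6 Q.r6.a3)) 11,
    Nat.mod (Nat.add (Nat.add (Nat.add (Nat.add (Nat.add (Nat.add (Nat.mul P.r5.a0 Q.r0.a4) (Nat.mul P.r5.a1 Q.r1.a4)) (Nat.mul P.r5.a2 Q.r2.a4)) (Nat.mul P.r5.a3 Q.r3.a4)) (Nat.mul P.r5.a4 Q.r4.a4)) (Nat.mul P.r5.a5 Q.r5.a4)) (Nat.mul P.r5.a6 Q.r6.a4)) 11,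
    Nat.mod (Nat.add (Nat.add (Nat.add (Nat.add (Nat.add (Nat.add (Nat.mul P.r5.a0 Q.r0.a5) (Nat.mul P.r5.a1 Q.r1.a5)) (Nat.mul P.r5.a2 Q.r2.a5)) (Nat.mul P.r5.a3 Q.r3.a5)) (Nat.mul P.r5.a4 Q.r4.a5)) (Nat.mul P.r5.a5 Q.r5.a5)) (Nat.mul P.r5.a6 Q.r6.a5)) 11,
    Nat.mod (Nat.add (Nat.add (Nat.add (Nat.add (Nat.add (Nat.add (Nat.mul P.r5.a0 Q.r0.a6) (Nat.mul P.r5.a1 Q.r1.a6)) (Nat.mul P.r5.a2 Q.r2.a6)) (Nat.mul P.r5.a3 Q.r3.a6)) (Nat.mul P.r5.a4 Q.r4.a6)) (Nat.mul P.r5.a5 Q.r5.a6)) (Nat.mul P.r5.a6 Q.r6.a6)) 11⟩,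
   ⟨Nat.mod (Nat.add (Nat.add (Nat.add (Nat.add (Nat.add (Nat.add (Nat.mul P.r6.a0 Q.r0.a0) (Nat.mul P.r6.a1 Q.r1.a0)) (Nat.mul P.r6.a2 Q.r2.a0)) (Nat.mul P.r6.a3 Q.r3.a0)) (Nat.mul P.r6.a4 Q.r4.a0)) (Nat.mul P.r6.a5 Q.r5.a0)) (Nat.mul P.r6.a6 Q.r6.a0)) 11,
    Nat.mod (Nat.add (Nat.add (Nat.add (Nat.add (Nat.add (Nat.add (Nat.mul P.r6.a0 Q.r0.a1) (Nat.mul P.r6.a1 Q.r1.a1)) (Nat.mul P.r6.a2 Q.r2.a1)) (Nat.mul P.r6.a3 Q.r3.a1)) (Nat.mul P.r6.a4 Q.r4.a1)) (Nat.mul P.r6.a5 Q.r5.a1)) (Nat.mul P.r6.a6 Q.r6.a1)) 11,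
    Nat.mod (Nat.add (Nat.add (Nat.add (Nat.add (Nat.add (Nat.add (Nat.mul P.r6.a0 Q.r0.a2) (Nat.mul P.r6.a1 Q.r1.a2)) (Nat.mul P.r6.a2 Q.r2.a2)) (Nat.mul P.r6.a3 Q.r3.a2)) (Nat.mul P.r6.a4 Q.r4.a2)) (Nat.mul P.r6.a5 Q.r5.a2)) (Nat.mul P.r6.a6 Q.r6.a2)) 11,
    Nat.mod (Nat.add (Nat.add (Nat.add (Nat.add (Nat.add (Nat.add (Nat.mul P.r6.a0 Q.r0.a3) (Nat.mul P.r6.a1 Q.r1.a3)) (Nat.mul P.r6.a2 Q.r2.a3)) (Nat.mul P.r6.a3 Q.r3.a3)) (Nat.mul P.r6.a4 Q.r4.a3)) (Nat.mul P.r6.a5 Q.r5.a3)) (Nat.mul P.r6.a6 Q.r6.a3)) 11,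
    Nat.mod (Nat.add (Nat.add (Nat.add (Nat.add (Nat.add (Nat.add (Nat.mul P.r6.a0 Q.r0.a4) (Nat.mul P.r6.a1 Q.r1.a4)) (Nat.mul P.r6.a2 Q.r2.a4)) (Nat.mul P.r6.a3 Q.r3.a4)) (Nat.mul P.r6.a4 Q.r4.a4)) (Nat.mul P.r6.a5 Q.r5.a4)) (Nat.mul P.r6.a6 Q.r6.a4)) 11,
    Nat.mod (Nat.add (Nat.add (Nat.add (Nat.add (Nat.add (Nat.add (Nat.mul P.r6.a0 Q.r0.a5) (Nat.mul P.r6.a1 Q.r1.a5)) (Nat.mul P.r6.a2 Q.r2.a5)) (Nat.mul P.r6.a3 Q.r3.a5)) (Nat.mul P.r6.a4 Q.r4.a5)) (Nat.mul P.r6.a5 Q.r5.a5)) (Nat.mul P.r6.a6 Q.r6.a5)) 11,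
    Nat.mod (Nat.add (Nat.add (Nat.add (Nat.add (Nat.add (Nat.add (Nat.mul P.r6.a0 Q.r0.a6) (Nat.mul P.r6.a1 Q.r1.a6)) (Nat.mul P.r6.a2 Q.r2.a6)) (Nat.mul P.r6.a3 Q.r3.a6)) (Nat.mul P.r6.a4 Q.r4.a6)) (Nat.mul P.r6.a5 Q.r5.a6)) (Nat.mul P.r6.a6 Q.r6.a6)) 11⟩⟩

theorem mulF_eq {A : Type} (P Q : M7) (k : M7 → A) : mulF P Q k = k (mul P Q) := by
  obtain ⟨⟨_, _, _, _, _, _, _⟩, ⟨_, _, _, _, _, _, _⟩, ⟨_, _, _, _, _, _, _⟩, ⟨_, _, _, _, _, _, _⟩, ⟨_, _, _, _, _, _, _⟩, ⟨_, _, _, _, _, _, _⟩, ⟨_, _, _, _, _, _, _⟩⟩ := P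
  obtain ⟨⟨_, _, _, _, _, _, _⟩, ⟨_, _, _, _, _, _, _⟩, ⟨_, _, _, _, _, _, _⟩, ⟨_, _, _, _, _, _, _⟩, ⟨_, _, _, _, _, _, _⟩, ⟨_, _, _, _, _, _, _⟩, ⟨_, _, _, _, _, _, _⟩⟩ := Q
  simp only [mulF, force_eq]
  rfl

/-- Identity matrix. -/
def one : M7 := ⟨⟨1, 0, 0, 0, 0, 0, 0⟩, ⟨0, 1, 0, 0, 0, 0, 0⟩, ⟨0, 0, 1, 0, 0, 0, 0⟩, ⟨0, 0, 0, 1, 0, 0, 0⟩, ⟨0, 0, 0, 0, 1, 0, 0⟩, ⟨0, 0, 0, 0, 0, 1, 0⟩, ⟨0, 0, 0, 0, 0, 0, 1⟩⟩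

/-- Boolean equality of rows. -/
def V7.beq (u v : V7) : Bool :=
  Nat.beq u.a0 v.a0 && Nat.beq u.a1 v.a1 && Nat.beq u.a2 v.a2 && Nat.beq u.a3 v.a3 && Nat.beq u.a4 v.a4 && Nat.beq u.a5 v.a5 && Nat.beq u.a6 v.a6

/-- Boolean equality of matrices. -/
def M7.beq (A B : M7) : Bool :=
  V7.beq A.r0 B.r0 && V7.beq A.r1 B.r1 && V7.beq A.r2 B.r2 && V7.beq A.r3 B.r3 && V7.beq A.r4 B.r4 && V7.beq A.r5 B.r5 && V7.beq A.r6 B.r6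

theorem V7.eq_of_beq {u v : V7} (h : V7.beq u v = true) : u = v := by
  obtain ⟨u0, u1, u2, u3, u4, u5, u6⟩ := u
  obtain ⟨v0, v1, v2, v3, v4, v5, v6⟩ := v
  simp only [V7.beq, Bool.and_eq_true] at h
  obtain ⟨⟨⟨⟨⟨⟨h0, h1⟩, h2⟩, h3⟩, h4⟩, h5⟩, h6⟩ := h
  have h0 := Nat.eq_of_beq_eq_true h0
  have h1 := Nat.eq_of_beq_eq_true h1
  have h2 := Nat.eq_of_beq_eq_true h2
  have h3 := Nat.eq_of_beq_eq_true h3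
  have h4 := Nat.eq_of_beq_eq_true h4
  have h5 := Nat.eq_of_beq_eq_true h5
  have h6 := Nat.eq_of_beq_eq_true h6
  subst h0 h1 h2 h3 h4 h5 h6
  rfl

theorem M7.eq_of_beq {A B : M7} (h : M7.beq A B = true) : A = B := by
  obtain ⟨u0, u1, u2, u3, u4, u5, u6⟩ := A
  obtain ⟨v0, v1, v2, v3, v4, v5, v6⟩ := B
  simp only [M7.beq, Bool.and_eq_true] at h
  obtain ⟨⟨⟨⟨⟨⟨h0, h1⟩, h2⟩, h3⟩, h4⟩, h5⟩, h6⟩ := h
  rw [V7.eq_of_beq h0, V7.eq_of_beq h1, V7.eq_of_beq h2, V7.eq_of_beq h3, V7.eq_of_beq h4,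
    V7.eq_of_beq h5, V7.eq_of_beq h6]

theorem V7.beq_self (u : V7) : V7.beq u u = true := by
  simp [V7.beq]

theorem M7.beq_self (A : M7) : M7.beq A A = true := by
  simp [M7.beq, V7.beq_self]

theorem M7.ne_of_beq {A B : M7} (h : M7.beq A B = false) : A ≠ B := by
  rintro rfl
  rw [M7.beq_self] at h
  exact absurd h (by decide)

/-- Entries of a row. -/
def V7.get (u : V7) : Fin 7 → ℕ := ![u.a0, u.a1, u.a2, u.a3, u.a4, u.a5, u.a6]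

/-- Rows of a matrix. -/
def M7.row (A : M7) : Fin 7 → V7 := ![A.r0, A.r1, A.r2, A.r3, A.r4, A.r5, A.r6]

/-- The matrix over `ZMod 11` described by an `M7`. -/
def toMat (A : M7) : Matrix (Fin 7) (Fin 7) (ZMod 11) :=
  Matrix.of fun i j => (((A.row i).get j : ℕ) : ZMod 11)

theorem toMat_apply (A : M7) (i j : Fin 7) : toMat A i j = (((A.row i).get j : ℕ) : ZMod 11) := rfl

theorem V7.ext' {u v : V7} (h : ∀ j : Fin 7, u.get j = v.get j) : u = v := by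
  obtain ⟨u0, u1, u2, u3, u4, u5, u6⟩ := u
  obtain ⟨v0, v1, v2, v3, v4, v5, v6⟩ := v
  have h0 : u0 = v0 := h 0
  have h1 : u1 = v1 := h 1
  have h2 : u2 = v2 := h 2
  have h3 : u3 = v3 := h 3
  have h4 : u4 = v4 := h 4
  have h5 : u5 = v5 := h 5
  have h6 : u6 = v6 := h 6
  subst h0 h1 h2 h3 h4 h5 h6
  rfl

theorem M7.ext' {A B : M7} (h : ∀ i j : Fin 7, (A.row i).get j = (B.row i).get j) : A = B := by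
  obtain ⟨u0, u1, u2, u3, u4, u5, u6⟩ := A
  obtain ⟨v0, v1, v2, v3, v4, v5, v6⟩ := B
  have h0 : u0 = v0 := V7.ext' (h 0)
  have h1 : u1 = v1 := V7.ext' (h 1)
  have h2 : u2 = v2 := V7.ext' (h 2)
  have h3 : u3 = v3 := V7.ext' (h 3)
  have h4 : u4 = v4 := V7.ext' (h 4)
  have h5 : u5 = v5 := V7.ext' (h 5)
  have h6 : u6 = v6 := V7.ext' (h 6)
  subst h0 h1 h2 h3 h4 h5 h6
  rfl

/-- All entries are reduced modulo 11. -/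
def M7.normed (A : M7) : Prop := ∀ i j : Fin 7, (A.row i).get j < 11

theorem toMat_inj {A B : M7} (hA : A.normed) (hB : B.normed) (h : toMat A = toMat B) : A = B := by
  apply M7.ext'
  intro i j
  have h1 : toMat A i j = toMat B i j := by rw [h]
  rw [toMat_apply, toMat_apply, ZMod.natCast_eq_natCast_iff'] at h1
  rw [Nat.mod_eq_of_lt (hA i j), Nat.mod_eq_of_lt (hB i j)] at h1
  exact h1

theorem mul_normed (P Q : M7) : (mul P Q).normed := by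
  intro i j
  fin_cases i <;> fin_cases j <;> exact Nat.mod_lt _ (by norm_num)

theorem toMat_mul (P Q : M7) : toMat (mul P Q) = toMat P * toMat Q := by
  ext i j
  rw [Matrix.mul_apply, Fin.sum_univ_seven]
  simp only [toMat_apply]
  fin_cases i <;> fin_cases j <;>
    · show (((Nat.mod _ 11 : ℕ)) : ZMod 11) = _
      rw [show ∀ a : ℕ, Nat.mod a 11 = a % 11 from fun _ => rfl, ZMod.natCast_mod]
      simp only [Nat.add_eq, Nat.mul_eq]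
      push_cast
      rfl

theorem toMat_one : toMat one = 1 := by
  ext i j
  fin_cases i <;> fin_cases j <;> rfl

theorem one_normed : one.normed := by
  intro i j
  fin_cases i <;> fin_cases j <;> decide


/-- The element orders of `J₁`. -/
def ordList : List ℕ := [1, 2, 3, 5, 6, 7, 10, 11, 15, 19]

/-- Strict power (continuation-passing style), for exponents in `ordList`. -/
def pwF {A : Type} (x : M7) (n : ℕ) (k : M7 → A) : A :=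
  match n with
  | 1 => k x
  | 2 => mulF x x k
  | 3 => mulF x x fun x2 => mulF x2 x k
  | 5 => mulF x x fun x2 => mulF x2 x2 fun x4 => mulF x4 x k
  | 6 => mulF x x fun x2 => mulF x2 x fun x3 => mulF x3 x3 k
  | 7 => mulF x x fun x2 => mulF x2 x fun x3 => mulF x3 x3 fun x6 => mulF x6 x k
  | 10 => mulF x x fun x2 => mulF x2 x2 fun x4 => mulF x4 x fun x5 => mulF x5 x5 k
  | 11 => mulF x x fun x2 => mulF x2 x2 fun x4 => mulF x4 x fun x5 => mulF x5 x5 fun x10 =>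
      mulF x10 x k
  | 15 => mulF x x fun x2 => mulF x2 x2 fun x4 => mulF x4 x fun x5 => mulF x5 x5 fun x10 =>
      mulF x10 x5 k
  | 19 => mulF x x fun x2 => mulF x2 x2 fun x4 => mulF x4 x4 fun x8 => mulF x8 x fun x9 =>
      mulF x9 x9 fun x18 => mulF x18 x k
  | _ => k one

/-- Power, for exponents in `ordList`. -/
def pwP (x : M7) (n : ℕ) : M7 :=
  match n with
  | 1 => x
  | 2 => mul x x
  | 3 => mul (mul x x) x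
  | 5 => mul (mul (mul x x) (mul x x)) x
  | 6 => mul (mul (mul x x) x) (mul (mul x x) x)
  | 7 => mul (mul (mul (mul x x) x) (mul (mul x x) x)) x
  | 10 => mul (mul (mul (mul x x) (mul x x)) x) (mul (mul (mul x x) (mul x x)) x)
  | 11 => mul (mul (mul (mul (mul x x) (mul x x)) x) (mul (mul (mul x x) (mul x x)) x)) x
  | 15 => mul (mul (mul (mul (mul x x) (mul x x)) x) (mul (mul (mul x x) (mul x x)) x))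
      (mul (mul (mul x x) (mul x x)) x)
  | 19 => mul (mul (mul (mul (mul (mul x x) (mul x x)) (mul (mul x x) (mul x x))) x)
      (mul (mul (mul (mul x x) (mul x x)) (mul (mul x x) (mul x x))) x)) x
  | _ => one

theorem pwF_eq {A : Type} (x : M7) (n : ℕ) (k : M7 → A) : pwF x n k = k (pwP x n) := by
  unfold pwF pwP
  split <;> simp only [mulF_eq]

theorem toMat_pwP (x : M7) {n : ℕ} (hn : n ∈ ordList) : toMat (pwP x n) = toMat x ^ n := by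
  simp only [ordList, List.mem_cons, List.mem_nil_iff, or_false] at hn
  rcases hn with rfl | rfl | rfl | rfl | rfl | rfl | rfl | rfl | rfl | rfl <;>
    simp only [pwP, toMat_mul, pow_succ, pow_zero, one_mul, mul_assoc]

/-- The first generator. -/
def Xm : M7 := ⟨⟨0, 1, 0, 0, 0, 0, 0⟩, ⟨0, 0, 1, 0, 0, 0, 0⟩, ⟨0, 0, 0, 1, 0, 0, 0⟩, ⟨0, 0, 0, 0, 1, 0, 0⟩, ⟨0, 0, 0, 0, 0, 1, 0⟩, ⟨0, 0, 0, 0, 0, 0, 1⟩, ⟨1, 0, 0, 0, 0, 0, 0⟩⟩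

/-- The second generator. -/
def Ym : M7 := ⟨⟨8, 2, 10, 10, 8, 10, 8⟩, ⟨9, 1, 1, 3, 1, 3, 3⟩, ⟨10, 10, 8, 10, 8, 8, 2⟩, ⟨10, 8, 10, 8, 8, 2, 10⟩, ⟨8, 10, 8, 8, 2, 10, 10⟩, ⟨1, 3, 3, 9, 1, 1, 3⟩, ⟨3, 3, 9, 1, 1, 3, 1⟩⟩

theorem toMat_Xm : toMat Xm = (Cfsg.Spor.jankoX : Matrix (Fin 7) (Fin 7) (ZMod 11)) := by
  ext i j
  fin_cases i <;> fin_cases j <;> decide

theorem toMat_Ym : toMat Ym = (Cfsg.Spor.jankoY : Matrix (Fin 7) (Fin 7) (ZMod 11)) := by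
  ext i j
  fin_cases i <;> fin_cases j <;> decide

/-- The matrix of a word in the two generators (`false` for `X`, `true` for `Y`). -/
def wordM (w : List Bool) : M7 := w.foldl (fun m b => mul m (cond b Ym Xm)) one

/-- Strict evaluation of a word. -/
def wordF {A : Type} : List Bool → M7 → (M7 → A) → A
  | [], acc, k => k acc
  | b :: w, acc, k => mulF acc (cond b Ym Xm) fun acc' => wordF w acc' k

theorem wordF_eq {A : Type} (w : List Bool) (acc : M7) (k : M7 → A) :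
    wordF w acc k = k (w.foldl (fun m b => mul m (cond b Ym Xm)) acc) := by
  induction w generalizing acc with
  | nil => rfl
  | cons b w ih => rw [wordF, mulF_eq, ih, List.foldl_cons]

/-- The element of `GL₇(11)` given by a word in the two generators. -/
def wordGL (w : List Bool) : GL (Fin 7) (ZMod 11) :=
  w.foldl (fun g b => g * cond b Cfsg.Spor.jankoY Cfsg.Spor.jankoX) 1

theorem wordGL_val_aux (w : List Bool) (g : GL (Fin 7) (ZMod 11)) (m : M7)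
    (h : (g : Matrix (Fin 7) (Fin 7) (ZMod 11)) = toMat m) :
    ((w.foldl (fun g b => g * cond b Cfsg.Spor.jankoY Cfsg.Spor.jankoX) g :
      GL (Fin 7) (ZMod 11)) : Matrix (Fin 7) (Fin 7) (ZMod 11)) =
      toMat (w.foldl (fun m b => mul m (cond b Ym Xm)) m) := by
  induction w generalizing g m with
  | nil => exact h
  | cons b w ih =>
    rw [List.foldl_cons, List.foldl_cons]
    apply ih
    rw [Units.val_mul, toMat_mul, h]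
    cases b
    · rw [cond_false, cond_false, toMat_Xm]
    · rw [cond_true, cond_true, toMat_Ym]

theorem wordGL_val (w : List Bool) :
    ((wordGL w : GL (Fin 7) (ZMod 11)) : Matrix (Fin 7) (Fin 7) (ZMod 11)) = toMat (wordM w) :=
  wordGL_val_aux w 1 one (by rw [Units.val_one, toMat_one])

theorem wordGL_mem_aux (w : List Bool) (g : GL (Fin 7) (ZMod 11)) (h : g ∈ Cfsg.Spor.J1) :
    w.foldl (fun g b => g * cond b Cfsg.Spor.jankoY Cfsg.Spor.jankoX) g ∈ Cfsg.Spor.J1 := by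
  induction w generalizing g with
  | nil => exact h
  | cons b w ih =>
    rw [List.foldl_cons]
    apply ih
    apply Subgroup.mul_mem _ h
    cases b
    · exact Subgroup.subset_closure (by simp)
    · exact Subgroup.subset_closure (by simp)

theorem wordGL_mem (w : List Bool) : wordGL w ∈ Cfsg.Spor.J1 :=
  wordGL_mem_aux w 1 (Subgroup.one_mem _)

theorem wordM_normed (w : List Bool) (hw : w ≠ []) : (wordM w).normed := by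
  obtain ⟨w', b, rfl⟩ := (List.eq_nil_or_concat' w).resolve_left hw
  unfold wordM
  rw [List.foldl_append, List.foldl_cons, List.foldl_nil]
  exact mul_normed _ _

end Cfsg.Agent.Lib.helper61.J1
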