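import Cfsg.Agent.Lib.helper61.J1Core

/-!
Certificate data for the Janko group `J₁` (helper61): the centraliser `Slist` of an involution (120 matrices),
double coset representatives with right coset representatives (`Blocks`), and witness tables.
-/

set_option autoImplicit false

namespace Cfsg.Agent.Lib.helper61.J1

/-- The 120 matrices of the centraliser of the involution `tm`. -/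
def Slist : List M7 := [
  ⟨⟨1, 0, 0, 0, 0, 0, 0⟩, ⟨0, 1, 0, 0, 0, 0, 0⟩, ⟨0, 0, 1, 0, 0, 0, 0⟩, ⟨0, 0, 0, 1, 0, 0, 0⟩, ⟨0, 0, 0, 0, 1, 0, 0⟩, ⟨0, 0, 0, 0, 0, 1, 0⟩, ⟨0, 0, 0, 0, 0, 0, 1⟩⟩,
  ⟨⟨10, 0, 0, 0, 0, 0, 0⟩, ⟨0, 10, 0, 0, 0, 0, 0⟩, ⟨0, 0, 1, 0, 0, 0, 0⟩, ⟨0, 0, 0, 1, 0, 0, 0⟩, ⟨0, 0, 0, 0, 10, 0, 0⟩, ⟨0, 0, 0, 0, 0, 1, 0⟩, ⟨0, 0, 0, 0, 0, 0, 10⟩⟩,
  ⟨⟨10, 0, 0, 0, 0, 0, 0⟩, ⟨0, 10, 0, 0, 0, 0, 0⟩, ⟨0, 0, 10, 0, 0, 0, 0⟩, ⟨0, 0, 0, 1, 0, 0, 0⟩, ⟨0, 0, 0, 0, 1, 0, 0⟩, ⟨0, 0, 0, 0, 0, 10, 0⟩, ⟨0, 0, 0, 0, 0, 0, 1⟩⟩,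
  ⟨⟨1, 0, 0, 0, 0, 0, 0⟩, ⟨0, 10, 0, 0, 0, 0, 0⟩, ⟨0, 0, 1, 0, 0, 0, 0⟩, ⟨0, 0, 0, 10, 0, 0, 0⟩, ⟨0, 0, 0, 0, 10, 0, 0⟩, ⟨0, 0, 0, 0, 0, 10, 0⟩, ⟨0, 0, 0, 0, 0, 0, 1⟩⟩,
  ⟨⟨1, 0, 0, 0, 0, 0, 0⟩, ⟨0, 1, 0, 0, 0, 0, 0⟩, ⟨0, 0, 10, 0, 0, 0, 0⟩, ⟨0, 0, 0, 1, 0, 0, 0⟩, ⟨0, 0, 0, 0, 10, 0, 0⟩, ⟨0, 0, 0, 0, 0, 10, 0⟩, ⟨0, 0, 0, 0, 0, 0, 10⟩⟩,
  ⟨⟨10, 0, 0, 0, 0, 0, 0⟩, ⟨0, 1, 0, 0, 0, 0, 0⟩, ⟨0, 0, 1, 0, 0, 0, 0⟩, ⟨0, 0, 0, 10, 0, 0, 0⟩, ⟨0, 0, 0, 0, 1, 0, 0⟩, ⟨0, 0, 0, 0, 0, 10, 0⟩, ⟨0, 0, 0, 0, 0, 0, 10⟩⟩,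
  ⟨⟨1, 0, 0, 0, 0, 0, 0⟩, ⟨0, 10, 0, 0, 0, 0, 0⟩, ⟨0, 0, 10, 0, 0, 0, 0⟩, ⟨0, 0, 0, 10, 0, 0, 0⟩, ⟨0, 0, 0, 0, 1, 0, 0⟩, ⟨0, 0, 0, 0, 0, 1, 0⟩, ⟨0, 0, 0, 0, 0, 0, 10⟩⟩,
  ⟨⟨10, 0, 0, 0, 0, 0, 0⟩, ⟨0, 1, 0, 0, 0, 0, 0⟩, ⟨0, 0, 10, 0, 0, 0, 0⟩, ⟨0, 0, 0, 10, 0, 0, 0⟩, ⟨0, 0, 0, 0, 10, 0, 0⟩, ⟨0, 0, 0, 0, 0, 1, 0⟩, ⟨0, 0, 0, 0, 0, 0, 1⟩⟩,
  ⟨⟨8, 1, 0, 0, 2, 0, 3⟩, ⟨1, 8, 0, 0, 10, 0, 10⟩, ⟨0, 0, 7, 6, 0, 9, 0⟩, ⟨0, 0, 6, 9, 0, 4, 0⟩, ⟨2, 10, 0, 0, 8, 0, 8⟩, ⟨0, 0, 9, 4, 0, 5, 0⟩, ⟨3, 10, 0, 0, 8, 0, 9⟩⟩,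
  ⟨⟨9, 10, 0, 0, 8, 0, 3⟩, ⟨1, 3, 0, 0, 1, 0, 10⟩, ⟨0, 0, 2, 4, 0, 5, 0⟩, ⟨0, 0, 4, 6, 0, 9, 0⟩, ⟨8, 10, 0, 0, 8, 0, 2⟩, ⟨0, 0, 6, 2, 0, 7, 0⟩, ⟨8, 10, 0, 0, 9, 0, 3⟩⟩,
  ⟨⟨9, 1, 0, 0, 8, 0, 8⟩, ⟨1, 8, 0, 0, 1, 0, 1⟩, ⟨0, 0, 9, 7, 0, 5, 0⟩, ⟨0, 0, 7, 5, 0, 9, 0⟩, ⟨8, 1, 0, 0, 8, 0, 9⟩, ⟨0, 0, 5, 9, 0, 7, 0⟩, ⟨8, 1, 0, 0, 9, 0, 8⟩⟩,
  ⟨⟨9, 10, 0, 0, 8, 0, 3⟩, ⟨10, 8, 0, 0, 10, 0, 1⟩, ⟨0, 0, 9, 7, 0, 6, 0⟩, ⟨0, 0, 7, 5, 0, 2, 0⟩, ⟨8, 10, 0, 0, 8, 0, 2⟩, ⟨0, 0, 6, 2, 0, 7, 0⟩, ⟨3, 1, 0, 0, 2, 0, 8⟩⟩,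
  ⟨⟨3, 10, 0, 0, 9, 0, 8⟩, ⟨10, 3, 0, 0, 1, 0, 1⟩, ⟨0, 0, 4, 5, 0, 2, 0⟩, ⟨0, 0, 6, 9, 0, 4, 0⟩, ⟨2, 10, 0, 0, 8, 0, 8⟩, ⟨0, 0, 2, 7, 0, 6, 0⟩, ⟨3, 10, 0, 0, 8, 0, 9⟩⟩,
  ⟨⟨8, 10, 0, 0, 3, 0, 9⟩, ⟨1, 3, 0, 0, 10, 0, 1⟩, ⟨0, 0, 6, 9, 0, 7, 0⟩, ⟨0, 0, 9, 4, 0, 6, 0⟩, ⟨3, 1, 0, 0, 9, 0, 3⟩, ⟨0, 0, 4, 5, 0, 9, 0⟩, ⟨2, 1, 0, 0, 8, 0, 3⟩⟩,
  ⟨⟨3, 10, 0, 0, 3, 0, 2⟩, ⟨10, 3, 0, 0, 10, 0, 10⟩, ⟨0, 0, 6, 2, 0, 4, 0⟩, ⟨0, 0, 9, 7, 0, 5, 0⟩, ⟨8, 1, 0, 0, 9, 0, 8⟩, ⟨0, 0, 4, 6, 0, 2, 0⟩, ⟨9, 1, 0, 0, 8, 0, 8⟩⟩,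
  ⟨⟨3, 1, 0, 0, 9, 0, 3⟩, ⟨10, 8, 0, 0, 1, 0, 10⟩, ⟨0, 0, 4, 5, 0, 9, 0⟩, ⟨0, 0, 5, 2, 0, 4, 0⟩, ⟨9, 10, 0, 0, 3, 0, 8⟩, ⟨0, 0, 2, 7, 0, 5, 0⟩, ⟨8, 10, 0, 0, 3, 0, 9⟩⟩,
  ⟨⟨3, 1, 0, 0, 8, 0, 2⟩, ⟨1, 3, 0, 0, 10, 0, 1⟩, ⟨0, 0, 6, 9, 0, 7, 0⟩, ⟨0, 0, 2, 7, 0, 5, 0⟩, ⟨3, 1, 0, 0, 9, 0, 3⟩, ⟨0, 0, 7, 6, 0, 2, 0⟩, ⟨9, 10, 0, 0, 3, 0, 8⟩⟩,
  ⟨⟨3, 10, 0, 0, 2, 0, 3⟩, ⟨1, 8, 0, 0, 1, 0, 1⟩, ⟨0, 0, 4, 6, 0, 2, 0⟩, ⟨0, 0, 6, 2, 0, 4, 0⟩, ⟨2, 10, 0, 0, 3, 0, 3⟩, ⟨0, 0, 9, 7, 0, 5, 0⟩, ⟨8, 1, 0, 0, 8, 0, 9⟩⟩,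
  ⟨⟨8, 1, 0, 0, 2, 0, 3⟩, ⟨1, 8, 0, 0, 10, 0, 10⟩, ⟨0, 0, 4, 5, 0, 2, 0⟩, ⟨0, 0, 6, 9, 0, 4, 0⟩, ⟨9, 1, 0, 0, 3, 0, 3⟩, ⟨0, 0, 2, 7, 0, 6, 0⟩, ⟨8, 1, 0, 0, 3, 0, 2⟩⟩,
  ⟨⟨2, 1, 0, 0, 3, 0, 8⟩, ⟨1, 3, 0, 0, 1, 0, 10⟩, ⟨0, 0, 2, 4, 0, 5, 0⟩, ⟨0, 0, 7, 5, 0, 2, 0⟩, ⟨8, 10, 0, 0, 8, 0, 2⟩, ⟨0, 0, 5, 9, 0, 4, 0⟩, ⟨3, 1, 0, 0, 2, 0, 8⟩⟩,
  ⟨⟨8, 10, 0, 0, 2, 0, 8⟩, ⟨1, 3, 0, 0, 10, 0, 1⟩, ⟨0, 0, 7, 6, 0, 2, 0⟩, ⟨0, 0, 5, 2, 0, 4, 0⟩, ⟨9, 10, 0, 0, 3, 0, 8⟩, ⟨0, 0, 9, 4, 0, 6, 0⟩, ⟨8, 10, 0, 0, 3, 0, 9⟩⟩,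
  ⟨⟨9, 1, 0, 0, 3, 0, 3⟩, ⟨1, 8, 0, 0, 10, 0, 10⟩, ⟨0, 0, 2, 7, 0, 6, 0⟩, ⟨0, 0, 4, 5, 0, 2, 0⟩, ⟨8, 1, 0, 0, 3, 0, 2⟩, ⟨0, 0, 6, 9, 0, 4, 0⟩, ⟨8, 1, 0, 0, 2, 0, 3⟩⟩,
  ⟨⟨2, 10, 0, 0, 3, 0, 3⟩, ⟨10, 3, 0, 0, 10, 0, 10⟩, ⟨0, 0, 9, 7, 0, 5, 0⟩, ⟨0, 0, 7, 5, 0, 9, 0⟩, ⟨3, 10, 0, 0, 3, 0, 2⟩, ⟨0, 0, 5, 9, 0, 7, 0⟩, ⟨3, 10, 0, 0, 2, 0, 3⟩⟩,
  ⟨⟨2, 1, 0, 0, 3, 0, 8⟩, ⟨1, 3, 0, 0, 1, 0, 10⟩, ⟨0, 0, 9, 7, 0, 6, 0⟩, ⟨0, 0, 7, 5, 0, 2, 0⟩, ⟨3, 1, 0, 0, 3, 0, 9⟩, ⟨0, 0, 6, 2, 0, 7, 0⟩, ⟨8, 10, 0, 0, 9, 0, 3⟩⟩,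
  ⟨⟨8, 10, 0, 0, 8, 0, 2⟩, ⟨1, 3, 0, 0, 1, 0, 10⟩, ⟨0, 0, 6, 2, 0, 7, 0⟩, ⟨0, 0, 2, 4, 0, 5, 0⟩, ⟨8, 10, 0, 0, 9, 0, 3⟩, ⟨0, 0, 4, 6, 0, 9, 0⟩, ⟨9, 10, 0, 0, 8, 0, 3⟩⟩,
  ⟨⟨2, 10, 0, 0, 3, 0, 3⟩, ⟨1, 8, 0, 0, 1, 0, 1⟩, ⟨0, 0, 2, 4, 0, 6, 0⟩, ⟨0, 0, 4, 6, 0, 2, 0⟩, ⟨3, 10, 0, 0, 3, 0, 2⟩, ⟨0, 0, 5, 9, 0, 7, 0⟩, ⟨8, 1, 0, 0, 9, 0, 8⟩⟩,
  ⟨⟨9, 1, 0, 0, 3, 0, 3⟩, ⟨10, 3, 0, 0, 1, 0, 1⟩, ⟨0, 0, 9, 4, 0, 5, 0⟩, ⟨0, 0, 7, 6, 0, 9, 0⟩, ⟨8, 1, 0, 0, 3, 0, 2⟩, ⟨0, 0, 6, 9, 0, 4, 0⟩, ⟨3, 10, 0, 0, 9, 0, 8⟩⟩,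
  ⟨⟨2, 10, 0, 0, 3, 0, 3⟩, ⟨10, 3, 0, 0, 10, 0, 10⟩, ⟨0, 0, 2, 4, 0, 6, 0⟩, ⟨0, 0, 7, 5, 0, 9, 0⟩, ⟨8, 1, 0, 0, 8, 0, 9⟩, ⟨0, 0, 6, 2, 0, 4, 0⟩, ⟨8, 1, 0, 0, 9, 0, 8⟩⟩,
  ⟨⟨9, 1, 0, 0, 8, 0, 8⟩, ⟨10, 3, 0, 0, 10, 0, 10⟩, ⟨0, 0, 9, 7, 0, 5, 0⟩, ⟨0, 0, 4, 6, 0, 2, 0⟩, ⟨3, 10, 0, 0, 3, 0, 2⟩, ⟨0, 0, 6, 2, 0, 4, 0⟩, ⟨8, 1, 0, 0, 9, 0, 8⟩⟩,
  ⟨⟨2, 1, 0, 0, 8, 0, 3⟩, ⟨1, 3, 0, 0, 10, 0, 1⟩, ⟨0, 0, 2, 7, 0, 5, 0⟩, ⟨0, 0, 4, 5, 0, 9, 0⟩, ⟨3, 1, 0, 0, 8, 0, 2⟩, ⟨0, 0, 5, 2, 0, 4, 0⟩, ⟨8, 10, 0, 0, 2, 0, 8⟩⟩,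
  ⟨⟨2, 1, 0, 0, 3, 0, 8⟩, ⟨10, 8, 0, 0, 10, 0, 1⟩, ⟨0, 0, 2, 4, 0, 5, 0⟩, ⟨0, 0, 4, 6, 0, 9, 0⟩, ⟨3, 1, 0, 0, 3, 0, 9⟩, ⟨0, 0, 6, 2, 0, 7, 0⟩, ⟨3, 1, 0, 0, 2, 0, 8⟩⟩,
  ⟨⟨2, 10, 0, 0, 8, 0, 8⟩, ⟨10, 3, 0, 0, 1, 0, 1⟩, ⟨0, 0, 2, 7, 0, 6, 0⟩, ⟨0, 0, 4, 5, 0, 2, 0⟩, ⟨3, 10, 0, 0, 8, 0, 9⟩, ⟨0, 0, 6, 9, 0, 4, 0⟩, ⟨3, 10, 0, 0, 9, 0, 8⟩⟩,
  ⟨⟨8, 10, 0, 0, 2, 0, 8⟩, ⟨10, 8, 0, 0, 1, 0, 10⟩, ⟨0, 0, 7, 6, 0, 2, 0⟩, ⟨0, 0, 6, 9, 0, 7, 0⟩, ⟨2, 1, 0, 0, 8, 0, 3⟩, ⟨0, 0, 2, 7, 0, 5, 0⟩, ⟨8, 10, 0, 0, 3, 0, 9⟩⟩,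
  ⟨⟨3, 10, 0, 0, 2, 0, 3⟩, ⟨1, 8, 0, 0, 1, 0, 1⟩, ⟨0, 0, 7, 5, 0, 9, 0⟩, ⟨0, 0, 6, 2, 0, 4, 0⟩, ⟨9, 1, 0, 0, 8, 0, 8⟩, ⟨0, 0, 2, 4, 0, 6, 0⟩, ⟨3, 10, 0, 0, 3, 0, 2⟩⟩,
  ⟨⟨3, 10, 0, 0, 9, 0, 8⟩, ⟨10, 3, 0, 0, 1, 0, 1⟩, ⟨0, 0, 7, 6, 0, 9, 0⟩, ⟨0, 0, 6, 9, 0, 4, 0⟩, ⟨9, 1, 0, 0, 3, 0, 3⟩, ⟨0, 0, 9, 4, 0, 5, 0⟩, ⟨8, 1, 0, 0, 3, 0, 2⟩⟩,
  ⟨⟨3, 10, 0, 0, 8, 0, 9⟩, ⟨10, 3, 0, 0, 1, 0, 1⟩, ⟨0, 0, 6, 9, 0, 4, 0⟩, ⟨0, 0, 2, 7, 0, 6, 0⟩, ⟨3, 10, 0, 0, 9, 0, 8⟩, ⟨0, 0, 4, 5, 0, 2, 0⟩, ⟨2, 10, 0, 0, 8, 0, 8⟩⟩,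
  ⟨⟨3, 1, 0, 0, 2, 0, 8⟩, ⟨10, 8, 0, 0, 10, 0, 1⟩, ⟨0, 0, 4, 6, 0, 9, 0⟩, ⟨0, 0, 6, 2, 0, 7, 0⟩, ⟨2, 1, 0, 0, 3, 0, 8⟩, ⟨0, 0, 2, 4, 0, 5, 0⟩, ⟨3, 1, 0, 0, 3, 0, 9⟩⟩,
  ⟨⟨8, 1, 0, 0, 8, 0, 9⟩, ⟨1, 8, 0, 0, 1, 0, 1⟩, ⟨0, 0, 6, 2, 0, 4, 0⟩, ⟨0, 0, 9, 7, 0, 5, 0⟩, ⟨3, 10, 0, 0, 2, 0, 3⟩, ⟨0, 0, 4, 6, 0, 2, 0⟩, ⟨2, 10, 0, 0, 3, 0, 3⟩⟩,
  ⟨⟨8, 10, 0, 0, 2, 0, 8⟩, ⟨1, 3, 0, 0, 10, 0, 1⟩, ⟨0, 0, 4, 5, 0, 9, 0⟩, ⟨0, 0, 5, 2, 0, 4, 0⟩, ⟨2, 1, 0, 0, 8, 0, 3⟩, ⟨0, 0, 2, 7, 0, 5, 0⟩, ⟨3, 1, 0, 0, 8, 0, 2⟩⟩,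
  ⟨⟨8, 10, 0, 0, 3, 0, 9⟩, ⟨10, 8, 0, 0, 1, 0, 10⟩, ⟨0, 0, 6, 9, 0, 7, 0⟩, ⟨0, 0, 2, 7, 0, 5, 0⟩, ⟨8, 10, 0, 0, 2, 0, 8⟩, ⟨0, 0, 7, 6, 0, 2, 0⟩, ⟨2, 1, 0, 0, 8, 0, 3⟩⟩,
  ⟨⟨8, 1, 0, 0, 9, 0, 8⟩, ⟨10, 3, 0, 0, 10, 0, 10⟩, ⟨0, 0, 4, 6, 0, 2, 0⟩, ⟨0, 0, 6, 2, 0, 4, 0⟩, ⟨9, 1, 0, 0, 8, 0, 8⟩, ⟨0, 0, 9, 7, 0, 5, 0⟩, ⟨3, 10, 0, 0, 3, 0, 2⟩⟩,
  ⟨⟨2, 10, 0, 0, 8, 0, 8⟩, ⟨1, 8, 0, 0, 10, 0, 10⟩, ⟨0, 0, 9, 4, 0, 5, 0⟩, ⟨0, 0, 7, 6, 0, 9, 0⟩, ⟨3, 10, 0, 0, 8, 0, 9⟩, ⟨0, 0, 6, 9, 0, 4, 0⟩, ⟨8, 1, 0, 0, 2, 0, 3⟩⟩,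
  ⟨⟨3, 1, 0, 0, 9, 0, 3⟩, ⟨10, 8, 0, 0, 1, 0, 10⟩, ⟨0, 0, 7, 6, 0, 2, 0⟩, ⟨0, 0, 5, 2, 0, 4, 0⟩, ⟨2, 1, 0, 0, 8, 0, 3⟩, ⟨0, 0, 9, 4, 0, 6, 0⟩, ⟨3, 1, 0, 0, 8, 0, 2⟩⟩,
  ⟨⟨8, 1, 0, 0, 2, 0, 3⟩, ⟨10, 3, 0, 0, 1, 0, 1⟩, ⟨0, 0, 7, 6, 0, 9, 0⟩, ⟨0, 0, 5, 2, 0, 7, 0⟩, ⟨9, 1, 0, 0, 3, 0, 3⟩, ⟨0, 0, 2, 7, 0, 6, 0⟩, ⟨3, 10, 0, 0, 8, 0, 9⟩⟩,
  ⟨⟨9, 10, 0, 0, 8, 0, 3⟩, ⟨10, 8, 0, 0, 10, 0, 1⟩, ⟨0, 0, 2, 4, 0, 5, 0⟩, ⟨0, 0, 7, 5, 0, 2, 0⟩, ⟨3, 1, 0, 0, 3, 0, 9⟩, ⟨0, 0, 5, 9, 0, 4, 0⟩, ⟨8, 10, 0, 0, 9, 0, 3⟩⟩,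
  ⟨⟨3, 10, 0, 0, 3, 0, 2⟩, ⟨1, 8, 0, 0, 1, 0, 1⟩, ⟨0, 0, 6, 2, 0, 4, 0⟩, ⟨0, 0, 2, 4, 0, 6, 0⟩, ⟨3, 10, 0, 0, 2, 0, 3⟩, ⟨0, 0, 7, 5, 0, 9, 0⟩, ⟨9, 1, 0, 0, 8, 0, 8⟩⟩,
  ⟨⟨8, 10, 0, 0, 3, 0, 9⟩, ⟨1, 3, 0, 0, 10, 0, 1⟩, ⟨0, 0, 5, 2, 0, 4, 0⟩, ⟨0, 0, 9, 4, 0, 6, 0⟩, ⟨8, 10, 0, 0, 2, 0, 8⟩, ⟨0, 0, 7, 6, 0, 2, 0⟩, ⟨9, 10, 0, 0, 3, 0, 8⟩⟩,
  ⟨⟨2, 1, 0, 0, 8, 0, 3⟩, ⟨10, 8, 0, 0, 1, 0, 10⟩, ⟨0, 0, 9, 4, 0, 6, 0⟩, ⟨0, 0, 7, 6, 0, 2, 0⟩, ⟨3, 1, 0, 0, 8, 0, 2⟩, ⟨0, 0, 5, 2, 0, 4, 0⟩, ⟨3, 1, 0, 0, 9, 0, 3⟩⟩,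
  ⟨⟨8, 10, 0, 0, 8, 0, 2⟩, ⟨1, 3, 0, 0, 1, 0, 10⟩, ⟨0, 0, 5, 9, 0, 4, 0⟩, ⟨0, 0, 2, 4, 0, 5, 0⟩, ⟨3, 1, 0, 0, 2, 0, 8⟩, ⟨0, 0, 7, 5, 0, 2, 0⟩, ⟨2, 1, 0, 0, 3, 0, 8⟩⟩,
  ⟨⟨2, 1, 0, 0, 3, 0, 8⟩, ⟨10, 8, 0, 0, 10, 0, 1⟩, ⟨0, 0, 9, 7, 0, 6, 0⟩, ⟨0, 0, 4, 6, 0, 9, 0⟩, ⟨8, 10, 0, 0, 8, 0, 2⟩, ⟨0, 0, 5, 9, 0, 4, 0⟩, ⟨8, 10, 0, 0, 9, 0, 3⟩⟩,
  ⟨⟨8, 1, 0, 0, 9, 0, 8⟩, ⟨10, 3, 0, 0, 10, 0, 10⟩, ⟨0, 0, 7, 5, 0, 9, 0⟩, ⟨0, 0, 6, 2, 0, 4, 0⟩, ⟨2, 10, 0, 0, 3, 0, 3⟩, ⟨0, 0, 2, 4, 0, 6, 0⟩, ⟨8, 1, 0, 0, 8, 0, 9⟩⟩,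
  ⟨⟨9, 1, 0, 0, 3, 0, 3⟩, ⟨1, 8, 0, 0, 10, 0, 10⟩, ⟨0, 0, 9, 4, 0, 5, 0⟩, ⟨0, 0, 4, 5, 0, 2, 0⟩, ⟨3, 10, 0, 0, 8, 0, 9⟩, ⟨0, 0, 5, 2, 0, 7, 0⟩, ⟨3, 10, 0, 0, 9, 0, 8⟩⟩,
  ⟨⟨9, 10, 0, 0, 3, 0, 8⟩, ⟨10, 8, 0, 0, 1, 0, 10⟩, ⟨0, 0, 9, 4, 0, 6, 0⟩, ⟨0, 0, 4, 5, 0, 9, 0⟩, ⟨3, 1, 0, 0, 8, 0, 2⟩, ⟨0, 0, 6, 9, 0, 7, 0⟩, ⟨8, 10, 0, 0, 2, 0, 8⟩⟩,
  ⟨⟨9, 10, 0, 0, 3, 0, 8⟩, ⟨10, 8, 0, 0, 1, 0, 10⟩, ⟨0, 0, 2, 7, 0, 5, 0⟩, ⟨0, 0, 4, 5, 0, 9, 0⟩, ⟨8, 10, 0, 0, 3, 0, 9⟩, ⟨0, 0, 5, 2, 0, 4, 0⟩, ⟨3, 1, 0, 0, 9, 0, 3⟩⟩,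
  ⟨⟨9, 1, 0, 0, 8, 0, 8⟩, ⟨1, 8, 0, 0, 1, 0, 1⟩, ⟨0, 0, 2, 4, 0, 6, 0⟩, ⟨0, 0, 7, 5, 0, 9, 0⟩, ⟨3, 10, 0, 0, 3, 0, 2⟩, ⟨0, 0, 6, 2, 0, 4, 0⟩, ⟨3, 10, 0, 0, 2, 0, 3⟩⟩,
  ⟨⟨8, 1, 0, 0, 8, 0, 9⟩, ⟨10, 3, 0, 0, 10, 0, 10⟩, ⟨0, 0, 6, 2, 0, 4, 0⟩, ⟨0, 0, 2, 4, 0, 6, 0⟩, ⟨8, 1, 0, 0, 9, 0, 8⟩, ⟨0, 0, 7, 5, 0, 9, 0⟩, ⟨2, 10, 0, 0, 3, 0, 3⟩⟩,
  ⟨⟨8, 1, 0, 0, 2, 0, 3⟩, ⟨10, 3, 0, 0, 1, 0, 1⟩, ⟨0, 0, 4, 5, 0, 2, 0⟩, ⟨0, 0, 5, 2, 0, 7, 0⟩, ⟨2, 10, 0, 0, 8, 0, 8⟩, ⟨0, 0, 9, 4, 0, 5, 0⟩, ⟨8, 1, 0, 0, 3, 0, 2⟩⟩,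
  ⟨⟨9, 1, 0, 0, 3, 0, 3⟩, ⟨10, 3, 0, 0, 1, 0, 1⟩, ⟨0, 0, 2, 7, 0, 6, 0⟩, ⟨0, 0, 7, 6, 0, 9, 0⟩, ⟨3, 10, 0, 0, 8, 0, 9⟩, ⟨0, 0, 5, 2, 0, 7, 0⟩, ⟨8, 1, 0, 0, 2, 0, 3⟩⟩,
  ⟨⟨8, 10, 0, 0, 2, 0, 8⟩, ⟨10, 8, 0, 0, 1, 0, 10⟩, ⟨0, 0, 4, 5, 0, 9, 0⟩, ⟨0, 0, 6, 9, 0, 7, 0⟩, ⟨9, 10, 0, 0, 3, 0, 8⟩, ⟨0, 0, 9, 4, 0, 6, 0⟩, ⟨3, 1, 0, 0, 8, 0, 2⟩⟩,
  ⟨⟨9, 10, 0, 0, 8, 0, 3⟩, ⟨1, 3, 0, 0, 1, 0, 10⟩, ⟨0, 0, 9, 7, 0, 6, 0⟩, ⟨0, 0, 4, 6, 0, 9, 0⟩, ⟨3, 1, 0, 0, 3, 0, 9⟩, ⟨0, 0, 5, 9, 0, 4, 0⟩, ⟨3, 1, 0, 0, 2, 0, 8⟩⟩,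
  ⟨⟨3, 1, 0, 0, 3, 0, 9⟩, ⟨1, 3, 0, 0, 1, 0, 10⟩, ⟨0, 0, 6, 2, 0, 7, 0⟩, ⟨0, 0, 9, 7, 0, 6, 0⟩, ⟨8, 10, 0, 0, 9, 0, 3⟩, ⟨0, 0, 7, 5, 0, 2, 0⟩, ⟨2, 1, 0, 0, 3, 0, 8⟩⟩,
  ⟨⟨2, 10, 0, 0, 3, 0, 3⟩, ⟨1, 8, 0, 0, 1, 0, 1⟩, ⟨0, 0, 9, 7, 0, 5, 0⟩, ⟨0, 0, 4, 6, 0, 2, 0⟩, ⟨8, 1, 0, 0, 8, 0, 9⟩, ⟨0, 0, 6, 2, 0, 4, 0⟩, ⟨3, 10, 0, 0, 2, 0, 3⟩⟩,
  ⟨⟨3, 1, 0, 0, 9, 0, 3⟩, ⟨1, 3, 0, 0, 10, 0, 1⟩, ⟨0, 0, 7, 6, 0, 2, 0⟩, ⟨0, 0, 6, 9, 0, 7, 0⟩, ⟨9, 10, 0, 0, 3, 0, 8⟩, ⟨0, 0, 2, 7, 0, 5, 0⟩, ⟨3, 1, 0, 0, 8, 0, 2⟩⟩,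
  ⟨⟨3, 1, 0, 0, 9, 0, 3⟩, ⟨1, 3, 0, 0, 10, 0, 1⟩, ⟨0, 0, 4, 5, 0, 9, 0⟩, ⟨0, 0, 6, 9, 0, 7, 0⟩, ⟨2, 1, 0, 0, 8, 0, 3⟩, ⟨0, 0, 9, 4, 0, 6, 0⟩, ⟨8, 10, 0, 0, 3, 0, 9⟩⟩,
  ⟨⟨8, 10, 0, 0, 3, 0, 9⟩, ⟨10, 8, 0, 0, 1, 0, 10⟩, ⟨0, 0, 5, 2, 0, 4, 0⟩, ⟨0, 0, 2, 7, 0, 5, 0⟩, ⟨3, 1, 0, 0, 9, 0, 3⟩, ⟨0, 0, 4, 5, 0, 9, 0⟩, ⟨9, 10, 0, 0, 3, 0, 8⟩⟩,
  ⟨⟨3, 1, 0, 0, 3, 0, 9⟩, ⟨10, 8, 0, 0, 10, 0, 1⟩, ⟨0, 0, 6, 2, 0, 7, 0⟩, ⟨0, 0, 2, 4, 0, 5, 0⟩, ⟨3, 1, 0, 0, 2, 0, 8⟩, ⟨0, 0, 4, 6, 0, 9, 0⟩, ⟨2, 1, 0, 0, 3, 0, 8⟩⟩,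
  ⟨⟨0, 0, 0, 0, 1, 0, 0⟩, ⟨0, 10, 0, 0, 0, 0, 0⟩, ⟨0, 0, 0, 0, 0, 1, 0⟩, ⟨0, 0, 10, 0, 0, 0, 0⟩, ⟨0, 0, 0, 0, 0, 0, 10⟩, ⟨0, 0, 0, 10, 0, 0, 0⟩, ⟨1, 0, 0, 0, 0, 0, 0⟩⟩,
  ⟨⟨3, 10, 0, 0, 9, 0, 8⟩, ⟨1, 8, 0, 0, 10, 0, 10⟩, ⟨0, 0, 7, 6, 0, 9, 0⟩, ⟨0, 0, 5, 2, 0, 7, 0⟩, ⟨2, 10, 0, 0, 8, 0, 8⟩, ⟨0, 0, 2, 7, 0, 6, 0⟩, ⟨8, 1, 0, 0, 3, 0, 2⟩⟩,
  ⟨⟨3, 10, 0, 0, 8, 0, 9⟩, ⟨1, 8, 0, 0, 10, 0, 10⟩, ⟨0, 0, 6, 9, 0, 4, 0⟩, ⟨0, 0, 9, 4, 0, 5, 0⟩, ⟨8, 1, 0, 0, 2, 0, 3⟩, ⟨0, 0, 7, 6, 0, 9, 0⟩, ⟨2, 10, 0, 0, 8, 0, 8⟩⟩,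
  ⟨⟨8, 1, 0, 0, 3, 0, 2⟩, ⟨10, 3, 0, 0, 1, 0, 1⟩, ⟨0, 0, 6, 9, 0, 4, 0⟩, ⟨0, 0, 9, 4, 0, 5, 0⟩, ⟨3, 10, 0, 0, 9, 0, 8⟩, ⟨0, 0, 7, 6, 0, 9, 0⟩, ⟨9, 1, 0, 0, 3, 0, 3⟩⟩,
  ⟨⟨3, 1, 0, 0, 8, 0, 2⟩, ⟨1, 3, 0, 0, 10, 0, 1⟩, ⟨0, 0, 5, 2, 0, 4, 0⟩, ⟨0, 0, 2, 7, 0, 5, 0⟩, ⟨8, 10, 0, 0, 2, 0, 8⟩, ⟨0, 0, 4, 5, 0, 9, 0⟩, ⟨2, 1, 0, 0, 8, 0, 3⟩⟩,
  ⟨⟨3, 10, 0, 0, 3, 0, 2⟩, ⟨10, 3, 0, 0, 10, 0, 10⟩, ⟨0, 0, 5, 9, 0, 7, 0⟩, ⟨0, 0, 9, 7, 0, 5, 0⟩, ⟨3, 10, 0, 0, 2, 0, 3⟩, ⟨0, 0, 7, 5, 0, 9, 0⟩, ⟨2, 10, 0, 0, 3, 0, 3⟩⟩,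
  ⟨⟨3, 10, 0, 0, 9, 0, 8⟩, ⟨1, 8, 0, 0, 10, 0, 10⟩, ⟨0, 0, 4, 5, 0, 2, 0⟩, ⟨0, 0, 5, 2, 0, 7, 0⟩, ⟨9, 1, 0, 0, 3, 0, 3⟩, ⟨0, 0, 9, 4, 0, 5, 0⟩, ⟨3, 10, 0, 0, 8, 0, 9⟩⟩,
  ⟨⟨8, 10, 0, 0, 9, 0, 3⟩, ⟨1, 3, 0, 0, 1, 0, 10⟩, ⟨0, 0, 4, 6, 0, 9, 0⟩, ⟨0, 0, 6, 2, 0, 7, 0⟩, ⟨9, 10, 0, 0, 8, 0, 3⟩, ⟨0, 0, 2, 4, 0, 5, 0⟩, ⟨8, 10, 0, 0, 8, 0, 2⟩⟩,
  ⟨⟨3, 10, 0, 0, 8, 0, 9⟩, ⟨1, 8, 0, 0, 10, 0, 10⟩, ⟨0, 0, 5, 2, 0, 7, 0⟩, ⟨0, 0, 9, 4, 0, 5, 0⟩, ⟨3, 10, 0, 0, 9, 0, 8⟩, ⟨0, 0, 4, 5, 0, 2, 0⟩, ⟨9, 1, 0, 0, 3, 0, 3⟩⟩,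
  ⟨⟨2, 10, 0, 0, 8, 0, 8⟩, ⟨1, 8, 0, 0, 10, 0, 10⟩, ⟨0, 0, 2, 7, 0, 6, 0⟩, ⟨0, 0, 7, 6, 0, 9, 0⟩, ⟨8, 1, 0, 0, 3, 0, 2⟩, ⟨0, 0, 5, 2, 0, 7, 0⟩, ⟨3, 10, 0, 0, 9, 0, 8⟩⟩,
  ⟨⟨3, 10, 0, 0, 3, 0, 2⟩, ⟨1, 8, 0, 0, 1, 0, 1⟩, ⟨0, 0, 5, 9, 0, 7, 0⟩, ⟨0, 0, 2, 4, 0, 6, 0⟩, ⟨8, 1, 0, 0, 9, 0, 8⟩, ⟨0, 0, 4, 6, 0, 2, 0⟩, ⟨2, 10, 0, 0, 3, 0, 3⟩⟩,
  ⟨⟨8, 1, 0, 0, 9, 0, 8⟩, ⟨1, 8, 0, 0, 1, 0, 1⟩, ⟨0, 0, 7, 5, 0, 9, 0⟩, ⟨0, 0, 5, 9, 0, 7, 0⟩, ⟨9, 1, 0, 0, 8, 0, 8⟩, ⟨0, 0, 9, 7, 0, 5, 0⟩, ⟨8, 1, 0, 0, 8, 0, 9⟩⟩,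
  ⟨⟨8, 10, 0, 0, 9, 0, 3⟩, ⟨10, 8, 0, 0, 10, 0, 1⟩, ⟨0, 0, 7, 5, 0, 2, 0⟩, ⟨0, 0, 5, 9, 0, 4, 0⟩, ⟨9, 10, 0, 0, 8, 0, 3⟩, ⟨0, 0, 2, 4, 0, 5, 0⟩, ⟨3, 1, 0, 0, 3, 0, 9⟩⟩,
  ⟨⟨3, 1, 0, 0, 2, 0, 8⟩, ⟨10, 8, 0, 0, 10, 0, 1⟩, ⟨0, 0, 7, 5, 0, 2, 0⟩, ⟨0, 0, 6, 2, 0, 7, 0⟩, ⟨9, 10, 0, 0, 8, 0, 3⟩, ⟨0, 0, 9, 7, 0, 6, 0⟩, ⟨8, 10, 0, 0, 8, 0, 2⟩⟩,
  ⟨⟨8, 1, 0, 0, 9, 0, 8⟩, ⟨1, 8, 0, 0, 1, 0, 1⟩, ⟨0, 0, 4, 6, 0, 2, 0⟩, ⟨0, 0, 5, 9, 0, 7, 0⟩, ⟨2, 10, 0, 0, 3, 0, 3⟩, ⟨0, 0, 2, 4, 0, 6, 0⟩, ⟨3, 10, 0, 0, 3, 0, 2⟩⟩,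
  ⟨⟨3, 10, 0, 0, 8, 0, 9⟩, ⟨10, 3, 0, 0, 1, 0, 1⟩, ⟨0, 0, 5, 2, 0, 7, 0⟩, ⟨0, 0, 2, 7, 0, 6, 0⟩, ⟨8, 1, 0, 0, 2, 0, 3⟩, ⟨0, 0, 7, 6, 0, 9, 0⟩, ⟨9, 1, 0, 0, 3, 0, 3⟩⟩,
  ⟨⟨3, 1, 0, 0, 8, 0, 2⟩, ⟨10, 8, 0, 0, 1, 0, 10⟩, ⟨0, 0, 5, 2, 0, 4, 0⟩, ⟨0, 0, 9, 4, 0, 6, 0⟩, ⟨3, 1, 0, 0, 9, 0, 3⟩, ⟨0, 0, 7, 6, 0, 2, 0⟩, ⟨2, 1, 0, 0, 8, 0, 3⟩⟩,
  ⟨⟨3, 1, 0, 0, 8, 0, 2⟩, ⟨10, 8, 0, 0, 1, 0, 10⟩, ⟨0, 0, 6, 9, 0, 7, 0⟩, ⟨0, 0, 9, 4, 0, 6, 0⟩, ⟨8, 10, 0, 0, 2, 0, 8⟩, ⟨0, 0, 4, 5, 0, 9, 0⟩, ⟨9, 10, 0, 0, 3, 0, 8⟩⟩,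
  ⟨⟨3, 10, 0, 0, 2, 0, 3⟩, ⟨10, 3, 0, 0, 10, 0, 10⟩, ⟨0, 0, 4, 6, 0, 2, 0⟩, ⟨0, 0, 5, 9, 0, 7, 0⟩, ⟨9, 1, 0, 0, 8, 0, 8⟩, ⟨0, 0, 2, 4, 0, 6, 0⟩, ⟨8, 1, 0, 0, 8, 0, 9⟩⟩,
  ⟨⟨2, 10, 0, 0, 8, 0, 8⟩, ⟨10, 3, 0, 0, 1, 0, 1⟩, ⟨0, 0, 9, 4, 0, 5, 0⟩, ⟨0, 0, 4, 5, 0, 2, 0⟩, ⟨8, 1, 0, 0, 3, 0, 2⟩, ⟨0, 0, 5, 2, 0, 7, 0⟩, ⟨8, 1, 0, 0, 2, 0, 3⟩⟩,
  ⟨⟨9, 10, 0, 0, 3, 0, 8⟩, ⟨1, 3, 0, 0, 10, 0, 1⟩, ⟨0, 0, 2, 7, 0, 5, 0⟩, ⟨0, 0, 7, 6, 0, 2, 0⟩, ⟨3, 1, 0, 0, 8, 0, 2⟩, ⟨0, 0, 6, 9, 0, 7, 0⟩, ⟨3, 1, 0, 0, 9, 0, 3⟩⟩,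
  ⟨⟨9, 10, 0, 0, 3, 0, 8⟩, ⟨1, 3, 0, 0, 10, 0, 1⟩, ⟨0, 0, 9, 4, 0, 6, 0⟩, ⟨0, 0, 7, 6, 0, 2, 0⟩, ⟨8, 10, 0, 0, 3, 0, 9⟩, ⟨0, 0, 5, 2, 0, 4, 0⟩, ⟨8, 10, 0, 0, 2, 0, 8⟩⟩,
  ⟨⟨3, 1, 0, 0, 3, 0, 9⟩, ⟨10, 8, 0, 0, 10, 0, 1⟩, ⟨0, 0, 5, 9, 0, 4, 0⟩, ⟨0, 0, 2, 4, 0, 5, 0⟩, ⟨8, 10, 0, 0, 9, 0, 3⟩, ⟨0, 0, 7, 5, 0, 2, 0⟩, ⟨9, 10, 0, 0, 8, 0, 3⟩⟩,
  ⟨⟨2, 1, 0, 0, 8, 0, 3⟩, ⟨1, 3, 0, 0, 10, 0, 1⟩, ⟨0, 0, 9, 4, 0, 6, 0⟩, ⟨0, 0, 4, 5, 0, 9, 0⟩, ⟨8, 10, 0, 0, 3, 0, 9⟩, ⟨0, 0, 6, 9, 0, 7, 0⟩, ⟨3, 1, 0, 0, 9, 0, 3⟩⟩,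
  ⟨⟨8, 1, 0, 0, 3, 0, 2⟩, ⟨1, 8, 0, 0, 10, 0, 10⟩, ⟨0, 0, 6, 9, 0, 4, 0⟩, ⟨0, 0, 2, 7, 0, 6, 0⟩, ⟨8, 1, 0, 0, 2, 0, 3⟩, ⟨0, 0, 4, 5, 0, 2, 0⟩, ⟨9, 1, 0, 0, 3, 0, 3⟩⟩,
  ⟨⟨8, 1, 0, 0, 8, 0, 9⟩, ⟨1, 8, 0, 0, 1, 0, 1⟩, ⟨0, 0, 5, 9, 0, 7, 0⟩, ⟨0, 0, 9, 7, 0, 5, 0⟩, ⟨8, 1, 0, 0, 9, 0, 8⟩, ⟨0, 0, 7, 5, 0, 9, 0⟩, ⟨9, 1, 0, 0, 8, 0, 8⟩⟩,
  ⟨⟨9, 1, 0, 0, 8, 0, 8⟩, ⟨10, 3, 0, 0, 10, 0, 10⟩, ⟨0, 0, 2, 4, 0, 6, 0⟩, ⟨0, 0, 4, 6, 0, 2, 0⟩, ⟨8, 1, 0, 0, 8, 0, 9⟩, ⟨0, 0, 5, 9, 0, 7, 0⟩, ⟨3, 10, 0, 0, 2, 0, 3⟩⟩,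
  ⟨⟨8, 10, 0, 0, 9, 0, 3⟩, ⟨1, 3, 0, 0, 1, 0, 10⟩, ⟨0, 0, 7, 5, 0, 2, 0⟩, ⟨0, 0, 6, 2, 0, 7, 0⟩, ⟨2, 1, 0, 0, 3, 0, 8⟩, ⟨0, 0, 9, 7, 0, 6, 0⟩, ⟨3, 1, 0, 0, 3, 0, 9⟩⟩,
  ⟨⟨3, 1, 0, 0, 2, 0, 8⟩, ⟨1, 3, 0, 0, 1, 0, 10⟩, ⟨0, 0, 4, 6, 0, 9, 0⟩, ⟨0, 0, 5, 9, 0, 4, 0⟩, ⟨9, 10, 0, 0, 8, 0, 3⟩, ⟨0, 0, 9, 7, 0, 6, 0⟩, ⟨3, 1, 0, 0, 3, 0, 9⟩⟩,
  ⟨⟨8, 10, 0, 0, 8, 0, 2⟩, ⟨10, 8, 0, 0, 10, 0, 1⟩, ⟨0, 0, 5, 9, 0, 4, 0⟩, ⟨0, 0, 9, 7, 0, 6, 0⟩, ⟨8, 10, 0, 0, 9, 0, 3⟩, ⟨0, 0, 4, 6, 0, 9, 0⟩, ⟨2, 1, 0, 0, 3, 0, 8⟩⟩,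
  ⟨⟨8, 1, 0, 0, 3, 0, 2⟩, ⟨10, 3, 0, 0, 1, 0, 1⟩, ⟨0, 0, 5, 2, 0, 7, 0⟩, ⟨0, 0, 9, 4, 0, 5, 0⟩, ⟨8, 1, 0, 0, 2, 0, 3⟩, ⟨0, 0, 4, 5, 0, 2, 0⟩, ⟨2, 10, 0, 0, 8, 0, 8⟩⟩,
  ⟨⟨2, 1, 0, 0, 8, 0, 3⟩, ⟨10, 8, 0, 0, 1, 0, 10⟩, ⟨0, 0, 2, 7, 0, 5, 0⟩, ⟨0, 0, 7, 6, 0, 2, 0⟩, ⟨8, 10, 0, 0, 3, 0, 9⟩, ⟨0, 0, 6, 9, 0, 7, 0⟩, ⟨8, 10, 0, 0, 2, 0, 8⟩⟩,
  ⟨⟨0, 0, 0, 0, 1, 0, 0⟩, ⟨0, 10, 0, 0, 0, 0, 0⟩, ⟨0, 0, 0, 0, 0, 10, 0⟩, ⟨0, 0, 10, 0, 0, 0, 0⟩, ⟨0, 0, 0, 0, 0, 0, 1⟩, ⟨0, 0, 0, 1, 0, 0, 0⟩, ⟨10, 0, 0, 0, 0, 0, 0⟩⟩,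
  ⟨⟨0, 0, 0, 0, 0, 0, 1⟩, ⟨0, 10, 0, 0, 0, 0, 0⟩, ⟨0, 0, 0, 10, 0, 0, 0⟩, ⟨0, 0, 0, 0, 0, 10, 0⟩, ⟨1, 0, 0, 0, 0, 0, 0⟩, ⟨0, 0, 1, 0, 0, 0, 0⟩, ⟨0, 0, 0, 0, 10, 0, 0⟩⟩,
  ⟨⟨8, 1, 0, 0, 8, 0, 9⟩, ⟨10, 3, 0, 0, 10, 0, 10⟩, ⟨0, 0, 5, 9, 0, 7, 0⟩, ⟨0, 0, 2, 4, 0, 6, 0⟩, ⟨3, 10, 0, 0, 2, 0, 3⟩, ⟨0, 0, 4, 6, 0, 2, 0⟩, ⟨9, 1, 0, 0, 8, 0, 8⟩⟩,
  ⟨⟨8, 10, 0, 0, 8, 0, 2⟩, ⟨10, 8, 0, 0, 10, 0, 1⟩, ⟨0, 0, 6, 2, 0, 7, 0⟩, ⟨0, 0, 9, 7, 0, 6, 0⟩, ⟨3, 1, 0, 0, 2, 0, 8⟩, ⟨0, 0, 7, 5, 0, 2, 0⟩, ⟨9, 10, 0, 0, 8, 0, 3⟩⟩,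
  ⟨⟨3, 1, 0, 0, 3, 0, 9⟩, ⟨1, 3, 0, 0, 1, 0, 10⟩, ⟨0, 0, 5, 9, 0, 4, 0⟩, ⟨0, 0, 9, 7, 0, 6, 0⟩, ⟨3, 1, 0, 0, 2, 0, 8⟩, ⟨0, 0, 4, 6, 0, 9, 0⟩, ⟨9, 10, 0, 0, 8, 0, 3⟩⟩,
  ⟨⟨0, 0, 0, 0, 10, 0, 0⟩, ⟨0, 10, 0, 0, 0, 0, 0⟩, ⟨0, 0, 0, 0, 0, 1, 0⟩, ⟨0, 0, 1, 0, 0, 0, 0⟩, ⟨0, 0, 0, 0, 0, 0, 10⟩, ⟨0, 0, 0, 1, 0, 0, 0⟩, ⟨10, 0, 0, 0, 0, 0, 0⟩⟩,
  ⟨⟨8, 10, 0, 0, 9, 0, 3⟩, ⟨10, 8, 0, 0, 10, 0, 1⟩, ⟨0, 0, 4, 6, 0, 9, 0⟩, ⟨0, 0, 5, 9, 0, 4, 0⟩, ⟨2, 1, 0, 0, 3, 0, 8⟩, ⟨0, 0, 9, 7, 0, 6, 0⟩, ⟨8, 10, 0, 0, 8, 0, 2⟩⟩,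
  ⟨⟨3, 10, 0, 0, 2, 0, 3⟩, ⟨10, 3, 0, 0, 10, 0, 10⟩, ⟨0, 0, 7, 5, 0, 9, 0⟩, ⟨0, 0, 5, 9, 0, 7, 0⟩, ⟨2, 10, 0, 0, 3, 0, 3⟩, ⟨0, 0, 9, 7, 0, 5, 0⟩, ⟨3, 10, 0, 0, 3, 0, 2⟩⟩,
  ⟨⟨3, 1, 0, 0, 2, 0, 8⟩, ⟨1, 3, 0, 0, 1, 0, 10⟩, ⟨0, 0, 7, 5, 0, 2, 0⟩, ⟨0, 0, 5, 9, 0, 4, 0⟩, ⟨2, 1, 0, 0, 3, 0, 8⟩, ⟨0, 0, 2, 4, 0, 5, 0⟩, ⟨8, 10, 0, 0, 8, 0, 2⟩⟩,
  ⟨⟨0, 0, 0, 0, 0, 0, 1⟩, ⟨0, 1, 0, 0, 0, 0, 0⟩, ⟨0, 0, 0, 1, 0, 0, 0⟩, ⟨0, 0, 0, 0, 0, 1, 0⟩, ⟨1, 0, 0, 0, 0, 0, 0⟩, ⟨0, 0, 1, 0, 0, 0, 0⟩, ⟨0, 0, 0, 0, 1, 0, 0⟩⟩,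
  ⟨⟨0, 0, 0, 0, 0, 0, 10⟩, ⟨0, 1, 0, 0, 0, 0, 0⟩, ⟨0, 0, 0, 10, 0, 0, 0⟩, ⟨0, 0, 0, 0, 0, 10, 0⟩, ⟨10, 0, 0, 0, 0, 0, 0⟩, ⟨0, 0, 1, 0, 0, 0, 0⟩, ⟨0, 0, 0, 0, 1, 0, 0⟩⟩,
  ⟨⟨8, 1, 0, 0, 3, 0, 2⟩, ⟨1, 8, 0, 0, 10, 0, 10⟩, ⟨0, 0, 5, 2, 0, 7, 0⟩, ⟨0, 0, 2, 7, 0, 6, 0⟩, ⟨3, 10, 0, 0, 9, 0, 8⟩, ⟨0, 0, 7, 6, 0, 9, 0⟩, ⟨2, 10, 0, 0, 8, 0, 8⟩⟩,
  ⟨⟨0, 0, 0, 0, 10, 0, 0⟩, ⟨0, 1, 0, 0, 0, 0, 0⟩, ⟨0, 0, 0, 0, 0, 1, 0⟩, ⟨0, 0, 10, 0, 0, 0, 0⟩, ⟨0, 0, 0, 0, 0, 0, 1⟩, ⟨0, 0, 0, 10, 0, 0, 0⟩, ⟨10, 0, 0, 0, 0, 0, 0⟩⟩,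
  ⟨⟨0, 0, 0, 0, 0, 0, 1⟩, ⟨0, 10, 0, 0, 0, 0, 0⟩, ⟨0, 0, 0, 1, 0, 0, 0⟩, ⟨0, 0, 0, 0, 0, 10, 0⟩, ⟨10, 0, 0, 0, 0, 0, 0⟩, ⟨0, 0, 10, 0, 0, 0, 0⟩, ⟨0, 0, 0, 0, 1, 0, 0⟩⟩,
  ⟨⟨0, 0, 0, 0, 0, 0, 1⟩, ⟨0, 1, 0, 0, 0, 0, 0⟩, ⟨0, 0, 0, 10, 0, 0, 0⟩, ⟨0, 0, 0, 0, 0, 1, 0⟩, ⟨10, 0, 0, 0, 0, 0, 0⟩, ⟨0, 0, 10, 0, 0, 0, 0⟩, ⟨0, 0, 0, 0, 10, 0, 0⟩⟩,
  ⟨⟨0, 0, 0, 0, 10, 0, 0⟩, ⟨0, 10, 0, 0, 0, 0, 0⟩, ⟨0, 0, 0, 0, 0, 10, 0⟩, ⟨0, 0, 1, 0, 0, 0, 0⟩, ⟨0, 0, 0, 0, 0, 0, 1⟩, ⟨0, 0, 0, 10, 0, 0, 0⟩, ⟨1, 0, 0, 0, 0, 0, 0⟩⟩,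
  ⟨⟨0, 0, 0, 0, 0, 0, 10⟩, ⟨0, 10, 0, 0, 0, 0, 0⟩, ⟨0, 0, 0, 1, 0, 0, 0⟩, ⟨0, 0, 0, 0, 0, 1, 0⟩, ⟨10, 0, 0, 0, 0, 0, 0⟩, ⟨0, 0, 1, 0, 0, 0, 0⟩, ⟨0, 0, 0, 0, 10, 0, 0⟩⟩,
  ⟨⟨0, 0, 0, 0, 10, 0, 0⟩, ⟨0, 1, 0, 0, 0, 0, 0⟩, ⟨0, 0, 0, 0, 0, 10, 0⟩, ⟨0, 0, 10, 0, 0, 0, 0⟩, ⟨0, 0, 0, 0, 0, 0, 10⟩, ⟨0, 0, 0, 1, 0, 0, 0⟩, ⟨1, 0, 0, 0, 0, 0, 0⟩⟩,
  ⟨⟨0, 0, 0, 0, 0, 0, 10⟩, ⟨0, 1, 0, 0, 0, 0, 0⟩, ⟨0, 0, 0, 1, 0, 0, 0⟩, ⟨0, 0, 0, 0, 0, 10, 0⟩, ⟨1, 0, 0, 0, 0, 0, 0⟩, ⟨0, 0, 10, 0, 0, 0, 0⟩, ⟨0, 0, 0, 0, 10, 0, 0⟩⟩,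
  ⟨⟨0, 0, 0, 0, 1, 0, 0⟩, ⟨0, 1, 0, 0, 0, 0, 0⟩, ⟨0, 0, 0, 0, 0, 10, 0⟩, ⟨0, 0, 1, 0, 0, 0, 0⟩, ⟨0, 0, 0, 0, 0, 0, 10⟩, ⟨0, 0, 0, 10, 0, 0, 0⟩, ⟨10, 0, 0, 0, 0, 0, 0⟩⟩,
  ⟨⟨0, 0, 0, 0, 1, 0, 0⟩, ⟨0, 1, 0, 0, 0, 0, 0⟩, ⟨0, 0, 0, 0, 0, 1, 0⟩, ⟨0, 0, 1, 0, 0, 0, 0⟩, ⟨0, 0, 0, 0, 0, 0, 1⟩, ⟨0, 0, 0, 1, 0, 0, 0⟩, ⟨1, 0, 0, 0, 0, 0, 0⟩⟩,
  ⟨⟨0, 0, 0, 0, 0, 0, 10⟩, ⟨0, 10, 0, 0, 0, 0, 0⟩, ⟨0, 0, 0, 10, 0, 0, 0⟩, ⟨0, 0, 0, 0, 0, 1, 0⟩, ⟨1, 0, 0, 0, 0, 0, 0⟩, ⟨0, 0, 10, 0, 0, 0, 0⟩, ⟨0, 0, 0, 0, 1, 0, 0⟩⟩]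

/-- Double coset representatives `r`, each with the indices `k` for which the cosets `S r S[k]` are
the distinct right cosets in the double coset of `r`. -/
def Blocks : List (M7 × List ℕ) := [
  (⟨⟨1, 0, 0, 0, 0, 0, 0⟩, ⟨0, 1, 0, 0, 0, 0, 0⟩, ⟨0, 0, 1, 0, 0, 0, 0⟩, ⟨0, 0, 0, 1, 0, 0, 0⟩, ⟨0, 0, 0, 0, 1, 0, 0⟩, ⟨0, 0, 0, 0, 0, 1, 0⟩, ⟨0, 0, 0, 0, 0, 0, 1⟩⟩, [0]),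
  (⟨⟨0, 1, 0, 0, 0, 0, 0⟩, ⟨0, 0, 1, 0, 0, 0, 0⟩, ⟨0, 0, 0, 1, 0, 0, 0⟩, ⟨0, 0, 0, 0, 1, 0, 0⟩, ⟨0, 0, 0, 0, 0, 1, 0⟩, ⟨0, 0, 0, 0, 0, 0, 1⟩, ⟨1, 0, 0, 0, 0, 0, 0⟩⟩, [0, 8, 9, 10, 13, 14, 15, 17, 21, 24, 29, 35, 36, 66, 99]),
  (⟨⟨8, 2, 10, 10, 8, 10, 8⟩, ⟨9, 1, 1, 3, 1, 3, 3⟩, ⟨10, 10, 8, 10, 8, 8, 2⟩, ⟨10, 8, 10, 8, 8, 2, 10⟩, ⟨8, 10, 8, 8, 2, 10, 10⟩, ⟨1, 3, 3, 9, 1, 1, 3⟩, ⟨3, 3, 9, 1, 1, 3, 1⟩⟩, [0, 1, 2, 3, 4, 5, 6, 7, 8, 9, 10, 11, 12, 13, 14, 15, 16, 17, 18, 19, 20, 21, 22, 23, 24, 25, 26, 27, 28, 29, 30, 31, 32, 33, 34, 35, 36, 37, 38, 39, 40, 41, 42, 43, 44, 45, 46, 47, 48, 49, 50, 51, 52, 53, 54, 55, 56, 57, 58, 59, 60, 61, 62, 63, 64, 65, 66, 67, 68, 69, 70, 71, 72, 73, 74, 75, 76, 77, 78, 79, 80, 81, 82,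 83, 84, 85, 86, 87, 88, 89, 90, 91, 92, 93, 94, 95, 96, 97, 98, 99, 100, 101, 102, 103, 104, 105, 106, 107, 108, 109, 110, 111, 112, 113, 114, 115, 116, 117, 118, 119]),
  (⟨⟨8, 8, 2, 10, 10, 8, 10⟩, ⟨3, 9, 1, 1, 3, 1, 3⟩, ⟨2, 10, 10, 8, 10, 8, 8⟩, ⟨10, 10, 8, 10, 8, 8, 2⟩, ⟨10, 8, 10, 8, 8, 2, 10⟩, ⟨3, 1, 3, 3, 9, 1, 1⟩, ⟨1, 3, 3, 9, 1, 1, 3⟩⟩, [0, 1, 2, 3, 4, 5, 6, 7, 8, 13, 14, 15, 16, 17, 23, 27, 29, 32, 33, 52]),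
  (⟨⟨6, 2, 10, 10, 7, 3, 0⟩, ⟨9, 4, 8, 0, 3, 8, 8⟩, ⟨10, 3, 6, 10, 7, 0, 2⟩, ⟨10, 0, 10, 6, 7, 2, 3⟩, ⟨7, 8, 7, 7, 6, 8, 8⟩, ⟨8, 8, 0, 9, 3, 4, 8⟩, ⟨0, 8, 9, 8, 3, 8, 4⟩⟩, [0, 1, 2, 3, 4, 5, 6, 7, 8, 9, 10, 11, 12, 13, 14, 15, 16, 17, 18, 19, 20, 21, 22, 23, 24, 25, 26, 27, 28, 29, 30, 31, 32, 33, 34, 35, 36, 37, 38, 39, 40, 41, 42, 43, 44, 45, 46, 47, 48, 49, 50, 51, 52, 53, 54, 55, 56, 57, 58, 59, 60, 61, 62, 63, 64, 65, 66, 67, 68, 69, 70, 71, 72, 73, 74, 75, 76, 77, 78, 79, 80, 81, 82, 83, 84, 85, 86, 87, 88, 89, 90, 91, 92, 93, 94, 95, 96, 97, 98, 99, 100, 101, 102, 103, 104, 105, 106, 107, 108, 109, 110, 111, 112, 113, 114, 115, 116, 117, 118, 119]),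
  (⟨⟨0, 0, 0, 1, 0, 0, 0⟩, ⟨0, 0, 0, 0, 1, 0, 0⟩, ⟨0, 0, 0, 0, 0, 1, 0⟩, ⟨0, 0, 0, 0, 0, 0, 1⟩, ⟨1, 0, 0, 0, 0, 0, 0⟩, ⟨0, 1, 0, 0, 0, 0, 0⟩, ⟨0, 0, 1, 0, 0, 0, 0⟩⟩, [0, 8, 9, 10, 13, 14, 15, 17, 21, 24, 29, 35, 36, 66, 99]),
  (⟨⟨10, 10, 8, 10, 8, 8, 2⟩, ⟨10, 8, 10, 8, 8, 2, 10⟩, ⟨8, 10, 8, 8, 2, 10, 10⟩, ⟨1, 3, 3, 9, 1, 1, 3⟩, ⟨3, 3, 9, 1, 1, 3, 1⟩, ⟨8, 2, 10, 10, 8, 10, 8⟩, ⟨9, 1, 1, 3, 1, 3, 3⟩⟩, [0, 1, 2, 3, 4, 5, 6, 7, 8, 9, 10, 11, 12, 13, 14, 15, 16, 17, 20, 21, 22, 23, 24, 25, 27, 30, 32, 33, 34, 35, 39, 40, 41, 42, 43, 45, 46, 50, 55, 56, 59, 60, 62, 64, 65, 67, 68, 69, 70, 71, 72, 73, 76, 77, 86, 94, 99, 100, 103, 105]),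
  (⟨⟨9, 4, 8, 0, 3, 8, 8⟩, ⟨10, 3, 6, 10, 7, 0, 2⟩, ⟨10, 0, 10, 6, 7, 2, 3⟩, ⟨7, 8, 7, 7, 6, 8, 8⟩, ⟨8, 8, 0, 9, 3, 4, 8⟩, ⟨0, 8, 9, 8, 3, 8, 4⟩, ⟨6, 2, 10, 10, 7, 3, 0⟩⟩, [0, 1, 2, 3, 4, 5, 6, 7, 8, 9, 10, 11, 12, 13, 14, 15, 16, 17, 18, 19, 20, 21, 22, 23, 24, 25, 26, 27, 28, 29, 30, 31, 32, 33, 34, 35, 36, 37, 38, 39, 40, 41, 42, 43, 44, 45, 46, 47, 48, 49, 50, 51, 52, 53, 54, 55, 56, 57, 58, 59, 60, 61, 62, 63, 64, 65, 66, 67, 68, 69, 70, 71, 72, 73, 74, 75, 76, 77, 78, 79, 80, 81, 82, 83, 84, 85, 86, 87, 88, 89, 90, 91, 92, 93, 94, 95, 96, 97, 98, 99, 100, 101, 102, 103, 104, 105, 106, 107, 108, 109, 110, 111, 112, 113, 114, 115, 116, 117, 118, 119]),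
  (⟨⟨0, 3, 2, 3, 8, 3, 7⟩, ⟨5, 9, 1, 1, 4, 8, 0⟩, ⟨2, 7, 3, 0, 8, 3, 3⟩, ⟨10, 3, 6, 10, 7, 0, 2⟩, ⟨10, 0, 10, 6, 7, 2, 3⟩, ⟨4, 3, 4, 4, 5, 3, 3⟩, ⟨8, 8, 0, 9, 3, 4, 8⟩⟩, [0, 1, 2, 3, 4, 5, 6, 7, 8, 9, 10, 11, 12, 13, 14, 15, 16, 17, 18, 19, 20, 21, 22, 23, 24, 25, 26, 27, 28, 29, 30, 31, 32, 33, 34, 35, 36, 37, 38, 39, 40, 41, 42, 43, 44, 45, 46, 47, 48, 49, 50, 51, 52, 53, 54, 55, 56, 57, 58, 59, 60, 61, 62, 63, 64, 65, 66, 67, 68, 69, 70, 71, 72, 73, 74, 75, 76, 77, 78, 79, 80, 81, 82, 83, 84, 85, 86, 87, 88, 89, 90, 91, 92, 93, 94, 95, 96, 97, 98, 99, 100, 101, 102, 103, 104, 105, 106, 107, 108, 109, 110, 111, 112, 113, 114, 115, 116, 117, 118, 119]),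
  (⟨⟨10, 3, 6, 10, 7, 0, 2⟩, ⟨10, 0, 10, 6, 7, 2, 3⟩, ⟨7, 8, 7, 7, 6, 8, 8⟩, ⟨8, 8, 0, 9, 3, 4, 8⟩, ⟨0, 8, 9, 8, 3, 8, 4⟩, ⟨6, 2, 10, 10, 7, 3, 0⟩, ⟨9, 4, 8, 0, 3, 8, 8⟩⟩, [0, 1, 2, 3, 4, 5, 6, 7, 8, 9, 10, 11, 12, 13, 14, 15, 16, 17, 18, 19, 20, 21, 22, 23, 24, 25, 26, 27, 28, 29, 30, 31, 32, 33, 34, 35, 36, 37, 38, 39, 40, 41, 42, 43, 44, 45, 46, 47, 48, 49, 50, 51, 52, 53, 54, 55, 56, 57, 58, 59, 60, 61, 62, 63, 64, 65, 66, 67, 68, 69, 70, 71, 72, 73, 74, 75, 76, 77, 78, 79, 80, 81, 82, 83, 84, 85, 86, 87, 88, 89, 90, 91, 92, 93, 94, 95, 96, 97, 98, 99, 100, 101, 102, 103, 104, 105, 106, 107, 108, 109, 110, 111, 112, 113, 114, 115, 116, 117, 118, 119]),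
  (⟨⟨8, 9, 4, 8, 0, 3, 8⟩, ⟨2, 10, 3, 6, 10, 7, 0⟩, ⟨3, 10, 0, 10, 6, 7, 2⟩, ⟨8, 7, 8, 7, 7, 6, 8⟩, ⟨8, 8, 8, 0, 9, 3, 4⟩, ⟨4, 0, 8, 9, 8, 3, 8⟩, ⟨0, 6, 2, 10, 10, 7, 3⟩⟩, [0, 1, 2, 3, 4, 5, 6, 7, 8, 9, 10, 11, 13, 14, 15, 16, 17, 19, 21, 22, 23, 24, 25, 27, 28, 30, 31, 32, 33, 34, 35, 38, 39, 40, 43, 45, 46, 47, 48, 49, 50, 52, 53, 54, 55, 57, 63, 64, 65, 68, 69, 70, 71, 82, 86, 87, 89, 90, 91, 94]),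
  (⟨⟨3, 3, 0, 2, 8, 7, 3⟩, ⟨0, 8, 9, 8, 3, 8, 4⟩, ⟨6, 2, 10, 10, 7, 3, 0⟩, ⟨2, 7, 3, 0, 8, 3, 3⟩, ⟨10, 3, 6, 10, 7, 0, 2⟩, ⟨1, 0, 1, 5, 4, 9, 8⟩, ⟨4, 3, 4, 4, 5, 3, 3⟩⟩, [0, 1, 2, 3, 4, 5, 6, 7, 8, 9, 10, 11, 12, 13, 14, 15, 16, 17, 18, 19, 20, 21, 22, 23, 24, 25, 26, 27, 28, 29, 30, 31, 32, 33, 34, 35, 36, 37, 38, 39, 40, 41, 42, 43, 44, 45, 46, 47, 48, 49, 50, 51, 52, 53, 54, 55, 56, 57, 58, 59, 60, 61, 62, 63, 64, 65, 66, 67, 68, 69, 70, 71, 72, 73, 74, 75, 76, 77, 78, 79, 80, 81, 82, 83, 84, 85, 86, 87, 88, 89, 90, 91, 92, 93, 94, 95, 96, 97, 98, 99, 100, 101, 102, 103, 104, 105, 106, 107, 108, 109, 110, 111, 112, 113, 114, 115, 116, 117, 118, 119]),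
  (⟨⟨7, 0, 3, 2, 3, 8, 3⟩, ⟨0, 5, 9, 1, 1, 4, 8⟩, ⟨3, 2, 7, 3, 0, 8, 3⟩, ⟨2, 10, 3, 6, 10, 7, 0⟩, ⟨3, 10, 0, 10, 6, 7, 2⟩, ⟨3, 4, 3, 4, 4, 5, 3⟩, ⟨8, 8, 8, 0, 9, 3, 4⟩⟩, [0, 1, 2, 3, 4, 5, 6, 7, 8, 9, 10, 11, 12, 13, 14, 15, 16, 17, 20, 21, 22, 23, 24, 25, 27, 30, 32, 33, 34, 35, 39, 40, 41, 42, 43, 45, 46, 50, 55, 56, 59, 60, 62, 64, 65, 67, 68, 69, 70, 71, 72, 73, 76, 77, 86, 94, 99, 100, 103, 105]),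
  (⟨⟨6, 5, 8, 0, 0, 5, 4⟩, ⟨6, 8, 7, 4, 4, 6, 9⟩, ⟨8, 4, 6, 7, 4, 6, 2⟩, ⟨0, 7, 7, 0, 3, 10, 6⟩, ⟨0, 7, 4, 3, 10, 4, 3⟩, ⟨6, 6, 5, 1, 7, 9, 9⟩, ⟨7, 9, 9, 5, 8, 9, 4⟩⟩, [0, 1, 2, 3, 4, 5, 6, 7, 8, 9, 10, 11, 12, 13, 14, 15, 16, 17, 18, 19, 20, 21, 22, 23, 24, 25, 26, 27, 28, 29, 30, 31, 32, 33, 34, 35, 36, 37, 38, 39, 40, 41, 42, 43, 44, 45, 46, 47, 48, 49, 50, 51, 52, 53, 54, 55, 56, 57, 58, 59, 60, 61, 62, 63, 64, 65, 66, 67, 68, 69, 70, 71, 72, 73, 74, 75, 76, 77, 78, 79, 80, 81, 82, 83, 84, 85, 86, 87, 88, 89, 90, 91, 92, 93, 94, 95, 96, 97, 98, 99, 100, 101, 102, 103, 104, 105, 106, 107, 108, 109, 110, 111, 112, 113, 114, 115, 116, 117, 118, 119]),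
  (⟨⟨2, 10, 3, 6, 10, 7, 0⟩, ⟨3, 10, 0, 10, 6, 7, 2⟩, ⟨8, 7, 8, 7, 7, 6, 8⟩, ⟨8, 8, 8, 0, 9, 3, 4⟩, ⟨4, 0, 8, 9, 8, 3, 8⟩, ⟨0, 6, 2, 10, 10, 7, 3⟩, ⟨8, 9, 4, 8, 0, 3, 8⟩⟩, [0, 1, 2, 3, 4, 5, 6, 7, 8, 9, 10, 11, 12, 13, 14, 15, 16, 18, 19, 21, 22, 23, 24, 25, 26, 27, 28, 29, 32, 33, 35, 36, 39, 41, 45, 48, 49, 51, 52, 53, 54, 55, 57, 59, 65, 68, 69, 70, 72, 73, 74, 75, 81, 89, 90, 92, 95, 96, 102, 104]),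
  (⟨⟨3, 3, 4, 6, 5, 2, 10⟩, ⟨9, 9, 9, 6, 2, 1, 6⟩, ⟨10, 2, 6, 10, 1, 8, 9⟩, ⟨9, 1, 6, 2, 8, 3, 2⟩, ⟨6, 5, 1, 6, 2, 7, 9⟩, ⟨1, 2, 5, 7, 2, 6, 5⟩, ⟨10, 8, 9, 2, 8, 5, 9⟩⟩, [0, 1, 2, 3, 4, 5, 6, 7, 8, 9, 10, 11, 12, 13, 14, 15, 16, 17, 18, 19, 20, 22, 23, 24, 25, 26, 29, 30, 32, 34, 35, 37, 38, 39, 40, 42, 43, 44, 45, 48, 53, 55, 57, 58, 60, 64, 65, 67, 70, 75, 79, 80, 81, 82, 83, 84, 88, 92, 93, 108]),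
  (⟨⟨3, 10, 0, 10, 6, 7, 2⟩, ⟨8, 7, 8, 7, 7, 6, 8⟩, ⟨8, 8, 8, 0, 9, 3, 4⟩, ⟨4, 0, 8, 9, 8, 3, 8⟩, ⟨0, 6, 2, 10, 10, 7, 3⟩, ⟨8, 9, 4, 8, 0, 3, 8⟩, ⟨2, 10, 3, 6, 10, 7, 0⟩⟩, [0, 1, 2, 3, 4, 5, 6, 7, 8, 9, 10, 11, 12, 13, 14, 15, 16, 18, 22, 23, 24, 25, 26, 27, 29, 30, 34, 35, 36, 37, 38, 39, 41, 45, 46, 48, 49, 50, 51, 52, 53, 54, 55, 56, 57, 59, 64, 68, 69, 71, 73, 74, 75, 79, 81, 92, 94, 95, 96, 102]),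
  (⟨⟨5, 5, 6, 10, 4, 2, 2⟩, ⟨7, 9, 9, 5, 8, 9, 4⟩, ⟨6, 5, 8, 0, 0, 5, 4⟩, ⟨5, 3, 4, 7, 7, 5, 2⟩, ⟨8, 4, 6, 7, 4, 6, 2⟩, ⟨0, 4, 4, 0, 8, 1, 5⟩, ⟨0, 4, 7, 8, 1, 7, 8⟩⟩, [0, 1, 2, 3, 4, 5, 6, 7, 8, 9, 11, 12, 14, 15, 17, 18, 19, 20, 21, 22, 23, 24, 25, 26, 27, 28, 29, 31, 32, 33, 34, 35, 38, 40, 42, 43, 44, 45, 46, 48, 50, 51, 52, 54, 55, 56, 57, 59, 61, 62, 71, 72, 75, 78, 80, 84, 89, 92, 94, 99]),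
  (⟨⟨6, 6, 2, 7, 8, 4, 4⟩, ⟨9, 9, 4, 5, 7, 8, 9⟩, ⟨10, 7, 6, 0, 0, 3, 7⟩, ⟨5, 8, 4, 0, 6, 0, 5⟩, ⟨4, 4, 3, 3, 0, 10, 7⟩, ⟨6, 7, 9, 4, 6, 4, 8⟩, ⟨9, 5, 9, 1, 6, 7, 6⟩⟩, [0, 1, 2, 3, 4, 5, 6, 7, 8, 9, 10, 11, 12, 13, 14, 15, 16, 17, 18, 19, 20, 22, 23, 24, 25, 26, 29, 30, 32, 34, 35, 37, 38, 39, 40, 42, 43, 44, 45, 48, 53, 55, 57, 58, 60, 64, 65, 67, 70, 75, 79, 80, 81, 82, 83, 84, 88, 92, 93, 108]),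
  (⟨⟨0, 3, 8, 8, 9, 4, 8⟩, ⟨10, 7, 0, 2, 10, 3, 6⟩, ⟨6, 7, 2, 3, 10, 0, 10⟩, ⟨7, 6, 8, 8, 7, 8, 7⟩, ⟨9, 3, 4, 8, 8, 8, 0⟩, ⟨8, 3, 8, 4, 0, 8, 9⟩, ⟨10, 7, 3, 0, 6, 2, 10⟩⟩, [0, 1, 2, 3, 4, 5, 6, 7, 8, 9, 10, 11, 12, 13, 14, 16, 17, 18, 19, 20, 21, 22, 24, 26, 27, 28, 29, 30, 34, 35, 36, 37, 40, 41, 44, 47, 49, 52, 54, 57, 58, 59, 60, 61, 63, 64, 65, 66, 68, 69, 70, 75, 76, 78, 79, 83, 84, 87, 89, 101]),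
  (⟨⟨6, 7, 2, 3, 10, 0, 10⟩, ⟨7, 6, 8, 8, 7, 8, 7⟩, ⟨9, 3, 4, 8, 8, 8, 0⟩, ⟨8, 3, 8, 4, 0, 8, 9⟩, ⟨10, 7, 3, 0, 6, 2, 10⟩, ⟨0, 3, 8, 8, 9, 4, 8⟩, ⟨10, 7, 0, 2, 10, 3, 6⟩⟩, [0, 1, 2, 3, 4, 5, 6, 7, 8, 13, 14, 15, 16, 17, 23, 27, 29, 32, 33, 52]),
  (⟨⟨0, 9, 3, 10, 0, 0, 8⟩, ⟨0, 8, 3, 10, 0, 0, 9⟩, ⟨0, 1, 10, 3, 0, 0, 1⟩, ⟨2, 0, 0, 0, 4, 5, 0⟩, ⟨4, 0, 0, 0, 6, 9, 0⟩, ⟨0, 8, 2, 10, 0, 0, 8⟩, ⟨6, 0, 0, 0, 2, 7, 0⟩⟩, [0, 1, 2, 3, 8, 9, 10, 12, 14, 17, 20, 21])]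

/-- The involution. -/
def tm : M7 := ⟨⟨10, 0, 0, 0, 0, 0, 0⟩, ⟨0, 10, 0, 0, 0, 0, 0⟩, ⟨0, 0, 1, 0, 0, 0, 0⟩, ⟨0, 0, 0, 1, 0, 0, 0⟩, ⟨0, 0, 0, 0, 10, 0, 0⟩, ⟨0, 0, 0, 0, 0, 1, 0⟩, ⟨0, 0, 0, 0, 0, 0, 10⟩⟩

/-- Witnesses for right multiplication by generator 0. -/
def WX : List (List (ℕ × ℕ × ℕ)) := [
  [(0, 1, 0)],
  [(98, 1, 14), (73, 10, 32), (16, 17, 34), (16, 17, 15), (65, 16, 49), (101, 16, 27), (73, 10, 44), (93, 10, 35), (13, 17, 17), (60, 16, 34), (64, 17, 11), (24, 16, 20), (104, 10, 15), (3, 5, 13), (119, 5, 0)],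
  [(0, 3, 0), (0, 3, 2), (0, 3, 6), (0, 3, 4), (0, 3, 5), (0, 3, 1), (0, 3, 7), (0, 3, 3), (106, 10, 29), (69, 4, 92), (69, 4, 23), (39, 17, 53), (24, 15, 38), (65, 13, 1), (65, 13, 0), (93, 10, 50), (52, 13, 95), (31, 8, 18), (50, 15, 19), (77, 13, 109), (24, 15, 16), (69, 4, 26), (69, 4, 53), (83, 17, 43), (46, 16, 44), (39, 17, 35), (83, 17, 24), (28, 4, 15), (77, 13, 48), (39, 17, 33), (69, 4, 41), (69, 4, 25), (79, 2, 71), (79, 2, 91), (93, 10, 51), (46, 16, 52), (50, 15, 37), (65, 13, 2), (106, 10, 31), (52, 13, 16), (31, 8, 105), (83, 17, 41), (50, 15, 49), (31, 8, 20), (77, 13, 14), (52, 13, 39), (27, 16, 15), (69, 4, 11), (65, 13, 3), (28, 4, 8), (79, 2, 35), (28, 4, 34), (77, 13, 13), (83, 17, 47), (28, 4,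 93), (52, 13, 102), (79, 2, 24), (77, 13, 81), (31, 8, 12), (28, 4, 84), (60, 16, 37), (77, 13, 83), (79, 2, 90), (31, 8, 77), (24, 16, 54), (27, 16, 26), (103, 6, 7), (31, 8, 36), (60, 16, 43), (24, 16, 13), (24, 16, 29), (27, 16, 30), (79, 2, 82), (24, 15, 41), (52, 13, 45), (77, 13, 37), (60, 16, 56), (50, 15, 42), (31, 8, 73), (106, 10, 8), (93, 10, 49), (65, 13, 5), (46, 16, 39), (65, 13, 4), (106, 10, 14), (28, 4, 80), (28, 4, 38), (69, 4, 29), (65, 13, 7), (77, 13, 88), (27, 16, 8), (27, 16, 53), (39, 17, 14), (93, 10, 47), (79, 2, 65), (52, 13, 55), (52, 13, 96), (28, 4, 79), (103, 6, 6), (116, 2, 4), (24, 16, 14), (24, 16, 35), (52, 13, 74), (103, 6, 2), (79, 2, 46), (24, 15, 33), (31, 8, 42), (116, 2, 0), (116,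 2, 1), (65, 13, 6), (103, 6, 3), (116, 2, 6), (116, 2, 3), (103, 6, 4), (116, 2, 2), (103, 6, 5), (116, 2, 5), (103, 6, 1), (103, 6, 0), (116, 2, 7)],
  [(101, 6, 47), (101, 6, 52), (101, 6, 43), (101, 6, 57), (101, 6, 41), (101, 6, 46), (101, 6, 48), (103, 6, 56), (50, 1, 7), (80, 10, 11), (80, 10, 20), (94, 1, 6), (67, 15, 12), (61, 10, 42), (31, 1, 1), (74, 15, 18), (30, 1, 12), (118, 15, 35), (118, 15, 20), (75, 10, 22)],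
  [(94, 8, 84), (94, 8, 8), (94, 8, 79), (94, 8, 34), (94, 8, 38), (94, 8, 80), (94, 8, 93), (94, 8, 15), (61, 10, 27), (119, 4, 48), (119, 4, 14), (112, 15, 45), (43, 9, 53), (51, 9, 95), (51, 9, 102), (61, 10, 40), (9, 13, 49), (19, 2, 19), (43, 9, 23), (19, 11, 11), (43, 9, 92), (119, 4, 13), (119, 4, 109), (112, 15, 44), (15, 2, 27), (74, 15, 36), (74, 15, 43), (64, 18, 49), (19, 11, 26), (74, 15, 34), (119, 4, 83), (119, 4, 88), (116, 19, 12), (116, 19, 17), (61, 10, 59), (15, 2, 54), (43, 9, 11), (51, 9, 39), (8, 10, 23), (9, 13, 86), (19, 2, 52), (112, 15, 48), (43, 9, 41), (19, 2, 61), (19, 11, 29), (9, 13, 97), (15, 2, 86), (119, 4, 37), (51, 9, 74), (85, 18, 38), (38, 19, 23), (85, 18, 41), (19, 11, 92), (74,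 15, 47), (85, 18, 16), (9, 13, 59), (116, 19, 19), (19, 11, 23), (19, 2, 44), (64, 18, 19), (77, 6, 59), (19, 11, 25), (38, 19, 33), (19, 2, 89), (26, 6, 13), (15, 2, 51), (88, 11, 44), (19, 2, 57), (77, 6, 12), (77, 6, 53), (77, 6, 18), (15, 2, 97), (116, 19, 30), (43, 9, 29), (9, 13, 54), (19, 11, 53), (77, 6, 51), (43, 9, 26), (19, 2, 75), (8, 10, 39), (61, 10, 28), (51, 9, 96), (15, 2, 49), (51, 9, 16), (8, 10, 43), (64, 18, 37), (64, 18, 42), (119, 4, 81), (51, 9, 55), (19, 11, 41), (15, 2, 85), (15, 2, 59), (74, 15, 17), (8, 10, 54), (38, 19, 11), (9, 13, 27), (9, 13, 85), (85, 18, 33), (88, 11, 19), (102, 7, 84), (77, 6, 33), (26, 6, 14), (9, 13, 51), (88, 11, 57), (38, 19, 26), (43, 9, 25), (19, 2, 28), (102,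 7, 34), (102, 7, 8), (51, 9, 45), (88, 11, 89), (102, 7, 15), (102, 7, 79), (88, 11, 75), (102, 7, 80), (88, 11, 52), (102, 7, 93), (88, 11, 28), (88, 11, 61), (102, 7, 38)],
  [(112, 1, 13), (80, 12, 21), (11, 21, 4), (90, 21, 6), (62, 6, 11), (62, 6, 21), (80, 12, 32), (105, 12, 23), (69, 21, 5), (15, 6, 32), (35, 21, 11), (63, 6, 23), (50, 12, 11), (111, 5, 14), (116, 0, 0)],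
  [(98, 2, 107), (98, 2, 111), (98, 2, 119), (98, 2, 116), (98, 2, 108), (98, 2, 114), (98, 2, 112), (98, 2, 99), (33, 12, 29), (62, 12, 22), (62, 12, 49), (89, 21, 3), (14, 11, 55), (47, 11, 96), (47, 11, 74), (33, 12, 44), (35, 19, 54), (102, 18, 9), (14, 11, 39), (62, 12, 36), (49, 12, 40), (44, 21, 1), (10, 8, 68), (89, 21, 0), (13, 8, 70), (49, 12, 24), (41, 2, 66), (41, 2, 110), (105, 12, 54), (10, 8, 69), (80, 19, 28), (116, 18, 27), (44, 21, 2), (14, 11, 102), (102, 18, 10), (80, 19, 8), (10, 8, 101), (41, 2, 113), (80, 19, 56), (41, 2, 103), (13, 8, 76), (63, 6, 58), (41, 2, 117), (15, 6, 37), (10, 8, 100), (116, 18, 21), (15, 6, 26), (15, 6, 55), (15, 6, 50), (10, 8, 60), (41, 2, 115), (14, 11, 45), (15, 6,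 27), (14, 11, 95), (13, 8, 64), (41, 2, 118), (24, 6, 42), (15, 6, 39), (3, 2, 98), (14, 11, 16)],
  [(0, 10, 0), (0, 10, 2), (0, 10, 6), (0, 10, 4), (0, 10, 5), (0, 10, 1), (0, 10, 7), (0, 10, 3), (21, 8, 51), (114, 9, 48), (114, 9, 14), (61, 4, 4), (83, 18, 55), (93, 9, 94), (93, 9, 104), (21, 8, 59), (32, 11, 117), (13, 8, 81), (83, 18, 8), (110, 7, 32), (83, 18, 15), (114, 9, 13), (114, 9, 109), (61, 4, 1), (66, 17, 16), (61, 4, 6), (61, 4, 0), (50, 7, 17), (110, 7, 50), (61, 4, 3), (114, 9, 83), (114, 9, 88), (37, 20, 2), (37, 20, 4), (21, 8, 27), (66, 17, 36), (83, 18, 29), (93, 9, 62), (21, 8, 97), (32, 11, 66), (13, 8, 37), (61, 4, 2), (83, 18, 58), (13, 8, 83), (110, 7, 94), (32, 11, 110), (66, 17, 46), (114,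 9, 37), (93, 9, 56), (50, 7, 78), (37, 20, 1), (50, 7, 106), (110, 7, 56), (61, 4, 7), (50, 7, 43), (32, 11, 113), (37, 20, 3), (110, 7, 62), (13, 8, 109), (50, 7, 63), (54, 16, 0), (110, 7, 72), (37, 20, 0), (13, 8, 14), (54, 16, 6), (66, 17, 42), (111, 8, 112), (13, 8, 48), (54, 16, 4), (54, 16, 1), (54, 16, 5), (66, 17, 52), (37, 20, 7), (83, 18, 51), (32, 11, 115), (110, 7, 104), (54, 16, 7), (83, 18, 50), (13, 8, 88), (21, 8, 85), (21, 8, 49), (93, 9, 72), (66, 17, 48), (93, 9, 32), (21, 8, 86), (50, 7, 58), (50, 7, 40), (114, 9, 81), (93, 9, 33), (110, 7, 33), (66, 17, 56), (66, 17, 25), (61, 4, 5), (21, 8, 54), (37, 20, 5), (32, 11, 98), (32, 11, 103), (50, 7, 67), (111, 8, 119), (89, 19, 43), (54, 16, 3), (54,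 16, 2), (32, 11, 118), (111, 8, 111), (37, 20, 6), (83, 18, 32), (13, 8, 13), (89, 19, 51), (89, 19, 39), (93, 9, 50), (111, 8, 99), (89, 19, 58), (89, 19, 18), (111, 8, 116), (89, 19, 25), (111, 8, 108), (89, 19, 34), (111, 8, 114), (111, 8, 107), (89, 19, 37)],
  [(0, 12, 0), (0, 12, 2), (0, 12, 6), (0, 12, 4), (0, 12, 5), (0, 12, 1), (0, 12, 7), (0, 12, 3), (46, 11, 60), (112, 11, 48), (112, 11, 14), (69, 2, 22), (56, 13, 40), (96, 11, 1), (96, 11, 0), (46, 11, 68), (105, 2, 94), (25, 4, 67), (56, 13, 67), (118, 4, 32), (56, 13, 58), (112, 11, 13), (112, 11, 109), (69, 2, 21), (33, 14, 47), (69, 2, 47), (69, 2, 31), (12, 9, 89), (118, 4, 50), (69, 2, 30), (112, 11, 83), (112, 11, 88), (4, 19, 29), (29, 19, 53), (46,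 11, 64), (87, 14, 37), (56, 13, 43), (96, 11, 2), (46, 11, 100), (105, 2, 32), (25, 4, 40), (69, 2, 10), (56, 13, 106), (25, 4, 63), (118, 4, 94), (105, 2, 62), (87, 14, 43), (112, 11, 37), (96, 11, 3), (12, 9, 57), (29, 19, 44), (12, 9, 75), (118, 4, 56), (69, 2, 87), (12, 9, 44), (105, 2, 104), (29, 19, 32), (118, 4, 62), (25, 4, 43), (12, 9, 61), (97, 12, 13), (118, 4, 72), (29, 19, 40), (25, 4, 17), (102, 12, 59), (87, 14, 40), (119, 9, 112), (25, 4, 78), (102, 12, 33), (102, 12, 51), (97, 12, 14), (87, 14, 36), (4, 19, 46), (56, 13, 17), (105, 2, 50), (118, 4, 104), (102, 12, 53), (56, 13, 78), (25, 4, 106), (46, 11, 101), (46, 11, 69), (96, 11, 5), (33, 14, 45), (96, 11, 4), (46, 11, 76), (12, 9, 28), (12, 9, 52),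 (112, 11, 81), (96, 11, 7), (118, 4, 33), (87, 14, 25), (33, 14, 46), (69, 2, 9), (46, 11, 70), (29, 19, 16), (105, 2, 33), (105, 2, 72), (12, 9, 19), (119, 9, 119), (82, 19, 45), (102, 12, 12), (102, 12, 18), (105, 2, 56), (119, 9, 111), (4, 19, 22), (56, 13, 63), (25, 4, 58), (82, 19, 59), (82, 19, 42), (96, 11, 6), (119, 9, 99), (113, 19, 47), (82, 19, 49), (119, 9, 116), (82, 19, 50), (119, 9, 108), (82, 19, 48), (119, 9, 114), (119, 9, 107), (82, 19, 52)],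
  [(0, 14, 0), (0, 14, 2), (0, 14, 6), (0, 14, 4), (0, 14, 5), (0, 14, 1), (0, 14, 7), (0, 14, 3), (106, 13, 50), (95, 11, 22), (95, 11, 9), (9, 2, 48), (80, 7, 31), (109, 18, 6), (109, 18, 7), (106, 13, 32), (1, 18, 17), (62, 13, 98), (80, 7, 10), (118, 11, 32), (80, 7, 30), (95, 11, 31), (95, 11, 47), (9, 2, 83), (27, 9, 49), (9, 2, 109), (9, 2, 13), (26, 11, 65), (118, 11, 50), (9, 2, 37), (95, 11, 21), (95, 11, 10), (36, 7, 53), (36, 7, 29), (106, 13, 72), (27, 9, 59), (80, 7, 22), (109, 18, 3), (106, 13, 94), (1, 18, 36), (62, 13, 118), (9, 2, 88), (80, 7, 87), (62, 13, 117), (118, 11, 94), (1, 18, 47), (27, 9, 51), (95, 11, 30), (109, 18, 2), (26, 11, 91), (36, 7, 11), (26, 11, 71), (118, 11, 56), (9, 2, 81), (26,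 11, 46), (1, 18, 34), (36, 7, 41), (118, 11, 62), (62, 13, 115), (26, 11, 35), (72, 4, 103), (118, 11, 72), (36, 7, 23), (62, 13, 103), (72, 4, 110), (27, 9, 86), (107, 7, 112), (62, 13, 66), (72, 4, 98), (72, 4, 118), (72, 4, 113), (27, 9, 85), (36, 7, 92), (80, 7, 21), (78, 18, 45), (118, 11, 104), (72, 4, 66), (80, 7, 47), (62, 13, 110), (106, 13, 33), (106, 13, 62), (109, 18, 4), (27, 9, 27), (109, 18, 5), (106, 13, 104), (26, 11, 90), (26, 11, 24), (95, 11, 87), (109, 18, 0), (118, 11, 33), (27, 9, 97), (27, 9, 54), (9, 2, 14), (106, 13, 56), (36, 7, 26), (78, 18, 48), (78, 18, 44), (26, 11, 82), (107, 7, 119), (107, 19, 4), (72, 4, 117), (72, 4, 115), (1, 18, 43), (107, 7, 111), (36, 7, 25), (80, 7, 9), (62, 13,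 113), (107, 19, 0), (107, 19, 1), (109, 18, 1), (107, 7, 99), (107, 19, 6), (107, 19, 3), (107, 7, 116), (107, 19, 2), (107, 7, 108), (107, 19, 5), (107, 7, 114), (107, 7, 107), (107, 19, 7)],
  [(111, 8, 118), (111, 8, 98), (111, 8, 66), (111, 8, 115), (111, 8, 117), (111, 8, 103), (111, 8, 110), (111, 8, 113), (46, 13, 99), (106, 14, 58), (106, 14, 41), (10, 15, 9), (48, 4, 18), (48, 4, 12), (46, 13, 107), (56, 16, 17), (111, 20, 13), (20, 4, 77), (106, 14, 16), (106, 14, 50), (79, 15, 27), (104, 9, 3), (79, 15, 10), (108, 9, 78), (20, 4, 20), (106, 14, 32), (106, 14, 56), (101, 9, 43), (101, 9, 67), (46, 13, 112), (104, 9, 5), (46, 13, 111), (113, 16, 28), (28, 20, 9), (28, 20, 10), (113, 16, 50), (104, 9, 1), (106,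 14, 34), (48, 4, 36), (108, 9, 17), (101, 9, 40), (20, 4, 73), (79, 15, 21), (108, 9, 63), (56, 16, 12), (20, 4, 105), (50, 20, 19), (27, 13, 116), (104, 9, 7), (27, 13, 119), (27, 13, 108), (27, 13, 114), (104, 9, 0), (104, 9, 4), (108, 9, 106), (106, 14, 57), (20, 4, 42), (104, 9, 6), (104, 9, 2), (101, 9, 58)],
  [(82, 9, 69), (82, 9, 76), (82, 9, 64), (82, 9, 100), (82, 9, 60), (82, 9, 68), (82, 9, 70), (82, 9, 101), (71, 2, 45), (8, 7, 90), (8, 7, 82), (51, 19, 15), (81, 17, 58), (57, 13, 29), (57, 13, 53), (71, 2, 16), (96, 8, 62), (35, 15, 56), (81, 17, 28), (81, 7, 27), (81, 17, 51), (8, 7, 91), (8, 7, 24), (55, 19, 10), (115, 13, 19), (55, 19, 27), (55, 19, 21), (18, 13, 21), (81, 7, 97), (55, 19, 35), (8, 7,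 71), (8, 7, 35), (65, 7, 95), (65, 7, 102), (71, 2, 96), (115, 13, 44), (81, 17, 49), (57, 13, 23), (71, 2, 95), (96, 8, 104), (35, 15, 13), (55, 19, 20), (81, 17, 40), (35, 15, 14), (81, 7, 51), (96, 8, 94), (115, 13, 57), (8, 7, 46), (57, 13, 92), (18, 13, 47), (65, 7, 39), (18, 13, 87), (81, 7, 49), (55, 19, 9), (18, 13, 22), (96, 8, 32), (65, 7, 45), (81, 7, 54), (35, 15, 39), (18, 13, 9), (25, 11, 112), (81, 7, 59), (65, 7, 16), (35, 15, 54), (25, 11, 114), (115, 13, 52), (116, 4, 112), (111, 15, 59), (25, 11, 108), (25, 11, 119), (25, 11, 116), (115, 13, 75), (65, 7, 96), (94, 17, 59), (96, 8, 56), (81, 7, 85), (25, 11, 107), (81, 17, 29), (35, 15, 52), (71, 2, 55), (71, 2, 39), (57, 13, 25), (115, 13, 61), (57,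 13, 11), (71, 2, 102), (18, 13, 30), (18, 13, 31), (8, 7, 65), (57, 13, 41), (81, 7, 86), (115, 13, 89), (115, 13, 28), (55, 19, 57), (71, 2, 74), (65, 7, 55), (96, 8, 72), (96, 8, 33), (18, 13, 10), (116, 4, 119), (23, 7, 48), (25, 11, 111), (25, 11, 99), (96, 8, 50), (116, 4, 111), (65, 7, 74), (81, 17, 45), (35, 15, 31), (23, 7, 13), (23, 7, 83), (57, 13, 26), (116, 4, 99), (23, 7, 109), (23, 7, 37), (116, 4, 116), (23, 7, 88), (116, 4, 108), (23, 7, 14), (116, 4, 114), (116, 4, 107), (23, 7, 81)],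
  [(119, 9, 118), (119, 9, 98), (119, 9, 66), (119, 9, 115), (119, 9, 117), (119, 9, 103), (119, 9, 110), (119, 9, 113), (118, 15, 0), (38, 15, 5), (38, 15, 4), (43, 6, 35), (26, 4, 28), (32, 4, 57), (32, 4, 75), (118, 15, 3), (8, 14, 12), (6, 19, 31), (26, 4, 52), (38, 15, 7), (38, 15, 1), (76, 6, 30), (109, 11, 40), (43, 6, 16), (99, 11, 78), (38, 15, 6), (80, 7, 6), (80, 7, 7), (118, 15, 2), (109, 11, 17), (66, 14, 31), (97, 19, 14), (43, 6, 38), (26, 4, 19), (97, 19, 13), (66, 14, 49), (109, 11, 63), (80, 7, 3), (8, 14, 17), (80, 7, 1), (99, 11, 43), (90, 10, 58), (80, 7, 5), (90, 10, 21), (109, 11, 67), (6, 19, 55), (90, 10, 57), (90, 10, 52), (90, 10, 53), (109, 11, 58), (80, 7, 4), (26, 4, 61), (90, 10, 48), (26,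 4, 44), (99, 11, 106), (80, 7, 0), (46, 10, 30), (90, 10, 36), (113, 7, 2), (26, 4, 89)],
  [(59, 4, 51), (59, 4, 27), (59, 4, 86), (59, 4, 54), (59, 4, 49), (59, 4, 85), (59, 4, 97), (59, 4, 59), (1, 8, 41), (113, 2, 106), (113, 2, 40), (100, 13, 90), (109, 8, 65), (68, 2, 12), (68, 2, 18), (1, 8, 23), (36, 17, 39), (2, 14, 48), (109, 8, 46), (74, 7, 73), (109, 8, 35), (113, 2, 63), (113, 2, 67), (100, 13, 71), (60, 14, 15), (100, 13, 24), (100, 13, 91), (84, 15, 26), (74, 7, 18), (100, 13, 46), (113, 2, 58), (113, 2, 78), (4, 18, 56), (4, 18, 39), (1, 8, 92), (65, 14, 18), (109, 8, 82), (68, 2, 105), (1, 8, 53), (74, 17, 20), (90, 14, 13), (100, 13, 35), (109, 8, 91), (90, 14, 14), (74, 7, 42), (74, 17, 10), (65, 14,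 51), (113, 2, 17), (68, 2, 73), (84, 15, 25), (4, 18, 54), (102, 15, 28), (74, 7, 77), (100, 13, 65), (84, 15, 11), (74, 17, 26), (4, 18, 31), (74, 7, 36), (90, 14, 35), (84, 15, 24), (30, 9, 77), (74, 7, 105), (4, 18, 13), (2, 14, 29), (30, 9, 73), (65, 14, 53), (32, 18, 22), (2, 14, 59), (30, 9, 18), (30, 9, 105), (30, 9, 42), (65, 14, 42), (4, 18, 52), (109, 8, 24), (36, 17, 12), (74, 7, 20), (30, 9, 36), (109, 8, 71), (90, 14, 52), (1, 8, 26), (1, 8, 11), (68, 2, 36), (65, 14, 26), (68, 2, 77), (1, 8, 29), (84, 15, 57), (84, 15, 40), (113, 2, 43), (68, 2, 42), (74, 7, 12), (65, 14, 38), (60, 14, 8), (100, 13, 82), (1, 8, 25), (4, 18, 14), (74, 17, 23), (74, 17, 57), (84, 15, 22), (32, 18, 11), (80, 4, 22), (30, 9,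 20), (30, 9, 12), (74, 17, 22), (35, 18, 28), (94, 18, 59), (109, 8, 90), (2, 14, 28), (80, 4, 31), (80, 4, 21), (68, 2, 20), (32, 18, 40), (80, 4, 47), (80, 4, 30), (32, 18, 25), (80, 4, 10), (32, 18, 26), (80, 4, 9), (32, 18, 24), (32, 18, 57), (80, 4, 87)],
  [(107, 7, 118), (107, 7, 98), (107, 7, 66), (107, 7, 115), (107, 7, 117), (107, 7, 103), (107, 7, 110), (107, 7, 113), (41, 2, 92), (96, 5, 4), (39, 5, 11), (62, 12, 39), (68, 6, 45), (107, 17, 13), (107, 17, 32), (41, 2, 53), (49, 8, 7), (68, 6, 31), (29, 2, 23), (39, 5, 9), (95, 5, 5), (62, 12, 27), (32, 18, 20), (49, 12, 58), (62, 12, 37), (60, 11, 80), (29, 2, 41), (62, 12, 26), (69, 17, 44), (69, 17, 37), (32, 18, 35), (68, 6, 17), (49, 8, 3), (62, 12, 50),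 (49, 8, 5), (107, 17, 54), (60, 11, 79), (60, 11, 93), (29, 2, 25), (62, 12, 55), (60, 11, 34), (49, 8, 6), (29, 2, 11), (60, 11, 38), (35, 18, 18), (47, 11, 8), (47, 11, 84), (47, 11, 15), (93, 17, 30), (68, 6, 34), (49, 8, 0), (29, 2, 29), (107, 17, 55), (29, 2, 26), (35, 18, 12), (62, 12, 42), (49, 8, 1), (49, 8, 2), (49, 8, 4), (93, 17, 8)],
  [(39, 4, 76), (39, 4, 69), (39, 4, 60), (39, 4, 68), (39, 4, 64), (39, 4, 100), (39, 4, 101), (39, 4, 70), (0, 6, 44), (87, 20, 8), (87, 20, 11), (18, 8, 39), (44, 1, 2), (10, 8, 75), (10, 8, 57), (0, 6, 29), (90, 16, 41), (70, 2, 68), (89, 1, 10), (80, 16, 47), (44, 1, 8), (35, 20, 14), (18, 8, 102), (27, 17, 21), (18, 8, 55), (18, 8, 95), (18, 8, 96), (29, 20, 16), (95, 8,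 16), (0, 6, 36), (119, 17, 31), (10, 8, 61), (23, 6, 54), (4, 16, 46), (70, 2, 100), (75, 1, 3), (70, 2, 70), (53, 16, 36), (90, 16, 38), (10, 8, 44), (18, 8, 45), (90, 16, 23), (80, 16, 48), (70, 2, 69), (60, 2, 76), (60, 2, 60), (119, 17, 50), (70, 2, 101), (60, 2, 64), (53, 16, 45), (0, 6, 22), (23, 6, 40), (10, 8, 19), (119, 17, 38), (10, 8, 28), (0, 6, 49), (10, 8, 89), (18, 8, 74), (23, 6, 24), (67, 8, 52)],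
  [(18, 7, 57), (18, 7, 61), (18, 7, 52), (18, 7, 28), (18, 7, 19), (18, 7, 75), (18, 7, 89), (18, 7, 44), (33, 4, 39), (28, 3, 18), (20, 3, 17), (17, 16, 31), (50, 15, 23), (99, 13, 15), (99, 13, 38), (33, 4, 55), (32, 7, 68), (50, 15, 53), (62, 3, 12), (17, 16, 59), (18, 17, 9), (17, 16, 42), (17, 16, 57), (108, 8, 78), (17, 16, 58), (22, 3, 15), (33, 4, 102), (44, 17, 19), (24, 15, 30), (99, 13, 79), (33, 4, 74), (32, 7, 100), (17, 16, 16), (32, 7, 76), (18, 17, 27), (99, 13, 80), (108, 8, 17), (34, 13, 93), (108, 8, 40), (65, 4, 95), (17, 16, 33), (108, 8, 63), (32, 7, 69), (34, 13, 34), (65, 4, 45), (108, 8, 43), (8, 8, 67), (8, 8, 106), (8, 8, 58), (18, 17, 18), (50, 15, 46), (32, 7, 64), (65, 4, 96), (33, 4, 16),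 (99, 13, 84), (17, 16, 51), (34, 13, 8), (32, 7, 70), (32, 7, 60), (32, 7, 101)],
  [(27, 9, 46), (27, 9, 65), (27, 9, 90), (27, 9, 24), (27, 9, 71), (27, 9, 82), (27, 9, 35), (27, 9, 91), (93, 11, 49), (73, 3, 10), (94, 13, 20), (85, 10, 34), (62, 13, 42), (93, 11, 85), (106, 8, 22), (85, 10, 16), (115, 9, 15), (55, 10, 33), (119, 3, 9), (24, 3, 19), (94, 13, 36), (67, 20, 12), (94, 13, 77), (94, 13, 73), (14, 8, 10), (115, 9, 84), (94, 13, 18), (9, 3, 13), (59, 13, 76), (59, 13, 100), (93, 11, 86), (11, 20, 17), (93, 11, 54), (106, 8, 21), (85, 10, 46), (106, 8, 30), (115, 9, 93), (26, 11, 97), (39, 20, 15), (62, 13, 105), (59, 13, 68), (14, 8, 9), (115, 9, 34), (14, 8, 31), (26, 11, 59), (59, 13, 101), (115, 9, 38),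 (14, 8, 87), (115, 9, 8), (59, 13, 69), (11, 20, 18), (59, 13, 70), (115, 9, 79), (106, 8, 47), (93, 11, 51), (93, 11, 27), (115, 9, 80), (94, 13, 12), (59, 13, 60), (16, 13, 64)],
  [(29, 11, 105), (29, 11, 18), (29, 11, 36), (29, 11, 12), (29, 11, 20), (29, 11, 77), (29, 11, 73), (29, 11, 42), (102, 17, 3), (34, 19, 36), (34, 19, 38), (79, 4, 71), (9, 5, 12), (49, 9, 10), (49, 9, 22), (102, 17, 0), (66, 10, 38), (30, 2, 8), (87, 5, 6), (110, 10, 56), (87, 5, 1), (61, 19, 41), (79, 4, 90), (19, 12, 34), (79, 4, 82), (79, 4, 35), (79, 4, 65), (61, 19, 24), (89, 4, 91), (102, 17, 7), (19, 12, 45), (49, 9, 21), (102, 17, 2), (16, 10, 45), (30, 2, 84), (30, 5, 7), (30, 2, 38), (39, 10, 13), (66, 10, 12), (49, 9, 47), (79,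 4, 46), (16, 10, 24), (110, 10, 41), (30, 2, 34), (31, 2, 80), (31, 2, 93), (19, 12, 17), (30, 2, 79), (31, 2, 15), (110, 10, 17), (102, 17, 5), (102, 17, 1), (49, 9, 87), (15, 12, 31), (49, 9, 31), (102, 17, 4), (49, 9, 9), (79, 4, 24), (102, 17, 6), (100, 9, 30)],
  [(43, 14, 39), (43, 14, 21), (43, 14, 24), (43, 14, 11), (43, 14, 23), (43, 14, 27), (43, 14, 33), (43, 14, 55), (62, 21, 9), (54, 15, 58), (54, 15, 55), (46, 6, 10), (54, 6, 25), (117, 14, 9), (56, 14, 19), (46, 15, 50), (34, 12, 8), (96, 6, 8), (1, 10, 26), (96, 6, 15), (54, 15, 32), (54, 15, 8), (60, 12, 19), (46, 6, 19), (58, 5, 8), (1, 10, 25), (46, 6, 9), (54, 15, 15), (31, 21, 8), (47, 12, 15), (96, 6, 28), (56, 14, 20), (108, 12, 25), (46, 6, 20),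 (1, 10, 10), (54, 15, 51), (17, 5, 10), (1, 10, 37), (40, 5, 3), (1, 10, 18), (34, 12, 28), (58, 5, 2), (14, 12, 52), (1, 10, 55), (108, 12, 9), (14, 12, 41), (60, 12, 20), (18, 12, 48), (14, 12, 46), (14, 12, 57), (14, 12, 43), (1, 10, 19), (76, 12, 56), (108, 12, 10), (103, 21, 10), (56, 14, 10), (103, 21, 7), (54, 15, 29), (1, 10, 9), (14, 12, 47)],
  [(67, 16, 24), (67, 16, 11), (67, 16, 32), (67, 16, 19), (67, 16, 55), (67, 16, 40), (67, 16, 22), (67, 16, 21), (15, 1, 4), (115, 16, 9), (115, 16, 25), (80, 1, 5), (85, 3, 11), (21, 16, 10), (92, 1, 9), (89, 3, 16), (92, 1, 11), (63, 3, 14), (27, 3, 8), (90, 16, 18)],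
  [(100, 18, 30), (45, 18, 46), (100, 18, 53), (45, 18, 23), (49, 12, 16), (43, 12, 38), (112, 12, 35), (74, 14, 44), (76, 14, 22), (69, 14, 54), (74, 14, 30), (112, 12, 30)]]

/-- Witnesses for right multiplication by generator 1. -/
def WY : List (List (ℕ × ℕ × ℕ)) := [
  [(0, 2, 0)],
  [(113, 2, 107), (58, 8, 33), (46, 8, 41), (96, 10, 46), (17, 9, 102), (70, 11, 29), (50, 17, 31), (59, 13, 103), (84, 4, 27), (72, 2, 33), (65, 4, 72), (114, 15, 9), (64, 13, 83), (30, 6, 55), (119, 6, 0)],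
  [(0, 4, 0), (0, 12, 0), (12, 12, 55), (116, 4, 118), (6, 20, 0), (69, 12, 47), (117, 4, 107), (7, 0, 0), (107, 19, 17), (18, 7, 54), (63, 7, 64), (101, 7, 98), (51, 13, 46), (67, 13, 33), (26, 19, 6), (23, 13, 22), (107, 16, 29), (81, 7, 93), (41, 5, 4), (12, 9, 18), (110, 7, 65), (106, 14, 58), (15, 18, 58), (8, 17, 7), (6, 9, 62), (88, 4, 82), (27, 2, 19), (63, 17, 38), (31, 2, 29), (10, 18, 27), (52, 15, 35), (11, 9, 84), (16, 16, 21), (119, 17, 59), (14, 10, 26), (51, 11, 73), (42, 3, 8), (5, 4, 76), (39, 15, 27), (74, 4, 5), (45, 4, 45), (65, 7, 40), (2, 16, 40), (42, 6, 38), (47, 10, 35), (98, 13, 99), (3, 11, 65), (35, 12, 21), (68, 11, 70), (22, 12, 41), (46, 6, 45), (44, 11, 85), (20, 11, 117), (74, 10, 45),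 (38, 14, 42), (80, 12, 31), (23, 8, 112), (117, 21, 3), (108, 18, 17), (26, 8, 81), (34, 11, 21), (114, 7, 76), (68, 14, 28), (22, 7, 104), (82, 11, 35), (43, 20, 11), (116, 11, 107), (89, 18, 11), (28, 20, 4), (100, 13, 96), (44, 14, 22), (35, 13, 106), (3, 7, 23), (98, 11, 62), (99, 9, 23), (34, 9, 34), (84, 9, 60), (52, 10, 4), (114, 14, 57), (116, 19, 34), (84, 17, 26), (30, 10, 34), (52, 7, 66), (92, 13, 92), (104, 7, 105), (89, 9, 109), (63, 9, 3), (108, 8, 65), (38, 7, 5), (74, 9, 114), (35, 20, 7), (111, 14, 12), (73, 7, 56), (80, 7, 45), (48, 13, 52), (101, 10, 7), (46, 7, 32), (33, 15, 15), (82, 9, 89), (103, 9, 118), (78, 7, 111), (71, 20, 13), (105, 13, 60), (103, 14, 0), (84, 1, 5), (74, 17, 40), (12, 18,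 13), (111, 7, 0), (69, 16, 24), (35, 11, 80), (115, 5, 0), (46, 10, 52), (108, 1, 0), (0, 8, 118), (48, 8, 84), (15, 19, 51), (102, 7, 34), (47, 7, 63), (96, 7, 60), (104, 11, 61)],
  [(0, 8, 0), (82, 9, 69), (47, 7, 26), (116, 11, 118), (15, 19, 59), (67, 14, 39), (96, 7, 62), (110, 5, 14), (53, 19, 53), (68, 17, 18), (42, 13, 114), (33, 2, 77), (62, 10, 17), (113, 8, 76), (38, 18, 28), (95, 16, 18), (58, 20, 17), (51, 6, 28), (102, 4, 23), (30, 13, 49)],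
  [(7, 4, 7), (59, 4, 51), (25, 19, 19), (29, 11, 105), (88, 2, 74), (62, 7, 109), (118, 8, 39), (0, 2, 7), (19, 7, 17), (107, 11, 38), (117, 14, 14), (73, 13, 12), (34, 7, 14), (70, 8, 6), (57, 9, 90), (97, 13, 71), (47, 9, 82), (82, 4, 114), (71, 11, 45), (84, 15, 8), (72, 9, 47), (55, 9, 66), (111, 9, 97), (27, 7, 42), (90, 13, 30), (13, 10, 9), (62, 17, 25), (102, 12, 8), (11, 9, 61), (64, 5, 1), (55, 17, 9), (52, 12, 7), (96, 1, 8), (49, 18, 4), (66, 7, 22), (31, 18, 1), (50, 16, 25), (21, 7, 84), (35, 19, 27), (21, 11, 112), (44, 7, 10), (97, 11, 57), (33, 13, 16), (66, 18, 23), (27, 9, 58), (64, 7, 61), (27, 10, 58), (4, 15, 56), (39, 16, 20), (81, 8, 103), (89, 21, 6), (103, 8, 9), (117, 9, 20), (88, 16, 51),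 (17, 8, 90), (118, 21, 4), (118, 6, 20), (88, 18, 46), (103, 19, 2), (77, 1, 10), (2, 4, 100), (77, 16, 34), (35, 8, 34), (47, 16, 50), (44, 9, 86), (19, 20, 15), (25, 15, 47), (58, 16, 7), (85, 15, 23), (104, 4, 66), (18, 5, 7), (91, 11, 5), (45, 13, 28), (17, 14, 26), (114, 9, 1), (24, 9, 21), (78, 11, 10), (3, 12, 50), (5, 17, 33), (72, 10, 21), (18, 17, 13), (17, 11, 17), (55, 14, 4), (82, 14, 43), (71, 19, 45), (14, 14, 55), (108, 17, 52), (40, 8, 86), (81, 12, 2), (91, 8, 60), (74, 2, 11), (4, 6, 29), (1, 3, 17), (81, 15, 53), (42, 19, 23), (65, 2, 106), (71, 10, 22), (26, 4, 6), (106, 18, 15), (75, 15, 50), (84, 19, 40), (5, 2, 88), (37, 9, 13), (58, 4, 70), (106, 10, 50), (52, 8, 98), (71, 13, 72), (16, 8, 85),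 (73, 8, 73), (28, 13, 43), (117, 2, 2), (62, 9, 55), (116, 2, 1), (0, 13, 118), (86, 7, 24), (42, 11, 3), (24, 7, 8), (53, 7, 78), (31, 11, 81), (76, 4, 78)],
  [(119, 2, 118), (87, 13, 78), (14, 19, 11), (25, 13, 51), (42, 14, 10), (31, 8, 91), (64, 4, 26), (6, 18, 12), (56, 19, 36), (7, 15, 32), (119, 13, 65), (19, 2, 42), (84, 4, 69), (93, 6, 47), (114, 3, 0)],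
  [(0, 9, 0), (5, 10, 0), (41, 16, 58), (102, 11, 76), (49, 7, 59), (44, 8, 27), (115, 7, 107), (110, 1, 14), (94, 7, 29), (107, 4, 62), (38, 9, 49), (38, 19, 55), (41, 9, 76), (57, 18, 35), (107, 15, 5), (4, 18, 48), (102, 8, 23), (30, 11, 58), (66, 9, 65), (28, 3, 18), (27, 7, 87), (57, 13, 42), (106, 11, 23), (111, 13, 88), (95, 10, 42), (79, 19, 38), (27, 8, 14), (55, 9, 107), (109, 8, 28), (79, 17, 36), (11, 12, 20), (101, 2, 94), (114, 19, 20), (82, 9, 31), (71, 12, 30), (62, 2, 63), (4, 4, 65), (41, 1, 13), (92, 21, 9), (66, 10, 19), (101, 18, 5), (68, 9, 94), (46, 7, 13), (41, 8, 107), (102, 14, 20), (48, 17, 24), (44, 7, 102), (39, 11, 0), (63, 5, 13), (8, 11, 103), (26, 7, 118), (118, 8, 62), (91, 14, 50),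 (0, 16, 12), (96, 12, 12), (52, 11, 33), (109, 7, 57), (16, 19, 0), (117, 16, 0), (56, 9, 41)],
  [(6, 7, 7), (110, 13, 39), (66, 15, 37), (12, 8, 110), (56, 2, 37), (115, 10, 38), (81, 7, 1), (113, 2, 112), (64, 19, 15), (99, 4, 38), (117, 12, 14), (88, 18, 41), (99, 11, 75), (15, 13, 20), (36, 9, 12), (55, 4, 108), (65, 8, 68), (44, 4, 115), (31, 4, 92), (62, 16, 11), (75, 18, 55), (28, 14, 36), (101, 11, 36), (51, 13, 45), (87, 18, 37), (58, 9, 50), (63, 6, 15), (41, 6, 5), (69, 13, 95), (61, 3, 3), (53, 4, 106), (31, 6, 9), (88, 16, 39), (22, 2, 43), (110, 11, 22), (77, 7, 46), (77, 8, 74), (78, 11, 67), (102, 2, 108), (88, 9, 75), (82, 19, 22), (43, 8, 15), (90, 8, 19), (61, 2, 115), (64, 4, 95), (39, 9, 15), (85,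 8, 101), (97, 13, 59), (34, 4, 20), (80, 2, 22), (49, 16, 47), (96, 7, 67), (117, 8, 20), (58, 17, 45), (105, 11, 52), (53, 6, 43), (48, 3, 1), (100, 13, 84), (48, 7, 97), (104, 10, 40), (1, 7, 100), (17, 8, 106), (40, 2, 23), (33, 8, 11), (90, 13, 73), (64, 15, 34), (19, 12, 48), (71, 11, 71), (94, 2, 30), (38, 14, 35), (97, 15, 26), (57, 4, 119), (100, 2, 16), (58, 2, 93), (95, 11, 50), (81, 17, 43), (5, 11, 88), (79, 8, 22), (29, 4, 15), (26, 8, 67), (10, 7, 79), (100, 6, 39), (3, 17, 37), (62, 4, 4), (81, 2, 78), (6, 17, 47), (107, 13, 75), (50, 11, 99), (43, 16, 30), (92, 6, 52), (112, 15, 6), (108, 2, 12), (3, 2, 32), (54, 4, 88), (14, 20, 1), (18, 2, 84), (50, 13, 37), (104, 12, 19), (75, 10, 57), (78, 2, 60),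 (48, 2, 110), (103, 2, 44), (27, 14, 48), (52, 2, 90), (36, 16, 54), (27, 19, 29), (45, 2, 53), (63, 13, 111), (4, 10, 49), (29, 11, 108), (59, 6, 26), (113, 14, 59), (112, 6, 1), (39, 2, 25), (12, 12, 1), (2, 18, 22), (97, 19, 39), (43, 12, 52), (95, 9, 106), (77, 19, 25)],
  [(3, 8, 7), (70, 4, 81), (89, 8, 3), (25, 13, 47), (90, 19, 37), (49, 8, 25), (66, 9, 39), (0, 3, 7), (93, 7, 53), (67, 7, 36), (62, 9, 5), (41, 8, 4), (116, 7, 75), (59, 2, 27), (35, 11, 28), (34, 15, 11), (108, 16, 42), (22, 9, 14), (62, 16, 44), (92, 6, 19), (8, 13, 98), (111, 13, 117), (114, 4, 97), (30, 17, 6), (23, 9, 37), (42, 7, 43), (88, 16, 6), (25, 11, 11), (37, 7, 18), (36, 14, 40), (63, 14, 17), (27, 11, 89), (33, 21, 10), (12, 8,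 13), (19, 11, 111), (56, 9, 45), (11, 12, 32), (2, 9, 101), (14, 4, 56), (77, 7, 77), (36, 7, 44), (61, 13, 104), (71, 10, 55), (56, 8, 21), (115, 17, 17), (4, 16, 27), (16, 11, 119), (38, 8, 63), (31, 6, 50), (77, 13, 31), (19, 10, 56), (115, 9, 9), (66, 11, 20), (70, 1, 3), (84, 16, 46), (53, 17, 44), (107, 6, 59), (79, 13, 108), (59, 7, 80), (53, 6, 4), (6, 8, 100), (38, 12, 35), (33, 13, 50), (15, 12, 34), (45, 7, 96), (49, 5, 9), (81, 4, 54), (40, 15, 46), (8, 19, 31), (84, 9, 83), (45, 18, 26), (58, 16, 16), (111, 18, 51), (117, 13, 62), (107, 4, 1), (75, 11, 64), (85, 7, 35), (83, 9, 16), (42, 14, 24), (64, 11, 93), (63, 18, 0), (84, 8, 104), (36, 4, 49), (71, 9, 51), (63, 13, 0), (73, 4, 31), (60, 4, 112), (77,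 16, 2), (34, 14, 15), (104, 12, 40), (57, 19, 5), (110, 2, 31), (117, 6, 30), (96, 2, 119), (47, 19, 44), (68, 19, 49), (0, 18, 21), (55, 11, 115), (32, 11, 8), (72, 19, 47), (91, 4, 57), (102, 3, 13), (99, 13, 64), (92, 14, 11), (104, 1, 6), (40, 4, 116), (119, 18, 52), (23, 2, 62), (1, 12, 46), (95, 13, 80), (0, 2, 98), (16, 10, 54), (49, 6, 46), (52, 4, 73), (116, 14, 38), (59, 13, 81), (70, 19, 42), (85, 14, 21), (84, 7, 2), (53, 13, 66)],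
  [(2, 9, 7), (77, 14, 7), (94, 2, 85), (59, 18, 25), (62, 8, 30), (62, 9, 4), (103, 4, 39), (0, 6, 7), (101, 7, 95), (119, 9, 38), (115, 16, 14), (100, 13, 82), (116, 4, 75), (85, 19, 26), (58, 18, 2), (109, 19, 32), (119, 14, 41), (98, 13, 76), (82, 12, 22), (91, 11, 66), (17, 7, 48), (15, 4, 12), (112, 8, 97), (69, 11, 116), (18, 11, 90), (56, 14, 33), (95, 10, 1), (64, 16, 43), (29, 18, 56), (58, 20, 10), (5, 13, 10), (16, 16, 38), (32, 17, 10), (105, 10, 24), (98, 9, 22), (31, 11, 6), (17, 11, 79), (5, 11, 101), (34, 2, 52), (104, 17, 2), (95, 7, 110), (103, 18, 39), (84, 2, 28), (69, 10, 15), (11, 4, 19), (7, 12, 29), (78, 13, 34), (55, 4, 52), (22, 8, 78), (9, 13, 91), (83, 6, 57), (113, 4, 9), (74, 7, 74), (38,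 6, 51), (56, 6, 25), (12, 1, 11), (6, 2, 71), (76, 2, 113), (29, 19, 50), (93, 16, 52), (5, 9, 100), (105, 11, 86), (23, 13, 101), (33, 11, 37), (8, 18, 57), (24, 14, 8), (50, 16, 37), (31, 4, 61), (83, 13, 25), (76, 17, 0), (76, 3, 6), (83, 12, 24), (83, 11, 68), (98, 17, 49), (99, 8, 1), (72, 13, 107), (2, 8, 88), (29, 10, 23), (0, 13, 40), (104, 13, 63), (85, 13, 5), (90, 4, 55), (86, 4, 48), (89, 2, 86), (90, 15, 29), (53, 4, 68), (91, 9, 85), (43, 6, 14), (23, 8, 71), (95, 15, 33), (61, 4, 96), (99, 6, 12), (66, 2, 39), (11, 2, 87), (104, 7, 11), (38, 8, 46), (68, 8, 36), (71, 8, 109), (105, 13, 119), (13, 13, 3), (12, 2, 101), (49, 6, 18), (62, 4, 99), (24, 4, 47), (105, 12, 44), (57, 15, 24), (13, 11, 19), (57,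 19, 3), (3, 14, 45), (12, 8, 70), (114, 2, 111), (35, 12, 58), (110, 6, 58), (77, 9, 98), (116, 10, 41), (71, 10, 25), (119, 19, 1), (62, 10, 18), (78, 17, 8), (88, 2, 57)],
  [(39, 2, 45), (91, 10, 6), (43, 12, 27), (19, 12, 39), (2, 18, 16), (52, 2, 36), (95, 9, 29), (5, 6, 6), (86, 11, 56), (99, 6, 42), (71, 9, 117), (71, 4, 16), (72, 9, 119), (112, 7, 4), (108, 13, 55), (5, 2, 61), (113, 15, 31), (105, 9, 104), (73, 14, 34), (69, 4, 11), (45, 6, 40), (100, 2, 99), (8, 16, 49), (89, 13, 23), (22, 3, 15), (76, 18, 44), (71, 8, 18), (2, 9, 36), (99, 8, 99), (62, 19, 18), (83, 13, 86), (91, 11, 54), (33, 11, 96), (24, 16, 56), (81, 1, 2), (73, 9, 63), (73, 11, 83), (62, 9, 115), (99, 11, 30), (52, 16, 17), (15, 11, 25),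 (73, 17, 39), (113, 10, 51), (41, 14, 13), (103, 15, 30), (29, 8, 94), (25, 2, 13), (4, 7, 116), (31, 4, 35), (28, 13, 61), (38, 10, 20), (106, 4, 33), (15, 4, 80), (97, 7, 113), (109, 12, 43), (35, 2, 38), (88, 2, 41), (71, 14, 5), (62, 14, 3), (58, 7, 27)],
  [(4, 11, 7), (27, 9, 46), (33, 4, 117), (24, 13, 24), (91, 4, 24), (118, 16, 35), (113, 11, 39), (101, 6, 48), (45, 20, 2), (108, 7, 38), (66, 10, 13), (72, 10, 59), (99, 8, 75), (27, 4, 110), (21, 13, 6), (32, 8, 113), (108, 10, 44), (80, 17, 3), (101, 15, 41), (14, 8, 48), (93, 17, 22), (92, 17, 46), (108, 11, 97), (58, 18, 31), (71, 7, 58), (30, 8, 59), (76, 1, 9), (19, 15, 22), (69, 9, 40), (95, 19, 21), (78, 4, 101), (71, 15, 38), (71, 12, 33), (52, 11, 104),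 (118, 4, 22), (12, 13, 26), (36, 15, 58), (5, 7, 101), (47, 13, 79), (70, 18, 54), (105, 20, 9), (60, 13, 100), (0, 18, 40), (89, 11, 63), (58, 2, 114), (6, 14, 30), (76, 2, 68), (34, 2, 100), (29, 12, 38), (91, 10, 29), (83, 17, 30), (110, 11, 9), (66, 7, 20), (12, 21, 1), (32, 12, 6), (105, 12, 9), (119, 2, 105), (31, 8, 87), (78, 7, 88), (54, 21, 7), (7, 11, 100), (25, 15, 7), (57, 10, 14), (106, 15, 14), (68, 9, 32), (11, 19, 12), (8, 6, 22), (81, 6, 34), (97, 8, 52), (83, 2, 14), (49, 14, 37), (48, 15, 3), (93, 13, 32), (19, 4, 2), (111, 11, 1), (105, 7, 49), (5, 9, 88), (39, 7, 9), (36, 4, 13), (14, 2, 83), (36, 9, 77), (105, 16, 41), (80, 9, 71), (107, 13, 57), (64, 8, 80), (105, 9, 44), (53, 2, 97), (44, 12,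 18), (42, 9, 43), (75, 4, 53), (32, 13, 116), (3, 2, 35), (106, 6, 49), (14, 19, 14), (95, 7, 39), (71, 4, 42), (32, 11, 16), (42, 16, 22), (49, 13, 17), (29, 8, 38), (29, 13, 54), (102, 6, 2), (27, 17, 1), (91, 9, 28), (52, 6, 37), (51, 2, 46), (78, 13, 70), (54, 4, 74), (13, 9, 92), (40, 10, 30), (117, 3, 2), (20, 7, 31), (117, 2, 103), (91, 17, 16), (60, 8, 35), (50, 2, 75), (19, 7, 83), (24, 8, 51), (83, 18, 34), (0, 15, 59)],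
  [(52, 4, 87), (32, 11, 49), (85, 14, 16), (81, 4, 37), (59, 13, 93), (92, 14, 32), (84, 7, 119), (0, 2, 6), (60, 13, 19), (1, 6, 16), (54, 17, 48), (2, 15, 1), (53, 11, 31), (104, 17, 27), (65, 11, 72), (102, 4, 59), (66, 6, 17), (29, 8, 43), (115, 6, 44), (20, 15, 2), (105, 11, 102), (50, 8, 77), (95, 18, 10), (118, 14, 54), (58, 8, 57), (86, 20, 12), (3, 4, 36), (112, 9, 99), (60, 7, 51), (115, 15, 54), (40, 16, 26), (39, 21, 0), (112, 2, 21), (13, 7, 30), (100, 12, 59), (74, 11, 14), (7, 9, 95), (84, 2, 3), (53, 8, 44), (119, 13, 2), (68, 9, 24), (40, 15, 40), (29, 10, 2), (1, 8, 116), (62, 16, 9), (73, 2, 102), (77, 10, 28), (29, 7, 103), (13, 2, 4), (76, 9, 42), (0, 17, 20), (79, 12, 17), (88, 13, 11), (31, 12,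 13), (42, 9, 33), (103, 16, 36), (115, 7, 115), (22, 2, 54), (115, 10, 3), (38, 13, 115)],
  [(0, 15, 0), (54, 11, 48), (69, 9, 111), (98, 12, 42), (85, 9, 79), (83, 14, 25), (69, 17, 11), (94, 8, 93), (28, 19, 28), (23, 2, 8), (37, 4, 71), (68, 9, 64), (72, 7, 81), (26, 8, 117), (28, 13, 68), (34, 17, 15), (46, 2, 70), (28, 5, 6), (47, 6, 32), (65, 4, 32), (40, 4, 25), (30, 8, 2), (116, 13, 97), (9, 2, 109), (75, 4, 8), (103, 12, 56), (5, 15, 16), (75, 7, 21), (16, 12, 15), (84, 11, 46), (5, 9, 10), (104, 20, 6), (71, 4, 40), (47, 8, 53), (83, 18, 59), (51, 2, 20), (70, 18, 3), (113, 6, 11), (78, 9, 35), (79, 18, 53), (14, 2, 24), (16, 21, 5), (82, 18, 47), (58, 9, 80), (87, 10, 47), (13, 7, 19), (78, 16, 19), (23,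 19, 56), (102, 16, 33), (19, 11, 60), (104, 18, 14), (117, 13, 9), (118, 7, 85), (60, 16, 59), (15, 3, 19), (53, 17, 58), (116, 8, 105), (103, 17, 4), (20, 19, 43), (38, 16, 1), (16, 11, 53), (27, 15, 17), (98, 19, 57), (87, 4, 83), (87, 13, 48), (92, 9, 54), (53, 1, 12), (20, 16, 5), (66, 8, 55), (78, 11, 40), (32, 13, 69), (55, 11, 2), (43, 11, 32), (6, 18, 38), (108, 7, 6), (96, 2, 50), (23, 9, 56), (4, 14, 27), (41, 11, 113), (95, 8, 83), (61, 11, 34), (56, 17, 42), (104, 19, 52), (79, 14, 51), (26, 12, 5), (68, 10, 36), (51, 17, 5), (77, 8, 54), (20, 7, 16), (118, 11, 109), (46, 9, 25), (66, 5, 8), (1, 10, 27), (46, 7, 89), (42, 8, 56), (51, 7, 92), (42, 4, 18), (31, 5, 2), (105, 14, 6), (94, 7, 112), (105, 2, 55),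 (119, 9, 78), (110, 10, 8), (44, 8, 114), (79, 2, 81), (37, 7, 68), (0, 9, 17), (8, 17, 32), (32, 11, 82), (69, 1, 7), (0, 4, 98), (119, 2, 95), (15, 9, 52), (8, 8, 12), (105, 9, 113), (113, 8, 47), (67, 8, 89), (56, 12, 51), (14, 17, 28), (51, 3, 10)],
  [(77, 9, 6), (105, 13, 113), (62, 10, 48), (87, 16, 8), (71, 10, 53), (24, 4, 90), (90, 17, 35), (114, 2, 66), (34, 8, 37), (117, 6, 54), (46, 14, 46), (69, 19, 4), (54, 2, 65), (75, 18, 18), (56, 7, 70), (55, 9, 91), (103, 2, 17), (91, 8, 10), (36, 4, 105), (91, 5, 11), (10, 15, 49), (35, 4, 86), (83, 11, 95), (9, 8, 66), (4, 13, 36), (76, 4, 109), (51, 20, 3), (33, 8, 17), (31, 7, 55), (111, 7, 99), (26, 2, 69), (83, 14, 31), (34, 6, 56), (79, 3, 4), (15, 18, 36),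 (116, 4, 30), (17, 8, 26), (88, 9, 116), (67, 13, 109), (38, 9, 11), (87, 7, 47), (106, 2, 47), (56, 19, 24), (68, 13, 4), (93, 12, 11), (29, 11, 69), (108, 16, 32), (15, 14, 19), (83, 2, 56), (102, 15, 39), (9, 12, 4), (117, 8, 119), (49, 10, 39), (56, 2, 49), (37, 17, 55), (85, 8, 115), (40, 10, 37), (85, 12, 3), (98, 9, 96), (89, 17, 56)],
  [(30, 11, 44), (115, 7, 82), (96, 11, 24), (77, 12, 28), (60, 6, 33), (95, 17, 21), (2, 12, 23), (0, 13, 7), (42, 2, 51), (55, 15, 51), (101, 2, 34), (86, 9, 73), (13, 19, 30), (45, 18, 8), (88, 14, 49), (12, 4, 28), (116, 20, 5), (45, 19, 58), (52, 2, 10), (79, 13, 29), (42, 20, 19), (117, 1, 4), (11, 18, 50), (99, 4, 64), (34, 8, 8), (75, 7, 69), (37, 17, 19), (26, 16, 53),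 (96, 12, 57), (1, 5, 5), (9, 10, 32), (4, 4, 21), (37, 9, 93), (85, 7, 3), (21, 16, 55), (9, 18, 49), (52, 16, 10), (18, 9, 57), (67, 14, 9), (106, 11, 43), (53, 19, 41), (18, 20, 18), (77, 11, 42), (30, 4, 103), (110, 17, 57), (40, 13, 44), (96, 8, 58), (86, 18, 20), (101, 7, 91), (23, 11, 87), (24, 15, 21), (97, 4, 111), (79, 17, 51), (66, 4, 84), (8, 11, 114), (17, 11, 77), (38, 10, 33), (29, 11, 59), (115, 19, 10), (54, 12, 36)],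
  [(104, 4, 58), (74, 8, 29), (57, 16, 31), (77, 8, 31), (50, 13, 58), (28, 17, 23), (56, 13, 27), (106, 6, 27), (11, 18, 6), (0, 3, 12), (20, 4, 77), (60, 2, 72), (77, 10, 43), (17, 7, 33), (107, 11, 4), (28, 14, 2), (49, 6, 3), (92, 6, 13), (49, 12, 54), (36, 15, 48), (8, 10, 11), (62, 7, 28), (13, 2, 116), (77, 19, 13), (33, 11, 51), (47, 15, 44), (93, 7, 37), (77, 4, 44), (42, 4, 43), (30, 9, 59), (83, 12, 16), (74, 4, 41), (2, 2, 18), (59, 17, 54), (4, 8, 95), (112, 9, 30), (105, 11, 13), (85, 10, 16), (104, 17, 50), (43, 9, 27), (110, 14, 47), (114, 12, 37), (16, 13, 41), (97, 2, 96), (98, 15, 10), (86, 18, 7), (41, 7, 94), (12, 8, 49), (87, 9, 87), (101, 4, 14), (14, 16, 28), (86, 16, 3), (74, 7, 72), (35, 8,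 42), (111, 21, 8), (78, 13, 35), (20, 9, 103), (102, 13, 14), (104, 8, 24), (110, 8, 96)],
  [(8, 2, 92), (25, 8, 92), (18, 11, 78), (58, 9, 74), (51, 13, 85), (114, 13, 89), (31, 11, 55), (82, 9, 70), (80, 4, 79), (90, 15, 25), (43, 11, 12), (112, 8, 61), (69, 10, 12), (78, 9, 110), (33, 18, 24), (89, 17, 34), (62, 4, 29), (13, 13, 1), (66, 12, 53), (24, 4, 10), (109, 15, 36), (91, 16, 48), (32, 9, 72), (12, 2, 79), (6, 7, 86), (91, 11, 98), (87, 16, 4), (76, 3, 9), (67, 15, 13), (31, 2, 104), (8, 13, 112), (94, 2, 59), (68, 11, 94), (48, 18, 33), (34, 13, 8), (63, 7, 52), (21, 12, 25), (35, 14, 44), (20, 1, 1), (56, 21, 2), (44, 13, 102), (82, 4, 17), (110, 4, 85), (78, 14, 1), (93, 16, 57), (119, 9, 105), (89, 14,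 29), (54, 6, 31), (67, 6, 36), (104, 7, 41), (95, 15, 4), (35, 13, 110), (38, 13, 13), (16, 18, 29), (61, 8, 102), (46, 7, 90), (9, 11, 47), (0, 12, 26), (88, 2, 73), (38, 19, 9)],
  [(57, 16, 23), (11, 16, 15), (70, 13, 77), (104, 9, 48), (39, 6, 24), (41, 4, 104), (27, 4, 46), (94, 8, 79), (106, 4, 113), (0, 8, 16), (10, 2, 26), (42, 17, 53), (57, 15, 43), (98, 8, 40), (114, 9, 53), (65, 15, 52), (113, 19, 16), (118, 18, 32), (47, 6, 53), (58, 10, 5), (7, 5, 12), (81, 21, 11), (8, 9, 68), (25, 4, 63), (89, 2, 58), (65, 8, 69), (26, 9, 2), (95, 12, 49), (106, 11, 18), (48, 18, 45), (61, 18, 30), (19, 9, 19), (60, 17, 14), (8, 7, 71), (63, 6, 8), (97, 14, 52), (24, 10, 10), (77, 17, 41), (108, 15, 18), (58, 13, 94),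 (107, 3, 16), (102, 19, 7), (103, 7, 25), (76, 13, 18), (48, 14, 56), (16, 2, 67), (103, 4, 89), (62, 20, 16), (86, 11, 110), (17, 13, 105), (113, 8, 32), (11, 15, 57), (84, 2, 40), (3, 13, 74), (86, 13, 38), (72, 2, 9), (104, 11, 92), (2, 7, 117), (97, 7, 12), (51, 11, 74)],
  [(116, 18, 42), (59, 2, 48), (86, 9, 112), (114, 4, 67), (86, 8, 82), (13, 14, 23), (98, 9, 108), (60, 6, 41), (61, 19, 8), (95, 11, 26), (14, 4, 34), (94, 2, 15), (30, 4, 3), (49, 11, 84), (81, 16, 45), (64, 13, 56), (44, 3, 11), (85, 5, 3), (77, 7, 114), (11, 11, 91), (21, 20, 14), (9, 17, 29), (3, 8, 50), (85, 9, 81), (37, 15, 28), (62, 10, 31), (33, 4, 50), (112, 15, 55), (8, 13, 15), (105, 9, 8), (28, 19, 33), (117, 6, 23), (15, 7, 73), (107,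 15, 20), (50, 13, 67), (101, 6, 21), (67, 6, 10), (72, 2, 117), (84, 5, 10), (33, 15, 45), (41, 19, 54), (38, 14, 53), (31, 8, 111), (117, 2, 80), (111, 7, 106), (7, 19, 48), (37, 4, 60), (112, 8, 108), (71, 4, 93), (19, 9, 67), (83, 8, 45), (37, 8, 5), (72, 3, 5), (95, 18, 19), (80, 19, 46), (87, 8, 64), (53, 13, 21), (119, 7, 15), (75, 7, 108), (58, 13, 90)],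
  [(14, 2, 82), (58, 13, 87), (51, 14, 18), (65, 11, 15), (75, 15, 19), (87, 2, 64), (35, 7, 50), (6, 2, 5), (93, 2, 91), (103, 11, 106), (39, 9, 26), (6, 20, 8), (84, 4, 91), (103, 2, 76), (59, 18, 43), (89, 12, 10), (72, 19, 35), (97, 15, 42), (90, 3, 14), (72, 15, 12)],
  [(77, 11, 41), (97, 12, 45), (116, 2, 89), (38, 17, 12), (35, 4, 94), (88, 18, 9), (30, 4, 102), (42, 8, 72), (38, 6, 35), (37, 16, 13), (21, 11, 27), (77, 13, 53)]]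

/-- Orders of the products `r * s`. -/
def WC : List (List ℕ) := [
  [1, 2, 2, 2, 2, 2, 2, 2, 2, 10, 2, 2, 10, 10, 10, 3, 10, 3, 5, 6, 10, 3, 2, 2, 10, 5, 10, 6, 10, 6, 5, 6, 2, 5, 2, 10, 3, 5, 6, 5, 6, 5, 5, 10, 3, 5, 6, 5, 6, 5, 10, 2, 2, 3, 3, 10, 6, 10, 5, 10, 10, 5, 2, 10, 2, 5, 6, 5, 5, 10, 2, 2, 3, 6, 3, 5, 3, 2, 2, 5, 5, 2, 3, 5, 10, 2, 10, 10, 3, 2, 5, 2, 10, 10, 10, 2, 6, 5, 6, 6, 6, 5, 2, 6, 5, 2, 2, 3, 3, 2, 3, 6, 3, 6, 6, 3, 3, 3, 3, 6],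
  [7, 7, 7, 7, 7, 7, 7, 7, 6, 15, 15, 10, 19, 15, 6, 11, 10, 6, 6, 15, 5, 15, 10, 15, 10, 15, 10, 10, 7, 15, 7, 7, 19, 6, 19, 6, 19, 15, 5, 6, 19, 15, 11, 11, 10, 10, 15, 10, 10, 7, 19, 15, 7, 7, 15, 6, 11, 10, 19, 15, 15, 15, 6, 6, 6, 6, 6, 5, 15, 6, 10, 6, 5, 6, 15, 15, 10, 5, 11, 19, 5, 6, 6, 6, 11, 7, 15, 15, 6, 15, 10, 15, 7, 6, 5, 6, 6, 10, 6, 3, 6, 6, 15, 3, 11, 11, 5, 3, 6, 10, 6, 3, 3, 3, 6, 6, 6, 3, 3, 6],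
  [5, 10, 19, 10, 10, 19, 19, 2, 19, 7, 19, 19, 10, 7, 6, 15, 6, 15, 19, 10, 15, 5, 6, 6, 11, 10, 3, 6, 3, 6, 19, 10, 19, 19, 10, 7, 15, 15, 7, 15, 5, 6, 6, 11, 5, 15, 6, 10, 6, 10, 11, 19, 19, 15, 15, 7, 19, 19, 6, 19, 7, 6, 10, 7, 6, 10, 15, 19, 6, 15, 10, 10, 15, 15, 19, 7, 19, 19, 19, 6, 6, 10, 6, 19, 7, 10, 6, 19, 6, 10, 6, 7, 15, 15, 10, 7, 6, 10, 7, 7, 6, 6, 10, 15, 19, 15, 15, 15, 7, 6, 6, 15, 6, 15, 15, 7, 7, 15, 7, 15],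
  [10, 19, 19, 19, 10, 10, 5, 2, 15, 10, 15, 15, 19, 6, 7, 10, 7, 10, 15, 11, 11, 7, 19, 19, 10, 5, 7, 11, 7, 11, 2, 11, 15, 19, 7, 15, 2, 15, 3, 15, 19, 15, 7, 11, 7, 10, 19, 10, 19, 10, 11, 19, 19, 19, 19, 3, 6, 3, 19, 15, 15, 15, 7, 19, 19, 2, 15, 19, 10, 19, 11, 11, 5, 10, 19, 10, 19, 10, 10, 7, 19, 11, 15, 5, 19, 19, 19, 15, 15, 19, 10, 7, 6, 11, 19, 7, 19, 10, 7, 7, 19, 10, 11, 7, 15, 15, 15, 15, 15, 19, 6, 7, 6, 7, 7, 15, 15, 15, 15, 15],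
  [5, 5, 19, 5, 5, 19, 19, 2, 15, 7, 11, 11, 5, 19, 3, 11, 3, 10, 7, 15, 19, 11, 19, 19, 19, 19, 6, 7, 6, 7, 10, 15, 15, 10, 10, 11, 10, 6, 10, 6, 11, 19, 7, 15, 11, 15, 10, 10, 10, 10, 15, 6, 6, 7, 7, 6, 11, 3, 10, 10, 11, 19, 10, 11, 6, 6, 6, 10, 3, 15, 7, 10, 11, 15, 6, 11, 6, 15, 15, 7, 10, 7, 10, 19, 11, 7, 19, 10, 10, 7, 11, 6, 15, 19, 5, 6, 19, 19, 10, 10, 19, 11, 10, 10, 7, 10, 10, 10, 15, 6, 6, 10, 6, 7, 7, 15, 19, 10, 19, 6],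
  [7, 7, 7, 7, 7, 7, 7, 7, 6, 19, 5, 19, 6, 15, 15, 6, 15, 6, 10, 11, 6, 6, 11, 6, 7, 11, 6, 6, 19, 5, 6, 19, 10, 10, 15, 7, 10, 7, 10, 10, 15, 19, 15, 10, 5, 10, 10, 5, 15, 11, 6, 11, 6, 11, 19, 15, 6, 11, 6, 5, 10, 6, 6, 15, 15, 15, 3, 6, 15, 10, 7, 10, 15, 6, 7, 5, 15, 15, 6, 6, 6, 15, 15, 7, 10, 5, 6, 11, 10, 19, 15, 15, 5, 15, 6, 7, 15, 19, 3, 3, 7, 15, 15, 6, 15, 6, 10, 3, 3, 10, 6, 6, 6, 6, 3, 6, 6, 3, 3, 6],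
  [10, 10, 2, 19, 10, 5, 19, 19, 6, 10, 15, 19, 10, 7, 3, 3, 19, 3, 6, 5, 6, 19, 15, 15, 10, 6, 6, 19, 6, 10, 15, 15, 11, 7, 10, 19, 11, 5, 5, 3, 5, 19, 7, 6, 2, 15, 10, 19, 5, 6, 10, 15, 19, 10, 3, 7, 7, 10, 19, 6, 11, 6, 5, 15, 11, 7, 15, 7, 7, 10, 7, 6, 11, 7, 19, 15, 11, 6, 11, 7, 19, 6, 19, 15, 19, 15, 10, 6, 11, 15, 5, 19, 10, 10, 11, 11, 10, 6, 6, 15, 5, 19, 7, 15, 19, 10, 5, 15, 7, 19, 15, 6, 15, 7, 15, 7, 7, 15, 7, 7],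
  [11, 6, 19, 10, 10, 5, 7, 19, 10, 15, 7, 19, 7, 5, 10, 11, 10, 15, 19, 6, 5, 11, 11, 19, 15, 3, 15, 11, 10, 19, 10, 10, 6, 11, 15, 19, 10, 5, 15, 6, 19, 11, 7, 7, 11, 6, 3, 19, 19, 7, 19, 10, 19, 2, 6, 7, 7, 10, 6, 6, 10, 10, 3, 10, 11, 7, 3, 6, 7, 10, 15, 6, 15, 5, 7, 10, 5, 10, 7, 15, 6, 10, 6, 7, 11, 15, 11, 10, 7, 6, 15, 7, 10, 3, 11, 15, 6, 15, 15, 11, 15, 11, 19, 15, 6, 10, 6, 19, 7, 10, 7, 10, 15, 19, 15, 7, 7, 11, 10, 3],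
  [11, 5, 6, 19, 10, 10, 19, 7, 15, 19, 19, 19, 10, 10, 7, 19, 10, 6, 6, 11, 11, 10, 7, 6, 11, 7, 7, 10, 11, 10, 7, 19, 10, 10, 19, 10, 19, 7, 19, 11, 10, 10, 6, 11, 6, 5, 15, 11, 10, 15, 6, 7, 15, 10, 15, 10, 10, 7, 10, 10, 6, 19, 19, 19, 10, 6, 10, 19, 10, 10, 10, 15, 11, 11, 7, 3, 6, 10, 19, 15, 7, 19, 11, 15, 7, 7, 19, 5, 15, 6, 6, 7, 15, 2, 10, 7, 19, 5, 19, 15, 11, 19, 19, 15, 6, 10, 19, 15, 7, 5, 6, 19, 3, 10, 11, 6, 10, 10, 7, 7],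
  [11, 10, 7, 6, 10, 19, 5, 19, 19, 19, 7, 19, 15, 7, 19, 19, 10, 7, 6, 5, 3, 19, 11, 6, 19, 7, 19, 10, 10, 19, 5, 10, 2, 10, 5, 6, 15, 7, 10, 5, 10, 15, 19, 19, 15, 6, 19, 19, 10, 5, 3, 7, 10, 7, 10, 15, 5, 15, 19, 19, 15, 7, 15, 11, 10, 7, 10, 5, 7, 10, 11, 7, 19, 6, 10, 11, 15, 7, 10, 7, 7, 7, 7, 19, 19, 7, 10, 7, 6, 11, 10, 10, 11, 11, 7, 6, 6, 5, 6, 6, 5, 11, 19, 10, 5, 7, 7, 10, 15, 10, 7, 6, 7, 10, 10, 15, 10, 6, 19, 19],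
  [11, 19, 10, 19, 6, 10, 7, 5, 19, 10, 10, 10, 15, 19, 10, 15, 5, 7, 3, 7, 3, 7, 10, 10, 6, 10, 10, 19, 5, 3, 6, 15, 10, 5, 6, 15, 11, 10, 7, 6, 10, 7, 10, 10, 10, 6, 5, 3, 19, 6, 6, 19, 5, 15, 19, 5, 6, 15, 10, 7, 7, 7, 6, 10, 15, 5, 6, 6, 6, 7, 19, 19, 6, 15, 7, 6, 15, 6, 7, 10, 6, 11, 5, 19, 6, 7, 11, 10, 6, 6, 19, 19, 6, 7, 5, 6, 19, 15, 6, 10, 10, 5, 11, 6, 7, 5, 6, 10, 19, 19, 11, 15, 7, 11, 6, 6, 10, 11, 15, 6],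
  [11, 10, 19, 5, 19, 6, 10, 7, 11, 3, 15, 10, 10, 11, 15, 7, 10, 10, 19, 19, 7, 11, 11, 19, 15, 5, 15, 15, 11, 5, 6, 15, 10, 10, 10, 10, 7, 11, 15, 19, 6, 11, 7, 6, 10, 10, 10, 10, 7, 7, 6, 3, 10, 6, 7, 11, 11, 6, 19, 6, 7, 10, 6, 15, 15, 19, 6, 6, 3, 19, 5, 15, 10, 6, 19, 10, 10, 19, 6, 10, 11, 6, 5, 6, 10, 15, 6, 15, 15, 6, 7, 7, 10, 19, 19, 19, 6, 19, 11, 15, 5, 2, 19, 6, 10, 10, 3, 7, 19, 10, 6, 11, 3, 11, 7, 6, 10, 15, 11, 15],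
  [5, 5, 5, 19, 19, 19, 5, 2, 6, 3, 6, 6, 15, 6, 19, 19, 19, 5, 15, 11, 10, 6, 7, 7, 5, 19, 15, 10, 15, 10, 5, 11, 6, 6, 6, 6, 3, 7, 5, 7, 3, 11, 6, 15, 6, 7, 7, 15, 7, 15, 15, 19, 19, 6, 6, 10, 19, 2, 10, 10, 6, 11, 6, 15, 6, 5, 11, 6, 15, 19, 15, 11, 15, 5, 15, 10, 15, 3, 3, 6, 10, 15, 6, 10, 15, 7, 10, 10, 6, 7, 6, 19, 19, 10, 15, 19, 15, 7, 10, 10, 15, 6, 11, 19, 15, 11, 11, 7, 15, 6, 3, 19, 3, 15, 15, 15, 7, 7, 7, 11],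
  [6, 10, 11, 7, 19, 15, 11, 2, 11, 10, 3, 3, 11, 10, 7, 19, 7, 6, 7, 5, 5, 10, 7, 7, 15, 10, 10, 7, 10, 7, 19, 5, 11, 6, 10, 19, 3, 11, 6, 11, 7, 7, 15, 6, 10, 10, 10, 6, 10, 6, 6, 7, 7, 7, 7, 7, 15, 19, 10, 19, 19, 7, 10, 5, 5, 19, 10, 6, 11, 19, 7, 11, 15, 19, 7, 15, 7, 5, 5, 15, 10, 7, 19, 19, 5, 15, 15, 19, 19, 15, 19, 10, 19, 5, 11, 10, 10, 10, 10, 10, 10, 19, 11, 19, 7, 6, 6, 6, 19, 5, 7, 19, 7, 5, 5, 19, 10, 6, 10, 10],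
  [6, 10, 7, 19, 5, 10, 19, 11, 7, 11, 5, 6, 10, 6, 6, 19, 7, 5, 6, 5, 7, 5, 7, 5, 6, 15, 5, 7, 10, 19, 6, 6, 19, 7, 15, 15, 10, 6, 7, 15, 6, 5, 6, 10, 6, 10, 7, 6, 10, 7, 5, 19, 10, 19, 6, 6, 10, 19, 15, 19, 10, 15, 19, 11, 6, 7, 15, 3, 6, 5, 6, 5, 10, 10, 10, 19, 5, 10, 15, 7, 6, 15, 10, 19, 15, 15, 11, 19, 6, 10, 11, 7, 19, 10, 6, 10, 3, 19, 6, 6, 6, 7, 10, 10, 10, 7, 3, 15, 6, 3, 10, 6, 11, 6, 6, 7, 11, 10, 19, 11],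
  [19, 19, 7, 6, 19, 15, 11, 7, 15, 10, 19, 10, 15, 19, 7, 19, 5, 6, 15, 6, 6, 15, 10, 11, 11, 2, 15, 15, 6, 11, 19, 10, 19, 10, 19, 19, 19, 6, 15, 5, 6, 19, 10, 10, 10, 6, 19, 6, 10, 6, 19, 15, 19, 7, 15, 6, 19, 6, 6, 10, 6, 5, 11, 7, 5, 10, 19, 6, 19, 10, 6, 19, 15, 7, 6, 15, 15, 6, 5, 15, 15, 10, 15, 19, 6, 19, 19, 6, 19, 10, 19, 10, 6, 10, 3, 6, 7, 15, 10, 5, 6, 10, 10, 11, 2, 7, 5, 6, 10, 5, 19, 19, 10, 10, 6, 19, 15, 6, 19, 6],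
  [11, 7, 10, 19, 10, 6, 5, 19, 6, 10, 7, 6, 19, 15, 6, 6, 6, 11, 11, 10, 10, 7, 11, 7, 15, 11, 6, 10, 10, 5, 7, 6, 10, 11, 6, 6, 19, 6, 10, 6, 6, 6, 7, 15, 10, 19, 3, 15, 6, 10, 7, 5, 6, 19, 15, 11, 10, 19, 6, 6, 10, 15, 10, 7, 11, 10, 15, 19, 6, 11, 7, 10, 7, 6, 15, 5, 10, 15, 19, 6, 3, 19, 10, 5, 19, 11, 19, 5, 10, 19, 7, 10, 5, 15, 11, 10, 19, 5, 7, 11, 10, 3, 7, 6, 7, 6, 10, 19, 7, 10, 10, 7, 15, 10, 3, 10, 10, 6, 19, 15],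
  [10, 3, 19, 7, 7, 7, 7, 10, 10, 19, 7, 10, 5, 10, 10, 7, 10, 6, 7, 11, 11, 7, 19, 7, 6, 7, 7, 19, 10, 7, 15, 3, 19, 10, 10, 15, 19, 11, 19, 7, 15, 19, 10, 15, 11, 11, 10, 11, 11, 10, 7, 15, 15, 3, 6, 3, 7, 6, 6, 10, 11, 7, 6, 15, 15, 19, 6, 15, 3, 11, 6, 15, 19, 7, 11, 15, 15, 11, 6, 7, 6, 15, 3, 10, 15, 6, 5, 10, 10, 6, 6, 6, 10, 10, 7, 6, 10, 6, 6, 15, 15, 10, 10, 7, 10, 11, 19, 19, 15, 15, 6, 6, 15, 6, 15, 5, 6, 10, 5, 6],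
  [10, 7, 5, 15, 6, 6, 7, 5, 19, 19, 7, 19, 5, 19, 6, 10, 7, 10, 7, 10, 10, 3, 10, 6, 6, 5, 15, 6, 3, 10, 7, 11, 6, 6, 7, 6, 11, 6, 6, 10, 11, 6, 11, 10, 6, 10, 6, 19, 15, 10, 15, 15, 7, 10, 15, 10, 15, 10, 11, 3, 7, 11, 19, 10, 7, 6, 19, 10, 19, 7, 10, 7, 15, 11, 15, 11, 10, 7, 15, 3, 6, 3, 19, 7, 19, 15, 11, 15, 15, 10, 15, 10, 6, 10, 15, 19, 6, 11, 6, 11, 7, 3, 7, 15, 6, 19, 15, 7, 10, 7, 15, 11, 7, 6, 7, 15, 10, 15, 6, 10],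
  [6, 19, 10, 5, 10, 19, 7, 11, 10, 6, 11, 7, 6, 7, 10, 10, 5, 11, 6, 19, 11, 3, 7, 10, 11, 10, 10, 11, 10, 7, 15, 19, 15, 6, 6, 10, 10, 10, 7, 19, 7, 6, 19, 15, 11, 6, 5, 11, 10, 19, 11, 6, 19, 6, 7, 19, 19, 6, 6, 6, 6, 7, 19, 6, 6, 7, 3, 5, 5, 11, 6, 10, 10, 10, 5, 6, 5, 10, 10, 10, 3, 6, 11, 6, 10, 15, 10, 6, 7, 15, 15, 15, 10, 15, 6, 15, 19, 19, 15, 7, 19, 7, 5, 7, 7, 10, 3, 10, 10, 10, 19, 10, 19, 11, 15, 15, 6, 7, 10, 6],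
  [5, 2, 5, 5, 19, 19, 5, 19, 5, 3, 10, 10, 5, 5, 3, 6, 6, 19, 7, 11, 3, 19, 2, 3, 5, 15, 5, 5, 5, 11, 15, 5, 10, 15, 6, 3, 19, 15, 11, 19, 5, 15, 15, 6, 6, 7, 5, 7, 11, 15, 3, 19, 5, 6, 19, 5, 11, 6, 15, 5, 6, 7, 3, 5, 19, 7, 11, 19, 15, 5, 5, 2, 6, 5, 6, 19, 19, 10, 19, 19, 7, 3, 19, 15, 5, 5, 6, 5, 6, 6, 15, 10, 3, 6, 5, 5, 11, 19, 11, 11, 5, 19, 6, 6, 15, 2, 5, 15, 6, 10, 6, 11, 6, 11, 6, 6, 6, 6, 15, 11],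
  [19, 11, 6, 11, 5, 19, 6, 5, 5, 19, 10, 19, 5, 11, 19, 10, 15, 5, 5, 15, 15, 6, 15, 11, 15, 6, 15, 11, 19, 19, 19, 2, 6, 5, 6, 5, 5, 19, 15, 19, 5, 10, 19, 19, 19, 5, 19, 19, 10, 10, 6, 19, 10, 19, 19, 5, 15, 11, 5, 10, 11, 19, 2, 6, 10, 19, 5, 19, 19, 19, 10, 6, 19, 6, 5, 19, 19, 19, 19, 6, 19, 15, 19, 19, 15, 19, 15, 11, 10, 10, 5, 5, 2, 2, 15, 19, 6, 19, 3, 6, 15, 19, 19, 2, 10, 19, 15, 19, 5, 19, 5, 6, 19, 10, 11, 2, 5, 10, 6, 11]]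

/-- Word for the involution. -/
def tw : List Bool := [false, true, false, true, true, true, true]

/-- Word for an element of order 3 in the centraliser. -/
def aw : List Bool := [true, false, true, false, true, true, true, false, false, true, true, true, false, true, false]

/-- Its matrix. -/
def am : M7 := ⟨⟨3, 1, 0, 0, 9, 0, 3⟩, ⟨10, 8, 0, 0, 1, 0, 10⟩, ⟨0, 0, 4, 5, 0, 9, 0⟩, ⟨0, 0, 5, 2, 0, 4, 0⟩, ⟨9, 10, 0, 0, 3, 0, 8⟩, ⟨0, 0, 2, 7, 0, 5, 0⟩, ⟨8, 10, 0, 0, 3, 0, 9⟩⟩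

/-- Word for an element of order 5 in the centraliser. -/
def bw : List Bool := [false, false, false, true, false, true, true, false, true, false, true, true, false, false, false, true]

/-- Its matrix. -/
def bm : M7 := ⟨⟨8, 1, 0, 0, 2, 0, 3⟩, ⟨1, 8, 0, 0, 10, 0, 10⟩, ⟨0, 0, 4, 5, 0, 2, 0⟩, ⟨0, 0, 6, 9, 0, 4, 0⟩, ⟨9, 1, 0, 0, 3, 0, 3⟩, ⟨0, 0, 2, 7, 0, 6, 0⟩, ⟨8, 1, 0, 0, 3, 0, 2⟩⟩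

/-- Word for an element of order 2. -/
def ow2 : List Bool := [false, true, false, true, true, true, true]

/-- Word for an element of order 3. -/
def ow3 : List Bool := [false, false, false, true, false, true, false, true]

/-- Word for an element of order 5. -/
def ow5 : List Bool := [true]

/-- Word for an element of order 6. -/
def ow6 : List Bool := [false, true, true, true]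

/-- Word for an element of order 7. -/
def ow7 : List Bool := [false]

/-- Word for an element of order 10. -/
def ow10 : List Bool := [false, true]

/-- Word for an element of order 11. -/
def ow11 : List Bool := [false, true, true]

/-- Word for an element of order 15. -/
def ow15 : List Bool := [false, false, true, true, false, true, false, true, true]

/-- Word for an element of order 19. -/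
def ow19 : List Bool := [false, false, false, true]

/-- `Slist[i]` (the identity if out of range). -/
def Sget (i : ℕ) : M7 := Slist.getD i one

/-- Membership test for `Slist`. -/
def inS (m : M7) : Bool := Slist.any (fun s => M7.beq s m)

/-- `Slist` is closed under products (restricted to first factors in `l`). -/
def chkB (l : List M7) : Bool := l.all (fun s1 => Slist.all (fun s2 => mulF s1 s2 inS))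

/-- One row of the closure check. -/
def chkRowA (gen r : M7) : List ℕ → List (ℕ × ℕ × ℕ) → Bool
  | [], [] => true
  | k :: ks, (a, j, p) :: ws =>
      (Nat.blt j 22 && (Nat.blt p (Blocks.getD j (one, [])).2.length &&
        mulF r (Sget k) fun rs => mulF rs gen fun lhs =>
        mulF (Blocks.getD j (one, [])).1 (Sget ((Blocks.getD j (one, [])).2.getD p 0)) fun rs' =>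
        mulF (Sget a) rs' fun rhs => M7.beq lhs rhs))
      && chkRowA gen r ks ws
  | _, _ => false

/-- The closure check: the union of the cosets is stable under right multiplication by `gen`. -/
def chkA (gen : M7) : List (M7 × List ℕ) → List (List (ℕ × ℕ × ℕ)) → Bool
  | [], [] => true
  | blk :: bs, w :: ws => chkRowA gen blk.1 blk.2 w && chkA gen bs ws
  | _, _ => false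

/-- Membership test for `ordList`. -/
def inL (n : ℕ) : Bool :=
  Nat.beq n 1 || Nat.beq n 2 || Nat.beq n 3 || Nat.beq n 5 || Nat.beq n 6 || Nat.beq n 7 ||
    Nat.beq n 10 || Nat.beq n 11 || Nat.beq n 15 || Nat.beq n 19

/-- One row of the order check. -/
def chkRowC (r : M7) : List M7 → List ℕ → Bool
  | [], [] => true
  | s :: ss, n :: ns =>
      (inL n && mulF r s fun x => pwF x n fun y => M7.beq y one) && chkRowC r ss ns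
  | _, _ => false

/-- The order check. -/
def chkC : List (M7 × List ℕ) → List (List ℕ) → Bool
  | [], [] => true
  | blk :: bs, w :: ws => chkRowC blk.1 Slist w && chkC bs ws
  | _, _ => false

/-- All of `Slist` commutes with `tm`. -/
def chkT : Bool := Slist.all (fun s => mulF s tm fun a => mulF tm s fun b => M7.beq a b)

/-- No double coset representative other than the first commutes with `tm`. -/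
def chkR : Bool :=
  (Blocks.drop 1).all (fun blk => mulF blk.1 tm fun a => mulF tm blk.1 fun b => !(M7.beq a b))

/-- `x, x², …, x^r` (starting from `acc`) are not the identity and the next power is. -/
def ordF (x : M7) : ℕ → M7 → Bool
  | 0, acc => M7.beq acc one
  | r + 1, acc => !(M7.beq acc one) && mulF acc x (fun acc' => ordF x r acc')

end Cfsg.Agent.Lib.helper61.J1
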