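import Cfsg.Agent.Lib.helper61.J1Check
import Cfsg.Agent.Lib.helper61.J1CheckB
import Cfsg.Agent.Lib.helper61.J1CheckC

/-!
The Janko group `J₁` of the Prelude (helper61): double coset decomposition and element orders.

* `J1_sub`: every element of `J₁` has matrix `toMat s * (toMat r * toMat s')` with `s, s'` in the centraliser
  list `Slist` and `r` a double coset representative (`InM`).
* `exists_pow_eq_one`, `orderOf_mem`: every element order lies in `ordList = [1,2,3,5,6,7,10,11,15,19]`.
* `exists_orderOf`, `range_orderOf`: the set of element orders of `J₁` is exactly `ordList`.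
-/

set_option autoImplicit false

namespace Cfsg.Agent.Lib.helper61.J1

theorem Slist_length : Slist.length = 120 := by rfl

theorem Blocks_length : Blocks.length = 22 := by rfl

theorem one_mem_Slist : one ∈ Slist := by
  unfold Slist
  exact List.mem_cons_self

theorem Sget_mem (i : ℕ) : Sget i ∈ Slist := by
  unfold Sget
  by_cases h : i < Slist.length
  · rw [List.getD_eq_getElem _ _ h]
    exact List.getElem_mem h
  · rw [List.getD_eq_default _ _ (by omega)]
    exact one_mem_Slist

theorem mem_of_inS {m : M7} (h : inS m = true) : m ∈ Slist := by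
  unfold inS at h
  rw [List.any_eq_true] at h
  obtain ⟨s, hs, hb⟩ := h
  rw [← M7.eq_of_beq hb]
  exact hs

theorem S_mul {s s' : M7} (hs : s ∈ Slist) (hs' : s' ∈ Slist) : mul s s' ∈ Slist := by
  have h := chkB_all
  unfold chkB at h
  rw [List.all_eq_true] at h
  have h1 := h s hs
  rw [List.all_eq_true] at h1
  have h2 := h1 s' hs'
  rw [mulF_eq] at h2
  exact mem_of_inS h2

theorem chkRowA_spec (gen r : M7) : ∀ (ks : List ℕ) (ws : List (ℕ × ℕ × ℕ)),
    chkRowA gen r ks ws = true → ∀ k ∈ ks, ∃ a j p, j < 22 ∧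
      p < (Blocks.getD j (one, [])).2.length ∧
      mul (mul r (Sget k)) gen = mul (Sget a) (mul (Blocks.getD j (one, [])).1
        (Sget ((Blocks.getD j (one, [])).2.getD p 0)))
  | [], _, _, k, hk => by simp at hk
  | _ :: _, [], h, _, _ => by simp [chkRowA] at h
  | k0 :: ks, (a, j, p) :: ws, h, k, hk => by
      simp only [chkRowA, Bool.and_eq_true, mulF_eq] at h
      obtain ⟨⟨hj, hp, heq⟩, h2⟩ := h
      rcases List.mem_cons.mp hk with rfl | hk'
      · exact ⟨a, j, p, by simpa using hj, by simpa using hp, M7.eq_of_beq heq⟩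
      · exact chkRowA_spec gen r ks ws h2 k hk'

theorem chkA_spec (gen : M7) : ∀ (bs : List (M7 × List ℕ)) (ws : List (List (ℕ × ℕ × ℕ))),
    chkA gen bs ws = true → ∀ blk ∈ bs, ∀ k ∈ blk.2, ∃ a j p, j < 22 ∧
      p < (Blocks.getD j (one, [])).2.length ∧
      mul (mul blk.1 (Sget k)) gen = mul (Sget a) (mul (Blocks.getD j (one, [])).1
        (Sget ((Blocks.getD j (one, [])).2.getD p 0)))
  | [], _, _, blk, hb => by simp at hb
  | _ :: _, [], h, _, _ => by simp [chkA] at h
  | b :: bs, w :: ws, h, blk, hb => by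
      simp only [chkA, Bool.and_eq_true] at h
      rcases List.mem_cons.mp hb with rfl | hb'
      · exact chkRowA_spec gen _ _ _ h.1
      · exact chkA_spec gen bs ws h.2 blk hb'

theorem mem_ordList_of_inL {n : ℕ} (h : inL n = true) : n ∈ ordList := by
  simp only [inL, Bool.or_eq_true] at h
  simp only [ordList, List.mem_cons, List.mem_nil_iff, or_false]
  rcases h with ((((((((h | h) | h) | h) | h) | h) | h) | h) | h) | h <;>
    have h' := Nat.eq_of_beq_eq_true h <;> omega

theorem chkRowC_spec (r : M7) : ∀ (ss : List M7) (ns : List ℕ), chkRowC r ss ns = true →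
    ∀ s ∈ ss, ∃ n ∈ ordList, pwP (mul r s) n = one
  | [], _, _, s, hs => by simp at hs
  | _ :: _, [], h, _, _ => by simp [chkRowC] at h
  | s0 :: ss, n :: ns, h, s, hs => by
      simp only [chkRowC, Bool.and_eq_true, mulF_eq, pwF_eq] at h
      obtain ⟨⟨hn, heq⟩, h2⟩ := h
      rcases List.mem_cons.mp hs with rfl | hs'
      · exact ⟨n, mem_ordList_of_inL hn, M7.eq_of_beq heq⟩
      · exact chkRowC_spec r ss ns h2 s hs'

theorem chkC_spec : ∀ (bs : List (M7 × List ℕ)) (ws : List (List ℕ)), chkC bs ws = true →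
    ∀ blk ∈ bs, ∀ s ∈ Slist, ∃ n ∈ ordList, pwP (mul blk.1 s) n = one
  | [], _, _, blk, hb => by simp at hb
  | _ :: _, [], h, _, _ => by simp [chkC] at h
  | b :: bs, w :: ws, h, blk, hb => by
      simp only [chkC, Bool.and_eq_true] at h
      rcases List.mem_cons.mp hb with rfl | hb'
      · exact chkRowC_spec _ _ _ h.1
      · exact chkC_spec bs ws h.2 blk hb'

/-- The matrices `toMat s * (toMat r * toMat S[k])`: a union of right cosets of the centraliser. -/
def InM (M : Matrix (Fin 7) (Fin 7) (ZMod 11)) : Prop :=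
  ∃ s ∈ Slist, ∃ blk ∈ Blocks, ∃ k ∈ blk.2, M = toMat s * (toMat blk.1 * toMat (Sget k))

theorem InM_one : InM 1 := by
  refine ⟨one, one_mem_Slist, (one, [0]), ?_, 0, by simp, ?_⟩
  · unfold Blocks
    exact List.mem_cons_self
  · have h0 : Sget 0 = one := rfl
    rw [h0, toMat_one, mul_one, mul_one]

theorem getD_mem_Blocks {j : ℕ} (hj : j < 22) : Blocks.getD j (one, []) ∈ Blocks := by
  have h : j < Blocks.length := by rw [Blocks_length]; exact hj
  rw [List.getD_eq_getElem _ _ h]
  exact List.getElem_mem h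

theorem InM_mul_gen (gen : M7) (W : List (List (ℕ × ℕ × ℕ))) (h : chkA gen Blocks W = true)
    {M : Matrix (Fin 7) (Fin 7) (ZMod 11)} (hM : InM M) : InM (M * toMat gen) := by
  obtain ⟨s, hs, blk, hblk, k, hk, rfl⟩ := hM
  obtain ⟨a, j, p, hj, hp, heq⟩ := chkA_spec gen Blocks W h blk hblk k hk
  refine ⟨mul s (Sget a), S_mul hs (Sget_mem a), Blocks.getD j (one, []), getD_mem_Blocks hj,
    (Blocks.getD j (one, [])).2.getD p 0, ?_, ?_⟩
  · rw [List.getD_eq_getElem _ _ hp]
    exact List.getElem_mem hp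
  · have h2 := congrArg toMat heq
    rw [toMat_mul, toMat_mul, toMat_mul, toMat_mul] at h2
    rw [toMat_mul, mul_assoc (toMat s) (toMat (Sget a)), ← h2]
    simp only [mul_assoc]

theorem J1_sub {x : GL (Fin 7) (ZMod 11)} (hx : x ∈ Cfsg.Spor.J1) :
    InM (x : Matrix (Fin 7) (Fin 7) (ZMod 11)) := by
  have hx' : x ∈ Submonoid.closure
      ({Cfsg.Spor.jankoX, Cfsg.Spor.jankoY} : Set (GL (Fin 7) (ZMod 11))) := by
    rw [← Subgroup.closure_toSubmonoid_of_finite]
    exact hx
  induction hx' using Submonoid.closure_induction_right with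
  | one => rw [Units.val_one]; exact InM_one
  | mul_right y hy z hz ih =>
    rw [Units.val_mul]
    rcases hz with rfl | rfl
    · rw [← toMat_Xm]
      exact InM_mul_gen Xm WX chkA_X (ih (by
        show y ∈ (Subgroup.closure _).toSubmonoid
        rw [Subgroup.closure_toSubmonoid_of_finite]; exact hy))
    · rw [← toMat_Ym]
      exact InM_mul_gen Ym WY chkA_Y (ih (by
        show y ∈ (Subgroup.closure _).toSubmonoid
        rw [Subgroup.closure_toSubmonoid_of_finite]; exact hy))

theorem mul_pow_mul_swap {M : Type*} [Monoid M] (a b : M) (n : ℕ) :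
    (a * b) ^ n * a = a * (b * a) ^ n := by
  induction n with
  | zero => simp
  | succ n ih => rw [pow_succ, pow_succ, mul_assoc, mul_assoc a b a, ← mul_assoc, ih, mul_assoc]

/-- Every element of `J₁` is killed by an exponent in `ordList`. -/
theorem exists_pow_eq_one {x : GL (Fin 7) (ZMod 11)} (hx : x ∈ Cfsg.Spor.J1) :
    ∃ n ∈ ordList, x ^ n = 1 := by
  obtain ⟨s, hs, blk, hblk, k, hk, hM⟩ := J1_sub hx
  have hs3 := S_mul (Sget_mem k) hs
  obtain ⟨n, hn, hpw⟩ := chkC_spec Blocks WC chkC_all blk hblk _ hs3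
  refine ⟨n, hn, ?_⟩
  have hBA : (toMat blk.1 * toMat (Sget k) * toMat s) ^ n = 1 := by
    have h2 := congrArg toMat hpw
    rw [toMat_pwP _ hn, toMat_mul, toMat_mul, toMat_one, ← mul_assoc] at h2
    exact h2
  have key := mul_pow_mul_swap (toMat s) (toMat blk.1 * toMat (Sget k)) n
  rw [hBA, mul_one] at key
  have hinv : toMat s * (toMat blk.1 * toMat (Sget k) *
      ((x⁻¹ : GL (Fin 7) (ZMod 11)) : Matrix (Fin 7) (Fin 7) (ZMod 11))) = 1 := by
    rw [← mul_assoc, ← hM, ← Units.val_mul, mul_inv_cancel, Units.val_one]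
  apply Units.ext
  rw [Units.val_pow_eq_pow_val, Units.val_one, hM]
  calc (toMat s * (toMat blk.1 * toMat (Sget k))) ^ n
      = (toMat s * (toMat blk.1 * toMat (Sget k))) ^ n * (toMat s * (toMat blk.1 * toMat (Sget k) *
          ((x⁻¹ : GL (Fin 7) (ZMod 11)) : Matrix (Fin 7) (Fin 7) (ZMod 11)))) := by
        rw [hinv, mul_one]
    _ = ((toMat s * (toMat blk.1 * toMat (Sget k))) ^ n * toMat s) * (toMat blk.1 * toMat (Sget k) *
          ((x⁻¹ : GL (Fin 7) (ZMod 11)) : Matrix (Fin 7) (Fin 7) (ZMod 11))) :=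
        (mul_assoc _ _ _).symm
    _ = 1 := by rw [key, hinv]

theorem ordList_dvd_closed : ∀ n ∈ ordList, ∀ d ∈ n.divisors, d ∈ ordList := by decide

/-- Every element order of `J₁` lies in `ordList`. -/
theorem orderOf_mem (x : ↥Cfsg.Spor.J1) : orderOf x ∈ ordList := by
  obtain ⟨n, hn, hpow⟩ := exists_pow_eq_one x.2
  have hdvd : orderOf (x : GL (Fin 7) (ZMod 11)) ∣ n := orderOf_dvd_of_pow_eq_one hpow
  rw [Subgroup.orderOf_coe] at hdvd
  have hn0 : n ≠ 0 := by
    rintro rfl
    simp [ordList] at hn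
  exact ordList_dvd_closed n hn _ (Nat.mem_divisors.mpr ⟨hdvd, hn0⟩)

/-- `acc * x ^ i`. -/
def mulPow (x : M7) : ℕ → M7 → M7
  | 0, acc => acc
  | i + 1, acc => mulPow x i (mul acc x)

theorem ordF_spec (x : M7) : ∀ (r : ℕ) (acc : M7), ordF x r acc = true →
    (∀ i < r, mulPow x i acc ≠ one) ∧ mulPow x r acc = one
  | 0, acc, h => ⟨fun i hi => absurd hi (Nat.not_lt_zero i), M7.eq_of_beq h⟩
  | r + 1, acc, h => by
      simp only [ordF, Bool.and_eq_true, mulF_eq] at h
      obtain ⟨h1, h2⟩ := h
      obtain ⟨ih1, ih2⟩ := ordF_spec x r (mul acc x) h2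
      refine ⟨fun i hi => ?_, ih2⟩
      cases i with
      | zero =>
        have h3 : M7.beq acc one = false := by simpa using h1
        exact M7.ne_of_beq h3
      | succ i => exact ih1 i (by omega)

theorem toMat_mulPow (x : M7) : ∀ (i : ℕ) (acc : M7),
    toMat (mulPow x i acc) = toMat acc * toMat x ^ i
  | 0, acc => by simp [mulPow]
  | i + 1, acc => by rw [mulPow, toMat_mulPow x i, toMat_mul, pow_succ', mul_assoc]

theorem mulPow_normed (x : M7) : ∀ (i : ℕ) (acc : M7), acc.normed → (mulPow x i acc).normed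
  | 0, _, h => h
  | i + 1, _, _ => mulPow_normed x i _ (mul_normed _ _)

theorem orderOf_wordGL (w : List Bool) (hw : w ≠ []) (r : ℕ)
    (h : wordF w one (fun m => ordF m r m) = true) : orderOf (wordGL w) = r + 1 := by
  rw [wordF_eq] at h
  change ordF (wordM w) r (wordM w) = true at h
  obtain ⟨h1, h2⟩ := ordF_spec _ _ _ h
  have hn := wordM_normed w hw
  rw [orderOf_eq_iff (Nat.succ_pos r)]
  constructor
  · apply Units.ext
    rw [Units.val_pow_eq_pow_val, wordGL_val, Units.val_one, pow_succ', ← toMat_mulPow, h2,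
      toMat_one]
  · intro m hm hpos hcon
    have hval : (toMat (wordM w)) ^ m = 1 := by
      have h3 := congrArg Units.val hcon
      rwa [Units.val_pow_eq_pow_val, wordGL_val, Units.val_one] at h3
    obtain ⟨i, rfl⟩ : ∃ i, m = i + 1 := ⟨m - 1, by omega⟩
    apply h1 i (by omega)
    apply toMat_inj (mulPow_normed _ _ _ hn) one_normed
    rw [toMat_mulPow, toMat_one, ← pow_succ']
    exact hval

theorem exists_orderOf_word (w : List Bool) (hw : w ≠ []) (r : ℕ)
    (h : wordF w one (fun m => ordF m r m) = true) : ∃ x : ↥Cfsg.Spor.J1, orderOf x = r + 1 :=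
  ⟨⟨wordGL w, wordGL_mem w⟩, by rw [Subgroup.orderOf_mk]; exact orderOf_wordGL w hw r h⟩

/-- Every number in `ordList` is the order of an element of `J₁`. -/
theorem exists_orderOf {n : ℕ} (hn : n ∈ ordList) : ∃ x : ↥Cfsg.Spor.J1, orderOf x = n := by
  simp only [ordList, List.mem_cons, List.mem_nil_iff, or_false] at hn
  rcases hn with rfl | rfl | rfl | rfl | rfl | rfl | rfl | rfl | rfl | rfl
  · exact ⟨1, orderOf_one⟩
  · exact exists_orderOf_word ow2 (by decide) 1 ow2_check
  · exact exists_orderOf_word ow3 (by decide) 2 ow3_check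
  · exact exists_orderOf_word ow5 (by decide) 4 ow5_check
  · exact exists_orderOf_word ow6 (by decide) 5 ow6_check
  · exact exists_orderOf_word ow7 (by decide) 6 ow7_check
  · exact exists_orderOf_word ow10 (by decide) 9 ow10_check
  · exact exists_orderOf_word ow11 (by decide) 10 ow11_check
  · exact exists_orderOf_word ow15 (by decide) 14 ow15_check
  · exact exists_orderOf_word ow19 (by decide) 18 ow19_check

/-- The set of element orders of `J₁`. -/
theorem range_orderOf : Set.range (orderOf : ↥Cfsg.Spor.J1 → ℕ) = {n | n ∈ ordList} := by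
  ext n
  constructor
  · rintro ⟨x, rfl⟩
    exact orderOf_mem x
  · intro hn
    obtain ⟨x, hx⟩ := exists_orderOf hn
    exact ⟨x, hx⟩

end Cfsg.Agent.Lib.helper61.J1
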