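import Mathlib
import Cfsg.Prelude.Def_LieTypeChar
import Cfsg.Agent.Lib.helper44.LODefs
import Cfsg.Agent.Lib.helper6.LOARITH
import Cfsg.Agent.S0243

/-!
# S2363 piece PSL2 (racer copy, helper61)
-/

set_option autoImplicit false

namespace Cfsg.Agent.Lib.helper44.LO

open Cfsg

/-- Arithmetic core of PSL2: from the order formula. -/
theorem h61_lo_psl_two_core (p : ℕ) (hp : p.Prime) (f : ℕ) (hf : 1 ≤ f) (n : ℕ)
    (h : Nat.gcd 2 (p ^ f - 1) * ((p ^ f - 1) * n) =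
      ∏ i : Fin 2, ((p ^ f) ^ 2 - (p ^ f) ^ (i : ℕ))) :
    n < p ^ (3 * n.factorization p) ∧ p ^ f = p ^ n.factorization p := by
  have hq2 : 2 ≤ p ^ f := le_trans hp.two_le (Nat.le_self_pow (by omega) p)
  have hpq : p ∣ p ^ f := dvd_pow_self p (by omega)
  have hone : ¬ p ∣ 1 := fun hd => hp.one_lt.ne' (Nat.dvd_one.mp hd)
  have hnd1 : ¬ p ∣ p ^ f - 1 := by
    intro hd
    have h1 : p ∣ p ^ f - (p ^ f - 1) := Nat.dvd_sub hpq hd
    have e : p ^ f - (p ^ f - 1) = 1 := by omega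
    rw [e] at h1
    exact hone h1
  have hsq : 4 ≤ (p ^ f) ^ 2 := by nlinarith
  have hnd2 : ¬ p ∣ (p ^ f) ^ 2 - 1 := by
    intro hd
    have h1 : p ∣ (p ^ f) ^ 2 - ((p ^ f) ^ 2 - 1) := Nat.dvd_sub (dvd_pow hpq (by norm_num)) hd
    have e : (p ^ f) ^ 2 - ((p ^ f) ^ 2 - 1) = 1 := by omega
    rw [e] at h1
    exact hone h1
  have hg : ¬ p ∣ Nat.gcd 2 (p ^ f - 1) := fun hd => hnd1 (hd.trans (Nat.gcd_dvd_right _ _))
  have hg1 : 1 ≤ Nat.gcd 2 (p ^ f - 1) := Nat.gcd_pos_of_pos_left _ (by norm_num)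
  have hsub : (p ^ f) ^ 2 - p ^ f = p ^ f * (p ^ f - 1) := by
    rw [Nat.mul_sub, mul_one, sq]
  have hc : Nat.gcd 2 (p ^ f - 1) * (p ^ f - 1) * n =
      (p ^ f) ^ 1 * (((p ^ f) ^ 2 - 1) * (p ^ f - 1)) := by
    rw [mul_assoc, h, Fin.prod_univ_two]
    simp only [Fin.val_zero, Fin.val_one, pow_zero, pow_one]
    rw [hsub]
    ring
  have hcp : ¬ p ∣ Nat.gcd 2 (p ^ f - 1) * (p ^ f - 1) := by
    intro hd
    rcases (Nat.Prime.dvd_mul hp).mp hd with h1 | h1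
    · exact hg h1
    · exact hnd1 h1
  have hMp : ¬ p ∣ ((p ^ f) ^ 2 - 1) * (p ^ f - 1) := by
    intro hd
    rcases (Nat.Prime.dvd_mul hp).mp hd with h1 | h1
    · exact hnd2 h1
    · exact hnd1 h1
  have hM : ((p ^ f) ^ 2 - 1) * (p ^ f - 1) <
      Nat.gcd 2 (p ^ f - 1) * (p ^ f - 1) * (p ^ f) ^ 2 := by
    have hpos : 0 < p ^ f - 1 := by omega
    calc ((p ^ f) ^ 2 - 1) * (p ^ f - 1) < (p ^ f) ^ 2 * (p ^ f - 1) :=
          Nat.mul_lt_mul_of_pos_right (by omega) hpos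
      _ = 1 * (p ^ f - 1) * (p ^ f) ^ 2 := by ring
      _ ≤ Nat.gcd 2 (p ^ f - 1) * (p ^ f - 1) * (p ^ f) ^ 2 :=
          Nat.mul_le_mul_right _ (Nat.mul_le_mul_right _ hg1)
  obtain ⟨hk, hn⟩ := helper6_lo_arith hp f _ n 1 _ 2 hc hcp hMp hM
  rw [hk, mul_one]
  refine ⟨?_, rfl⟩
  calc n < (p ^ f) ^ (1 + 2) := hn
    _ = p ^ (3 * f) := by rw [← pow_mul, mul_comm]

/-- PSL2 (racer copy). -/
theorem h61_lo_psl_two {F : Type} [Field F] [Fintype F] (p : ℕ) (hp : p.Prime) [CharP F p] :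
    Nat.card (Matrix.ProjectiveSpecialLinearGroup (Fin 2) F) <
        p ^ (3 * (Nat.card (Matrix.ProjectiveSpecialLinearGroup (Fin 2) F)).factorization p) ∧
      Fintype.card F = p ^ (Nat.card (Matrix.ProjectiveSpecialLinearGroup (Fin 2) F)).factorization p := by
  obtain ⟨f, -, hf⟩ := FiniteField.card F p
  have h := Cfsg.Agent.S0243.result (F := F) hf 2 le_rfl
  have hcore := h61_lo_psl_two_core p hp (f : ℕ) f.pos _ h
  exact ⟨hcore.1, hf.trans hcore.2⟩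

end Cfsg.Agent.Lib.helper44.LO
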