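/-
S0406 split (owner helper9), PIECE E: the binary code of a lattice with the listed properties
is doubly even with minimum weight at least 8.
-/
import Mathlib
import Cfsg.Agent.Lib.helper9.LcDefs

set_option autoImplicit false
open Matrix

namespace Cfsg.Agent.Lib.helper61
open Cfsg Cfsg.Agent.Lib.helper9

/-- parity of an integer seen in `ZMod 2` -/
theorem lce_cast_eq_zero_iff (a : ℤ) : ((a : ℤ) : ZMod 2) = 0 ↔ (2 : ℤ) ∣ a := by
  have h := ZMod.intCast_zmod_eq_zero_iff_dvd a 2
  simpa using h

/-- the norm of twice a sign vector supported on `S` -/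
theorem lce_sqNorm (S : Finset GolayPt) (k : GolayPt → ℤ)
    (h1 : ∀ p ∈ S, k p = 1 ∨ k p = -1) (h0 : ∀ p, p ∉ S → k p = 0) :
    sqNorm ((2 : ℤ) • k) = 4 * (S.card : ℤ) := by
  unfold sqNorm
  have e : ∀ p, ((2 : ℤ) • k) p ^ 2 = if p ∈ S then (4 : ℤ) else 0 := by
    intro p
    simp only [Pi.smul_apply, smul_eq_mul]
    by_cases hp : p ∈ S
    · rw [if_pos hp]
      rcases h1 p hp with h | h <;> rw [h] <;> norm_num
    · rw [if_neg hp, h0 p hp]; norm_num
  rw [Finset.sum_congr rfl (fun p _ => e p)]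
  rw [Finset.sum_ite_mem, Finset.univ_inter, Finset.sum_const]
  simp [mul_comm]

/-- the sum of `2 (h - k)` when `h - k` is even is divisible by 4 -/
theorem lce_sum_four (f : GolayPt → ℤ) (hf : ∀ p, (4 : ℤ) ∣ f p) : (4 : ℤ) ∣ ∑ p, f p :=
  Finset.dvd_sum (fun p _ => hf p)

/-- PIECE E -/
theorem lc_code_weight (L : AddSubgroup (GolayPt → ℤ)) (hL : LcPre L)
    (hM : ∀ x : GolayPt → ℤ, (∀ p, (4 : ℤ) ∣ x p) → (8 : ℤ) ∣ ∑ p, x p → x ∈ L)
    (s : GolayPt → ZMod 2) (hs : s ∈ lcCode L) :
    4 ∣ (support₂ s).card ∧ (s ≠ 0 → 8 ≤ (support₂ s).card) := by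
  obtain ⟨h, hh, rfl⟩ := (mem_lcCode L s).mp hs
  set S : Finset GolayPt := support₂ (fun p => ((h p : ℤ) : ZMod 2)) with hS
  have hmemS : ∀ p, p ∈ S ↔ ¬ (2 : ℤ) ∣ h p := by
    intro p
    rw [hS]
    unfold support₂
    simp only [Finset.mem_filter, Finset.mem_univ, true_and, ne_eq]
    rw [lce_cast_eq_zero_iff]
  by_cases hemp : S = ∅
  · rw [hemp]
    refine ⟨by simp, fun hne => ?_⟩
    exfalso
    apply hne
    funext p
    have hp : p ∉ S := by rw [hemp]; simp
    rw [hmemS] at hp
    push Not at hp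
    exact (lce_cast_eq_zero_iff (h p)).mpr hp
  · obtain ⟨p1, hp1⟩ := Finset.nonempty_iff_ne_empty.mpr hemp
    -- the indicator of `S`
    set k0 : GolayPt → ℤ := fun p => if p ∈ S then 1 else 0 with hk0
    have hk0ev : ∀ p, (4 : ℤ) ∣ ((2 : ℤ) • h - (2 : ℤ) • k0) p := by
      intro p
      simp only [Pi.sub_apply, Pi.smul_apply, smul_eq_mul, hk0]
      by_cases hp : p ∈ S
      · rw [if_pos hp]
        have := (hmemS p).mp hp
        omega
      · rw [if_neg hp]
        have := hp
        rw [hmemS] at this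
        push Not at this
        omega
    have hsum4 := lce_sum_four _ hk0ev
    -- the sign vector
    have key : ∃ k : GolayPt → ℤ, (∀ p ∈ S, k p = 1 ∨ k p = -1) ∧ (∀ p, p ∉ S → k p = 0) ∧
        (2 : ℤ) • k ∈ L := by
      by_cases h8 : (8 : ℤ) ∣ ∑ p, ((2 : ℤ) • h - (2 : ℤ) • k0) p
      · refine ⟨k0, fun p hp => ?_, fun p hp => ?_, ?_⟩
        · left; simp only [hk0]; rw [if_pos hp]
        · simp only [hk0]; rw [if_neg hp]
        · have hd := hM _ hk0ev h8
          have := L.sub_mem hh hd
          simpa using this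
      · set k1 : GolayPt → ℤ := fun p => if p = p1 then -1 else k0 p with hk1
        have hk1ev : ∀ p, (4 : ℤ) ∣ ((2 : ℤ) • h - (2 : ℤ) • k1) p := by
          intro p
          have h5 := hk0ev p
          simp only [Pi.sub_apply, Pi.smul_apply, smul_eq_mul, hk1] at h5 ⊢
          by_cases hp : p = p1
          · rw [if_pos hp]
            have h6 : k0 p = 1 := by
              simp only [hk0]; rw [if_pos (hp ▸ hp1)]
            rw [h6] at h5
            omega
          · rw [if_neg hp]
            exact h5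
        have hsum : ∑ p, ((2 : ℤ) • h - (2 : ℤ) • k1) p =
            ∑ p, ((2 : ℤ) • h - (2 : ℤ) • k0) p + 4 := by
          have e : ∀ p, ((2 : ℤ) • h - (2 : ℤ) • k1) p =
              ((2 : ℤ) • h - (2 : ℤ) • k0) p + (if p = p1 then (4 : ℤ) else 0) := by
            intro p
            simp only [Pi.sub_apply, Pi.smul_apply, smul_eq_mul, hk1]
            by_cases hp : p = p1
            · rw [if_pos hp, if_pos hp]
              have h6 : k0 p = 1 := by
                simp only [hk0]; rw [if_pos (hp ▸ hp1)]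
              rw [h6]; ring
            · rw [if_neg hp, if_neg hp]; ring
          rw [Finset.sum_congr rfl (fun p _ => e p), Finset.sum_add_distrib]
          simp
        have h8' : (8 : ℤ) ∣ ∑ p, ((2 : ℤ) • h - (2 : ℤ) • k1) p := by
          rw [hsum]
          omega
        refine ⟨k1, fun p hp => ?_, fun p hp => ?_, ?_⟩
        · simp only [hk1]
          by_cases hpp : p = p1
          · right; rw [if_pos hpp]
          · left; rw [if_neg hpp]; simp only [hk0]; rw [if_pos hp]
        · simp only [hk1]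
          have hpp : p ≠ p1 := fun hpp => hp (hpp ▸ hp1)
          rw [if_neg hpp]; simp only [hk0]; rw [if_neg hp]
        · have hd := hM _ hk1ev h8'
          have := L.sub_mem hh hd
          simpa using this
    obtain ⟨k, hk1, hk0', hkL⟩ := key
    have hn := lce_sqNorm S k hk1 hk0'
    have h16 := hL.norm16 _ hkL
    have hne : (2 : ℤ) • k ≠ 0 := by
      intro h0
      have := congrFun h0 p1
      simp only [Pi.smul_apply, smul_eq_mul, Pi.zero_apply] at this
      rcases hk1 p1 hp1 with h | h <;> rw [h] at this <;> omega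
    have h32 := hL.min32 _ hkL hne
    rw [hn] at h16 h32
    refine ⟨?_, fun _ => ?_⟩
    · have : (4 : ℤ) ∣ (S.card : ℤ) := by omega
      exact_mod_cast this
    · have : (8 : ℤ) ≤ (S.card : ℤ) := by omega
      exact_mod_cast this

end Cfsg.Agent.Lib.helper61
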