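/-
S0406 split (owner helper9), PIECE N1: a lattice with the listed properties is contained in the
rank-24 lattice of the Prelude.
-/
import Mathlib
import Cfsg.Agent.Lib.helper9.LcDefs
import Cfsg.Agent.Lib.helper93.Leech

set_option autoImplicit false
open Matrix

namespace Cfsg.Agent.Lib.helper61
open Cfsg Cfsg.Agent.Lib.helper9

/-- parity of an integer seen in `ZMod 2` -/
theorem lcn_cast_eq_zero_iff (a : ℤ) : ((a : ℤ) : ZMod 2) = 0 ↔ (2 : ℤ) ∣ a := by
  have h := ZMod.intCast_zmod_eq_zero_iff_dvd a 2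
  simpa using h

/-- the word of an even vector `2h` relative to `0` is `h` modulo 2 -/
theorem lcn_wd_two (h : GolayPt → ℤ) :
    Cfsg.Agent.Lib.helper93.wd 0 ((2 : ℤ) • h) = fun p => ((h p : ℤ) : ZMod 2) := by
  funext p
  unfold Cfsg.Agent.Lib.helper93.wd
  simp only [Pi.smul_apply, smul_eq_mul]
  by_cases hp : (2 : ℤ) ∣ h p
  · have h1 : (2 * h p) ≡ 0 [ZMOD 4] := by
      unfold Int.ModEq; omega
    rw [if_pos h1]
    exact ((lcn_cast_eq_zero_iff (h p)).mpr hp).symm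
  · have h1 : ¬ (2 * h p) ≡ 0 [ZMOD 4] := by
      unfold Int.ModEq; omega
    rw [if_neg h1]
    have h2 : ((h p : ℤ) : ZMod 2) ≠ 0 := fun hh => hp ((lcn_cast_eq_zero_iff (h p)).mp hh)
    exact (Cfsg.Agent.Lib.helper93.zmod2_eq_one_of_ne_zero _ h2).symm

/-- an even vector is twice its half -/
theorem lcn_even_eq (x : GolayPt → ℤ) (he : ∀ p, (2 : ℤ) ∣ x p) :
    x = (2 : ℤ) • (fun p => x p / 2) := by
  funext p
  simp only [Pi.smul_apply, smul_eq_mul]
  have := he p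
  omega

/-- even case of `lc_sub_leech` -/
theorem lcn_sub_leech_even (L : AddSubgroup (GolayPt → ℤ))
    (hC : ∀ s : GolayPt → ZMod 2, s ∈ lcCode L ↔ s ∈ golayCode)
    (hE : ∀ u ∈ L, (∀ p, (2 : ℤ) ∣ u p) → (8 : ℤ) ∣ ∑ p, u p)
    (x : GolayPt → ℤ) (hx : x ∈ L) (he : ∀ p, (2 : ℤ) ∣ x p) : x ∈ leechSet := by
  rw [Cfsg.Agent.Lib.helper93.mem_leechSet_iff]
  refine ⟨0, fun i => ?_, ?_, ?_⟩
  · have := he i
    unfold Int.ModEq; omega
  · have := hE x hx he
    unfold Int.ModEq; omega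
  · have hx2 := lcn_even_eq x he
    have hmem : (fun p => (((x p / 2 : ℤ)) : ZMod 2)) ∈ lcCode L := by
      rw [mem_lcCode]
      exact ⟨fun p => x p / 2, hx2 ▸ hx, rfl⟩
    have hw : Cfsg.Agent.Lib.helper93.wd 0 x = fun p => (((x p / 2 : ℤ)) : ZMod 2) := by
      conv_lhs => rw [hx2]
      exact lcn_wd_two _
    rw [hw]
    exact (hC _).mp hmem

/-- PIECE N1 -/
theorem lc_sub_leech (L : AddSubgroup (GolayPt → ℤ))
    (hpar : ∀ u ∈ L, ∀ p q : GolayPt, (2 : ℤ) ∣ u p - u q)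
    (hC : ∀ s : GolayPt → ZMod 2, s ∈ lcCode L ↔ s ∈ golayCode)
    (u0 : GolayPt → ℤ) (hu0 : u0 ∈ L) (h1 : ∀ p, (4 : ℤ) ∣ u0 p - 1)
    (hE : ∀ u ∈ L, (∀ p, (2 : ℤ) ∣ u p) → (8 : ℤ) ∣ ∑ p, u p)
    (h0 : (8 : ℤ) ∣ (∑ p, u0 p) - 4)
    (x : GolayPt → ℤ) (hx : x ∈ L) : x ∈ leechLattice := by
  have hu0L : u0 ∈ leechLattice := by
    rw [Cfsg.Agent.Lib.helper93.mem_leechLattice_iff, Cfsg.Agent.Lib.helper93.mem_leechSet_iff]
    refine ⟨1, fun i => ?_, ?_, ?_⟩
    · have := h1 i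
      unfold Int.ModEq; omega
    · unfold Int.ModEq; omega
    · have hw : Cfsg.Agent.Lib.helper93.wd 1 u0 = 0 := by
        funext p
        unfold Cfsg.Agent.Lib.helper93.wd
        have h2 : u0 p ≡ 1 [ZMOD 4] := by
          have := h1 p
          unfold Int.ModEq; omega
        rw [if_pos h2]; rfl
      rw [hw]
      exact Submodule.zero_mem _
  by_cases hn : (2 : ℤ) ∣ x none
  · have he : ∀ p, (2 : ℤ) ∣ x p := by
      intro p
      have := hpar x hx p none
      omega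
    rw [Cfsg.Agent.Lib.helper93.mem_leechLattice_iff]
    exact lcn_sub_leech_even L hC hE x hx he
  · have hy : x - u0 ∈ L := L.sub_mem hx hu0
    have he : ∀ p, (2 : ℤ) ∣ (x - u0) p := by
      intro p
      have h2 := hpar x hx p none
      have h3 := h1 p
      simp only [Pi.sub_apply]
      omega
    have hyL : x - u0 ∈ leechLattice := by
      rw [Cfsg.Agent.Lib.helper93.mem_leechLattice_iff]
      exact lcn_sub_leech_even L hC hE (x - u0) hy he
    have := leechLattice.add_mem hyL hu0L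
    simpa using this

end Cfsg.Agent.Lib.helper61
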