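/-
S0406 split (owner helper9), PIECE N2: the rank-24 lattice of the Prelude is contained in a
lattice with the listed properties.
-/
import Mathlib
import Cfsg.Agent.Lib.helper9.LcDefs
import Cfsg.Agent.Lib.helper93.Leech
import Cfsg.Agent.Lib.helper61.LcN1

set_option autoImplicit false
open Matrix

namespace Cfsg.Agent.Lib.helper61
open Cfsg Cfsg.Agent.Lib.helper9

/-- even case of `lc_leech_sub` -/
theorem lcn_leech_sub_even (L : AddSubgroup (GolayPt → ℤ))
    (hM : ∀ x : GolayPt → ℤ, (∀ p, (4 : ℤ) ∣ x p) → (8 : ℤ) ∣ ∑ p, x p → x ∈ L)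
    (hC : ∀ s : GolayPt → ZMod 2, s ∈ lcCode L ↔ s ∈ golayCode)
    (hE : ∀ u ∈ L, (∀ p, (2 : ℤ) ∣ u p) → (8 : ℤ) ∣ ∑ p, u p)
    (y : GolayPt → ℤ) (he : ∀ p, (2 : ℤ) ∣ y p) (hs : (8 : ℤ) ∣ ∑ p, y p)
    (hw : Cfsg.Agent.Lib.helper93.wd 0 y ∈ golayCode) : y ∈ L := by
  obtain ⟨h, hh, hwh⟩ := (mem_lcCode L _).mp ((hC _).mpr hw)
  have h2 : ∀ p, (2 : ℤ) ∣ ((2 : ℤ) • h) p := by
    intro p
    simp only [Pi.smul_apply, smul_eq_mul]
    exact dvd_mul_right 2 (h p)
  have hs2 := hE _ hh h2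
  have hd : y - (2 : ℤ) • h ∈ L := by
    apply hM
    · intro p
      have h3 := congrFun hwh p
      unfold Cfsg.Agent.Lib.helper93.wd at h3
      have h4 := he p
      simp only [Pi.sub_apply, Pi.smul_apply, smul_eq_mul]
      by_cases hp : (2 : ℤ) ∣ h p
      · have h5 : ((h p : ℤ) : ZMod 2) = 0 := (lcn_cast_eq_zero_iff (h p)).mpr hp
        rw [h5] at h3
        have h6 : y p ≡ 0 [ZMOD 4] := by
          by_contra hc
          rw [if_neg hc] at h3
          exact one_ne_zero h3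
        unfold Int.ModEq at h6
        omega
      · have h5 : ((h p : ℤ) : ZMod 2) ≠ 0 := fun hh' => hp ((lcn_cast_eq_zero_iff (h p)).mp hh')
        have h6 : ¬ y p ≡ 0 [ZMOD 4] := by
          intro hc
          rw [if_pos hc] at h3
          exact h5 h3.symm
        unfold Int.ModEq at h6
        omega
    · have h7 : ∑ p, (y - (2 : ℤ) • h) p = ∑ p, y p - ∑ p, ((2 : ℤ) • h) p := by
        rw [← Finset.sum_sub_distrib]
        rfl
      rw [h7]
      exact dvd_sub hs hs2
  have := L.add_mem hd hh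
  simpa using this

/-- PIECE N2 -/
theorem lc_leech_sub (L : AddSubgroup (GolayPt → ℤ))
    (hM : ∀ x : GolayPt → ℤ, (∀ p, (4 : ℤ) ∣ x p) → (8 : ℤ) ∣ ∑ p, x p → x ∈ L)
    (hC : ∀ s : GolayPt → ZMod 2, s ∈ lcCode L ↔ s ∈ golayCode)
    (u0 : GolayPt → ℤ) (hu0 : u0 ∈ L) (h1 : ∀ p, (4 : ℤ) ∣ u0 p - 1)
    (hE : ∀ u ∈ L, (∀ p, (2 : ℤ) ∣ u p) → (8 : ℤ) ∣ ∑ p, u p)
    (h0 : (8 : ℤ) ∣ (∑ p, u0 p) - 4)
    (x : GolayPt → ℤ) (hx : x ∈ leechLattice) : x ∈ L := by
  rw [Cfsg.Agent.Lib.helper93.mem_leechLattice_iff] at hx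
  rcases Cfsg.Agent.Lib.helper93.leechSet_cases x hx with ⟨ha, hb, hc⟩ | ⟨ha, hb, hc⟩
  · apply lcn_leech_sub_even L hM hC hE x _ _ hc
    · intro p
      have := ha p
      unfold Int.ModEq at this
      omega
    · unfold Int.ModEq at hb
      omega
  · have hy : x - u0 ∈ L := by
      apply lcn_leech_sub_even L hM hC hE (x - u0)
      · intro p
        have h2 := ha p
        have h3 := h1 p
        unfold Int.ModEq at h2
        simp only [Pi.sub_apply]
        omega
      · have h7 : ∑ p, (x - u0) p = ∑ p, x p - ∑ p, u0 p := by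
          rw [← Finset.sum_sub_distrib]
          rfl
        rw [h7]
        unfold Int.ModEq at hb
        omega
      · have hw : Cfsg.Agent.Lib.helper93.wd 0 (x - u0) = Cfsg.Agent.Lib.helper93.wd 1 x := by
          funext p
          unfold Cfsg.Agent.Lib.helper93.wd
          have h3 := h1 p
          simp only [Pi.sub_apply]
          by_cases hp : x p ≡ 1 [ZMOD 4]
          · have hq : x p - u0 p ≡ 0 [ZMOD 4] := by
              unfold Int.ModEq at hp ⊢
              omega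
            rw [if_pos hp, if_pos hq]
          · have hq : ¬ x p - u0 p ≡ 0 [ZMOD 4] := by
              unfold Int.ModEq at hp ⊢
              omega
            rw [if_neg hp, if_neg hq]
        rw [hw]
        exact hc
    have := L.add_mem hy hu0
    simpa using this

end Cfsg.Agent.Lib.helper61
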