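/-
S5075 (helper85 split, McLaughlin over `ZMod p`): basic facts on transvections used by the
pieces COMPS and CFIN.
-/
import Mathlib
import Cfsg.Agent.Lib.helper85.McLDefs

set_option autoImplicit false

namespace Cfsg.Agent.Lib.helper61.McL

open Cfsg.Agent.Lib.helper85.McL

universe u

variable {p : ℕ} [Fact p.Prime] {V : Type u} [AddCommGroup V] [Module (ZMod p) V]

theorem h61_apply_inv (t : V ≃ₗ[ZMod p] V) (x : V) : t (t⁻¹ x) = x := by
  rw [LinearEquiv.coe_inv, LinearEquiv.apply_symm_apply]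

theorem h61_inv_apply (t : V ≃ₗ[ZMod p] V) (x : V) : t⁻¹ (t x) = x := by
  rw [LinearEquiv.coe_inv, LinearEquiv.symm_apply_apply]

/-- the inverse of a transvection, pointwise -/
theorem h61_tv_inv (t : V ≃ₗ[ZMod p] V) (c : V) (φ : Module.Dual (ZMod p) V) (hφc : φ c = 0)
    (ht : ∀ x, t x = x + φ x • c) (x : V) : t⁻¹ x = x - φ x • c := by
  apply t.injective
  rw [h61_apply_inv, ht, map_sub, map_smul, hφc, smul_zero, sub_zero, sub_add_cancel]

theorem h61_isTv_inv {t : V ≃ₗ[ZMod p] V} (h : IsTv t) : IsTv t⁻¹ := by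
  obtain ⟨c, φ, hc, hφ, hφc, ht⟩ := h
  refine ⟨c, -φ, hc, neg_ne_zero.mpr hφ, by simp [hφc], fun x => ?_⟩
  rw [h61_tv_inv t c φ hφc ht, LinearMap.neg_apply, neg_smul, sub_eq_add_neg]

theorem h61_isTv_conj {s : V ≃ₗ[ZMod p] V} (h : IsTv s) (g : V ≃ₗ[ZMod p] V) :
    IsTv (g * s * g⁻¹) := by
  obtain ⟨c, φ, hc, hφ, hφc, hs⟩ := h
  refine ⟨g c, φ.comp (g⁻¹ : V ≃ₗ[ZMod p] V).toLinearMap, ?_, ?_, ?_, fun x => ?_⟩
  · intro h0
    exact hc (g.injective (by rw [h0, map_zero]))
  · intro h0
    apply hφ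
    ext x
    have := congrArg (fun f : Module.Dual (ZMod p) V => f (g x)) h0
    simpa [h61_inv_apply] using this
  · simp [h61_inv_apply, hφc]
  · simp only [LinearEquiv.mul_apply, hs, map_add, map_smul, h61_apply_inv, LinearMap.comp_apply,
      LinearEquiv.coe_coe]

theorem h61_tv_ne_one {t : V ≃ₗ[ZMod p] V} (h : IsTv t) : t ≠ 1 := by
  obtain ⟨c, φ, hc, hφ, hφc, ht⟩ := h
  intro h1
  apply hφ
  ext x
  have h2 : x = x + φ x • c := by
    have h := ht x
    rw [h1] at h
    exact h
  have h3 : φ x • c = 0 := by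
    have := h2.symm
    rwa [add_eq_left] at this
  rcases smul_eq_zero.mp h3 with h | h
  · simpa using h
  · exact absurd h hc

/-- commuting transvections: the axis of one kills the centre of the other -/
theorem h61_commute_zero (t t' : V ≃ₗ[ZMod p] V) (c d : V) (φ ψ : Module.Dual (ZMod p) V)
    (hc : c ≠ 0) (hd : d ≠ 0) (hφ : φ ≠ 0) (hφc : φ c = 0)
    (ht : ∀ x, t x = x + φ x • c) (ht' : ∀ x, t' x = x + ψ x • d)
    (hcomm : Commute t t') : ψ c = 0 := by
  by_contra hne
  have hx : ∀ x, t (t' x) = t' (t x) := fun x => by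
    have := congrArg (fun f : V ≃ₗ[ZMod p] V => f x) hcomm.eq
    simpa [LinearEquiv.mul_apply] using this
  have h1 := hx c
  simp only [ht, ht', map_add, map_smul, hφc, smul_eq_mul, zero_smul, add_zero,
    zero_add] at h1
  have h2 : (ψ c * φ d) • c = 0 := by
    linear_combination (norm := module) h1
  have h3 : φ d = 0 := by
    rcases smul_eq_zero.mp h2 with h | h
    · rcases mul_eq_zero.mp h with h' | h'
      · exact absurd h' hne
      · exact h'
    · exact absurd h hc
  apply hφ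
  ext x
  have h4 := hx x
  simp only [ht, ht', map_add, map_smul, h3, smul_eq_mul, mul_zero, add_zero] at h4
  have h5 : (φ x * ψ c) • d = 0 := by
    linear_combination (norm := module) -h4
  rcases smul_eq_zero.mp h5 with h | h
  · rcases mul_eq_zero.mp h with h' | h'
    · simpa using h'
    · exact absurd h' hne
  · exact absurd h hd

/-- commuting transvections: one fixes the image of the other minus the identity -/
theorem h61_commute_fix {t t' : V ≃ₗ[ZMod p] V} (h : IsTv t) (h' : IsTv t')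
    (hcomm : Commute t t') (v : V) : t' (t v - v) = t v - v := by
  obtain ⟨c, φ, hc, hφ, hφc, ht⟩ := h
  obtain ⟨d, ψ, hd, hψ, hψd, ht'⟩ := h'
  have h0 := h61_commute_zero t t' c d φ ψ hc hd hφ hφc ht ht' hcomm
  rw [ht v, add_sub_cancel_left, ht', map_smul, h0, smul_zero, zero_smul, add_zero]

/-- transvections whose axes kill each other's centres commute -/
theorem h61_commute_of (t t' : V ≃ₗ[ZMod p] V) (c d : V) (φ ψ : Module.Dual (ZMod p) V)
    (ht : ∀ x, t x = x + φ x • c) (ht' : ∀ x, t' x = x + ψ x • d)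
    (h1 : φ d = 0) (h2 : ψ c = 0) : Commute t t' := by
  show t * t' = t' * t
  ext x
  simp only [LinearEquiv.mul_apply, ht, ht', map_add, map_smul, h1, h2, smul_zero, add_zero]
  abel

/-- `[V, K]` is `K`-invariant -/
theorem h61_commSub_inv (K : Subgroup (V ≃ₗ[ZMod p] V)) (k : V ≃ₗ[ZMod p] V) (hk : k ∈ K)
    (w : V) (hw : w ∈ commSub K) : k w ∈ commSub K := by
  have hle : Submodule.span (ZMod p) {w | ∃ k ∈ K, ∃ v : V, w = k v - v} ≤
      (commSub K).comap (k : V →ₗ[ZMod p] V) := by
    rw [Submodule.span_le]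
    rintro _ ⟨k₁, hk₁, v, rfl⟩
    rw [SetLike.mem_coe, Submodule.mem_comap]
    show (k : V →ₗ[ZMod p] V) (k₁ v - v) ∈
      Submodule.span (ZMod p) {w | ∃ k ∈ K, ∃ v : V, w = k v - v}
    refine Submodule.subset_span ⟨k * k₁ * k⁻¹, K.mul_mem (K.mul_mem hk hk₁) (K.inv_mem hk),
      k v, ?_⟩
    simp [LinearEquiv.mul_apply, h61_inv_apply]
  exact hle hw

/-- `[V, ⟨C⟩]` is spanned by the `t v - v`, `t ∈ C` -/
theorem h61_commSub_closure_le (C : Set (V ≃ₗ[ZMod p] V)) :
    commSub (Subgroup.closure C) ≤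
      Submodule.span (ZMod p) {w | ∃ t ∈ C, ∃ v : V, w = t v - v} := by
  unfold commSub
  rw [Submodule.span_le]
  rintro _ ⟨k, hk, v, rfl⟩
  show k v - v ∈ Submodule.span (ZMod p) {w | ∃ t ∈ C, ∃ v : V, w = t v - v}
  revert v
  induction hk using Subgroup.closure_induction with
  | mem t ht => exact fun v => Submodule.subset_span ⟨t, ht, v, rfl⟩
  | one => intro v; simp
  | mul a b _ _ iha ihb =>
    intro v
    have : (a * b) v - v = (a (b v) - b v) + (b v - v) := by
      rw [LinearEquiv.mul_apply]; abel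
    rw [this]
    exact Submodule.add_mem _ (iha (b v)) (ihb v)
  | inv a _ iha =>
    intro v
    have : a⁻¹ v - v = -(a (a⁻¹ v) - a⁻¹ v) := by
      rw [h61_apply_inv]; abel
    rw [this]
    exact Submodule.neg_mem _ (iha (a⁻¹ v))

/-- a vector fixed by the generators is fixed by the group -/
theorem h61_fix_closure (C : Set (V ≃ₗ[ZMod p] V)) (v : V) (h : ∀ t ∈ C, t v = v) :
    v ∈ fixSub (Subgroup.closure C) := by
  intro k hk
  induction hk using Subgroup.closure_induction with
  | mem t ht => exact h t ht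
  | one => rfl
  | mul a b _ _ iha ihb => rw [LinearEquiv.mul_apply, ihb, iha]
  | inv a _ iha =>
    have := h61_inv_apply a v
    rwa [iha] at this

end Cfsg.Agent.Lib.helper61.McL
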