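/-
S5075 (helper85 split, McLaughlin over `ZMod p`), piece CFIN: a component which splits off
acts on `[V, ⟨C⟩]` as `SL` or `Sp`.
-/
import Mathlib
import Cfsg.Agent.Lib.helper85.McLDefs
import Cfsg.Agent.Lib.helper61.McLBasic

set_option autoImplicit false

namespace Cfsg.Agent.Lib.helper61.McL

open Cfsg.Agent.Lib.helper85.McL

universe u

variable {p : ℕ} [Fact p.Prime] {V : Type u} [AddCommGroup V] [Module (ZMod p) V]

/-- restriction of `K` to the invariant subspace `[V, K]` -/
def h61rho (K : Subgroup (V ≃ₗ[ZMod p] V)) :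
    ↥K →* (↥(commSub K) ≃ₗ[ZMod p] ↥(commSub K)) where
  toFun k :=
    { toFun := fun w => ⟨(k : V ≃ₗ[ZMod p] V) w, h61_commSub_inv K k k.2 w w.2⟩
      invFun := fun w => ⟨(k : V ≃ₗ[ZMod p] V)⁻¹ w,
        h61_commSub_inv K _ (K.inv_mem k.2) w w.2⟩
      map_add' := fun a b => Subtype.ext (by simp)
      map_smul' := fun r a => Subtype.ext (by simp)
      left_inv := fun w => Subtype.ext (h61_inv_apply _ _)
      right_inv := fun w => Subtype.ext (h61_apply_inv _ _) }
  map_one' := by ext w; rfl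
  map_mul' := fun a b => by ext w; rfl

theorem h61rho_apply (K : Subgroup (V ≃ₗ[ZMod p] V)) (k : ↥K) (w : ↥(commSub K)) :
    ((h61rho K k w : ↥(commSub K)) : V) = (k : V ≃ₗ[ZMod p] V) w := rfl

theorem h61_exists_ne (φ : Module.Dual (ZMod p) V) (hφ : φ ≠ 0) : ∃ v, φ v ≠ 0 := by
  by_contra h
  push Not at h
  exact hφ (LinearMap.ext fun x => by simpa using h x)

/-- `range (t - 1) ⊆ U` gives the centre in `U` -/
theorem h61_centre_mem (U : Submodule (ZMod p) V) (t : V ≃ₗ[ZMod p] V) (c : V)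
    (φ : Module.Dual (ZMod p) V) (hφ : φ ≠ 0) (ht : ∀ x, t x = x + φ x • c)
    (h : ∀ v, t v - v ∈ U) : c ∈ U := by
  obtain ⟨v, hv⟩ := h61_exists_ne φ hφ
  have h1 := h v
  rw [ht v, add_sub_cancel_left] at h1
  have h2 := U.smul_mem (φ v)⁻¹ h1
  rwa [smul_smul, inv_mul_cancel₀ hv, one_smul] at h2

/-- an invariant subspace not containing the centre lies in the axis -/
theorem h61_axis_of (U : Submodule (ZMod p) V) (t : V ≃ₗ[ZMod p] V) (c : V)
    (φ : Module.Dual (ZMod p) V) (ht : ∀ x, t x = x + φ x • c)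
    (hinv : ∀ u ∈ U, t u ∈ U) (hc : c ∉ U) : ∀ u ∈ U, φ u = 0 := by
  intro u hu
  by_contra hne
  apply hc
  have h1 := U.sub_mem (hinv u hu) hu
  rw [ht u, add_sub_cancel_left] at h1
  have h2 := U.smul_mem (φ u)⁻¹ h1
  rwa [smul_smul, inv_mul_cancel₀ hne, one_smul] at h2

/-- the key step: non-commuting transvections of `K` have their centres simultaneously in an
invariant subspace `U` (otherwise their commutator is a non-trivial "unipotent" element). -/
theorem h61_step (H : Subgroup (V ≃ₗ[ZMod p] V)) (hU : UnipHyp H) (U : Submodule (ZMod p) V)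
    (hUH : ∀ h ∈ H, ∀ u ∈ U, h u ∈ U) (a b : V ≃ₗ[ZMod p] V) (haH : a ∈ H) (hbH : b ∈ H)
    (ha : IsTv a) (hb : IsTv b) (hab : ¬ Commute a b) (hin : ∀ v, a v - v ∈ U) :
    ∀ v, b v - v ∈ U := by
  obtain ⟨c', φ', hc', hφ', hφ'c', ha'⟩ := ha
  obtain ⟨c'', φ'', hc'', hφ'', hφ''c'', hb'⟩ := hb
  have hc'U : c' ∈ U := h61_centre_mem U a c' φ' hφ' ha' hin
  by_cases hc''U : c'' ∈ U
  · intro v
    rw [hb' v, add_sub_cancel_left]
    exact U.smul_mem _ hc''U
  exfalso
  have hax := h61_axis_of U b c'' φ'' hb' (hUH b hbH) hc''U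
  have h0 : φ'' c' = 0 := hax c' hc'U
  have hne : φ' c'' ≠ 0 := by
    intro h
    exact hab (h61_commute_of a b c' c'' φ' φ'' ha' hb' h h0)
  have hainv := h61_tv_inv a c' φ' hφ'c' ha'
  have hbinv := h61_tv_inv b c'' φ'' hφ''c'' hb'
  have hk : ∀ x, (b * a * b⁻¹ * a⁻¹) x = x - (φ' c'' * φ'' x) • c' := by
    intro x
    simp only [LinearEquiv.mul_apply, hb', ha', hbinv, hainv, map_add, map_sub, map_smul,
      smul_eq_mul, hφ'c', hφ''c'', h0, mul_zero, sub_zero, add_zero]
    module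
  have hkH : b * a * b⁻¹ * a⁻¹ ∈ H :=
    H.mul_mem (H.mul_mem (H.mul_mem hbH haH) (H.inv_mem hbH)) (H.inv_mem haH)
  have hk1 : b * a * b⁻¹ * a⁻¹ = 1 := by
    refine hU ⊥ U (fun h _ u hu => ?_) hUH _ hkH (fun v => ?_) (fun u hu => ?_) (fun u hu => ?_)
    · rw [Submodule.mem_bot] at hu ⊢
      rw [hu, map_zero]
    · rw [hk v, sub_sub_cancel_left]
      exact U.neg_mem (U.smul_mem _ hc'U)
    · rw [hk u, hax u hu, mul_zero, zero_smul, sub_zero, sub_self]
      exact Submodule.zero_mem _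
    · rw [Submodule.mem_bot] at hu
      rw [hu, map_zero]
  obtain ⟨x, hx⟩ := h61_exists_ne φ'' hφ''
  have h3 := hk x
  rw [hk1] at h3
  have h4 : (φ' c'' * φ'' x) • c' = 0 := by
    have h5 : x = x - (φ' c'' * φ'' x) • c' := h3
    have h6 := sub_eq_self.mp h5.symm
    exact h6
  rcases smul_eq_zero.mp h4 with h | h
  · rcases mul_eq_zero.mp h with h' | h'
    · exact hne h'
    · exact hx h'
  · exact hc' h

/-- PIECE CFIN. -/
theorem comp_final (hp : p ≠ 2) [Finite V] (hIRR : IrrThm.{u} p) (H : Subgroup (V ≃ₗ[ZMod p] V))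
    (hU : UnipHyp H) (C : Set (V ≃ₗ[ZMod p] V)) (hC : Comp H C)
    (h1 : commSub (Subgroup.closure C) ⊓ fixSub (Subgroup.closure C) = ⊥)
    (h2 : commSub (Subgroup.closure C) ⊔ fixSub (Subgroup.closure C) = ⊤) : CompConcl C := by
  refine ⟨h1, h2, h61rho (Subgroup.closure C), fun k w => h61rho_apply _ k w, ?_⟩
  have hKH : Subgroup.closure C ≤ H := (Subgroup.closure_le H).mpr hC.sub
  -- the image of `t ∈ C` is a transvection of `W`
  have htv : ∀ (t : V ≃ₗ[ZMod p] V) (htC : t ∈ C),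
      IsTv (h61rho (Subgroup.closure C) ⟨t, Subgroup.subset_closure htC⟩) := by
    intro t htC
    obtain ⟨c, φ, hc, hφ, hφc, ht⟩ := hC.tv t htC
    have hcW : c ∈ commSub (Subgroup.closure C) := by
      refine h61_centre_mem _ t c φ hφ ht (fun v => ?_)
      exact Submodule.subset_span ⟨t, Subgroup.subset_closure htC, v, rfl⟩
    have hφW : ∃ w ∈ commSub (Subgroup.closure C), φ w ≠ 0 := by
      by_contra hcon
      push Not at hcon
      apply h61_tv_ne_one (hC.tv t htC)
      ext v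
      have hv : v ∈ commSub (Subgroup.closure C) ⊔ fixSub (Subgroup.closure C) := by
        rw [h2]; trivial
      obtain ⟨w, hw, f, hf, rfl⟩ := Submodule.mem_sup.mp hv
      rw [map_add, ht w, hcon w hw, zero_smul, add_zero,
        hf t (Subgroup.subset_closure htC)]
      rfl
    obtain ⟨w₀, hw₀, hφw₀⟩ := hφW
    refine ⟨⟨c, hcW⟩, φ.comp (commSub (Subgroup.closure C)).subtype, ?_, ?_, ?_, fun x => ?_⟩
    · intro h
      exact hc (congrArg Subtype.val h)
    · intro h
      apply hφw₀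
      have := congrArg (fun f : Module.Dual (ZMod p) ↥(commSub (Subgroup.closure C)) =>
        f ⟨w₀, hw₀⟩) h
      simpa using this
    · simpa using hφc
    · apply Subtype.ext
      rw [h61rho_apply]
      simp [ht]
  apply hIRR
  · -- generated by transvections
    apply le_antisymm
    · have hrange : (h61rho (Subgroup.closure C)).range =
          Subgroup.closure (h61rho (Subgroup.closure C) '' (Subtype.val ⁻¹' C)) := by
        rw [MonoidHom.range_eq_map, ← MonoidHom.map_closure,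
          Subgroup.closure_closure_coe_preimage]
      refine hrange.le.trans ?_
      apply Subgroup.closure_mono
      rintro _ ⟨x, hx, rfl⟩
      exact ⟨⟨x, rfl⟩, htv x.1 hx⟩
    · rw [Subgroup.closure_le]
      exact fun g hg => hg.1
  · -- non-trivial
    obtain ⟨t₀, ht₀⟩ := hC.ne
    intro hbot
    have h3 : h61rho (Subgroup.closure C) ⟨t₀, Subgroup.subset_closure ht₀⟩ ∈
        (h61rho (Subgroup.closure C)).range := ⟨_, rfl⟩
    rw [hbot, Subgroup.mem_bot] at h3
    exact h61_tv_ne_one (htv t₀ ht₀) h3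
  · -- irreducible
    intro U hUinv
    -- the subspace of `V`
    obtain ⟨U', hU'⟩ : ∃ U' : Submodule (ZMod p) V,
        U' = U.map (commSub (Subgroup.closure C)).subtype := ⟨_, rfl⟩
    have hmem : ∀ u : V, u ∈ U' ↔ ∃ x ∈ U, (x : V) = u := by
      intro u
      rw [hU', Submodule.mem_map]
      rfl
    have hU'W : U' ≤ commSub (Subgroup.closure C) := by
      intro u hu
      obtain ⟨x, -, rfl⟩ := (hmem u).mp hu
      exact x.2
    have hU'K : ∀ k ∈ Subgroup.closure C, ∀ u ∈ U', k u ∈ U' := by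
      intro k hk u hu
      obtain ⟨x, hx, rfl⟩ := (hmem u).mp hu
      exact (hmem _).mpr ⟨h61rho (Subgroup.closure C) ⟨k, hk⟩ x,
        hUinv _ ⟨⟨k, hk⟩, rfl⟩ x hx, rfl⟩
    have hU'H : ∀ h ∈ H, ∀ u ∈ U', h u ∈ U' := by
      intro h hh u hu
      obtain ⟨k, hk, hk'⟩ := hC.fixW h hh
      rw [hk' u (hU'W hu)]
      exact hU'K k hk u hu
    have hstep : ∀ a b : V ≃ₗ[ZMod p] V, (a ∈ C ∧ b ∈ C ∧ ¬ Commute a b) →
        (∀ v, a v - v ∈ U') → ∀ v, b v - v ∈ U' := by
      rintro a b ⟨haC, hbC, hab⟩ hin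
      exact h61_step H hU U' hU'H a b (hC.sub a haC) (hC.sub b hbC) (hC.tv a haC)
        (hC.tv b hbC) hab hin
    have hpath : ∀ a b : V ≃ₗ[ZMod p] V,
        Relation.ReflTransGen (fun a b => a ∈ C ∧ b ∈ C ∧ ¬ Commute a b) a b →
        (∀ v, a v - v ∈ U') → ∀ v, b v - v ∈ U' := by
      intro a b hab
      induction hab with
      | refl => exact fun h => h
      | tail _ hbc ih => exact fun h => hstep _ _ hbc (ih h)
    obtain ⟨t₀, ht₀⟩ := hC.ne
    by_cases hin : ∀ v, t₀ v - v ∈ U'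
    · right
      have hall : ∀ t ∈ C, ∀ v, t v - v ∈ U' :=
        fun t ht => hpath t₀ t (hC.conn t₀ ht₀ t ht) hin
      have hWU : commSub (Subgroup.closure C) ≤ U' := by
        refine (h61_commSub_closure_le C).trans ?_
        rw [Submodule.span_le]
        rintro _ ⟨t, ht, v, rfl⟩
        exact hall t ht v
      rw [eq_top_iff]
      intro x _
      obtain ⟨y, hy, hyx⟩ := (hmem _).mp (hWU x.2)
      have : y = x := Subtype.ext hyx
      rwa [this] at hy
    · left
      have hnone : ∀ t ∈ C, ¬ ∀ v, t v - v ∈ U' :=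
        fun t ht h => hin (hpath t t₀ (hC.conn t ht t₀ ht₀) h)
      have hfix : U' ≤ fixSub (Subgroup.closure C) := by
        intro u hu
        apply h61_fix_closure
        intro t ht
        obtain ⟨c, φ, hc, hφ, hφc, htx⟩ := hC.tv t ht
        have hcU : c ∉ U' := by
          intro hcU
          apply hnone t ht
          intro v
          rw [htx v, add_sub_cancel_left]
          exact U'.smul_mem _ hcU
        have hax := h61_axis_of U' t c φ htx (hU'K t (Subgroup.subset_closure ht)) hcU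
        rw [htx u, hax u hu, zero_smul, add_zero]
      have hbot : U' = ⊥ := by
        rw [eq_bot_iff, ← h1]
        exact le_inf hU'W hfix
      rw [eq_bot_iff]
      intro x hx
      have h3 : (x : V) ∈ U' := (hmem _).mpr ⟨x, hx, rfl⟩
      rw [hbot, Submodule.mem_bot] at h3
      rw [Submodule.mem_bot]
      exact Subtype.ext h3

end Cfsg.Agent.Lib.helper61.McL
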