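/-
S5075 (helper85 split, McLaughlin over `ZMod p`), piece COMPS: the components of the
"do not commute" graph on the transvections of `H`.
-/
import Mathlib
import Cfsg.Agent.Lib.helper85.McLDefs
import Cfsg.Agent.Lib.helper61.McLBasic

set_option autoImplicit false

namespace Cfsg.Agent.Lib.helper61.McL

open Cfsg.Agent.Lib.helper85.McL

universe u

variable {p : ℕ} [Fact p.Prime] {V : Type u} [AddCommGroup V] [Module (ZMod p) V]

/-- the "do not commute" relation on the transvections of `H` -/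
def h61R (H : Subgroup (V ≃ₗ[ZMod p] V)) (a b : V ≃ₗ[ZMod p] V) : Prop :=
  (a ∈ H ∧ IsTv a) ∧ (b ∈ H ∧ IsTv b) ∧ ¬ Commute a b

/-- the component of `t` -/
def h61comp (H : Subgroup (V ≃ₗ[ZMod p] V)) (t : V ≃ₗ[ZMod p] V) : Set (V ≃ₗ[ZMod p] V) :=
  {s | Relation.ReflTransGen (h61R H) t s}

theorem h61_rtg_symm {α : Type*} (r : α → α → Prop) (hr : ∀ a b, r a b → r b a) :
    ∀ a b, Relation.ReflTransGen r a b → Relation.ReflTransGen r b a := by
  intro a b h
  induction h with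
  | refl => exact Relation.ReflTransGen.refl
  | tail _ hbc ih => exact Relation.ReflTransGen.head (hr _ _ hbc) ih

theorem h61R_symm (H : Subgroup (V ≃ₗ[ZMod p] V)) : ∀ a b, h61R H a b → h61R H b a :=
  fun _ _ h => ⟨h.2.1, h.1, fun hc => h.2.2 hc.symm⟩

theorem h61comp_mem (H : Subgroup (V ≃ₗ[ZMod p] V)) (t : V ≃ₗ[ZMod p] V)
    (ht : t ∈ H ∧ IsTv t) (s : V ≃ₗ[ZMod p] V) (hs : s ∈ h61comp H t) : s ∈ H ∧ IsTv s := by
  rcases Relation.ReflTransGen.cases_tail hs with h | ⟨b, -, hb⟩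
  · rw [h]; exact ht
  · exact hb.2.1

theorem h61comp_eq (H : Subgroup (V ≃ₗ[ZMod p] V)) (a b x : V ≃ₗ[ZMod p] V)
    (ha : x ∈ h61comp H a) (hb : x ∈ h61comp H b) : h61comp H a = h61comp H b := by
  have hsym := h61_rtg_symm (h61R H) (h61R_symm H)
  ext y
  constructor
  · intro hy
    exact (Relation.ReflTransGen.trans hb (hsym _ _ ha)).trans hy
  · intro hy
    exact (Relation.ReflTransGen.trans ha (hsym _ _ hb)).trans hy

theorem h61_comp_of (H : Subgroup (V ≃ₗ[ZMod p] V)) (T : Set (V ≃ₗ[ZMod p] V))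
    (hHT : H = Subgroup.closure T) (hT : ∀ t ∈ T, IsTv t) (t : V ≃ₗ[ZMod p] V)
    (ht : t ∈ H ∧ IsTv t) : Comp H (h61comp H t) := by
  have hTH : ∀ g ∈ T, g ∈ H ∧ IsTv g := fun g hg =>
    ⟨by rw [hHT]; exact Subgroup.subset_closure hg, hT g hg⟩
  -- conjugation by a transvection of `H`
  have hconj1 : ∀ g : V ≃ₗ[ZMod p] V, (g ∈ H ∧ IsTv g) → ∀ s ∈ h61comp H t,
      g * s * g⁻¹ ∈ h61comp H t := by
    intro g hg s hs
    by_cases hc : Commute g s
    · rw [hc.eq, mul_inv_cancel_right]; exact hs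
    · have hsT := h61comp_mem H t ht s hs
      have h1 : h61R H s g := ⟨hsT, hg, fun h => hc h.symm⟩
      have h2 : h61R H g (g * s * g⁻¹) := by
        refine ⟨hg, ⟨H.mul_mem (H.mul_mem hg.1 hsT.1) (H.inv_mem hg.1), h61_isTv_conj hsT.2 g⟩, ?_⟩
        intro h
        apply hc
        have h3 : g * (g * s * g⁻¹) = g * s := by
          rw [h.eq, inv_mul_cancel_right]
        have h4 : g * s * g⁻¹ = s := mul_left_cancel h3
        show g * s = s * g
        rw [← h4, inv_mul_cancel_right, h4]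
      exact (Relation.ReflTransGen.tail hs h1).tail h2
  refine ⟨⟨t, Relation.ReflTransGen.refl⟩, fun s hs => (h61comp_mem H t ht s hs).2,
    fun s hs => (h61comp_mem H t ht s hs).1, ?_, ?_, ?_⟩
  · -- conj
    intro h hh s hs
    have hh' : h ∈ Subgroup.closure T := hHT ▸ hh
    have key : ∀ s, s ∈ h61comp H t ↔ h * s * h⁻¹ ∈ h61comp H t := by
      clear hh hs
      induction hh' using Subgroup.closure_induction with
      | mem g hg =>
        intro s
        constructor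
        · exact hconj1 g (hTH g hg) s
        · intro hs'
          have h1 := hconj1 g⁻¹ ⟨H.inv_mem (hTH g hg).1, h61_isTv_inv (hTH g hg).2⟩ _ hs'
          have h2 : g⁻¹ * (g * s * g⁻¹) * g⁻¹⁻¹ = s := by group
          rwa [h2] at h1
      | one => intro s; simp
      | mul a b _ _ iha ihb =>
        intro s
        rw [ihb s, iha (b * s * b⁻¹)]
        have h2 : a * (b * s * b⁻¹) * a⁻¹ = a * b * s * (a * b)⁻¹ := by group
        rw [h2]
      | inv a _ iha =>
        intro s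
        rw [iha (a⁻¹ * s * a⁻¹⁻¹)]
        have h2 : a * (a⁻¹ * s * a⁻¹⁻¹) * a⁻¹ = s := by group
        rw [h2]
    exact (key s).mp hs
  · -- conn
    have hA : ∀ s, Relation.ReflTransGen (h61R H) t s →
        Relation.ReflTransGen (fun a b => a ∈ h61comp H t ∧ b ∈ h61comp H t ∧ ¬ Commute a b)
          t s := by
      intro s hs
      induction hs with
      | refl => exact Relation.ReflTransGen.refl
      | tail hab hbc ih => exact ih.tail ⟨hab, hab.tail hbc, hbc.2.2⟩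
    have hsym : ∀ a b : V ≃ₗ[ZMod p] V,
        (a ∈ h61comp H t ∧ b ∈ h61comp H t ∧ ¬ Commute a b) →
        (b ∈ h61comp H t ∧ a ∈ h61comp H t ∧ ¬ Commute b a) :=
      fun _ _ h => ⟨h.2.1, h.1, fun hc => h.2.2 hc.symm⟩
    intro s hs s' hs'
    exact Relation.ReflTransGen.trans (h61_rtg_symm _ hsym _ _ (hA s hs)) (hA s' hs')
  · -- fixW
    intro h hh
    have hh' : h ∈ Subgroup.closure T := hHT ▸ hh
    induction hh' using Subgroup.closure_induction with
    | mem g hg =>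
      by_cases hgC : g ∈ h61comp H t
      · exact ⟨g, Subgroup.subset_closure hgC, fun w _ => rfl⟩
      · refine ⟨1, Subgroup.one_mem _, fun w hw => ?_⟩
        have hle : Submodule.span (ZMod p) {w | ∃ s ∈ h61comp H t, ∃ v : V, w = s v - v} ≤
            LinearMap.ker ((g : V →ₗ[ZMod p] V) - LinearMap.id) := by
          rw [Submodule.span_le]
          rintro _ ⟨s, hs, v, rfl⟩
          have hsT := h61comp_mem H t ht s hs
          have hcomm : Commute s g := by
            by_contra hc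
            exact hgC (Relation.ReflTransGen.tail hs ⟨hsT, hTH g hg, hc⟩)
          have h1 := h61_commute_fix hsT.2 (hTH g hg).2 hcomm v
          rw [SetLike.mem_coe, LinearMap.mem_ker, LinearMap.sub_apply, LinearMap.id_apply,
            LinearEquiv.coe_coe, h1, sub_self]
        have h2 := hle (h61_commSub_closure_le _ hw)
        rw [LinearMap.mem_ker, LinearMap.sub_apply, LinearMap.id_apply, LinearEquiv.coe_coe,
          sub_eq_zero] at h2
        exact h2
    | one => exact ⟨1, Subgroup.one_mem _, fun w _ => rfl⟩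
    | mul a b ha hb iha ihb =>
      obtain ⟨ka, hka, hka'⟩ := iha (hHT ▸ ha)
      obtain ⟨kb, hkb, hkb'⟩ := ihb (hHT ▸ hb)
      refine ⟨ka * kb, Subgroup.mul_mem _ hka hkb, fun w hw => ?_⟩
      rw [LinearEquiv.mul_apply, LinearEquiv.mul_apply, hkb' w hw,
        hka' _ (h61_commSub_inv _ kb hkb w hw)]
    | inv a ha iha =>
      obtain ⟨ka, hka, hka'⟩ := iha (hHT ▸ ha)
      refine ⟨ka⁻¹, Subgroup.inv_mem _ hka, fun w hw => ?_⟩
      apply a.injective
      rw [h61_apply_inv, hka' _ (h61_commSub_inv _ ka⁻¹ (Subgroup.inv_mem _ hka) w hw),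
        h61_apply_inv]

/-- PIECE COMPS. -/
theorem comps_exist [Finite V] (H : Subgroup (V ≃ₗ[ZMod p] V)) (T : Set (V ≃ₗ[ZMod p] V))
    (hHT : H = Subgroup.closure T) (hT : ∀ t ∈ T, IsTv t) :
    ∃ (n : ℕ) (C : Fin n → Set (V ≃ₗ[ZMod p] V)),
      (∀ i, Comp H (C i)) ∧
      (∀ i j, i ≠ j → ∀ s ∈ C i, ∀ t ∈ C j, Commute s t) ∧
      (⨆ i, Subgroup.closure (C i)) = H := by
  classical
  haveI : Finite (V ≃ₗ[ZMod p] V) :=
    Finite.of_injective (fun f : V ≃ₗ[ZMod p] V => (f : V → V)) DFunLike.coe_injective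
  obtain ⟨𝒞, h𝒞⟩ : ∃ 𝒞 : Set (Set (V ≃ₗ[ZMod p] V)),
      ∀ C, C ∈ 𝒞 ↔ ∃ t, (t ∈ H ∧ IsTv t) ∧ C = h61comp H t :=
    ⟨{C | ∃ t, (t ∈ H ∧ IsTv t) ∧ C = h61comp H t}, fun C => Iff.rfl⟩
  haveI : Finite 𝒞 := Finite.of_injective (fun C : 𝒞 => (C : Set (V ≃ₗ[ZMod p] V)))
    Subtype.val_injective
  obtain ⟨e⟩ : Nonempty (𝒞 ≃ Fin (Nat.card 𝒞)) := ⟨Finite.equivFin 𝒞⟩
  have hTH : ∀ g ∈ T, g ∈ H ∧ IsTv g := fun g hg =>
    ⟨by rw [hHT]; exact Subgroup.subset_closure hg, hT g hg⟩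
  refine ⟨Nat.card 𝒞, fun i => (e.symm i : Set (V ≃ₗ[ZMod p] V)), ?_, ?_, ?_⟩
  · intro i
    obtain ⟨t, ht, hCi⟩ := (h𝒞 _).mp (e.symm i).2
    show Comp H (e.symm i : Set (V ≃ₗ[ZMod p] V))
    rw [hCi]
    exact h61_comp_of H T hHT hT t ht
  · intro i j hij s hs t ht
    by_contra hcomm
    apply hij
    obtain ⟨a, ha, hCi⟩ := (h𝒞 _).mp (e.symm i).2
    obtain ⟨b, hb, hCj⟩ := (h𝒞 _).mp (e.symm j).2
    have hs' : s ∈ h61comp H a := hCi ▸ hs
    have ht' : t ∈ h61comp H b := hCj ▸ ht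
    have ht'' : t ∈ h61comp H a :=
      Relation.ReflTransGen.tail hs' ⟨h61comp_mem H a ha s hs', h61comp_mem H b hb t ht', hcomm⟩
    have heq : (e.symm i : Set (V ≃ₗ[ZMod p] V)) = (e.symm j : Set (V ≃ₗ[ZMod p] V)) := by
      rw [hCi, hCj]
      exact h61comp_eq H a b t ht'' ht'
    exact e.symm.injective (Subtype.ext heq)
  · apply le_antisymm
    · apply iSup_le
      intro i
      obtain ⟨t, ht, hCi⟩ := (h𝒞 _).mp (e.symm i).2
      rw [Subgroup.closure_le]
      intro s hs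
      have hs' : s ∈ h61comp H t := hCi ▸ hs
      exact (h61comp_mem H t ht s hs').1
    · calc H = Subgroup.closure T := hHT
        _ ≤ _ := by
          rw [Subgroup.closure_le]
          intro g hg
          have hmem : h61comp H g ∈ 𝒞 := (h𝒞 _).mpr ⟨g, hTH g hg, rfl⟩
          have h1 : g ∈ (e.symm (e ⟨h61comp H g, hmem⟩) : Set (V ≃ₗ[ZMod p] V)) := by
            rw [Equiv.symm_apply_apply]
            exact Relation.ReflTransGen.refl
          exact Subgroup.mem_iSup_of_mem (e ⟨h61comp H g, hmem⟩) (Subgroup.subset_closure h1)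

end Cfsg.Agent.Lib.helper61.McL
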