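import Mathlib
import Cfsg.Agent.Lib.helper61.Act16

/-!
# Module facts for a `2^3 : 3` acting on an elementary abelian group of order 16

Shared library file of seat `helper61` (used for S3104).
-/

set_option autoImplicit false

namespace Cfsg.Agent.Lib.helper61.ModFacts

open Cfsg.Agent.Lib.helper61.Act16

/-- `g` has no nonzero fixed vector on `V`. -/
def Fpf (V : Type*) [AddCommGroup V] {H : Type*} [Group H] [DistribMulAction H V] (g : H) : Prop :=
  ∀ v : V, g • v = v → v = 0

section Basic

variable {V : Type*} [AddCommGroup V] {H : Type*} [Group H] [DistribMulAction H V]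

theorem neg_eq (h2 : ∀ x : V, x + x = 0) (x : V) : -x = x := by
  rw [neg_eq_iff_add_eq_zero]
  exact h2 x

theorem eq_of_sum3 (h2 : ∀ x : V, x + x = 0) {p q r : V} (h : p + q + r = 0) : p = q + r := by
  have : p = -(q + r) := by
    rw [eq_neg_iff_add_eq_zero, ← h]
    abel
  rw [this, neg_eq h2]

theorem eq_of_sum2 (h2 : ∀ x : V, x + x = 0) {p q : V} (h : p + q = 0) : p = q := by
  have : p = -q := by
    rw [eq_neg_iff_add_eq_zero, ← h]
  rw [this, neg_eq h2]

theorem smul3 (g : H) (hg : g ^ 3 = 1) (v : V) : g • g • g • v = v := by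
  have h : g * g * g = 1 := by rw [← hg, pow_succ, pow_succ, pow_one]
  rw [smul_smul, smul_smul, h, one_smul]

theorem fpf_sum (g : H) (hg : g ^ 3 = 1) (hf : Fpf V g) (v : V) : g • g • v + g • v + v = 0 := by
  apply hf
  rw [smul_add, smul_add, smul3 g hg]
  abel

theorem fpf_conj {x y g : H} (hg : g * x = y * g) (hf : Fpf V y) : Fpf V x := by
  intro v hv
  have h1 : y • g • v = g • v := by
    rw [smul_smul, ← hg, mul_smul, hv]
  have h2 := hf _ h1
  exact (smul_eq_zero_iff_eq g).mp h2

end Basic

section Fin

variable {V : Type*} [AddCommGroup V] [Fintype V] {H : Type*} [Group H] [DistribMulAction H V]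

omit [Fintype V] in
theorem fpf_iff_card (g : H) : Fpf V g ↔ Nat.card (fixG (V := V) g) = 1 := by
  rw [AddSubgroup.card_eq_one]
  constructor
  · intro h
    rw [eq_bot_iff]
    intro v hv
    exact h v hv
  · intro h v hv
    have : v ∈ fixG (V := V) g := hv
    rw [h] at this
    exact this

/-- enumeration of a `g`-invariant subgroup of order 4 on which `g` acts fixed point freely -/
theorem four_enum (g : H) (hg : g ^ 3 = 1) (K : AddSubgroup V) (hK : Nat.card K = 4)
    (hinv : ∀ k ∈ K, g • k ∈ K) (hf : ∀ k ∈ K, g • k = k → k = 0) (w : V) (hw : w ∈ K)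
    (hw0 : w ≠ 0) : ∀ t ∈ K, t = 0 ∨ t = w ∨ t = g • w ∨ t = g • g • w := by
  classical
  have h1 : g • w ≠ w := fun h => hw0 (hf w hw h)
  have h2 : g • w ≠ 0 := fun h => hw0 ((smul_eq_zero_iff_eq g).mp h)
  have h3 : g • g • w ≠ 0 := fun h => h2 ((smul_eq_zero_iff_eq g).mp h)
  have h4 : g • g • w ≠ g • w := fun h => h1 (smul_left_cancel g h)
  have h5 : g • g • w ≠ w := by
    intro h
    apply h1
    have := congrArg (fun t => g • t) h
    simp only [smul3 g hg] at this
    exact this.symm
  let S : Finset V := {0, w, g • w, g • g • w}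
  have hS : S.card = 4 := by
    rw [Finset.card_insert_of_notMem, Finset.card_insert_of_notMem, Finset.card_insert_of_notMem,
      Finset.card_singleton]
    · simp only [Finset.mem_singleton]
      exact fun h => h4 h.symm
    · simp only [Finset.mem_insert, Finset.mem_singleton, not_or]
      exact ⟨fun h => h1 h.symm, fun h => h5 h.symm⟩
    · simp only [Finset.mem_insert, Finset.mem_singleton, not_or]
      exact ⟨fun h => hw0 h.symm, fun h => h2 h.symm, fun h => h3 h.symm⟩
  have hsub : (S : Set V) ⊆ (K : Set V) := by
    intro t ht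
    simp only [S, Finset.coe_insert, Finset.coe_singleton, Set.mem_insert_iff,
      Set.mem_singleton_iff] at ht
    rcases ht with rfl | rfl | rfl | rfl
    · exact K.zero_mem
    · exact hw
    · exact hinv _ hw
    · exact hinv _ (hinv _ hw)
  have heq : (S : Set V) = (K : Set V) := by
    apply Set.eq_of_subset_of_ncard_le hsub _ (Set.toFinite _)
    rw [Set.ncard_coe_finset, hS, ← Nat.card_coe_set_eq]
    exact le_of_eq hK
  intro t ht
  have : t ∈ (S : Set V) := heq ▸ ht
  simpa [S] using this

variable [FaithfulSMul H V]

theorem fix3_cases (hV : Fintype.card V = 16) (g : H) (hg : g ^ 3 = 1) (hg1 : g ≠ 1) :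
    Nat.card (fixG (V := V) g) = 1 ∨ Nat.card (fixG (V := V) g) = 4 := by
  have : Fact (Nat.Prime 3) := ⟨by norm_num⟩
  have hd := card_fix_dvd (V := V) hV g
  have hm := card_fix_modEq (V := V) hV 3 g hg
  have hlt : Nat.card (fixG (V := V) g) < 16 := by
    by_contra hcon
    exact hg1 (eq_one_of_card_fix hV g (not_lt.mp hcon))
  generalize Nat.card (fixG (V := V) g) = n at *
  unfold Nat.ModEq at hm
  interval_cases n <;> omega

theorem card_fix_of_not_fpf (hV : Fintype.card V = 16) (g : H) (hg : g ^ 3 = 1) (hg1 : g ≠ 1)
    (hf : ¬ Fpf V g) : Nat.card (fixG (V := V) g) = 4 := by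
  rcases fix3_cases hV g hg hg1 with h | h
  · exact absurd ((fpf_iff_card g).mpr h) hf
  · exact h

end Fin


/-- The configuration: commuting involutions `a, b, c` permuted cyclically by an element `d` of
order `3` without nonzero fixed vectors. -/
structure Cfg (V : Type*) [AddCommGroup V] {H : Type*} [Group H] [DistribMulAction H V]
    (a b c d : H) : Prop where
  ha : a * a = 1
  hb : b * b = 1
  hc : c * c = 1
  hab : a * b = b * a
  hac : a * c = c * a
  hbc : b * c = c * b
  hda : d * a = b * d
  hdb : d * b = c * d
  hdc : d * c = a * d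
  hd3 : d ^ 3 = 1
  hz : a * b * c ≠ 1
  hfd : Fpf V d

namespace Cfg

section NoFin

variable {V : Type*} [AddCommGroup V] {H : Type*} [Group H] [DistribMulAction H V]
variable {a b c d : H} (h : Cfg V a b c d)
include h

theorem sa (v : V) : a • a • v = v := by rw [smul_smul, h.ha, one_smul]
theorem sb (v : V) : b • b • v = v := by rw [smul_smul, h.hb, one_smul]
theorem sc (v : V) : c • c • v = v := by rw [smul_smul, h.hc, one_smul]
theorem sab (v : V) : a • b • v = b • a • v := by rw [smul_smul, h.hab, mul_smul]
theorem sac (v : V) : a • c • v = c • a • v := by rw [smul_smul, h.hac, mul_smul]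
theorem sbc (v : V) : b • c • v = c • b • v := by rw [smul_smul, h.hbc, mul_smul]
theorem sda (v : V) : d • a • v = b • d • v := by rw [smul_smul, h.hda, mul_smul]
theorem sdb (v : V) : d • b • v = c • d • v := by rw [smul_smul, h.hdb, mul_smul]
theorem sdc (v : V) : d • c • v = a • d • v := by rw [smul_smul, h.hdc, mul_smul]
theorem sd3 (v : V) : d • d • d • v = v := smul3 d h.hd3 v
set_option linter.unusedSectionVars false in
theorem sz (v : V) : (a * b * c) • v = a • b • c • v := by rw [mul_smul, mul_smul]

theorem zz (v : V) : a • b • c • a • b • c • v = v := by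
  rw [← h.sac, ← h.sab, h.sa, ← h.sbc, h.sb, h.sc]

theorem zd (v : V) : a • b • c • d • v = d • a • b • c • v := by
  rw [← h.sdb, ← h.sda, ← h.sdc, ← h.sac, ← h.sbc]

theorem za (v : V) : a • b • c • a • v = a • a • b • c • v := by
  rw [← h.sac, ← h.sab]

theorem zb (v : V) : a • b • c • b • v = b • a • b • c • v := by
  rw [← h.sbc, h.sab]

theorem zc (v : V) : a • b • c • c • v = c • a • b • c • v := by
  rw [h.sc, ← h.sac, ← h.sbc, h.sc]

theorem zsq : (a * b * c) * (a * b * c) = 1 := by
  have e1 : c * a = a * c := h.hac.symm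
  have e2 : c * b = b * c := h.hbc.symm
  have e3 : b * a = a * b := h.hab.symm
  calc a * b * c * (a * b * c) = a * b * (c * a) * b * c := by simp only [mul_assoc]
    _ = a * b * (a * c) * b * c := by rw [e1]
    _ = a * (b * a) * (c * b) * c := by simp only [mul_assoc]
    _ = a * (a * b) * (b * c) * c := by rw [e3, e2]
    _ = a * a * (b * b) * (c * c) := by simp only [mul_assoc]
    _ = 1 := by rw [h.ha, h.hb, h.hc]; simp

theorem W_d (w : V) (hw : a • b • c • w = w) : a • b • c • d • w = d • w := by
  rw [h.zd, hw]

end NoFin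

section Fin

variable {V : Type*} [AddCommGroup V] [Fintype V] {H : Type*} [Group H] [DistribMulAction H V]
  [FaithfulSMul H V]
variable {a b c d : H} (h : Cfg V a b c d)
include h

theorem card_W (hV : Fintype.card V = 16) : Nat.card (fixG (V := V) (a * b * c)) = 4 := by
  have hp2 : Fact (Nat.Prime 2) := ⟨Nat.prime_two⟩
  have hp3 : Fact (Nat.Prime 3) := ⟨by norm_num⟩
  have hd := card_fix_dvd (V := V) hV (a * b * c)
  have hm2 := card_fix_modEq (V := V) hV 2 (a * b * c) (by rw [pow_two]; exact h.zsq)
  have hlt : Nat.card (fixG (V := V) (a * b * c)) < 16 := by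
    by_contra hcon
    exact h.hz (eq_one_of_card_fix hV _ (not_lt.mp hcon))
  have hm3 := ncard_modEq_fixed 3 (fun x : V => d • x) (fixG (V := V) (a * b * c) : Set V)
    (fun x hx => by
      have hx' : (a * b * c) • x = x := hx
      show (a * b * c) • d • x = d • x
      rw [h.sz, h.zd, ← h.sz, hx'])
    (fun x _ => by rw [smul_iterate, h.hd3]; exact one_smul _ x)
  have e : {x ∈ (fixG (V := V) (a * b * c) : Set V) | d • x = x} = {0} := by
    ext x
    simp only [Set.mem_singleton_iff]
    constructor
    · rintro ⟨_, hx⟩
      exact h.hfd x hx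
    · rintro rfl
      exact ⟨AddSubgroup.zero_mem _, smul_zero d⟩
  have e1 : Nat.card (fixG (V := V) (a * b * c)) = (fixG (V := V) (a * b * c) : Set V).ncard :=
    Nat.card_coe_set_eq _
  rw [e, Set.ncard_singleton, ← e1] at hm3
  generalize Nat.card (fixG (V := V) (a * b * c)) = n at *
  unfold Nat.ModEq at hm2 hm3
  interval_cases n <;> omega

theorem W_fix_a (hV : Fintype.card V = 16) (w : V) (hw : a • b • c • w = w) : a • w = w := by
  by_cases hw0 : w = 0
  · rw [hw0, smul_zero]
  have hWd : ∀ k ∈ fixG (V := V) (a * b * c), d • k ∈ fixG (V := V) (a * b * c) := by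
    intro k hk
    have hk' : (a * b * c) • k = k := hk
    show (a * b * c) • d • k = d • k
    rw [h.sz, h.zd, ← h.sz, hk']
  have hwW : w ∈ fixG (V := V) (a * b * c) := by
    show (a * b * c) • w = w
    rw [h.sz, hw]
  have hen := four_enum d h.hd3 (fixG (V := V) (a * b * c)) (h.card_W hV) hWd
    (fun k _ hk => h.hfd k hk) w hwW hw0
  have haw : a • w ∈ fixG (V := V) (a * b * c) := by
    show (a * b * c) • a • w = a • w
    rw [h.sz, h.za, hw]
  have hsum : w + d • w + d • d • w = 0 := by
    have := fpf_sum d h.hd3 h.hfd w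
    rw [← this]
    abel
  rcases hen (a • w) haw with h0 | h1 | h2 | h3
  · exact absurd ((smul_eq_zero_iff_eq a).mp h0) hw0
  · exact h1
  · exfalso
    have A1 : a • d • w = w := by rw [← h2, h.sa]
    have A2 : a • d • d • w = d • d • w := by
      have e1 := congrArg (fun t => a • t) hsum
      simp only [smul_add, smul_zero, h2, A1] at e1
      have e2 : a • d • d • w = -(d • w + w) := by
        rw [eq_neg_iff_add_eq_zero, ← e1]
        abel
      have e3 : d • d • w = -(d • w + w) := by
        rw [eq_neg_iff_add_eq_zero, ← hsum]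
        abel
      exact e2.trans e3.symm
    have B1 : b • d • w = d • d • w := by rw [← h.sda, h2]
    have e4 : b • w = d • d • w := by
      have := h.sab (d • w)
      rw [B1, A2, A1] at this
      exact this.symm
    have e5 : b • w = b • d • w := by rw [e4, B1]
    have e6 := smul_left_cancel b e5
    exact hw0 (h.hfd w e6.symm)
  · exfalso
    have A1 : a • d • d • w = w := by rw [← h3, h.sa]
    have A2 : a • d • w = d • w := by
      have e1 := congrArg (fun t => a • t) hsum
      simp only [smul_add, smul_zero, h3, A1] at e1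
      have e2 : a • d • w = -(d • d • w + w) := by
        rw [eq_neg_iff_add_eq_zero, ← e1]
        abel
      have e3 : d • w = -(d • d • w + w) := by
        rw [eq_neg_iff_add_eq_zero, ← hsum]
        abel
      exact e2.trans e3.symm
    have C1 : c • d • d • w = d • w := by
      rw [← h.sdb, ← h.sda, h3, h.sd3]
    have e4 : c • w = d • w := by
      have := h.sac (d • d • w)
      rw [C1, A2, A1] at this
      exact this.symm
    have e5 : c • w = c • d • d • w := by rw [e4, C1]
    have e6 := smul_left_cancel c e5
    have e7 : d • w = w := by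
      have := congrArg (fun t => d • t) e6
      simp only [h.sd3] at this
      exact this
    exact hw0 (h.hfd w e7)

theorem W_fix_b (hV : Fintype.card V = 16) (w : V) (hw : a • b • c • w = w) : b • w = w := by
  have hw2 : a • b • c • (d • d • w) = d • d • w := h.W_d _ (h.W_d _ hw)
  have h1 := h.W_fix_a hV _ hw2
  calc b • w = b • d • d • d • w := by rw [h.sd3]
    _ = d • a • d • d • w := by rw [← h.sda]
    _ = d • d • d • w := by rw [h1]
    _ = w := h.sd3 w

theorem W_fix_c (hV : Fintype.card V = 16) (w : V) (hw : a • b • c • w = w) : c • w = w := by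
  have hw2 : a • b • c • (d • d • w) = d • d • w := h.W_d _ (h.W_d _ hw)
  have h1 := h.W_fix_b hV _ hw2
  calc c • w = c • d • d • d • w := by rw [h.sd3]
    _ = d • b • d • d • w := by rw [← h.sdb]
    _ = d • d • d • w := by rw [h1]
    _ = w := h.sd3 w

omit [Fintype V] [FaithfulSMul H V] in
theorem comm_aux (h2 : ∀ x : V, x + x = 0) (x : H)
    (hx : ∀ w : V, a • b • c • w = w → x • w = w)
    (hxz : ∀ v : V, x • a • b • c • v = a • b • c • x • v) (v : V) :
    a • b • c • (x • v + v) = x • v + v := by
  have hq : a • b • c • (a • b • c • v + v) = a • b • c • v + v := by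
    simp only [smul_add]
    rw [h.zz, add_comm]
  have hq2 := hx _ hq
  rw [smul_add, hxz] at hq2
  simp only [smul_add]
  have e0 : (a • b • c • x • v + a • b • c • v) + (x • v + v) = 0 := by
    have : (a • b • c • x • v + a • b • c • v) + (x • v + v)
        = (a • b • c • x • v + x • v) + (a • b • c • v + v) := by abel
    rw [this, hq2, h2]
  exact eq_of_sum2 h2 e0

theorem mem_W_a (hV : Fintype.card V = 16) (h2 : ∀ x : V, x + x = 0) (v : V) :
    a • b • c • (a • v + v) = a • v + v :=
  h.comm_aux h2 a (h.W_fix_a hV) (fun v => (h.za v).symm) v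

theorem mem_W_b (hV : Fintype.card V = 16) (h2 : ∀ x : V, x + x = 0) (v : V) :
    a • b • c • (b • v + v) = b • v + v :=
  h.comm_aux h2 b (h.W_fix_b hV) (fun v => (h.zb v).symm) v

theorem mem_W_c (hV : Fintype.card V = 16) (h2 : ∀ x : V, x + x = 0) (v : V) :
    a • b • c • (c • v + v) = c • v + v :=
  h.comm_aux h2 c (h.W_fix_c hV) (fun v => (h.zc v).symm) v

omit [Fintype V] [FaithfulSMul H V] in
theorem fix_ab (v : V) (hav : a • v = v) (hbv : b • v = v) : a • b • c • v = v := by
  have dv_b : b • d • v = d • v := by rw [← h.sda, hav]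
  have dv_c : c • d • v = d • v := by rw [← h.sdb, hbv]
  have ddv_c : c • d • d • v = d • d • v := by rw [← h.sdb, dv_b]
  have ddv_a : a • d • d • v = d • d • v := by rw [← h.sdc, dv_c]
  have hsum : v + d • v + d • d • v = 0 := by
    have := fpf_sum d h.hd3 h.hfd v
    rw [← this]
    abel
  have dv_a : a • d • v = d • v := by
    have e1 := congrArg (fun t => a • t) hsum
    simp only [smul_add, smul_zero, hav, ddv_a] at e1
    have e2 : a • d • v = -(v + d • d • v) := by
      rw [eq_neg_iff_add_eq_zero, ← e1]
      abel
    have e3 : d • v = -(v + d • d • v) := by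
      rw [eq_neg_iff_add_eq_zero, ← hsum]
      abel
    exact e2.trans e3.symm
  have hdv : a • b • c • (d • v) = d • v := by rw [dv_c, dv_b, dv_a]
  have hW := h.W_d _ (h.W_d _ hdv)
  simp only [h.sd3] at hW
  exact hW

omit [Fintype V] [FaithfulSMul H V] in
theorem fix_bc (v : V) (hbv : b • v = v) (hcv : c • v = v) : a • b • c • v = v := by
  have h1 : a • d • d • v = d • d • v := by rw [← h.sdc, ← h.sdb, hbv]
  have h2 : b • d • d • v = d • d • v := by rw [← h.sda, ← h.sdc, hcv]
  have hW := h.W_d _ (h.fix_ab _ h1 h2)
  simp only [h.sd3] at hW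
  exact hW

omit [Fintype V] [FaithfulSMul H V] in
theorem fix_ca (v : V) (hcv : c • v = v) (hav : a • v = v) : a • b • c • v = v := by
  have h1 : a • d • v = d • v := by rw [← h.sdc, hcv]
  have h2 : b • d • v = d • v := by rw [← h.sda, hav]
  have hW := h.W_d _ (h.W_d _ (h.fix_ab _ h1 h2))
  simp only [h.sd3] at hW
  exact hW

theorem fix_ae (hV : Fintype.card V = 16) (h2 : ∀ x : V, x + x = 0) (ha1 : a ≠ 1) (e : H)
    (he3 : e ^ 3 = 1) (he1 : e ≠ 1) (hea : e * a = a * e) (v : V) (hav : a • v = v)
    (hev : e • v = v) : a • b • c • v = v := by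
  classical
  by_cases hfe : Fpf V e
  · rw [hfe v hev]
    simp
  have hU := card_fix_of_not_fpf hV e he3 he1 hfe
  have sea : ∀ t : V, e • a • t = a • e • t := fun t => by rw [smul_smul, hea, mul_smul]
  by_cases hA : ∃ u1 : V, e • u1 = u1 ∧ a • u1 ≠ u1
  · obtain ⟨u1, hu1, hau1⟩ := hA
    have hu10 : u1 ≠ 0 := by
      rintro rfl
      exact hau1 (smul_zero a)
    have hau10 : a • u1 ≠ 0 := fun h0 => hu10 ((smul_eq_zero_iff_eq a).mp h0)
    have hs0 : u1 + a • u1 ≠ 0 := fun h0 => hau1 (eq_of_sum2 h2 h0).symm
    let S : Finset V := {0, u1, a • u1, u1 + a • u1}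
    have hS : S.card = 4 := by
      rw [Finset.card_insert_of_notMem, Finset.card_insert_of_notMem,
        Finset.card_insert_of_notMem, Finset.card_singleton]
      · simp only [Finset.mem_singleton]
        intro h0
        apply hu10
        have : u1 + a • u1 = 0 + a • u1 := by
          rw [zero_add]
          exact h0.symm
        exact add_right_cancel this
      · simp only [Finset.mem_insert, Finset.mem_singleton, not_or]
        refine ⟨fun h0 => hau1 h0.symm, fun h0 => hau10 ?_⟩
        have : u1 + a • u1 = u1 + 0 := by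
          rw [add_zero]
          exact h0.symm
        exact add_left_cancel this
      · simp only [Finset.mem_insert, Finset.mem_singleton, not_or]
        exact ⟨fun h0 => hu10 h0.symm, fun h0 => hau10 h0.symm, fun h0 => hs0 h0.symm⟩
    have hsub : (S : Set V) ⊆ (fixG (V := V) e : Set V) := by
      intro t ht
      simp only [S, Finset.coe_insert, Finset.coe_singleton, Set.mem_insert_iff,
        Set.mem_singleton_iff] at ht
      rcases ht with rfl | rfl | rfl | rfl
      · exact AddSubgroup.zero_mem _
      · exact hu1
      · show e • a • u1 = a • u1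
        rw [sea, hu1]
      · show e • (u1 + a • u1) = u1 + a • u1
        rw [smul_add, sea, hu1]
    have heq : (S : Set V) = (fixG (V := V) e : Set V) := by
      apply Set.eq_of_subset_of_ncard_le hsub _ (Set.toFinite _)
      rw [Set.ncard_coe_finset, hS, ← Nat.card_coe_set_eq]
      exact le_of_eq hU
    have hvS : v ∈ (S : Set V) := heq ▸ (show v ∈ (fixG (V := V) e : Set V) from hev)
    simp only [S, Finset.coe_insert, Finset.coe_singleton, Set.mem_insert_iff,
      Set.mem_singleton_iff] at hvS
    rcases hvS with h0 | h0 | h0 | h0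
    · rw [h0]
      simp
    · rw [h0] at hav
      exact absurd hav hau1
    · rw [h0] at hav
      exact absurd (smul_left_cancel a hav) hau1
    · rw [h0, add_comm]
      exact h.mem_W_a hV h2 u1
  · push Not at hA
    exfalso
    have hp3 : Fact (Nat.Prime 3) := ⟨by norm_num⟩
    have hle : fixG (V := V) e ≤ fixG (V := V) a := fun u hu => hA u hu
    have hCd := card_fix_dvd (V := V) hV a
    have hClt : Nat.card (fixG (V := V) a) < 16 := by
      by_contra hcon
      exact ha1 (eq_one_of_card_fix hV a (not_lt.mp hcon))
    have hUC : Nat.card (fixG (V := V) e) ∣ Nat.card (fixG (V := V) a) :=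
      AddSubgroup.card_dvd_of_le hle
    have hm3 := ncard_modEq_fixed 3 (fun x : V => e • x) (fixG (V := V) a : Set V)
      (fun x hx => by
        have hx' : a • x = x := hx
        show a • e • x = e • x
        rw [← sea, hx'])
      (fun x _ => by rw [smul_iterate, he3]; exact one_smul _ x)
    have e1 : {x ∈ (fixG (V := V) a : Set V) | e • x = x} = (fixG (V := V) e : Set V) := by
      ext x
      constructor
      · rintro ⟨_, hx⟩
        exact hx
      · intro hx
        exact ⟨hle hx, hx⟩
    have c1 : (fixG (V := V) a : Set V).ncard = Nat.card (fixG (V := V) a) :=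
      (Nat.card_coe_set_eq _).symm
    have c2 : (fixG (V := V) e : Set V).ncard = Nat.card (fixG (V := V) e) :=
      (Nat.card_coe_set_eq _).symm
    rw [e1, c1, c2, hU] at hm3
    rw [hU] at hUC
    have hC4 : Nat.card (fixG (V := V) a) = 4 := by
      generalize Nat.card (fixG (V := V) a) = n at *
      unfold Nat.ModEq at hm3
      interval_cases n <;> omega
    have hCU : ∀ t : V, a • t = t → e • t = t := by
      have hEq : fixG (V := V) e = fixG (V := V) a :=
        AddSubgroup.eq_of_le_of_card_ge hle (by rw [hC4, hU])
      intro t ht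
      have ht' : t ∈ fixG (V := V) a := ht
      rw [← hEq] at ht'
      exact ht'
    apply ha1
    apply FaithfulSMul.eq_of_smul_eq_smul (α := V)
    intro w
    rw [one_smul]
    have ht : e • (a • w + w) = a • w + w := by
      apply hCU
      rw [smul_add, h.sa, add_comm]
    have hm : a • (e • e • w + e • w) = e • e • w + e • w := by
      have e2 : a • (e • e • w + e • w) + (e • e • w + e • w) = 0 := by
        have : a • (e • e • w + e • w) + (e • e • w + e • w)
            = e • e • (a • w + w) + e • (a • w + w) := by
          simp only [smul_add, ← sea]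
          abel
        rw [this, ht, ht, h2]
      exact eq_of_sum2 h2 e2
    have hu : a • (w + e • w + e • e • w) = w + e • w + e • e • w := by
      apply hA
      rw [smul_add, smul_add, smul3 e he3]
      abel
    have hdec : w = (w + e • w + e • e • w) + (e • e • w + e • w) := by
      have : (w + e • w + e • e • w) + (e • e • w + e • w)
          = w + ((e • w + e • w) + (e • e • w + e • e • w)) := by abel
      rw [this, h2, h2]
      simp
    calc a • w = a • ((w + e • w + e • e • w) + (e • e • w + e • w)) := by rw [← hdec]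
      _ = (w + e • w + e • e • w) + (e • e • w + e • w) := by rw [smul_add, hu, hm]
      _ = w := hdec.symm

end Fin

end Cfg


section Dich

variable {V : Type*} [AddCommGroup V] [Fintype V] {H : Type*} [Group H] [DistribMulAction H V]
  [FaithfulSMul H V]

/-- Two commuting conjugate elements `x`, `y` of order 3 (with `x ≠ y`, `x ≠ y⁻¹`): either `x`
or `x * y` acts fixed point freely. -/
theorem fpf_or (hV : Fintype.card V = 16) (h2 : ∀ x : V, x + x = 0) (x y g : H)
    (hx3 : x ^ 3 = 1) (hy3 : y ^ 3 = 1) (hxy : x * y = y * x) (hg : g * x = y * g)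
    (hx1 : x ≠ 1) (hxy1 : x * y ≠ 1) (hxy2 : x * (y * y) ≠ 1) :
    Fpf V x ∨ Fpf V (x * y) := by
  classical
  by_contra hcon
  push Not at hcon
  obtain ⟨hfx, hfxy⟩ := hcon
  have hfy : ¬ Fpf V y := fun hf => hfx (fpf_conj hg hf)
  have hy1 : y ≠ 1 := by
    rintro rfl
    apply hx1
    have : g * x = g * 1 := by
      rw [hg]
      simp
    exact mul_left_cancel this
  have hU := card_fix_of_not_fpf hV x hx3 hx1 hfx
  have hU' := card_fix_of_not_fpf hV y hy3 hy1 hfy
  have sxy : ∀ t : V, y • x • t = x • y • t := fun t => by rw [smul_smul, ← hxy, mul_smul]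
  have sx3 : ∀ t : V, x • x • x • t = t := smul3 x hx3
  have sy3 : ∀ t : V, y • y • y • t = t := smul3 y hy3
  have hp3 : Fact (Nat.Prime 3) := ⟨by norm_num⟩
  -- no common nonzero fixed vector
  have hc1 : ∀ u : V, x • u = u → y • u = u → u = 0 := by
    intro u0 hxu hyu
    by_contra hu0
    have hm3 := ncard_modEq_fixed 3 (fun t : V => y • t) (fixG (V := V) x : Set V)
      (fun t ht => by
        have ht' : x • t = t := ht
        show x • y • t = y • t
        rw [← sxy, ht'])
      (fun t _ => by rw [smul_iterate, hy3]; exact one_smul _ t)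
    have e1 : {t ∈ (fixG (V := V) x : Set V) | y • t = t}
        = ((fixG (V := V) x ⊓ fixG (V := V) y : AddSubgroup V) : Set V) := by
      ext t
      rfl
    have c1 : (fixG (V := V) x : Set V).ncard = 4 := by
      rw [← hU]
      exact (Nat.card_coe_set_eq _).symm
    have c2 : ((fixG (V := V) x ⊓ fixG (V := V) y : AddSubgroup V) : Set V).ncard
        = Nat.card (fixG (V := V) x ⊓ fixG (V := V) y : AddSubgroup V) :=
      (Nat.card_coe_set_eq _).symm
    rw [e1, c1, c2] at hm3
    have hI : Nat.card (fixG (V := V) x ⊓ fixG (V := V) y : AddSubgroup V) ∣ 4 := by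
      rw [← hU]
      exact AddSubgroup.card_dvd_of_le inf_le_left
    have hI2 : Nat.card (fixG (V := V) x ⊓ fixG (V := V) y : AddSubgroup V) ≠ 1 := by
      rw [Ne, AddSubgroup.card_eq_one]
      intro hbot
      have : u0 ∈ (fixG (V := V) x ⊓ fixG (V := V) y : AddSubgroup V) := ⟨hxu, hyu⟩
      rw [hbot] at this
      exact hu0 this
    have hI4 : Nat.card (fixG (V := V) x ⊓ fixG (V := V) y : AddSubgroup V) = 4 := by
      have hle4 := Nat.le_of_dvd (by norm_num) hI
      generalize Nat.card (fixG (V := V) x ⊓ fixG (V := V) y : AddSubgroup V) = n at *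
      unfold Nat.ModEq at hm3
      interval_cases n <;> omega
    have hle : fixG (V := V) x ≤ fixG (V := V) y := by
      have : fixG (V := V) x ⊓ fixG (V := V) y = fixG (V := V) x :=
        AddSubgroup.eq_of_le_of_card_ge inf_le_left (by rw [hI4, hU])
      rw [← this]
      exact inf_le_right
    have hUU' : fixG (V := V) x = fixG (V := V) y :=
      AddSubgroup.eq_of_le_of_card_ge hle (by rw [hU, hU'])
    have hyx : ∀ t : V, y • t = t → x • t = t := fun t ht => by
      have : t ∈ fixG (V := V) y := ht
      rw [← hUU'] at this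
      exact this
    have hxy' : ∀ t : V, x • t = t → y • t = t := fun t ht => hle ht
    have hxy3 : (x * y) ^ 3 = 1 := by
      rw [(show Commute x y from hxy).mul_pow, hx3, hy3, one_mul]
    have hxyy3 : (x * (y * y)) ^ 3 = 1 := by
      have hc : Commute x (y * y) := (show Commute x y from hxy).mul_right hxy
      rw [hc.mul_pow, hx3, one_mul, ← pow_two, ← pow_mul, show 2 * 3 = 3 * 2 from rfl, pow_mul,
        hy3, one_pow]
    have hf3 : ∀ t : V, (x * y) • t = t → x • t = t := by
      have hc := card_fix_of_not_fpf hV (x * y) hxy3 hxy1 hfxy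
      have hle3 : fixG (V := V) x ≤ fixG (V := V) (x * y) := fun t ht => by
        have ht' : x • t = t := ht
        show (x * y) • t = t
        rw [mul_smul, hxy' t ht', ht']
      have hEq := AddSubgroup.eq_of_le_of_card_ge hle3 (by rw [hc, hU])
      intro t ht
      have ht' : t ∈ fixG (V := V) (x * y) := ht
      rw [← hEq] at ht'
      exact ht'
    have hf4 : ∀ t : V, (x * (y * y)) • t = t → x • t = t := by
      have hne : ¬ Fpf V (x * (y * y)) := by
        intro hf
        apply hu0
        apply hf
        rw [mul_smul, mul_smul, hyu, hyu, hxu]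
      have hc := card_fix_of_not_fpf hV (x * (y * y)) hxyy3 hxy2 hne
      have hle4 : fixG (V := V) x ≤ fixG (V := V) (x * (y * y)) := fun t ht => by
        have ht' : x • t = t := ht
        show (x * (y * y)) • t = t
        rw [mul_smul, mul_smul, hxy' t ht', hxy' t ht', ht']
      have hEq := AddSubgroup.eq_of_le_of_card_ge hle4 (by rw [hc, hU])
      intro t ht
      have ht' : t ∈ fixG (V := V) (x * (y * y)) := ht
      rw [← hEq] at ht'
      exact ht'
    have hall : ∀ t : V, x • t = t := by
      intro t
      have m1 : x • (t + x • t + x • x • t) = t + x • t + x • x • t := by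
        rw [smul_add, smul_add, sx3]
        abel
      have m2 : x • (t + y • t + y • y • t) = t + y • t + y • y • t := by
        apply hyx
        rw [smul_add, smul_add, sy3]
        abel
      have m3 : x • (t + x • y • t + x • x • y • y • t) = t + x • y • t + x • x • y • y • t := by
        apply hf3
        simp only [mul_smul, smul_add, sxy, sx3, sy3]
        abel
      have m4 : x • (t + x • y • y • t + x • x • y • t) = t + x • y • y • t + x • x • y • t := by
        apply hf4
        simp only [mul_smul, smul_add, sxy, sx3, sy3]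
        abel
      have m5 : x • ((t + x • t + x • x • t) + (y • t + x • y • t + x • x • y • t)
          + (y • y • t + x • y • y • t + x • x • y • y • t))
          = (t + x • t + x • x • t) + (y • t + x • y • t + x • x • y • t)
          + (y • y • t + x • y • y • t + x • x • y • y • t) := by
        simp only [smul_add, sx3]
        abel
      have hdec : t = (t + x • t + x • x • t) + (t + y • t + y • y • t)
          + (t + x • y • t + x • x • y • y • t) + (t + x • y • y • t + x • x • y • t)
          + ((t + x • t + x • x • t) + (y • t + x • y • t + x • x • y • t)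
          + (y • y • t + x • y • y • t + x • x • y • y • t)) := by
        have : (t + x • t + x • x • t) + (t + y • t + y • y • t)
          + (t + x • y • t + x • x • y • y • t) + (t + x • y • y • t + x • x • y • t)
          + ((t + x • t + x • x • t) + (y • t + x • y • t + x • x • y • t)
          + (y • y • t + x • y • y • t + x • x • y • y • t))
          = t + ((t + t + x • t + x • x • t + y • t + y • y • t + x • y • t + x • x • y • y • t
              + x • y • y • t + x • x • y • t)
            + (t + t + x • t + x • x • t + y • t + y • y • t + x • y • t + x • x • y • y • t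
              + x • y • y • t + x • x • y • t)) := by abel
        rw [this, h2]
        simp
      calc x • t = x • ((t + x • t + x • x • t) + (t + y • t + y • y • t)
          + (t + x • y • t + x • x • y • y • t) + (t + x • y • y • t + x • x • y • t)
          + ((t + x • t + x • x • t) + (y • t + x • y • t + x • x • y • t)
          + (y • y • t + x • y • y • t + x • x • y • y • t))) := by rw [← hdec]
        _ = x • (t + x • t + x • x • t) + x • (t + y • t + y • y • t)
          + x • (t + x • y • t + x • x • y • y • t) + x • (t + x • y • y • t + x • x • y • t)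
          + x • ((t + x • t + x • x • t) + (y • t + x • y • t + x • x • y • t)
          + (y • y • t + x • y • y • t + x • x • y • y • t)) := by simp only [smul_add]
        _ = (t + x • t + x • x • t) + (t + y • t + y • y • t)
          + (t + x • y • t + x • x • y • y • t) + (t + x • y • y • t + x • x • y • t)
          + ((t + x • t + x • x • t) + (y • t + x • y • t + x • x • y • t)
          + (y • y • t + x • y • y • t + x • x • y • y • t)) := by rw [m1, m2, m3, m4, m5]
        _ = t := hdec.symm
    apply hx1
    apply FaithfulSMul.eq_of_smul_eq_smul (α := V)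
    intro t
    rw [one_smul]
    exact hall t
  -- decomposition of `V`
  have hdecomp : ∀ t : V, ∃ u u' : V, x • u = u ∧ y • u' = u' ∧ t = u + u' := by
    let f : (fixG (V := V) x) × (fixG (V := V) y) → V := fun p => p.1.1 + p.2.1
    have hinj : Function.Injective f := by
      rintro ⟨⟨u1, hu1⟩, ⟨u1', hu1'⟩⟩ ⟨⟨u2, hu2⟩, ⟨u2', hu2'⟩⟩ hf
      have hf' : u1 + u1' = u2 + u2' := hf
      have hu1x : x • u1 = u1 := hu1
      have hu2x : x • u2 = u2 := hu2
      have hu1y : y • u1' = u1' := hu1'
      have hu2y : y • u2' = u2' := hu2'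
      have hr : u1 - u2 = u2' - u1' := by
        rw [sub_eq_sub_iff_add_eq_add, hf', add_comm]
      have h0 : u1 - u2 = 0 := by
        apply hc1
        · rw [smul_sub, hu1x, hu2x]
        · rw [hr, smul_sub, hu2y, hu1y]
      have e1 : u1 = u2 := sub_eq_zero.mp h0
      subst e1
      have e2 : u1' = u2' := add_left_cancel hf'
      subst e2
      rfl
    have hcard : Nat.card ((fixG (V := V) x) × (fixG (V := V) y)) = Nat.card V := by
      rw [Nat.card_prod, hU, hU', Nat.card_eq_fintype_card, hV]
    have hsurj : Function.Surjective f :=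
      ((Nat.bijective_iff_injective_and_card f).mpr ⟨hinj, hcard⟩).2
    intro t
    obtain ⟨⟨⟨u, hu⟩, ⟨u', hu'⟩⟩, hp⟩ := hsurj t
    exact ⟨u, u', hu, hu', hp.symm⟩
  apply hfxy
  intro v hv
  obtain ⟨u, u', hu, hu', rfl⟩ := hdecomp v
  rw [mul_smul, smul_add, smul_add, hu', ← sxy, hu] at hv
  have hr : y • u - u = u' - x • u' := by
    rw [sub_eq_sub_iff_add_eq_add, hv, add_comm]
  have h0 : y • u - u = 0 := by
    apply hc1
    · rw [smul_sub, ← sxy, hu]
    · rw [hr, smul_sub, sxy, hu']
  have hyu : y • u = u := sub_eq_zero.mp h0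
  have hu0 : u = 0 := hc1 u hu hyu
  have hxu' : x • u' = u' := by
    rw [h0] at hr
    exact (sub_eq_zero.mp hr.symm).symm
  have hu'0 : u' = 0 := hc1 u' hxu' hu'
  rw [hu0, hu'0, add_zero]

end Dich

section Five

variable {V : Type*} [AddCommGroup V] [Finite V] {H : Type*} [Group H] [DistribMulAction H V]
  [FaithfulSMul H V]

/-- A group acting faithfully on an elementary abelian group of order dividing 8 has no
element of order 5. -/
theorem no_five (hV : Nat.card V ∣ 8) (g : H) (hg : orderOf g = 5) : False := by
  have hp5 : Fact (Nat.Prime 5) := ⟨by norm_num⟩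
  have hm := ncard_modEq_fixed 5 (fun x : V => g • x) Set.univ (fun x _ => Set.mem_univ _)
    (fun x _ => by rw [smul_iterate, ← hg, pow_orderOf_eq_one]; exact one_smul _ x)
  rw [Set.ncard_univ] at hm
  have e : {x ∈ (Set.univ : Set V) | g • x = x} = (fixG (V := V) g : Set V) := by
    ext x
    simp [fixG]
  have e1 : Nat.card (fixG (V := V) g) = (fixG (V := V) g : Set V).ncard := Nat.card_coe_set_eq _
  rw [e, ← e1] at hm
  have hd : Nat.card (fixG (V := V) g) ∣ Nat.card V := AddSubgroup.card_addSubgroup_dvd_card _
  have hle8 := Nat.le_of_dvd (by norm_num) hV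
  have hpos : 0 < Nat.card V := Nat.card_pos
  have hEq : Nat.card (fixG (V := V) g) = Nat.card V := by
    have hle := Nat.le_of_dvd hpos hd
    generalize Nat.card (fixG (V := V) g) = n at *
    generalize Nat.card V = m at *
    unfold Nat.ModEq at hm
    interval_cases m <;> interval_cases n <;> omega
  have htop : fixG (V := V) g = ⊤ := AddSubgroup.eq_top_of_card_eq _ hEq
  have hg1 : g = 1 := by
    apply FaithfulSMul.eq_of_smul_eq_smul (α := V)
    intro x
    have hx : x ∈ fixG (V := V) g := htop ▸ AddSubgroup.mem_top x
    rw [one_smul]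
    exact hx
  rw [hg1, orderOf_one] at hg
  omega

end Five

end Cfsg.Agent.Lib.helper61.ModFacts
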