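import Mathlib
import Cfsg.Agent.Lib.helper65.PearlBasic

/-!
# S5238L piece Q (racer copy, helper61): core with the pieces D1, I1, S, U as hypotheses
-/

set_option autoImplicit false

namespace Cfsg.Agent.Lib.helper65.PearlPow

open Cfsg.Agent.Lib.helper68

variable {H : Type*} [Group H]

/-- Q, from the statements of D1, I1, S, U. -/
theorem h61_q_claim_core
    (hD1 : ∀ {u v : ℕ} {s s' : ℕ → H}, PolySeq v s → Rel u s s' → Rel (u + 1) (dl s) (dl s'))
    (hI1 : ∀ {v j : ℕ} {s : ℕ → H} {y : H}, PolySeq v s → y ∈ gam H j →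
      Rel (v + 1 + j) (dl s) (dl (fun n => s n * y)))
    (hS : ∀ (x g : H) {w : ℕ}, 1 ≤ w → g ∈ gam H w → ∀ j : ℕ,
      Rel (w + j + 2) ((ph x)^[j] (dl (tt x g))) (dl ((ph x)^[j] (tt x g))))
    (hU : ∀ (x g : H) {w : ℕ}, 1 ≤ w → g ∈ gam H w → ∀ j : ℕ,
      Rel (w + j + 2) (fun n => (ph x)^[j + 1] (tt x g) n * yk x (com x g) j)
        ((ph x)^[j] (dl (tt x g))))
    (x g : H) {w : ℕ} (hw : 1 ≤ w) (hg : g ∈ gam H w) (k : ℕ) :
    Rel (w + k + 2) (fun n => (ph x)^[k + 1] (tt x g) n * yk x (com x g) k)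
      (dl^[k + 1] (tt x g)) := by
  induction k with
  | zero =>
    apply rel_of_eq
    exact (dl_tt x g).symm
  | succ k ih =>
    have hps : PolySeq (w + k + 1) (fun n => (ph x)^[k + 1] (tt x g) n * yk x (com x g) k) := by
      have h1 : PolySeq (w + (k + 1)) ((ph x)^[k + 1] (tt x g)) :=
        polyseq_ph_iter x (tt_polyseq x g hg) (k + 1)
      have h2 : PolySeq (w + 1 + k) (fun _ : ℕ => yk x (com x g) k) :=
        polyseq_const (yk_mem x g hg k)
      exact PolySeq.mul (PolySeq.mono (by omega) h1) (PolySeq.mono (by omega) h2)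
    have hA : Rel (w + (k + 1) + 2) (dl (fun n => (ph x)^[k + 1] (tt x g) n * yk x (com x g) k))
        (dl (dl^[k + 1] (tt x g))) := by
      have := hD1 hps ih
      exact rel_mono (by omega) this
    have ha := hU x g hw hg (k + 1)
    have hb := hS x g hw hg (k + 1)
    have hc : Rel (w + (k + 1) + 2) (dl ((ph x)^[k + 1] (tt x g)))
        (dl (fun n => (ph x)^[k + 1] (tt x g) n * yk x (com x g) k)) := by
      have h1 : PolySeq (w + (k + 1)) ((ph x)^[k + 1] (tt x g)) :=
        polyseq_ph_iter x (tt_polyseq x g hg) (k + 1)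
      have := hI1 h1 (yk_mem x g hg k)
      exact rel_mono (by omega) this
    rw [Function.iterate_succ_apply' (f := dl)]
    exact rel_trans (rel_trans (rel_trans ha hb) hc) hA

end Cfsg.Agent.Lib.helper65.PearlPow
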