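import Mathlib
import Cfsg.Agent.Lib.helper61.SL25Unique
import Cfsg.Agent.S0494

/-!
# Non-solvable subgroups of the symmetric group of degree 6

A non-solvable group embedding in `S_6` is isomorphic to `A_5`, `S_5`, `A_6` or `S_6`.
-/

set_option autoImplicit false

namespace Cfsg.Agent.Lib.helper61.SubS6

universe u

/-- A proper subgroup of a finite simple group: the order of the group divides the factorial
of the index. -/
theorem card_dvd_factorial_index {G : Type*} [Group G] [Finite G] [IsSimpleGroup G]
    (K : Subgroup G) (hK : K ≠ ⊤) : Nat.card G ∣ (K.index).factorial := by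
  classical
  let φ := MulAction.toPermHom G (G ⧸ K)
  have hle : φ.ker ≤ K := by
    rw [← Subgroup.normalCore_eq_ker]
    exact Subgroup.normalCore_le K
  have hker : φ.ker = ⊥ := by
    have hn : φ.ker.Normal := MonoidHom.normal_ker φ
    rcases hn.eq_bot_or_eq_top with h | h
    · exact h
    · exfalso
      apply hK
      rw [eq_top_iff, ← h]
      exact hle
  have hinj : Function.Injective φ := (MonoidHom.ker_eq_bot_iff φ).mp hker
  have h1 := Subgroup.card_dvd_of_injective φ hinj
  rw [Nat.card_perm] at h1
  exact h1

/-- A group of order `120` embedding in `S_6` is isomorphic to `S_5`. -/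
theorem equiv_S5_of_card_120 {G : Type*} [Group G] [Finite G] (ι : G →* Equiv.Perm (Fin 6))
    (hι : Function.Injective ι) (hc : Nat.card G = 120) :
    Nonempty (G ≃* Equiv.Perm (Fin 5)) := by
  classical
  let T : Subgroup (Equiv.Perm (Fin 6)) := ι.range
  have hT : Nat.card T = 120 := by
    rw [← hc]
    exact Nat.card_congr (MonoidHom.ofInjective hι).toEquiv.symm
  have h720 : Nat.card (Equiv.Perm (Fin 6)) = 720 := by
    rw [Nat.card_perm, Nat.card_fin]
    decide
  have hX : Nat.card (Equiv.Perm (Fin 6) ⧸ T) = 6 := by
    have h1 := Subgroup.index_mul_card T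
    rw [hT, h720] at h1
    show T.index = 6
    omega
  let φ : Equiv.Perm (Fin 6) →* Equiv.Perm (Equiv.Perm (Fin 6) ⧸ T) :=
    MulAction.toPermHom (Equiv.Perm (Fin 6)) (Equiv.Perm (Fin 6) ⧸ T)
  have hφ : Function.Injective φ := by
    rw [← MonoidHom.ker_eq_bot_iff]
    by_contra hne
    have hn : (φ.ker).Normal := MonoidHom.normal_ker φ
    have hnt : Nontrivial φ.ker := (Subgroup.nontrivial_iff_ne_bot _).mpr hne
    have hA : alternatingGroup (Fin 6) ≤ φ.ker :=
      Equiv.Perm.alternatingGroup_le_of_normal (by simp) hnt
    have hle : φ.ker ≤ T := by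
      rw [← Subgroup.normalCore_eq_ker]
      exact Subgroup.normalCore_le T
    have h1 := Subgroup.card_le_of_le (hA.trans hle)
    have h2 : Nat.card (alternatingGroup (Fin 6)) = 360 := by
      rw [nat_card_alternatingGroup, Nat.card_fin]
      decide
    rw [hT, h2] at h1
    omega
  let p0 : Equiv.Perm (Fin 6) ⧸ T := QuotientGroup.mk (1 : Equiv.Perm (Fin 6))
  have hfix : ∀ x : G, φ (ι x) p0 = p0 := by
    intro x
    show (ι x) • (QuotientGroup.mk (1 : Equiv.Perm (Fin 6)) : Equiv.Perm (Fin 6) ⧸ T)
      = QuotientGroup.mk 1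
    rw [MulAction.Quotient.smul_mk, QuotientGroup.eq]
    simp only [mul_one, smul_eq_mul]
    exact T.inv_mem ⟨x, rfl⟩
  have hpres : ∀ x : G, ∀ q : Equiv.Perm (Fin 6) ⧸ T, φ (ι x) q ≠ p0 ↔ q ≠ p0 := by
    intro x q
    constructor
    · intro h hq
      exact h (hq ▸ hfix x)
    · intro h hq
      apply h
      have := (φ (ι x)).injective (hq.trans (hfix x).symm)
      exact this
  let ψ : G →* Equiv.Perm {q : Equiv.Perm (Fin 6) ⧸ T // q ≠ p0} :=
    { toFun := fun x => (φ (ι x)).subtypePerm (fun q => hpres x q)
      map_one' := by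
        apply Equiv.ext
        intro q
        apply Subtype.ext
        show φ (ι 1) q.1 = q.1
        rw [map_one, map_one]
        rfl
      map_mul' := by
        intro x y
        apply Equiv.ext
        intro q
        apply Subtype.ext
        show φ (ι (x * y)) q.1 = φ (ι x) (φ (ι y) q.1)
        rw [map_mul, map_mul]
        rfl }
  have hψ : Function.Injective ψ := by
    rw [← MonoidHom.ker_eq_bot_iff, eq_bot_iff]
    intro x hx
    rw [MonoidHom.mem_ker] at hx
    rw [Subgroup.mem_bot]
    apply hι
    rw [map_one]
    apply hφ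
    rw [map_one]
    apply Equiv.ext
    intro q
    by_cases hq : q = p0
    · rw [hq]
      exact hfix x
    · have := congrArg Subtype.val (Equiv.congr_fun hx ⟨q, hq⟩)
      exact this
  have hY : Nat.card {q : Equiv.Perm (Fin 6) ⧸ T // q ≠ p0} = 5 := by
    have h1 : Nat.card {q : Equiv.Perm (Fin 6) ⧸ T // q ≠ p0}
        = (Set.univ \ {p0} : Set (Equiv.Perm (Fin 6) ⧸ T)).ncard := by
      rw [← Nat.card_coe_set_eq]
      apply Nat.card_congr
      exact Equiv.subtypeEquivRight (fun q => by simp)
    rw [h1, Set.ncard_sdiff_singleton_of_mem (Set.mem_univ _), Set.ncard_univ, hX]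
  have hbij : Function.Bijective ψ := by
    apply hψ.bijective_of_nat_card_le
    rw [Nat.card_perm, hY, hc]
    decide
  let e1 : G ≃* Equiv.Perm {q : Equiv.Perm (Fin 6) ⧸ T // q ≠ p0} := MulEquiv.ofBijective ψ hbij
  let e2 : {q : Equiv.Perm (Fin 6) ⧸ T // q ≠ p0} ≃ Fin 5 := Finite.equivFinOfCardEq hY
  exact ⟨e1.trans e2.permCongrHom⟩

/-- A non-solvable group embedding in `S_6` is `A_5`, `S_5`, `A_6` or `S_6`. -/
theorem subgroups_S6 {G : Type u} [Group G] [Finite G] (ι : G →* Equiv.Perm (Fin 6))
    (hι : Function.Injective ι) (hns : ¬ Group.IsSolvable G) :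
    Nonempty (G ≃* alternatingGroup (Fin 5)) ∨ Nonempty (G ≃* Equiv.Perm (Fin 5)) ∨
    Nonempty (G ≃* alternatingGroup (Fin 6)) ∨ Nonempty (G ≃* Equiv.Perm (Fin 6)) := by
  classical
  have hA : Nat.card (alternatingGroup (Fin 6)) = 360 := by
    rw [nat_card_alternatingGroup, Nat.card_fin]
    decide
  have h720 : Nat.card (Equiv.Perm (Fin 6)) = 720 := by
    rw [Nat.card_perm, Nat.card_fin]
    decide
  have hAs : IsSimpleGroup (alternatingGroup (Fin 6)) := alternatingGroup.isSimpleGroup (by simp)
  let s : G →* ℤˣ := Equiv.Perm.sign.comp ι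
  have hK0ns : ¬ Group.IsSolvable s.ker := by
    intro hsol
    apply hns
    exact Group.isSolvable_of_ker_le_range s.ker.subtype s (by simp)
  let j : s.ker →* alternatingGroup (Fin 6) :=
    (ι.comp s.ker.subtype).codRestrict (alternatingGroup (Fin 6)) (fun x => by
      rw [Equiv.Perm.mem_alternatingGroup]
      exact MonoidHom.mem_ker.mp x.2)
  have hj : Function.Injective j := by
    intro a b hab
    apply Subtype.ext
    apply hι
    exact congrArg Subtype.val hab
  have hT0c : Nat.card j.range = Nat.card s.ker :=
    Nat.card_congr (MonoidHom.ofInjective hj).toEquiv.symm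
  have h60 : 60 ≤ Nat.card s.ker := by
    by_contra hlt
    exact hK0ns (SL25U.isSolvable_of_card_lt_sixty s.ker (by omega))
  have hK0c : Nat.card s.ker = 60 ∨ Nat.card s.ker = 360 := by
    by_cases htop : j.range = ⊤
    · right
      rw [← hT0c, htop, Subgroup.card_top, hA]
    · left
      have h1 := card_dvd_factorial_index j.range htop
      have h2 := Subgroup.index_mul_card j.range
      rw [hA] at h1 h2
      rw [hT0c] at h2
      have hi : j.range.index ≤ 6 := by nlinarith
      have hi6 : j.range.index = 6 := by
        generalize j.range.index = k at *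
        interval_cases k <;> revert h1 <;> decide
      rw [hi6] at h2
      omega
  have hidx : Nat.card G = Nat.card s.ker ∨ Nat.card G = 2 * Nat.card s.ker := by
    have h1 := Subgroup.index_mul_card s.ker
    have h2 : s.ker.index ∣ 2 := by
      rw [Subgroup.index_ker]
      have := Subgroup.card_subgroup_dvd_card s.range
      simpa using this
    have h3 : s.ker.index = 1 ∨ s.ker.index = 2 := (Nat.dvd_prime Nat.prime_two).mp h2
    rcases h3 with h | h
    · left
      rw [h] at h1
      omega
    · right
      rw [h] at h1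
      omega
  rcases hK0c with hk | hk
  · rcases hidx with hi | hi
    · -- order 60
      left
      have hc : Nat.card G = 60 := by omega
      have hsimp : IsSimpleGroup G := SL25U.isSimpleGroup_of_card_sixty G hc hns
      exact Cfsg.Agent.S0494.result hc
    · right; left
      exact equiv_S5_of_card_120 ι hι (by omega)
  · rcases hidx with hi | hi
    · right; right; left
      have htop : s.ker = ⊤ := Subgroup.eq_top_of_card_eq _ hi.symm
      have hmem : ∀ x : G, ι x ∈ alternatingGroup (Fin 6) := by
        intro x
        rw [Equiv.Perm.mem_alternatingGroup]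
        have hx : x ∈ s.ker := htop ▸ Subgroup.mem_top x
        exact MonoidHom.mem_ker.mp hx
      let f : G →* alternatingGroup (Fin 6) := ι.codRestrict (alternatingGroup (Fin 6)) hmem
      have hf : Function.Injective f := by
        intro a b hab
        apply hι
        exact congrArg Subtype.val hab
      have hbij : Function.Bijective f := by
        apply hf.bijective_of_nat_card_le
        rw [hA, hi, hk]
      exact ⟨MulEquiv.ofBijective f hbij⟩
    · right; right; right
      have hbij : Function.Bijective ι := by
        apply hι.bijective_of_nat_card_le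
        rw [h720, hi, hk]
      exact ⟨MulEquiv.ofBijective ι hbij⟩

end Cfsg.Agent.Lib.helper61.SubS6
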