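import Mathlib
import Cfsg.Agent.Lib.helper61.SubS6
import Cfsg.Agent.S0678
import Cfsg.Agent.S0713

/-!
# Subgroups of `A_8` of order divisible by 5

A non-solvable group of even permutations of 8 points, of order divisible by 5 and without
nontrivial normal subgroups of odd order, is `A_5`, `S_5`, `A_6`, `S_6`, `A_7` or `A_8`.
-/

set_option autoImplicit false

namespace Cfsg.Agent.Lib.helper61.Perm8

universe u

open MulAction
open scoped Pointwise

/-- A transitive subgroup of `S_8` containing a 5-cycle is primitive. -/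
theorem preprimitive_of_five_cycle (H : Subgroup (Equiv.Perm (Fin 8)))
    [hT : MulAction.IsPretransitive H (Fin 8)] (σ : Equiv.Perm (Fin 8)) (hσ : σ ∈ H)
    (hc : σ.IsCycle) (hs : σ.support.card = 5) : MulAction.IsPreprimitive H (Fin 8) := by
  classical
  refine { toIsPretransitive := hT, isTrivialBlock_of_isBlock := ?_ }
  intro B hB
  by_contra hnt
  unfold MulAction.IsTrivialBlock at hnt
  push Not at hnt
  obtain ⟨hns, hnu⟩ := hnt
  have hne : B.Nonempty := hns.nonempty
  have hdvd : B.ncard ∣ 8 := by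
    have := hB.ncard_dvd_card hne
    simpa using this
  have h2le : 2 ≤ B.ncard := Set.one_lt_ncard_iff_nontrivial.mpr hns
  have hlt8 : B.ncard < 8 := by
    by_contra h
    apply hnu
    apply Set.eq_of_subset_of_ncard_le (Set.subset_univ B) _ (Set.toFinite _)
    rw [Set.ncard_univ, Nat.card_fin]
    omega
  have hB24 : B.ncard = 2 ∨ B.ncard = 4 := by
    generalize B.ncard = k at *
    interval_cases k <;> omega
  let s : H := ⟨σ, hσ⟩
  let F : Set (Fin 8) := {y | σ y = y}
  have hF : F.ncard = 3 := by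
    have h1 : F = ((σ.support : Set (Fin 8)))ᶜ := by
      ext y
      simp [F]
    rw [h1, Set.ncard_compl, Set.ncard_coe_finset, hs, Nat.card_fin]
  have key : ∀ h : H, ∀ a, σ a = a → a ∈ h • B → h • B ⊆ F := by
    intro h a ha haB y hy
    by_contra hyF
    have hyF' : σ y ≠ y := hyF
    have hB1 : IsBlock H (h • B) := hB.translate h
    have hsB : s • (h • B) = h • B := by
      rcases hB1.smul_eq_or_disjoint s with h1 | h1
      · exact h1
      · exfalso
        have h2 : a ∈ s • (h • B) := by
          have h3 : s • a = a := ha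
          rw [← h3]
          exact Set.smul_mem_smul_set haB
        exact Set.disjoint_left.mp h1 h2 haB
    have hpow : ∀ i : ℕ, (s ^ i) • (h • B) = h • B := by
      intro i
      induction i with
      | zero => rw [pow_zero, one_smul]
      | succ i ih => rw [pow_succ, mul_smul, hsB, ih]
    have hsub : (σ.support : Set (Fin 8)) ⊆ h • B := by
      intro z hz
      have hz' : σ z ≠ z := by simpa using hz
      obtain ⟨i, hi⟩ := hc.exists_pow_eq hyF' hz'
      rw [← hpow i]
      have h3 : (s ^ i) • y = z := hi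
      rw [← h3]
      exact Set.smul_mem_smul_set hy
    have hins : insert a (σ.support : Set (Fin 8)) ⊆ h • B := Set.insert_subset haB hsub
    have hcard := Set.ncard_le_ncard hins (Set.toFinite _)
    rw [Set.ncard_insert_of_notMem (by simp [ha]), Set.ncard_coe_finset, hs,
      Set.ncard_smul_set] at hcard
    rcases hB24 with h | h <;> omega
  obtain ⟨a, haF⟩ : F.Nonempty := by
    rw [← Set.ncard_pos]
    omega
  obtain ⟨b0, hb0⟩ := hne
  obtain ⟨ha', hha⟩ := MulAction.exists_smul_eq H b0 a
  have haB : a ∈ ha' • B := hha ▸ Set.smul_mem_smul_set hb0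
  have hBa := key ha' a haF haB
  have hBa2 : B.ncard = 2 := by
    have h1 := Set.ncard_le_ncard hBa (Set.toFinite _)
    rw [Set.ncard_smul_set] at h1
    rcases hB24 with h | h <;> omega
  obtain ⟨c, hcF, hcB⟩ : ∃ c, c ∈ F ∧ c ∉ ha' • B := by
    apply Set.exists_mem_notMem_of_ncard_lt_ncard _ (Set.toFinite _)
    rw [Set.ncard_smul_set]
    omega
  obtain ⟨hc', hhc⟩ := MulAction.exists_smul_eq H b0 c
  have hcB' : c ∈ hc' • B := hhc ▸ Set.smul_mem_smul_set hb0
  have hBc := key hc' c hcF hcB'
  rcases hB.smul_eq_smul_or_disjoint ha' hc' with h1 | h1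
  · exact hcB (h1 ▸ hcB')
  · have h2 := Set.ncard_union_eq h1 (Set.toFinite _) (Set.toFinite _)
    have h3 := Set.ncard_le_ncard (Set.union_subset hBa hBc) (Set.toFinite _)
    rw [Set.ncard_smul_set, Set.ncard_smul_set] at h2
    omega

/-- Non-solvable groups of even permutations of 8 points, of order divisible by `5`, without
nontrivial normal subgroups of odd order. -/
theorem permA {G : Type u} [Group G] [Finite G] (ι : G →* Equiv.Perm (Fin 8))
    (hι : Function.Injective ι) (hA : ∀ x, ι x ∈ alternatingGroup (Fin 8))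
    (hns : ¬ Group.IsSolvable G)
    (hodd : ∀ N : Subgroup G, N.Normal → (Nat.card N).Coprime 2 → N = ⊥)
    (h5 : 5 ∣ Nat.card G) :
    (∃ n : ℕ, 5 ≤ n ∧ n ≤ 8 ∧ Nonempty (G ≃* alternatingGroup (Fin n))) ∨
    Nonempty (G ≃* Equiv.Perm (Fin 5)) ∨ Nonempty (G ≃* Equiv.Perm (Fin 6)) := by
  classical
  have : Fact (Nat.Prime 5) := ⟨by norm_num⟩
  obtain ⟨g0, hg0⟩ := exists_prime_orderOf_dvd_card' 5 h5
  let σ : Equiv.Perm (Fin 8) := ι g0
  have hσo : orderOf σ = 5 := by rw [orderOf_injective ι hι g0, hg0]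
  have hσc : σ.IsCycle :=
    Equiv.Perm.isCycle_of_prime_order' (by rw [hσo]; norm_num) (by rw [hσo]; simp)
  have hσs : σ.support.card = 5 := by rw [← hσc.orderOf, hσo]
  let H : Subgroup (Equiv.Perm (Fin 8)) := ι.range
  have hσH : σ ∈ H := ⟨g0, rfl⟩
  obtain ⟨a0, ha0⟩ : σ.support.Nonempty := by
    rw [← Finset.card_pos]
    omega
  have ha0' : σ a0 ≠ a0 := by simpa using ha0
  let O : Set (Fin 8) := MulAction.orbit H a0
  have hsuppO : (σ.support : Set (Fin 8)) ⊆ O := by
    intro y hy
    have hy' : σ y ≠ y := by simpa using hy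
    obtain ⟨i, hi⟩ := hσc.exists_pow_eq ha0' hy'
    exact ⟨⟨σ ^ i, H.pow_mem hσH i⟩, hi⟩
  have hO5 : 5 ≤ O.ncard := by
    have := Set.ncard_le_ncard hsuppO (Set.toFinite _)
    rwa [Set.ncard_coe_finset, hσs] at this
  have hO8 : O.ncard ≤ 8 := by
    have := Set.ncard_le_ncard (Set.subset_univ O) (Set.toFinite _)
    rwa [Set.ncard_univ, Nat.card_fin] at this
  have hinv : ∀ x : G, ∀ y, y ∈ O → ι x y ∈ O := by
    intro x y hy
    obtain ⟨h, hh⟩ := MulAction.mem_orbit_iff.mp hy
    refine MulAction.mem_orbit_iff.mpr ⟨⟨ι x, x, rfl⟩ * h, ?_⟩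
    rw [mul_smul, hh]
    rfl
  have hinv' : ∀ x : G, ∀ y, ι x y ∈ O → y ∈ O := by
    intro x y hy
    have := hinv x⁻¹ _ hy
    rw [map_inv] at this
    have h2 : (ι x)⁻¹ (ι x y) = y := (ι x).symm_apply_apply y
    rwa [h2] at this
  let ρ : G →* Equiv.Perm ↥O := (MulAction.toPermHom H ↥O).comp ι.rangeRestrict
  have hρ : ∀ (x : G) (y : ↥O), ((ρ x) y : Fin 8) = ι x y := fun _ _ => rfl
  have hρinj : Function.Injective ρ := by
    rw [← MonoidHom.ker_eq_bot_iff]
    apply hodd _ (MonoidHom.normal_ker ρ)
    have h3 : ∀ k ∈ ρ.ker, k ^ 3 = 1 := by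
      intro k hk
      rw [MonoidHom.mem_ker] at hk
      have hfix : ∀ y ∈ O, ι k y = y := by
        intro y hy
        have := hρ k ⟨y, hy⟩
        rw [hk] at this
        exact this.symm
      have hsupp : ((ι k).support : Set (Fin 8)) ⊆ Oᶜ := by
        intro y hy hyO
        have : ι k y ≠ y := by simpa using hy
        exact this (hfix y hyO)
      have hcard : (ι k).support.card ≤ 3 := by
        have h1 := Set.ncard_le_ncard hsupp (Set.toFinite _)
        rw [Set.ncard_coe_finset, Set.ncard_compl, Nat.card_fin] at h1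
        omega
      have hsign : Equiv.Perm.sign (ι k) = 1 := Equiv.Perm.mem_alternatingGroup.mp (hA k)
      have hk3 : (ι k) ^ 3 = 1 := by
        have hne1 := Equiv.Perm.card_support_ne_one (ι k)
        have hne2 : (ι k).support.card ≠ 2 := by
          intro h
          have := (Equiv.Perm.card_support_eq_two.mp h).sign_eq
          rw [hsign] at this
          exact absurd this (by decide)
        have h03 : (ι k).support.card = 0 ∨ (ι k).support.card = 3 := by omega
        rcases h03 with h | h
        · rw [Finset.card_eq_zero, Equiv.Perm.support_eq_empty_iff] at h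
          rw [h, one_pow]
        · have := (card_support_eq_three_iff.mp h).orderOf
          rw [← this]
          exact pow_orderOf_eq_one _
      apply hι
      rw [map_pow, hk3, map_one]
    have hp : IsPGroup 3 ρ.ker := by
      intro k
      refine ⟨1, ?_⟩
      apply Subtype.ext
      rw [pow_one]
      exact h3 k.1 k.2
    have : Fact (Nat.Prime 3) := ⟨by norm_num⟩
    obtain ⟨n, hn⟩ := IsPGroup.iff_card.mp hp
    rw [hn]
    exact Nat.Coprime.pow_left n (by norm_num)
  rcases (by omega : O.ncard ≤ 6 ∨ O.ncard = 7 ∨ O.ncard = 8) with h6 | h7 | h8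
  · have hcard : Fintype.card ↥O ≤ Fintype.card (Fin 6) := by
      rw [← Nat.card_eq_fintype_card, Nat.card_coe_set_eq, Fintype.card_fin]
      exact h6
    obtain ⟨emb⟩ := Function.Embedding.nonempty_of_card_le hcard
    let e : ↥O ≃ {i : Fin 6 // i ∈ Set.range emb} := Equiv.ofInjective emb emb.injective
    let ι6 : G →* Equiv.Perm (Fin 6) := (Equiv.Perm.extendDomainHom e).comp ρ
    have hι6 : Function.Injective ι6 := (Equiv.Perm.extendDomainHom_injective e).comp hρinj
    rcases SubS6.subgroups_S6 ι6 hι6 hns with h | h | h | h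
    · left
      exact ⟨5, le_refl 5, by norm_num, h⟩
    · right; left
      exact h
    · left
      exact ⟨6, by norm_num, by norm_num, h⟩
    · right; right
      exact h
  · have hO7 : Fintype.card ↥O = 7 := by
      rw [← Nat.card_eq_fintype_card, Nat.card_coe_set_eq]
      exact h7
    let I : Subgroup (Equiv.Perm ↥O) := ρ.range
    let eI : G ≃* I := MonoidHom.ofInjective hρinj
    have hItrans : MulAction.IsPretransitive I ↥O := by
      refine ⟨fun y z => ?_⟩
      obtain ⟨h1, hh1⟩ := MulAction.mem_orbit_iff.mp y.2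
      obtain ⟨h2, hh2⟩ := MulAction.mem_orbit_iff.mp z.2
      obtain ⟨x, hx⟩ := (h2 * h1⁻¹).2
      refine ⟨⟨ρ x, x, rfl⟩, ?_⟩
      apply Subtype.ext
      show ι x y.1 = z.1
      rw [hx, ← hh1, ← hh2]
      show (h2 * h1⁻¹) • (h1 • a0) = h2 • a0
      rw [smul_smul, inv_mul_cancel_right]
    have hIns : ¬ Group.IsSolvable I := fun h =>
      hns (Group.isSolvable_of_isSolvable_injective (f := eI.toMonoidHom) eI.injective)
    have hAI : alternatingGroup ↥O ≤ I := by
      by_contra hcon
      have h168 := (Cfsg.Agent.S0678.result hO7 I hIns hcon).1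
      have h168' : Nat.card G = 168 := by
        rw [← h168]
        exact Nat.card_congr eI.toEquiv
      rw [h168'] at h5
      omega
    have hout : ∀ x : G, ∀ y, y ∉ O → ι x y = y := by
      have hc1 : (Oᶜ).ncard = 1 := by
        rw [Set.ncard_compl, Nat.card_fin]
        omega
      obtain ⟨c, hc⟩ := Set.ncard_eq_one.mp hc1
      intro x y hy
      have h1 : y ∈ Oᶜ := hy
      have h2 : ι x y ∈ Oᶜ := fun h => hy (hinv' x y h)
      rw [hc, Set.mem_singleton_iff] at h1 h2
      rw [h2, h1]
    have hIA : I ≤ alternatingGroup ↥O := by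
      rintro _ ⟨x, rfl⟩
      rw [Equiv.Perm.mem_alternatingGroup]
      have h1 : Equiv.Perm.ofSubtype (ρ x) = ι x := by
        apply Equiv.ext
        intro y
        by_cases hy : y ∈ O
        · rw [Equiv.Perm.ofSubtype_apply_of_mem (ρ x) hy]
          rfl
        · rw [Equiv.Perm.ofSubtype_apply_of_not_mem (ρ x) hy, hout x y hy]
      rw [← Equiv.Perm.sign_ofSubtype, h1]
      exact Equiv.Perm.mem_alternatingGroup.mp (hA x)
    have hIeq : I = alternatingGroup ↥O := le_antisymm hIA hAI
    left
    refine ⟨7, by norm_num, by norm_num, ⟨?_⟩⟩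
    exact (eI.trans (MulEquiv.subgroupCongr hIeq)).trans
      (Equiv.altCongrHom (Fintype.equivFinOfCardEq hO7))
  · have hOuniv : O = Set.univ := by
      apply Set.eq_of_subset_of_ncard_le (Set.subset_univ O) _ (Set.toFinite _)
      rw [Set.ncard_univ, Nat.card_fin]
      omega
    have hT : MulAction.IsPretransitive H (Fin 8) := by
      refine ⟨fun y z => ?_⟩
      have hy : y ∈ O := hOuniv ▸ Set.mem_univ y
      have hz : z ∈ O := hOuniv ▸ Set.mem_univ z
      obtain ⟨h1, hh1⟩ := MulAction.mem_orbit_iff.mp hy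
      obtain ⟨h2, hh2⟩ := MulAction.mem_orbit_iff.mp hz
      refine ⟨h2 * h1⁻¹, ?_⟩
      rw [← hh1, ← hh2, smul_smul, inv_mul_cancel_right]
    have hprim := preprimitive_of_five_cycle H σ hσH hσc hσs
    have hAH : alternatingGroup (Fin 8) ≤ H :=
      Cfsg.Agent.S0713.result H hprim (p := 5) (by norm_num) (by simp) (by simp) hσc hσs hσH
    have hHA : H ≤ alternatingGroup (Fin 8) := by
      rintro _ ⟨x, rfl⟩
      exact hA x
    have hHeq : H = alternatingGroup (Fin 8) := le_antisymm hHA hAH
    left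
    refine ⟨8, by norm_num, le_refl 8, ⟨?_⟩⟩
    exact (MonoidHom.ofInjective hι).trans (MulEquiv.subgroupCongr hHeq)

end Cfsg.Agent.Lib.helper61.Perm8
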