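import Mathlib
import Cfsg.Agent.Lib.helper61.Perm8

/-!
# Subgroups of `A_8` of order divisible by 5, allowing a normal subgroup of order 3

A non-solvable group of even permutations of 8 points, of order divisible by 5, is `A_5`, `S_5`,
`A_6`, `S_6`, `A_7`, `A_8`, or has a normal subgroup of order 3 with quotient `A_5` or `S_5`.
-/

set_option autoImplicit false

namespace Cfsg.Agent.Lib.helper61.Perm8B

universe u

open MulAction Cfsg.Agent.Lib.helper61 Cfsg.Agent.Lib.helper61.Perm8
open scoped Pointwise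

theorem permB {G : Type u} [Group G] [Finite G] (ι : G →* Equiv.Perm (Fin 8))
    (hι : Function.Injective ι) (hA : ∀ x, ι x ∈ alternatingGroup (Fin 8))
    (hns : ¬ Group.IsSolvable G) (h5 : 5 ∣ Nat.card G) :
    ((∃ n : ℕ, 5 ≤ n ∧ n ≤ 8 ∧ Nonempty (G ≃* alternatingGroup (Fin n))) ∨
      Nonempty (G ≃* Equiv.Perm (Fin 5)) ∨ Nonempty (G ≃* Equiv.Perm (Fin 6))) ∨
    (∃ K : Subgroup G, ∃ _ : K.Normal, Nat.card K = 3 ∧
      (Nonempty (G ⧸ K ≃* alternatingGroup (Fin 5)) ∨
        Nonempty (G ⧸ K ≃* Equiv.Perm (Fin 5)))) := by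
  classical
  have : Fact (Nat.Prime 5) := ⟨by norm_num⟩
  obtain ⟨g0, hg0⟩ := exists_prime_orderOf_dvd_card' 5 h5
  let σ : Equiv.Perm (Fin 8) := ι g0
  have hσo : orderOf σ = 5 := by rw [orderOf_injective ι hι g0, hg0]
  have hσc : σ.IsCycle :=
    Equiv.Perm.isCycle_of_prime_order' (by rw [hσo]; norm_num) (by rw [hσo]; simp)
  have hσs : σ.support.card = 5 := by rw [← hσc.orderOf, hσo]
  let H : Subgroup (Equiv.Perm (Fin 8)) := ι.range
  have hσH : σ ∈ H := ⟨g0, rfl⟩
  obtain ⟨a0, ha0⟩ : σ.support.Nonempty := by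
    rw [← Finset.card_pos]
    omega
  have ha0' : σ a0 ≠ a0 := by simpa using ha0
  let O : Set (Fin 8) := MulAction.orbit H a0
  have hsuppO : (σ.support : Set (Fin 8)) ⊆ O := by
    intro y hy
    have hy' : σ y ≠ y := by simpa using hy
    obtain ⟨i, hi⟩ := hσc.exists_pow_eq ha0' hy'
    exact ⟨⟨σ ^ i, H.pow_mem hσH i⟩, hi⟩
  have hO5 : 5 ≤ O.ncard := by
    have := Set.ncard_le_ncard hsuppO (Set.toFinite _)
    rwa [Set.ncard_coe_finset, hσs] at this
  have hO8 : O.ncard ≤ 8 := by
    have := Set.ncard_le_ncard (Set.subset_univ O) (Set.toFinite _)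
    rwa [Set.ncard_univ, Nat.card_fin] at this
  have hinv : ∀ x : G, ∀ y, y ∈ O → ι x y ∈ O := by
    intro x y hy
    obtain ⟨h, hh⟩ := MulAction.mem_orbit_iff.mp hy
    refine MulAction.mem_orbit_iff.mpr ⟨⟨ι x, x, rfl⟩ * h, ?_⟩
    rw [mul_smul, hh]
    rfl
  have hinv' : ∀ x : G, ∀ y, ι x y ∈ O → y ∈ O := by
    intro x y hy
    have := hinv x⁻¹ _ hy
    rw [map_inv] at this
    have h2 : (ι x)⁻¹ (ι x y) = y := (ι x).symm_apply_apply y
    rwa [h2] at this
  let ρ : G →* Equiv.Perm ↥O := (MulAction.toPermHom H ↥O).comp ι.rangeRestrict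
  have hρ : ∀ (x : G) (y : ↥O), ((ρ x) y : Fin 8) = ι x y := fun _ _ => rfl
  have hkerfix : ∀ k ∈ ρ.ker, ∀ y ∈ O, ι k y = y := by
    intro k hk y hy
    rw [MonoidHom.mem_ker] at hk
    have := hρ k ⟨y, hy⟩
    rw [hk] at this
    exact this.symm
  have hkerfacts : ∀ k ∈ ρ.ker, k ^ 3 = 1 ∧ (k ≠ 1 → O.ncard = 5) := by
    intro k hk
    have hfix : ∀ y ∈ O, ι k y = y := hkerfix k hk
    have hsupp : ((ι k).support : Set (Fin 8)) ⊆ Oᶜ := by
      intro y hy hyO
      have : ι k y ≠ y := by simpa using hy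
      exact this (hfix y hyO)
    have h1 := Set.ncard_le_ncard hsupp (Set.toFinite _)
    rw [Set.ncard_coe_finset, Set.ncard_compl, Nat.card_fin] at h1
    have hcard : (ι k).support.card ≤ 3 := by omega
    have hsign : Equiv.Perm.sign (ι k) = 1 := Equiv.Perm.mem_alternatingGroup.mp (hA k)
    have hne1 := Equiv.Perm.card_support_ne_one (ι k)
    have hne2 : (ι k).support.card ≠ 2 := by
      intro h
      have := (Equiv.Perm.card_support_eq_two.mp h).sign_eq
      rw [hsign] at this
      exact absurd this (by decide)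
    have h03 : (ι k).support.card = 0 ∨ (ι k).support.card = 3 := by omega
    rcases h03 with h | h
    · rw [Finset.card_eq_zero, Equiv.Perm.support_eq_empty_iff] at h
      have hk1 : k = 1 := hι (by rw [h, map_one])
      exact ⟨by rw [hk1, one_pow], fun hne => absurd hk1 hne⟩
    · refine ⟨?_, fun _ => ?_⟩
      · have := (card_support_eq_three_iff.mp h).orderOf
        apply hι
        rw [map_pow, map_one, ← this]
        exact pow_orderOf_eq_one _
      · omega
  by_cases hρinj : Function.Injective ρ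
  · left
    rcases (by omega : O.ncard ≤ 6 ∨ O.ncard = 7 ∨ O.ncard = 8) with h6 | h7 | h8
    · have hcard : Fintype.card ↥O ≤ Fintype.card (Fin 6) := by
        rw [← Nat.card_eq_fintype_card, Nat.card_coe_set_eq, Fintype.card_fin]
        exact h6
      obtain ⟨emb⟩ := Function.Embedding.nonempty_of_card_le hcard
      let e : ↥O ≃ {i : Fin 6 // i ∈ Set.range emb} := Equiv.ofInjective emb emb.injective
      let ι6 : G →* Equiv.Perm (Fin 6) := (Equiv.Perm.extendDomainHom e).comp ρ
      have hι6 : Function.Injective ι6 := (Equiv.Perm.extendDomainHom_injective e).comp hρinj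
      rcases SubS6.subgroups_S6 ι6 hι6 hns with h | h | h | h
      · left
        exact ⟨5, le_refl 5, by norm_num, h⟩
      · right; left
        exact h
      · left
        exact ⟨6, by norm_num, by norm_num, h⟩
      · right; right
        exact h
    · have hO7 : Fintype.card ↥O = 7 := by
        rw [← Nat.card_eq_fintype_card, Nat.card_coe_set_eq]
        exact h7
      let I : Subgroup (Equiv.Perm ↥O) := ρ.range
      let eI : G ≃* I := MonoidHom.ofInjective hρinj
      have hItrans : MulAction.IsPretransitive I ↥O := by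
        refine ⟨fun y z => ?_⟩
        obtain ⟨h1, hh1⟩ := MulAction.mem_orbit_iff.mp y.2
        obtain ⟨h2, hh2⟩ := MulAction.mem_orbit_iff.mp z.2
        obtain ⟨x, hx⟩ := (h2 * h1⁻¹).2
        refine ⟨⟨ρ x, x, rfl⟩, ?_⟩
        apply Subtype.ext
        show ι x y.1 = z.1
        rw [hx, ← hh1, ← hh2]
        show (h2 * h1⁻¹) • (h1 • a0) = h2 • a0
        rw [smul_smul, inv_mul_cancel_right]
      have hIns : ¬ Group.IsSolvable I := fun h =>
        hns (Group.isSolvable_of_isSolvable_injective (f := eI.toMonoidHom) eI.injective)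
      have hAI : alternatingGroup ↥O ≤ I := by
        by_contra hcon
        have h168 := (Cfsg.Agent.S0678.result hO7 I hIns hcon).1
        have h168' : Nat.card G = 168 := by
          rw [← h168]
          exact Nat.card_congr eI.toEquiv
        rw [h168'] at h5
        omega
      have hout : ∀ x : G, ∀ y, y ∉ O → ι x y = y := by
        have hc1 : (Oᶜ).ncard = 1 := by
          rw [Set.ncard_compl, Nat.card_fin]
          omega
        obtain ⟨c, hc⟩ := Set.ncard_eq_one.mp hc1
        intro x y hy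
        have h1 : y ∈ Oᶜ := hy
        have h2 : ι x y ∈ Oᶜ := fun h => hy (hinv' x y h)
        rw [hc, Set.mem_singleton_iff] at h1 h2
        rw [h2, h1]
      have hIA : I ≤ alternatingGroup ↥O := by
        rintro _ ⟨x, rfl⟩
        rw [Equiv.Perm.mem_alternatingGroup]
        have h1 : Equiv.Perm.ofSubtype (ρ x) = ι x := by
          apply Equiv.ext
          intro y
          by_cases hy : y ∈ O
          · rw [Equiv.Perm.ofSubtype_apply_of_mem (ρ x) hy]
            rfl
          · rw [Equiv.Perm.ofSubtype_apply_of_not_mem (ρ x) hy, hout x y hy]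
        rw [← Equiv.Perm.sign_ofSubtype, h1]
        exact Equiv.Perm.mem_alternatingGroup.mp (hA x)
      have hIeq : I = alternatingGroup ↥O := le_antisymm hIA hAI
      left
      refine ⟨7, by norm_num, by norm_num, ⟨?_⟩⟩
      exact (eI.trans (MulEquiv.subgroupCongr hIeq)).trans
        (Equiv.altCongrHom (Fintype.equivFinOfCardEq hO7))
    · have hOuniv : O = Set.univ := by
        apply Set.eq_of_subset_of_ncard_le (Set.subset_univ O) _ (Set.toFinite _)
        rw [Set.ncard_univ, Nat.card_fin]
        omega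
      have hT : MulAction.IsPretransitive H (Fin 8) := by
        refine ⟨fun y z => ?_⟩
        have hy : y ∈ O := hOuniv ▸ Set.mem_univ y
        have hz : z ∈ O := hOuniv ▸ Set.mem_univ z
        obtain ⟨h1, hh1⟩ := MulAction.mem_orbit_iff.mp hy
        obtain ⟨h2, hh2⟩ := MulAction.mem_orbit_iff.mp hz
        refine ⟨h2 * h1⁻¹, ?_⟩
        rw [← hh1, ← hh2, smul_smul, inv_mul_cancel_right]
      have hprim := preprimitive_of_five_cycle H σ hσH hσc hσs
      have hAH : alternatingGroup (Fin 8) ≤ H :=
        Cfsg.Agent.S0713.result H hprim (p := 5) (by norm_num) (by simp) (by simp) hσc hσs hσH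
      have hHA : H ≤ alternatingGroup (Fin 8) := by
        rintro _ ⟨x, rfl⟩
        exact hA x
      have hHeq : H = alternatingGroup (Fin 8) := le_antisymm hHA hAH
      left
      refine ⟨8, by norm_num, le_refl 8, ⟨?_⟩⟩
      exact (MonoidHom.ofInjective hι).trans (MulEquiv.subgroupCongr hHeq)

  · right
    obtain ⟨k0, hk0, hk01⟩ : ∃ k ∈ ρ.ker, k ≠ 1 := by
      by_contra hcon
      push Not at hcon
      apply hρinj
      rw [← MonoidHom.ker_eq_bot_iff, eq_bot_iff]
      intro k hk
      exact Subgroup.mem_bot.mpr (hcon k hk)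
    have hO5' : O.ncard = 5 := (hkerfacts k0 hk0).2 hk01
    have hp : IsPGroup 3 ρ.ker := by
      intro k
      refine ⟨1, ?_⟩
      apply Subtype.ext
      rw [pow_one]
      exact (hkerfacts k.1 k.2).1
    have hp3 : Fact (Nat.Prime 3) := ⟨by norm_num⟩
    obtain ⟨n, hn⟩ := IsPGroup.iff_card.mp hp
    have hOc : Nat.card ↥(Oᶜ : Set (Fin 8)) = 3 := by
      rw [Nat.card_coe_set_eq, Set.ncard_compl, Nat.card_fin, hO5']
    have hle6 : Nat.card ρ.ker ≤ 6 := by
      let r : ↥ρ.ker → Equiv.Perm ↥(Oᶜ : Set (Fin 8)) := fun k =>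
        (ι k.1).subtypePerm (p := fun y => y ∈ (Oᶜ : Set (Fin 8)))
          (fun y => ⟨fun hy hO => hy (hinv k.1 y hO), fun hy hO => hy (hinv' k.1 y hO)⟩)
      have hr : Function.Injective r := by
        intro k k' hkk
        apply Subtype.ext
        apply hι
        apply Equiv.ext
        intro y
        by_cases hy : y ∈ O
        · rw [hkerfix k.1 k.2 y hy, hkerfix k'.1 k'.2 y hy]
        · have := congrArg (fun f : Equiv.Perm ↥(Oᶜ : Set (Fin 8)) => ((f ⟨y, hy⟩ : ↥(Oᶜ : Set (Fin 8))) : Fin 8)) hkk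
          exact this
      have h1 := Nat.card_le_card_of_injective r hr
      rw [Nat.card_perm, hOc] at h1
      exact h1
    have hcard3 : Nat.card ρ.ker = 3 := by
      have hn1 : n ≠ 0 := by
        intro h0
        rw [h0, pow_zero] at hn
        have hsub : Subsingleton ρ.ker := (Nat.card_eq_one_iff_unique.mp hn).1
        have := Subsingleton.elim (⟨k0, hk0⟩ : ρ.ker) 1
        exact hk01 (congrArg Subtype.val this)
      have hn2 : n < 2 := by
        by_contra hge
        push Not at hge
        have : 3 ^ 2 ≤ 3 ^ n := Nat.pow_le_pow_right (by norm_num) hge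
        rw [← hn] at this
        omega
      have hn3 : n = 1 := by omega
      rw [hn, hn3, pow_one]
    refine ⟨ρ.ker, MonoidHom.normal_ker ρ, hcard3, ?_⟩
    let ρ' : G ⧸ ρ.ker →* Equiv.Perm ↥O := QuotientGroup.kerLift ρ
    have hρ' : Function.Injective ρ' := QuotientGroup.kerLift_injective ρ
    have hcard : Fintype.card ↥O ≤ Fintype.card (Fin 6) := by
      rw [← Nat.card_eq_fintype_card, Nat.card_coe_set_eq, Fintype.card_fin]
      omega
    obtain ⟨emb⟩ := Function.Embedding.nonempty_of_card_le hcard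
    let e : ↥O ≃ {i : Fin 6 // i ∈ Set.range emb} := Equiv.ofInjective emb emb.injective
    let ι6 : G ⧸ ρ.ker →* Equiv.Perm (Fin 6) := (Equiv.Perm.extendDomainHom e).comp ρ'
    have hι6 : Function.Injective ι6 := (Equiv.Perm.extendDomainHom_injective e).comp hρ'
    have hns' : ¬ Group.IsSolvable (G ⧸ ρ.ker) := by
      intro hs
      apply hns
      have hnil : Group.IsNilpotent ρ.ker := hp.isNilpotent
      have hsolK : Group.IsSolvable ρ.ker := inferInstance
      exact Group.isSolvable_of_ker_le_range ρ.ker.subtype (QuotientGroup.mk' ρ.ker) (by simp)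
    have hcardq : Nat.card (G ⧸ ρ.ker) ≤ 120 := by
      have h1 := Nat.card_le_card_of_injective ρ' hρ'
      rw [Nat.card_perm, Nat.card_coe_set_eq, hO5'] at h1
      exact h1
    rcases SubS6.subgroups_S6 ι6 hι6 hns' with h | h | h | h
    · exact Or.inl h
    · exact Or.inr h
    · exfalso
      obtain ⟨f⟩ := h
      have h1 := Nat.card_congr f.toEquiv
      rw [nat_card_alternatingGroup, Nat.card_fin] at h1
      have h2 : (6 : ℕ).factorial / 2 = 360 := by decide
      omega
    · exfalso
      obtain ⟨f⟩ := h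
      have h1 := Nat.card_congr f.toEquiv
      rw [Nat.card_perm, Nat.card_fin] at h1
      have h2 : (6 : ℕ).factorial = 720 := by decide
      omega

end Cfsg.Agent.Lib.helper61.Perm8B
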