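import Mathlib

/-!
# Elements of order `p * r` in finite solvable groups

Shared library file of seat `helper61`.  Everything lives in `Cfsg.Agent.Lib.helper61`.

Main results:
* `solvable_exists_normal_exp` : a nontrivial finite solvable group has a nontrivial normal
  subgroup of prime exponent.
* `exists_commuting_of_not_dvd` : if `y` has prime order `q` and `N` is a finite normal subgroup
  with `¬ q ∣ |N| - 1`, then `y` commutes with some nonidentity element of `N`.
* `exists_orderOf_eq_mul` : a finite solvable group whose order is divisible by `p` exactly once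
  and by `r` at most `b` times, with `¬ r ∣ p - 1` and `¬ p ∣ r ^ c - 1` for `1 ≤ c ≤ b`,
  has an element of order `p * r`.
-/

set_option autoImplicit false

namespace Cfsg.Agent.Lib.helper61

universe u

open scoped commutatorElement

/-- A nontrivial finite solvable group has a nontrivial normal subgroup of prime exponent. -/
theorem solvable_exists_normal_exp {G : Type u} [Group G] [Finite G] (hG : Group.IsSolvable G)
    (hnt : Nontrivial G) :
    ∃ (p : ℕ) (N : Subgroup G), p.Prime ∧ N.Normal ∧ N ≠ ⊥ ∧ ∀ x ∈ N, x ^ p = 1 := by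
  classical
  have hex : ∃ n, derivedSeries G n = ⊥ := hG.solvable
  have hk0 : derivedSeries G (Nat.find hex) = ⊥ := Nat.find_spec hex
  have hk0pos : Nat.find hex ≠ 0 := by
    intro h0
    rw [h0, derivedSeries_zero] at hk0
    exact top_ne_bot hk0
  obtain ⟨j, hj⟩ := Nat.exists_eq_succ_of_ne_zero hk0pos
  have hAbot : derivedSeries G j ≠ ⊥ := Nat.find_min hex (by omega : j < Nat.find hex)
  have hAcomm : ⁅derivedSeries G j, derivedSeries G j⁆ = ⊥ := by
    rw [← derivedSeries_succ, ← Nat.succ_eq_add_one, ← hj]; exact hk0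
  have hAn : (derivedSeries G j).Normal := derivedSeries_normal G j
  have hcomm : ∀ x ∈ derivedSeries G j, ∀ y ∈ derivedSeries G j, x * y = y * x := by
    intro x hx y hy
    have : ⁅x, y⁆ ∈ ⁅derivedSeries G j, derivedSeries G j⁆ := Subgroup.commutator_mem_commutator hx hy
    rw [hAcomm, Subgroup.mem_bot] at this
    exact commutatorElement_eq_one_iff_mul_comm.mp this
  have hcA : Nat.card (derivedSeries G j) ≠ 1 := by
    rw [Ne, Subgroup.card_eq_one]; exact hAbot
  obtain ⟨p, hp, hpA⟩ := Nat.exists_prime_and_dvd hcA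
  have := Fact.mk hp
  obtain ⟨x, hx⟩ := exists_prime_orderOf_dvd_card' p hpA
  let N : Subgroup G :=
    { carrier := {y | y ∈ derivedSeries G j ∧ y ^ p = 1}
      mul_mem' := by
        rintro a b ⟨ha, ha'⟩ ⟨hb, hb'⟩
        refine ⟨Subgroup.mul_mem _ ha hb, ?_⟩
        have hc : Commute a b := hcomm a ha b hb
        rw [hc.mul_pow, ha', hb', one_mul]
      one_mem' := ⟨Subgroup.one_mem _, one_pow _⟩
      inv_mem' := by
        rintro a ⟨ha, ha'⟩
        exact ⟨Subgroup.inv_mem _ ha, by rw [inv_pow, ha', inv_one]⟩ }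
  refine ⟨p, N, hp, ?_, ?_, ?_⟩
  · constructor
    rintro n ⟨hn, hn'⟩ g
    refine ⟨hAn.conj_mem n hn g, ?_⟩
    rw [conj_pow, hn', mul_one, mul_inv_cancel]
  · intro hbot
    have hxN : (x : G) ∈ N := by
      refine ⟨x.2, ?_⟩
      have : x ^ p = 1 := by rw [← hx]; exact pow_orderOf_eq_one x
      have := congrArg Subtype.val this
      simpa using this
    rw [hbot, Subgroup.mem_bot] at hxN
    have hx1 : x = 1 := Subtype.ext hxN
    rw [hx1, orderOf_one] at hx
    exact hp.one_lt.ne hx
  · rintro y ⟨-, hy⟩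
    exact hy

/-- If `y` has prime order `q` and `N` is a finite normal subgroup with `¬ q ∣ |N| - 1`, then `y`
commutes with a nonidentity element of `N`. -/
theorem exists_commuting_of_not_dvd {G : Type*} [Group G] (N : Subgroup G) [N.Normal] [Finite N]
    (y : G) (q : ℕ) (hqp : q.Prime) (hy : orderOf y = q) (hq : ¬ q ∣ Nat.card N - 1) :
    ∃ z ∈ N, z ≠ 1 ∧ y * z = z * y := by
  have := Fact.mk hqp
  have hP : IsPGroup q (Subgroup.zpowers y) :=
    IsPGroup.of_card (n := 1) (by rw [Nat.card_zpowers, hy, pow_one])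
  let _inst : MulAction (Subgroup.zpowers y) N :=
    MulAction.compHom N ((MulAut.conjNormal (H := N)).comp (Subgroup.zpowers y).subtype)
  have hmod := hP.card_modEq_card_fixedPoints N
  by_contra hno
  push Not at hno
  have hfix : MulAction.fixedPoints (Subgroup.zpowers y) N = {1} := by
    ext z
    constructor
    · intro hz
      by_contra hz1
      apply hno z.1 z.2 (fun h => hz1 (Subtype.ext h))
      have h1 : (⟨y, Subgroup.mem_zpowers y⟩ : Subgroup.zpowers y) • z = z :=
        hz ⟨y, Subgroup.mem_zpowers y⟩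
      have h2 : y * z.1 * y⁻¹ = z.1 := congrArg Subtype.val h1
      exact mul_inv_eq_iff_eq_mul.1 h2
    · intro hz g
      rw [Set.mem_singleton_iff] at hz
      subst hz
      show (MulAut.conjNormal (H := N) (g : G)) (1 : N) = 1
      exact map_one _
  have hc1 : Nat.card (({1} : Set N)) = 1 := by
    rw [Nat.card_coe_set_eq, Set.ncard_singleton]
  rw [hfix, hc1] at hmod
  have h1 : 1 ≤ Nat.card N := Nat.card_pos
  exact hq ((Nat.modEq_iff_dvd' h1).1 hmod.symm)

theorem exists_orderOf_eq_mul_aux (p r b : ℕ) (hp : p.Prime) (hr : r.Prime) (hpr : p ≠ r)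
    (h1 : ¬ r ∣ p - 1) (h2 : ∀ c, 1 ≤ c → c ≤ b → ¬ p ∣ r ^ c - 1) :
    ∀ (n : ℕ) (G : Type u) [Group G] [Finite G], Nat.card G = n → Group.IsSolvable G →
      p ∣ n → ¬ p ^ 2 ∣ n → r ∣ n → ¬ r ^ (b + 1) ∣ n → ∃ g : G, orderOf g = p * r := by
  intro n
  induction n using Nat.strong_induction_on with
  | _ n ih =>
    intro G _ _ hcard hsolv hpn hp2 hrn hrb
    have hcop : Nat.Coprime p r := (Nat.coprime_primes hp hr).2 hpr
    have hn0 : 0 < n := by rw [← hcard]; exact Nat.card_pos
    have hnt : Nontrivial G := by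
      rw [← Finite.one_lt_card_iff_nontrivial, hcard]
      exact lt_of_lt_of_le hp.one_lt (Nat.le_of_dvd hn0 hpn)
    obtain ⟨s, N, hs, hNn, hNbot, hNexp⟩ := solvable_exists_normal_exp hsolv hnt
    have := Fact.mk hs
    have hNp : IsPGroup s N := by
      intro g
      refine ⟨1, ?_⟩
      apply Subtype.ext
      rw [pow_one]
      simpa using hNexp g.1 g.2
    obtain ⟨k, hk⟩ := IsPGroup.iff_card.1 hNp
    have hk0 : k ≠ 0 := by
      intro h
      rw [h, pow_zero, Subgroup.card_eq_one] at hk
      exact hNbot hk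
    have hNdvd : Nat.card N ∣ n := by rw [← hcard]; exact Subgroup.card_subgroup_dvd_card N
    rw [hk] at hNdvd
    by_cases hsp : s = p
    · subst hsp
      -- `N` has order `s = p`
      have hk1 : k = 1 := by
        by_contra hne
        have h2k : 2 ≤ k := by omega
        exact hp2 (dvd_trans (pow_dvd_pow s h2k) hNdvd)
      rw [hk1, pow_one] at hk
      have := Fact.mk hr
      obtain ⟨y, hy⟩ := exists_prime_orderOf_dvd_card' (G := G) r (by rw [hcard]; exact hrn)
      obtain ⟨z, hzN, hz1, hyz⟩ := exists_commuting_of_not_dvd N y r hr hy (by rw [hk]; exact h1)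
      have hoz : orderOf z = s := orderOf_eq_prime (hNexp z hzN) hz1
      refine ⟨z * y, ?_⟩
      have hc : Commute z y := hyz.symm
      rw [hc.orderOf_mul_eq_mul_orderOf_of_coprime (by rw [hoz, hy]; exact hcop), hoz, hy]
    by_cases hsr : s = r
    · subst hsr
      have hkb : k ≤ b := by
        by_contra hne
        have : b + 1 ≤ k := by omega
        exact hrb (dvd_trans (pow_dvd_pow s this) hNdvd)
      have := Fact.mk hp
      obtain ⟨y, hy⟩ := exists_prime_orderOf_dvd_card' (G := G) p (by rw [hcard]; exact hpn)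
      obtain ⟨z, hzN, hz1, hyz⟩ := exists_commuting_of_not_dvd N y p hp hy
        (by rw [hk]; exact h2 k (by omega) hkb)
      have hoz : orderOf z = s := orderOf_eq_prime (hNexp z hzN) hz1
      refine ⟨y * z, ?_⟩
      have hc : Commute y z := hyz
      rw [hc.orderOf_mul_eq_mul_orderOf_of_coprime (by rw [hoz, hy]; exact hcop), hoz, hy]
    · -- pass to the quotient
      have hcardQ : Nat.card G = Nat.card (G ⧸ N) * Nat.card N :=
        Subgroup.card_eq_card_quotient_mul_card_subgroup N
      rw [hcard, hk] at hcardQ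
      have hsk : 2 ≤ s ^ k := by
        calc 2 ≤ s := hs.two_le
          _ = s ^ 1 := (pow_one s).symm
          _ ≤ s ^ k := Nat.pow_le_pow_right hs.pos (by omega)
      have hm0 : 0 < Nat.card (G ⧸ N) := Nat.card_pos
      have hmlt : Nat.card (G ⧸ N) < n := by
        rw [hcardQ]; nlinarith
      have hps : Nat.Coprime p (s ^ k) :=
        Nat.Coprime.pow_right k ((Nat.coprime_primes hp hs).2 (fun h => hsp h.symm))
      have hrs : Nat.Coprime r (s ^ k) :=
        Nat.Coprime.pow_right k ((Nat.coprime_primes hr hs).2 (fun h => hsr h.symm))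
      have hmdvd : Nat.card (G ⧸ N) ∣ n := by rw [hcardQ]; exact dvd_mul_right _ _
      have hsolvQ : Group.IsSolvable (G ⧸ N) := by
        have := hsolv
        infer_instance
      obtain ⟨gbar, hgbar⟩ := ih (Nat.card (G ⧸ N)) hmlt (G ⧸ N) rfl hsolvQ
        (hps.dvd_of_dvd_mul_right (by rw [← hcardQ]; exact hpn))
        (fun h => hp2 (dvd_trans h hmdvd))
        (hrs.dvd_of_dvd_mul_right (by rw [← hcardQ]; exact hrn))
        (fun h => hrb (dvd_trans h hmdvd))
      obtain ⟨g, rfl⟩ := QuotientGroup.mk_surjective gbar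
      have hdvd : p * r ∣ orderOf g := by
        rw [← hgbar]
        exact orderOf_map_dvd (QuotientGroup.mk' N) g
      exact ⟨g ^ (orderOf g / (p * r)), orderOf_pow_orderOf_div (orderOf_pos g).ne' hdvd⟩

/-- A finite solvable group whose order is divisible by `p` exactly once and by `r` at most `b`
times, with `¬ r ∣ p - 1` and `¬ p ∣ r ^ c - 1` for `1 ≤ c ≤ b`, has an element of order `p * r`. -/
theorem exists_orderOf_eq_mul {G : Type u} [Group G] [Finite G] (hG : Group.IsSolvable G) (p r b : ℕ)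
    (hp : p.Prime) (hr : r.Prime) (hpr : p ≠ r)
    (h1 : ¬ r ∣ p - 1) (h2 : ∀ c, 1 ≤ c → c ≤ b → ¬ p ∣ r ^ c - 1)
    (hpG : p ∣ Nat.card G) (hp2 : ¬ p ^ 2 ∣ Nat.card G) (hrG : r ∣ Nat.card G)
    (hrb : ¬ r ^ (b + 1) ∣ Nat.card G) : ∃ g : G, orderOf g = p * r :=
  exists_orderOf_eq_mul_aux p r b hp hr hpr h1 h2 (Nat.card G) G rfl hG hpG hp2 hrG hrb

/-- A permutation of `Fin n` cannot have order `p * r` for distinct primes with `n < p + r` and
`n < p * r`. -/
theorem perm_orderOf_ne_mul (n p r : ℕ) (hp : p.Prime) (hr : r.Prime) (hpr : p ≠ r)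
    (hsum : n < p + r) (hprod : n < p * r) (σ : Equiv.Perm (Fin n)) : orderOf σ ≠ p * r := by
  intro h
  have hcop : Nat.Coprime p r := (Nat.coprime_primes hp hr).2 hpr
  have hl : σ.cycleType.lcm = p * r := by rw [Equiv.Perm.lcm_cycleType, h]
  have hs : σ.cycleType.sum ≤ n := by
    rw [Equiv.Perm.sum_cycleType]
    calc σ.support.card ≤ Fintype.card (Fin n) := Finset.card_le_univ _
      _ = n := Fintype.card_fin n
  have key : ∀ (p r : ℕ), p.Prime → r.Prime → p ≠ r → σ.cycleType.lcm = p * r →
      ∃ a ∈ σ.cycleType, p ∣ a := by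
    intro p r hp hr hpr hl
    by_contra hno
    push Not at hno
    have hall : ∀ a ∈ σ.cycleType, a ∣ r := by
      intro a ha
      have h1 : a ∣ p * r := by rw [← hl]; exact Multiset.dvd_lcm ha
      have h2 : Nat.Coprime a p := ((Nat.Prime.coprime_iff_not_dvd hp).2 (hno a ha)).symm
      exact h2.dvd_of_dvd_mul_left h1
    have h3 : p * r ∣ r := by rw [← hl]; exact Multiset.lcm_dvd.2 hall
    have h4 : p * r ≤ r := Nat.le_of_dvd hr.pos h3
    have h5 : 2 ≤ p := hp.two_le
    have h6 : 0 < r := hr.pos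
    nlinarith
  obtain ⟨a, ha, hpa⟩ := key p r hp hr hpr hl
  obtain ⟨b, hb, hrb⟩ := key r p hr hp (Ne.symm hpr) (by rw [hl, mul_comm])
  have ha0 : 0 < a := lt_of_lt_of_le (by norm_num) (Equiv.Perm.two_le_of_mem_cycleType ha)
  have hb0 : 0 < b := lt_of_lt_of_le (by norm_num) (Equiv.Perm.two_le_of_mem_cycleType hb)
  by_cases hab : a = b
  · subst hab
    have h1 : p * r ∣ a := hcop.mul_dvd_of_dvd_of_dvd hpa hrb
    have h2 : p * r ≤ a := Nat.le_of_dvd ha0 h1
    have h3 : a ≤ σ.cycleType.sum := Multiset.le_sum_of_mem ha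
    omega
  · have h1 : a + (σ.cycleType.erase a).sum = σ.cycleType.sum := Multiset.sum_erase ha
    have h2 : b ∈ σ.cycleType.erase a := (Multiset.mem_erase_of_ne (Ne.symm hab)).2 hb
    have h3 : b ≤ (σ.cycleType.erase a).sum := Multiset.le_sum_of_mem h2
    have h4 : p ≤ a := Nat.le_of_dvd ha0 hpa
    have h5 : r ≤ b := Nat.le_of_dvd hb0 hrb
    omega

end Cfsg.Agent.Lib.helper61
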