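import Mathlib
import Cfsg.Agent.Lib.helper61.SolvPQ

/-!
# Elements of order `s * t` from a normal subgroup (Frattini argument)

Shared library file of seat `helper61`.  Everything lives in `Cfsg.Agent.Lib.helper61`.
-/

set_option autoImplicit false

namespace Cfsg.Agent.Lib.helper61

/-- Let `M` be normal in the finite group `G`, and `s ≠ t` primes such that `s` divides `|M|`,
`s ^ 2` does not divide `|G|`, `t` divides `|G|` but not `|M|`, and `t` does not divide `s - 1`.
Then `G` has an element of order `s * t`. -/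
theorem exists_orderOf_eq_mul_of_normal {G : Type*} [Group G] [Finite G] (M : Subgroup G) [M.Normal]
    (s t : ℕ) (hs : s.Prime) (ht : t.Prime) (hst : s ≠ t)
    (hsM : s ∣ Nat.card M) (hs2 : ¬ s ^ 2 ∣ Nat.card G) (htG : t ∣ Nat.card G)
    (htM : ¬ t ∣ Nat.card M) (hts : ¬ t ∣ s - 1) : ∃ g : G, orderOf g = s * t := by
  have := Fact.mk hs
  have hcop : Nat.Coprime s t := (Nat.coprime_primes hs ht).2 hst
  let S : Sylow s M := default
  have hcardS : Nat.card S = s := by
    obtain ⟨k, hk⟩ := IsPGroup.iff_card.1 S.isPGroup'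
    have h1 : s ∣ Nat.card S := S.dvd_card_of_dvd_card hsM
    have h2 : Nat.card S ∣ Nat.card G :=
      dvd_trans (Subgroup.card_subgroup_dvd_card _) (Subgroup.card_subgroup_dvd_card M)
    rw [hk] at h1 h2
    have hk1 : k = 1 := by
      have hk0 : k ≠ 0 := by
        rintro rfl
        rw [pow_zero] at h1
        exact hs.one_lt.ne' (Nat.dvd_one.1 h1)
      have hk2 : k < 2 := by
        by_contra h
        exact hs2 (dvd_trans (pow_dvd_pow s (by omega)) h2)
      omega
    rw [hk, hk1, pow_one]
  let S₀ : Subgroup G := (S : Subgroup M).map M.subtype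
  have hcardS₀ : Nat.card S₀ = s := by
    rw [← hcardS]
    exact Subgroup.card_map_of_injective M.subtype_injective
  have hFr : (Subgroup.normalizer (S₀ : Set G)) ⊔ M = ⊤ := Sylow.normalizer_sup_eq_top S
  have htK : t ∣ Nat.card (Subgroup.normalizer (S₀ : Set G)) := by
    have h1 : M.index * Nat.card M = Nat.card G := Subgroup.index_mul_card M
    have h2 : t ∣ M.index := by
      rw [← h1] at htG
      exact ((Nat.Prime.dvd_mul ht).1 htG).resolve_right htM
    have h3 : M.relIndex (Subgroup.normalizer (S₀ : Set G)) = M.index := by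
      rw [← Subgroup.relIndex_sup_right, hFr, Subgroup.relIndex_top_right]
    rw [← h3] at h2
    exact dvd_trans h2 (Subgroup.relIndex_dvd_card M (Subgroup.normalizer (S₀ : Set G)))
  have hcardN₁ : Nat.card (S₀.subgroupOf (Subgroup.normalizer (S₀ : Set G))) = s := by
    rw [← hcardS₀]
    exact Nat.card_congr (Subgroup.subgroupOfEquivOfLe Subgroup.le_normalizer).toEquiv
  have := Fact.mk ht
  obtain ⟨y, hy⟩ := exists_prime_orderOf_dvd_card' (G := (Subgroup.normalizer (S₀ : Set G))) t htK
  obtain ⟨z, hzN, hz1, hyz⟩ := exists_commuting_of_not_dvd (S₀.subgroupOf (Subgroup.normalizer (S₀ : Set G))) y t ht hy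
    (by rw [hcardN₁]; exact hts)
  have hoz : orderOf z = s := by
    have h1 : orderOf z ∣ s := by
      rw [← hcardN₁]
      exact Subgroup.orderOf_dvd_natCard _ hzN
    rcases (Nat.dvd_prime hs).1 h1 with h | h
    · exact absurd (orderOf_eq_one_iff.1 h) hz1
    · exact h
  refine ⟨((z * y : (Subgroup.normalizer (S₀ : Set G))) : G), ?_⟩
  have hc : Commute z y := hyz.symm
  rw [Subgroup.orderOf_coe, hc.orderOf_mul_eq_mul_orderOf_of_coprime (by rw [hoz, hy]; exact hcop),
    hoz, hy]

end Cfsg.Agent.Lib.helper61
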