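import Mathlib

/-!
# Two primes in `(m, 2m]` for `m ≥ 6` (a strengthening of Bertrand's postulate)

Shared library file of seat `helper61`.  Everything lives in `Cfsg.Agent.Lib.helper61`.
-/

set_option autoImplicit false

namespace Cfsg.Agent.Lib.helper61

open Nat

/-- If `(m, 2m]` contains at most one prime `q₀`, the central binomial coefficient satisfies the
same bound as in the proof of Bertrand's postulate. -/
theorem centralBinom_le_of_one_prime (n : ℕ) (n_large : 2 < n) (q₀ : ℕ)
    (hq₀ : ∀ p : ℕ, p.Prime → n < p → p ≤ 2 * n → p = q₀) :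
    centralBinom n ≤ (2 * n) ^ sqrt (2 * n) * 4 ^ (2 * n / 3) := by
  have n_pos : 0 < n := (Nat.zero_le _).trans_lt n_large
  have n2_pos : 1 ≤ 2 * n := mul_pos (zero_lt_two' ℕ) n_pos
  let f : ℕ → ℕ := fun x => x ^ n.centralBinom.factorization x
  have hsqrt : 1 ≤ sqrt (2 * n) := by
    rw [Nat.le_sqrt]; omega
  -- split the full product
  have hfull : centralBinom n = ∏ p ∈ Finset.range (2 * n + 1), f p :=
    (n.prod_pow_factorization_centralBinom).symm
  have hsub : Finset.range (2 * n / 3 + 1) ⊆ Finset.range (2 * n + 1) := by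
    intro x hx
    rw [Finset.mem_range] at hx ⊢
    have := Nat.div_le_self (2 * n) 3
    omega
  have hsplit : ∏ p ∈ Finset.range (2 * n + 1), f p =
      (∏ p ∈ Finset.range (2 * n / 3 + 1), f p) *
        ∏ p ∈ Finset.range (2 * n + 1) \ Finset.range (2 * n / 3 + 1), f p := by
    have h := Finset.prod_sdiff (f := f) hsub
    rw [← h, mul_comm]
  -- the upper part is at most `2 * n`
  have hupper : ∏ p ∈ Finset.range (2 * n + 1) \ Finset.range (2 * n / 3 + 1), f p ≤ 2 * n := by
    have hone : ∀ x ∈ Finset.range (2 * n + 1) \ Finset.range (2 * n / 3 + 1), x ≠ q₀ → f x = 1 := by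
      intro x hx hne
      rw [Finset.mem_sdiff, Finset.mem_range, Finset.mem_range] at hx
      obtain ⟨hx1, hx2⟩ := hx
      have h2x : 2 * n < 3 * x := by
        have := Nat.lt_of_div_lt_div (a := 2 * n) (b := 3 * x) (c := 3) (by
          rw [Nat.mul_div_cancel_left x (by norm_num : 0 < 3)]; omega)
        exact this
      by_cases hxp : x.Prime
      · by_cases hxn : x ≤ n
        · show x ^ n.centralBinom.factorization x = 1
          rw [factorization_centralBinom_of_two_mul_self_lt_three_mul n_large hxn h2x, Nat.pow_zero]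
        · exact absurd (hq₀ x hxp (by omega) (by omega)) hne
      · show x ^ n.centralBinom.factorization x = 1
        rw [factorization_eq_zero_of_not_prime n.centralBinom hxp, Nat.pow_zero]
    by_cases hq : q₀ ∈ Finset.range (2 * n + 1) \ Finset.range (2 * n / 3 + 1)
    · rw [Finset.prod_eq_single_of_mem q₀ hq (fun b hb hne => hone b hb hne)]
      exact pow_factorization_choose_le (mul_pos two_pos n_pos)
    · rw [Finset.prod_eq_one (fun x hx => hone x hx (fun h => hq (h ▸ hx)))]
      exact n2_pos
  -- the lower part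
  let S := {p ∈ Finset.range (2 * n / 3 + 1) | Nat.Prime p}
  have hS : ∏ x ∈ S, f x = ∏ x ∈ Finset.range (2 * n / 3 + 1), f x := by
    refine Finset.prod_filter_of_ne fun p _ h => ?_
    contrapose h; dsimp only [f]
    rw [factorization_eq_zero_of_not_prime n.centralBinom h, _root_.pow_zero]
  have hlower : ∏ p ∈ Finset.range (2 * n / 3 + 1), f p ≤
      (2 * n) ^ (sqrt (2 * n) - 1) * 4 ^ (2 * n / 3) := by
    rw [← hS, ← Finset.prod_filter_mul_prod_filter_not S (· ≤ sqrt (2 * n))]
    apply mul_le_mul'
    · refine (Finset.prod_le_prod' fun p _ => (?_ : f p ≤ 2 * n)).trans ?_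
      · exact pow_factorization_choose_le (mul_pos two_pos n_pos)
      have : (Finset.Icc 2 (sqrt (2 * n))).card = sqrt (2 * n) - 1 := by
        rw [card_Icc]; omega
      rw [Finset.prod_const]
      refine pow_right_mono₀ n2_pos ((Finset.card_le_card fun x hx => ?_).trans this.le)
      obtain ⟨h1, h2⟩ := Finset.mem_filter.1 hx
      exact Finset.mem_Icc.mpr ⟨(Finset.mem_filter.1 h1).2.two_le, h2⟩
    · refine le_trans ?_ (primorial_le_four_pow (2 * n / 3))
      refine (Finset.prod_le_prod' fun p hp => (?_ : f p ≤ p)).trans ?_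
      · obtain ⟨h1, h2⟩ := Finset.mem_filter.1 hp
        refine (pow_right_mono₀ (Finset.mem_filter.1 h1).2.one_lt.le ?_).trans (pow_one p).le
        exact Nat.factorization_choose_le_one (sqrt_lt'.mp <| not_le.1 h2)
      refine Finset.prod_le_prod_of_subset_of_one_le' (Finset.filter_subset _ _) ?_
      exact fun p hp _ => (Finset.mem_filter.1 hp).2.one_lt.le
  rw [hfull, hsplit]
  calc (∏ p ∈ Finset.range (2 * n / 3 + 1), f p) *
        ∏ p ∈ Finset.range (2 * n + 1) \ Finset.range (2 * n / 3 + 1), f p
      ≤ ((2 * n) ^ (sqrt (2 * n) - 1) * 4 ^ (2 * n / 3)) * (2 * n) := Nat.mul_le_mul hlower hupper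
    _ = (2 * n) ^ sqrt (2 * n) * 4 ^ (2 * n / 3) := by
        have h : sqrt (2 * n) = (sqrt (2 * n) - 1) + 1 := by omega
        conv_rhs => rw [h, pow_succ]
        ring

/-- For large `m` there are two primes in `(m, 2m]`. -/
theorem exists_two_primes_eventually (n : ℕ) (n_large : 512 ≤ n) :
    ∃ p r : ℕ, p.Prime ∧ r.Prime ∧ n < p ∧ p < r ∧ r ≤ 2 * n := by
  by_contra hno
  push Not at hno
  obtain ⟨q₀, hq₀p, hq₀1, hq₀2⟩ := Nat.exists_prime_lt_and_le_two_mul n (by omega)
  have hone : ∀ p : ℕ, p.Prime → n < p → p ≤ 2 * n → p = q₀ := by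
    intro p hp h1 h2
    rcases lt_trichotomy p q₀ with h | h | h
    · exact absurd hq₀2 (not_le.2 (hno p q₀ hp hq₀p h1 h))
    · exact h
    · exact absurd h2 (not_le.2 (hno q₀ p hq₀p hp hq₀1 h))
  have h1 : 4 ^ n < n * n.centralBinom :=
    Nat.four_pow_lt_mul_centralBinom n (le_trans (by norm_num1) n_large)
  have h2 : n.centralBinom ≤ (2 * n) ^ sqrt (2 * n) * 4 ^ (2 * n / 3) :=
    centralBinom_le_of_one_prime n (lt_of_lt_of_le (by norm_num1) n_large) q₀ hone
  have h3 := bertrand_main_inequality n_large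
  have h4 : n * n.centralBinom ≤ n * ((2 * n) ^ sqrt (2 * n) * 4 ^ (2 * n / 3)) :=
    Nat.mul_le_mul_left n h2
  rw [← mul_assoc] at h4
  omega

/-- Two primes in `(m, 2m]` for every `m ≥ 6`. -/
theorem exists_two_primes (n : ℕ) (hn : 6 ≤ n) :
    ∃ p r : ℕ, p.Prime ∧ r.Prime ∧ n < p ∧ p < r ∧ r ≤ 2 * n := by
  rcases lt_or_ge n 512 with h | h
  · rcases lt_or_ge n 7 with h7 | h7
    · exact ⟨7, 11, by norm_num, by norm_num, by omega, by omega, by omega⟩
    rcases lt_or_ge n 11 with h11 | h11
    · exact ⟨11, 13, by norm_num, by norm_num, by omega, by omega, by omega⟩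
    rcases lt_or_ge n 13 with h13 | h13
    · exact ⟨13, 17, by norm_num, by norm_num, by omega, by omega, by omega⟩
    rcases lt_or_ge n 17 with h17 | h17
    · exact ⟨17, 23, by norm_num, by norm_num, by omega, by omega, by omega⟩
    rcases lt_or_ge n 23 with h23 | h23
    · exact ⟨23, 29, by norm_num, by norm_num, by omega, by omega, by omega⟩
    rcases lt_or_ge n 29 with h29 | h29
    · exact ⟨29, 43, by norm_num, by norm_num, by omega, by omega, by omega⟩
    rcases lt_or_ge n 43 with h43 | h43
    · exact ⟨43, 53, by norm_num, by norm_num, by omega, by omega, by omega⟩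
    rcases lt_or_ge n 53 with h53 | h53
    · exact ⟨53, 83, by norm_num, by norm_num, by omega, by omega, by omega⟩
    rcases lt_or_ge n 83 with h83 | h83
    · exact ⟨83, 101, by norm_num, by norm_num, by omega, by omega, by omega⟩
    rcases lt_or_ge n 101 with h101 | h101
    · exact ⟨101, 163, by norm_num, by norm_num, by omega, by omega, by omega⟩
    rcases lt_or_ge n 163 with h163 | h163
    · exact ⟨163, 199, by norm_num, by norm_num, by omega, by omega, by omega⟩
    rcases lt_or_ge n 199 with h199 | h199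
    · exact ⟨199, 317, by norm_num, by norm_num, by omega, by omega, by omega⟩
    rcases lt_or_ge n 317 with h317 | h317
    · exact ⟨317, 397, by norm_num, by norm_num, by omega, by omega, by omega⟩
    rcases lt_or_ge n 397 with h397 | h397
    · exact ⟨397, 631, by norm_num, by norm_num, by omega, by omega, by omega⟩
    · exact ⟨631, 787, by norm_num, by norm_num, by omega, by omega, by omega⟩
  · exact exists_two_primes_eventually n h

/-- Two distinct odd primes in `(n/2, n]` for every `n ≥ 11`, and for `n = 5, 7, 8, 9`. -/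
theorem exists_two_primes_half (n : ℕ) (hn : 5 ≤ n) (h6 : n ≠ 6) (h10 : n ≠ 10) :
    ∃ p r : ℕ, p.Prime ∧ r.Prime ∧ 3 ≤ p ∧ n < 2 * p ∧ p < r ∧ r ≤ n := by
  rcases lt_or_ge n 12 with h | h
  · have h5 : n = 5 ∨ n = 7 ∨ n = 8 ∨ n = 9 ∨ n = 11 := by omega
    rcases h5 with rfl | rfl | rfl | rfl | rfl
    · exact ⟨3, 5, by norm_num, by norm_num, by omega, by omega, by omega, by omega⟩
    · exact ⟨5, 7, by norm_num, by norm_num, by omega, by omega, by omega, by omega⟩
    · exact ⟨5, 7, by norm_num, by norm_num, by omega, by omega, by omega, by omega⟩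
    · exact ⟨5, 7, by norm_num, by norm_num, by omega, by omega, by omega, by omega⟩
    · exact ⟨7, 11, by norm_num, by norm_num, by omega, by omega, by omega, by omega⟩
  · obtain ⟨p, r, hp, hr, h1, h2, h3⟩ := exists_two_primes (n / 2) (by omega)
    exact ⟨p, r, hp, hr, by omega, by omega, h2, by omega⟩

end Cfsg.Agent.Lib.helper61
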