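import Mathlib
import Cfsg.Agent.Lib.helper61.TwoPrimes

/-!
# Two primes `p + 4 ≤ r` in `(n, 2n]` for `n ≥ 9`

Shared library file of seat `helper61`.  Everything lives in `Cfsg.Agent.Lib.helper61`.
-/

set_option autoImplicit false

namespace Cfsg.Agent.Lib.helper61

open Nat

/-- If `(n, 2n]` contains at most two primes, the central binomial coefficient satisfies the
same bound as in the proof of Bertrand's postulate. -/
theorem centralBinom_le_of_two_primes (n : ℕ) (n_large : 8 ≤ n) (q₀ q₁ : ℕ)
    (hq₀ : ∀ p : ℕ, p.Prime → n < p → p ≤ 2 * n → p = q₀ ∨ p = q₁) :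
    centralBinom n ≤ (2 * n) ^ sqrt (2 * n) * 4 ^ (2 * n / 3) := by
  have n_large' : 2 < n := by omega
  have n_pos : 0 < n := by omega
  have n2_pos : 1 ≤ 2 * n := mul_pos (zero_lt_two' ℕ) n_pos
  let f : ℕ → ℕ := fun x => x ^ n.centralBinom.factorization x
  have hsqrt : 4 ≤ sqrt (2 * n) := by
    rw [Nat.le_sqrt]; omega
  -- split the full product
  have hfull : centralBinom n = ∏ p ∈ Finset.range (2 * n + 1), f p :=
    (n.prod_pow_factorization_centralBinom).symm
  have hsub : Finset.range (2 * n / 3 + 1) ⊆ Finset.range (2 * n + 1) := by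
    intro x hx
    rw [Finset.mem_range] at hx ⊢
    have := Nat.div_le_self (2 * n) 3
    omega
  have hsplit : ∏ p ∈ Finset.range (2 * n + 1), f p =
      (∏ p ∈ Finset.range (2 * n / 3 + 1), f p) *
        ∏ p ∈ Finset.range (2 * n + 1) \ Finset.range (2 * n / 3 + 1), f p := by
    have h := Finset.prod_sdiff (f := f) hsub
    rw [← h, mul_comm]
  -- the upper part is at most `(2 * n) ^ 2`
  have hupper : ∏ p ∈ Finset.range (2 * n + 1) \ Finset.range (2 * n / 3 + 1), f p ≤
      (2 * n) ^ 2 := by
    have hone : ∀ x ∈ Finset.range (2 * n + 1) \ Finset.range (2 * n / 3 + 1),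
        f x ≠ 1 → (x = q₀ ∨ x = q₁) := by
      intro x hx hne
      by_contra hnot
      apply hne
      rw [Finset.mem_sdiff, Finset.mem_range, Finset.mem_range] at hx
      obtain ⟨hx1, hx2⟩ := hx
      have h2x : 2 * n < 3 * x := by
        have := Nat.lt_of_div_lt_div (a := 2 * n) (b := 3 * x) (c := 3) (by
          rw [Nat.mul_div_cancel_left x (by norm_num : 0 < 3)]; omega)
        exact this
      by_cases hxp : x.Prime
      · by_cases hxn : x ≤ n
        · show x ^ n.centralBinom.factorization x = 1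
          rw [factorization_centralBinom_of_two_mul_self_lt_three_mul n_large' hxn h2x,
            Nat.pow_zero]
        · exact absurd (hq₀ x hxp (by omega) (by omega)) hnot
      · show x ^ n.centralBinom.factorization x = 1
        rw [factorization_eq_zero_of_not_prime n.centralBinom hxp, Nat.pow_zero]
    rw [← Finset.prod_filter_of_ne hone]
    refine (Finset.prod_le_pow_card _ f (2 * n) fun x _ =>
      pow_factorization_choose_le (mul_pos two_pos n_pos)).trans ?_
    refine pow_right_mono₀ n2_pos ?_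
    refine (Finset.card_le_card (t := {q₀, q₁}) fun x hx => ?_).trans Finset.card_le_two
    have := (Finset.mem_filter.1 hx).2
    simp only [Finset.mem_insert, Finset.mem_singleton]
    exact this
  -- the lower part
  let S := {p ∈ Finset.range (2 * n / 3 + 1) | Nat.Prime p}
  have hS : ∏ x ∈ S, f x = ∏ x ∈ Finset.range (2 * n / 3 + 1), f x := by
    refine Finset.prod_filter_of_ne fun p _ h => ?_
    contrapose h; dsimp only [f]
    rw [factorization_eq_zero_of_not_prime n.centralBinom h, _root_.pow_zero]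
  have hlower : ∏ p ∈ Finset.range (2 * n / 3 + 1), f p ≤
      (2 * n) ^ (sqrt (2 * n) - 2) * 4 ^ (2 * n / 3) := by
    rw [← hS, ← Finset.prod_filter_mul_prod_filter_not S (· ≤ sqrt (2 * n))]
    apply mul_le_mul'
    · refine (Finset.prod_le_prod' fun p _ => (?_ : f p ≤ 2 * n)).trans ?_
      · exact pow_factorization_choose_le (mul_pos two_pos n_pos)
      have : ((Finset.Icc 2 (sqrt (2 * n))).erase 4).card = sqrt (2 * n) - 2 := by
        rw [Finset.card_erase_of_mem (Finset.mem_Icc.mpr ⟨by norm_num, hsqrt⟩), card_Icc]; omega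
      rw [Finset.prod_const]
      refine pow_right_mono₀ n2_pos ((Finset.card_le_card fun x hx => ?_).trans this.le)
      obtain ⟨h1, h2⟩ := Finset.mem_filter.1 hx
      have hxp : x.Prime := (Finset.mem_filter.1 h1).2
      refine Finset.mem_erase.mpr ⟨?_, Finset.mem_Icc.mpr ⟨hxp.two_le, h2⟩⟩
      rintro rfl
      exact absurd hxp (by norm_num)
    · refine le_trans ?_ (primorial_le_four_pow (2 * n / 3))
      refine (Finset.prod_le_prod' fun p hp => (?_ : f p ≤ p)).trans ?_
      · obtain ⟨h1, h2⟩ := Finset.mem_filter.1 hp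
        refine (pow_right_mono₀ (Finset.mem_filter.1 h1).2.one_lt.le ?_).trans (pow_one p).le
        exact Nat.factorization_choose_le_one (sqrt_lt'.mp <| not_le.1 h2)
      refine Finset.prod_le_prod_of_subset_of_one_le' (Finset.filter_subset _ _) ?_
      exact fun p hp _ => (Finset.mem_filter.1 hp).2.one_lt.le
  rw [hfull, hsplit]
  calc (∏ p ∈ Finset.range (2 * n / 3 + 1), f p) *
        ∏ p ∈ Finset.range (2 * n + 1) \ Finset.range (2 * n / 3 + 1), f p
      ≤ ((2 * n) ^ (sqrt (2 * n) - 2) * 4 ^ (2 * n / 3)) * (2 * n) ^ 2 :=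
        Nat.mul_le_mul hlower hupper
    _ = (2 * n) ^ sqrt (2 * n) * 4 ^ (2 * n / 3) := by
        have h : sqrt (2 * n) = (sqrt (2 * n) - 2) + 2 := by omega
        conv_rhs => rw [h, pow_add]
        ring

/-- For large `n` there are three primes in `(n, 2n]`. -/
theorem exists_three_primes_eventually (n : ℕ) (n_large : 512 ≤ n) :
    ∃ p r s : ℕ, p.Prime ∧ r.Prime ∧ s.Prime ∧ n < p ∧ p < r ∧ r < s ∧ s ≤ 2 * n := by
  by_contra hno
  push Not at hno
  obtain ⟨q₀, q₁, hq₀p, hq₁p, hq₀1, hq01, hq₁2⟩ := exists_two_primes_eventually n n_large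
  have hone : ∀ p : ℕ, p.Prime → n < p → p ≤ 2 * n → p = q₀ ∨ p = q₁ := by
    intro p hp h1 h2
    by_contra hnot
    push Not at hnot
    obtain ⟨hne0, hne1⟩ := hnot
    rcases lt_or_gt_of_ne hne0 with h | h
    · exact absurd hq₁2 (not_le.2 (hno p q₀ q₁ hp hq₀p hq₁p h1 h hq01))
    · rcases lt_or_gt_of_ne hne1 with h' | h'
      · exact absurd hq₁2 (not_le.2 (hno q₀ p q₁ hq₀p hp hq₁p hq₀1 h h'))
      · exact absurd h2 (not_le.2 (hno q₀ q₁ p hq₀p hq₁p hp hq₀1 hq01 h'))
  have h1 : 4 ^ n < n * n.centralBinom :=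
    Nat.four_pow_lt_mul_centralBinom n (le_trans (by norm_num1) n_large)
  have h2 : n.centralBinom ≤ (2 * n) ^ sqrt (2 * n) * 4 ^ (2 * n / 3) :=
    centralBinom_le_of_two_primes n (le_trans (by norm_num1) n_large) q₀ q₁ hone
  have h3 := bertrand_main_inequality n_large
  have h4 : n * n.centralBinom ≤ n * ((2 * n) ^ sqrt (2 * n) * 4 ^ (2 * n / 3)) :=
    Nat.mul_le_mul_left n h2
  rw [← mul_assoc] at h4
  omega

/-- Two primes `p + 4 ≤ r` in `(n, 2n]` for every `n ≥ 9`. -/
theorem exists_nontwin_primes (n : ℕ) (hn : 9 ≤ n) :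
    ∃ p r : ℕ, p.Prime ∧ r.Prime ∧ n < p ∧ p + 4 ≤ r ∧ r ≤ 2 * n := by
  rcases lt_or_ge n 512 with h | h
  · rcases lt_or_ge n 13 with h13 | h13
    · exact ⟨13, 17, by norm_num, by norm_num, by omega, by omega, by omega⟩
    rcases lt_or_ge n 19 with h19 | h19
    · exact ⟨19, 23, by norm_num, by norm_num, by omega, by omega, by omega⟩
    rcases lt_or_ge n 31 with h31 | h31
    · exact ⟨31, 37, by norm_num, by norm_num, by omega, by omega, by omega⟩
    rcases lt_or_ge n 53 with h53 | h53
    · exact ⟨53, 61, by norm_num, by norm_num, by omega, by omega, by omega⟩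
    rcases lt_or_ge n 97 with h97 | h97
    · exact ⟨97, 103, by norm_num, by norm_num, by omega, by omega, by omega⟩
    rcases lt_or_ge n 181 with h181 | h181
    · exact ⟨181, 193, by norm_num, by norm_num, by omega, by omega, by omega⟩
    rcases lt_or_ge n 353 with h353 | h353
    · exact ⟨353, 359, by norm_num, by norm_num, by omega, by omega, by omega⟩
    · exact ⟨691, 701, by norm_num, by norm_num, by omega, by omega, by omega⟩
  · obtain ⟨p, r, s, hp, hr, hs, h1, h2, h3, h4⟩ := exists_three_primes_eventually n h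
    have hpo : Odd p := hp.odd_of_ne_two (by omega)
    have hro : Odd r := hr.odd_of_ne_two (by omega)
    have hso : Odd s := hs.odd_of_ne_two (by omega)
    obtain ⟨a, rfl⟩ := hpo
    obtain ⟨b, rfl⟩ := hro
    obtain ⟨c, rfl⟩ := hso
    exact ⟨2 * a + 1, 2 * c + 1, hp, hs, h1, by omega, h4⟩

end Cfsg.Agent.Lib.helper61
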