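import Mathlib
import Cfsg.Prelude.Def_GeometricClasses
import Cfsg.Agent.Lib.helper24.SfoDefs
import Cfsg.Agent.Lib.helper27.SfoCNTE
import Cfsg.Agent.Lib.helper77.SfoCNTO
import Cfsg.Agent.Lib.helper34.QfcCNT
import Cfsg.Agent.Lib.helper61.QfuFIB

set_option autoImplicit false

namespace Cfsg.Agent.Lib.helper2

open Cfsg.Geo Matrix Cfsg.Agent.Lib.helper24

/-- CNTEQ -/
theorem qfu_count_eq {F : Type*} [Field F] [Fintype F] {ι : Type} [Fintype ι] [DecidableEq ι]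
    (hodd : Odd (Fintype.card F)) (Q : (ι → F) → F) (δ : F) [Fact (∀ r : F, r ^ 2 ≠ δ + 0 * r)]
    (d : ℕ) (Φ₁ Φ₂ : (Fin d → QuadraticAlgebra F δ 0) ≃+ (ι → F))
    (qk₁ qk₂ : (ι → F) → QuadraticAlgebra F δ 0) (hre₁ : ∀ v, (qk₁ v).re = Q v)
    (hre₂ : ∀ v, (qk₂ v).re = Q v)
    (hQ₁ : IsNondegenerateQuadraticForm (fun k : Fin d → QuadraticAlgebra F δ 0 => qk₁ (Φ₁ k)))
    (hQ₂ : IsNondegenerateQuadraticForm (fun k : Fin d → QuadraticAlgebra F δ 0 => qk₂ (Φ₂ k))) :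
    sfoCount (fun k : Fin d → QuadraticAlgebra F δ 0 => qk₁ (Φ₁ k)) 1 =
      sfoCount (fun k : Fin d → QuadraticAlgebra F δ 0 => qk₂ (Φ₂ k)) 1 := by
  classical
  let _ : Fintype (QuadraticAlgebra F δ 0) :=
    Fintype.ofEquiv _ (QuadraticAlgebra.equivProd δ 0).symm
  have h2F : (2 : F) ≠ 0 := by
    intro h
    obtain ⟨m, hm⟩ := hodd
    have h0 : ((Fintype.card F : ℕ) : F) = 0 := FiniteField.cast_card_eq_zero F
    rw [hm] at h0
    push_cast at h0
    rw [h, zero_mul, zero_add] at h0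
    exact one_ne_zero h0
  have h2K : (2 : QuadraticAlgebra F δ 0) ≠ 0 := by
    intro h
    have h1 : (1 : QuadraticAlgebra F δ 0) + 1 = 0 := by rw [one_add_one_eq_two, h]
    have h3 := congrArg QuadraticAlgebra.re h1
    apply h2F
    rw [← one_add_one_eq_two]
    simpa [QuadraticAlgebra.re_one] using h3
  have hq0 : 0 < Fintype.card F := Fintype.card_pos
  rcases Nat.even_or_odd' d with ⟨k, hk | hk⟩
  · obtain ⟨ε₁, -, h₁⟩ := h27_sfo_count_even h2K d k hk _ hQ₁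
    obtain ⟨ε₂, -, h₂⟩ := h27_sfo_count_even h2K d k hk _ hQ₂
    have hN₁ : ∀ z : QuadraticAlgebra F δ 0, z ≠ 0 →
        sfoCount (fun k => qk₁ (Φ₁ k)) z = sfoCount (fun k => qk₁ (Φ₁ k)) 1 := by
      intro z hz
      have := (h₁ z hz).trans (h₁ 1 one_ne_zero).symm
      exact_mod_cast this
    have hN₂ : ∀ z : QuadraticAlgebra F δ 0, z ≠ 0 →
        sfoCount (fun k => qk₂ (Φ₂ k)) z = sfoCount (fun k => qk₂ (Φ₂ k)) 1 := by
      intro z hz
      have := (h₂ z hz).trans (h₂ 1 one_ne_zero).symm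
      exact_mod_cast this
    have e₁ := qfc_count Q δ d Φ₁ qk₁ hre₁ _ hN₁
    have e₂ := qfc_count Q δ d Φ₂ qk₂ hre₂ _ hN₂
    rw [e₁] at e₂
    exact Nat.eq_of_mul_eq_mul_left hq0 e₂
  · obtain ⟨E₁, hE₁, hs₁, hn₁⟩ := sfo_count_odd h2K d k hk _ hQ₁
    obtain ⟨E₂, hE₂, hs₂, hn₂⟩ := sfo_count_odd h2K d k hk _ hQ₂
    have f₁ := qfu_fib Q δ d Φ₁ qk₁ hre₁
    have f₂ := qfu_fib Q δ d Φ₂ qk₂ hre₂
    have hz : ∀ b : F, (⟨1, b⟩ : QuadraticAlgebra F δ 0) ≠ 0 := by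
      intro b h0
      have := congrArg QuadraticAlgebra.re h0
      simp at this
    have hQQ0 : ((Fintype.card (QuadraticAlgebra F δ 0) : ℤ)) ^ k ≠ 0 :=
      pow_ne_zero _ (by exact_mod_cast Fintype.card_ne_zero)
    have t₁ : ∀ b : F, (sfoCount (fun k => qk₁ (Φ₁ k)) (⟨1, b⟩ : QuadraticAlgebra F δ 0) : ℤ) =
        (Fintype.card (QuadraticAlgebra F δ 0) : ℤ) ^ k *
          ((Fintype.card (QuadraticAlgebra F δ 0) : ℤ) ^ k +
            E₁ * (if IsSquare (⟨1, b⟩ : QuadraticAlgebra F δ 0) then 1 else -1)) := by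
      intro b
      by_cases hsq : IsSquare (⟨1, b⟩ : QuadraticAlgebra F δ 0)
      · rw [hs₁ _ (hz b) hsq, if_pos hsq, mul_one]
      · rw [hn₁ _ (hz b) hsq, if_neg hsq, mul_neg, mul_one, sub_eq_add_neg]
    have t₂ : ∀ b : F, (sfoCount (fun k => qk₂ (Φ₂ k)) (⟨1, b⟩ : QuadraticAlgebra F δ 0) : ℤ) =
        (Fintype.card (QuadraticAlgebra F δ 0) : ℤ) ^ k *
          ((Fintype.card (QuadraticAlgebra F δ 0) : ℤ) ^ k +
            E₂ * (if IsSquare (⟨1, b⟩ : QuadraticAlgebra F δ 0) then 1 else -1)) := by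
      intro b
      by_cases hsq : IsSquare (⟨1, b⟩ : QuadraticAlgebra F δ 0)
      · rw [hs₂ _ (hz b) hsq, if_pos hsq, mul_one]
      · rw [hn₂ _ (hz b) hsq, if_neg hsq, mul_neg, mul_one, sub_eq_add_neg]
    have hX : (∑ b : F, (if IsSquare (⟨1, b⟩ : QuadraticAlgebra F δ 0) then (1 : ℤ) else -1))
        ≠ 0 := by
      intro h0
      have hc := congrArg (Int.cast : ℤ → ZMod 2) h0
      rw [Int.cast_sum] at hc
      have h1 : ∀ b ∈ (Finset.univ : Finset F),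
          (((if IsSquare (⟨1, b⟩ : QuadraticAlgebra F δ 0) then (1 : ℤ) else -1) : ℤ) : ZMod 2)
            = 1 := by
        intro b _
        split_ifs
        · simp
        · decide
      rw [Finset.sum_congr rfl h1] at hc
      simp only [Finset.sum_const, Finset.card_univ, nsmul_eq_mul, mul_one, Int.cast_zero] at hc
      rw [ZMod.natCast_eq_zero_iff_even] at hc
      exact (Nat.not_even_iff_odd.mpr hodd) hc
    have hE : E₁ = E₂ := by
      have h : ((Nat.card {v : ι → F // Q v = 1} : ℕ) : ℤ) =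
          ((Nat.card {v : ι → F // Q v = 1} : ℕ) : ℤ) := rfl
      nth_rewrite 1 [f₁] at h
      rw [f₂] at h
      push_cast at h
      rw [Finset.sum_congr rfl (fun b _ => t₁ b), Finset.sum_congr rfl (fun b _ => t₂ b)] at h
      simp only [mul_add, Finset.sum_add_distrib, ← Finset.mul_sum] at h
      have h' := mul_left_cancel₀ hQQ0 (add_left_cancel h)
      exact mul_right_cancel₀ hX h'
    have := (hs₁ 1 one_ne_zero IsSquare.one).trans
      ((hE ▸ (hs₂ 1 one_ne_zero IsSquare.one)).symm)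
    exact_mod_cast this

end Cfsg.Agent.Lib.helper2
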