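import Mathlib
import Cfsg.Prelude.Def_GeometricClasses
import Cfsg.Agent.Lib.helper24.SfoDefs

set_option autoImplicit false

namespace Cfsg.Agent.Lib.helper2

open Cfsg.Geo Matrix Cfsg.Agent.Lib.helper24

/-- EVEN -/
theorem qfu_even_card {F : Type*} [Field F] {ι : Type} [Fintype ι] [DecidableEq ι]
    (δ : F) (hδ : ∀ r : F, r ^ 2 ≠ δ + 0 * r) (κ : Matrix ι ι F)
    (hκ : κ * κ = δ • (1 : Matrix ι ι F)) : Even (Fintype.card ι) := by
  have hdet : κ.det ^ 2 = δ ^ Fintype.card ι := by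
    have h := congrArg Matrix.det hκ
    rw [Matrix.det_mul, Matrix.det_smul, Matrix.det_one, mul_one] at h
    rw [sq]
    exact h
  have hδ0 : δ ≠ 0 := by
    intro h0
    apply hδ 0
    rw [h0]
    simp
  rcases Nat.even_or_odd (Fintype.card ι) with he | ho
  · exact he
  · exfalso
    obtain ⟨m, hm⟩ := ho
    apply hδ (κ.det / δ ^ m)
    have hne : (δ ^ m) ^ 2 ≠ 0 := pow_ne_zero _ (pow_ne_zero _ hδ0)
    rw [zero_mul, add_zero, div_pow, hdet, hm, div_eq_iff hne]
    ring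

end Cfsg.Agent.Lib.helper2
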