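import Mathlib
import Cfsg.Prelude.Def_GeometricClasses
import Cfsg.Agent.Lib.helper24.SfoDefs

set_option autoImplicit false

namespace Cfsg.Agent.Lib.helper2

open Cfsg.Geo Matrix Cfsg.Agent.Lib.helper24

/-- ISOSQ -/
theorem qfu_iso_of_sq {E : Type*} [Field E] {m : ℕ}
    (Q Q' : (Fin (m + 1) → E) → E) (P P' : GL (Fin (m + 1)) E) (c c' s : E) (hc : c ≠ 0)
    (hcs : c = s ^ 2 * c')
    (hP : ∀ x : Fin (m + 1) → E, Q ((P : Matrix (Fin (m + 1)) (Fin (m + 1)) E) *ᵥ x) =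
      ∑ j, (if j = Fin.last m then c else 1) * x j ^ 2)
    (hP' : ∀ x : Fin (m + 1) → E, Q' ((P' : Matrix (Fin (m + 1)) (Fin (m + 1)) E) *ᵥ x) =
      ∑ j, (if j = Fin.last m then c' else 1) * x j ^ 2) :
    ∃ T : GL (Fin (m + 1)) E, ∀ x : Fin (m + 1) → E,
      Q' ((T : Matrix (Fin (m + 1)) (Fin (m + 1)) E) *ᵥ x) = Q x := by
  have hs : s ≠ 0 := by
    rintro rfl
    apply hc
    rw [hcs]
    simp
  have hSdet : (Matrix.diagonal (fun j : Fin (m + 1) => if j = Fin.last m then s else 1)).det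
      ≠ 0 := by
    rw [Matrix.det_diagonal]
    apply Finset.prod_ne_zero_iff.mpr
    intro j _
    split_ifs
    · exact hs
    · exact one_ne_zero
  refine ⟨P' * Matrix.GeneralLinearGroup.mkOfDetNeZero _ hSdet * P⁻¹, fun x => ?_⟩
  have hx : Q x = Q ((P : Matrix (Fin (m + 1)) (Fin (m + 1)) E) *ᵥ
      (((P⁻¹ : GL (Fin (m + 1)) E) : Matrix (Fin (m + 1)) (Fin (m + 1)) E) *ᵥ x)) := by
    rw [Matrix.mulVec_mulVec, ← Units.val_mul, mul_inv_cancel, Units.val_one, Matrix.one_mulVec]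
  rw [hx, hP, Units.val_mul, Units.val_mul, ← Matrix.mulVec_mulVec, ← Matrix.mulVec_mulVec, hP']
  apply Finset.sum_congr rfl
  intro j _
  have hj : ((Matrix.GeneralLinearGroup.mkOfDetNeZero _ hSdet : GL (Fin (m + 1)) E) :
      Matrix (Fin (m + 1)) (Fin (m + 1)) E) =
      Matrix.diagonal (fun j : Fin (m + 1) => if j = Fin.last m then s else 1) := rfl
  rw [hj, Matrix.mulVec_diagonal]
  split_ifs
  · rw [hcs]; ring
  · ring

end Cfsg.Agent.Lib.helper2
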