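import Mathlib
import Cfsg.Agent.Lib.helper61.ModFacts
import Cfsg.Agent.Lib.helper68.SecA

/-!
# An elementary abelian section of order 32

* `sq_mem_of_gens`: generators commuting and squaring into `N`, and normalizing `N`, generate a
  group all of whose squares lie in `N`.
* `Sit`: a group `X` with a normal subgroup `Q` mapped additively onto `V`, and a group `S`
  acting on `V` compatibly with conjugation by lifts.
* `rank5`: in such a situation, with `|V| = 16`, `Q` a 2-group and a configuration `Cfg` in `S`,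
  the group `X` does not have sectional 2-rank at most 4.
-/

set_option autoImplicit false

namespace Cfsg.Agent.Lib.helper61.Rank5

open Cfsg.Agent.Lib.helper61.Act16 Cfsg.Agent.Lib.helper61.ModFacts

theorem sq_mem_of_gens {G : Type*} [Group G] [Finite G] (N : Subgroup G) (T : Set G)
    (h1 : ∀ t ∈ T, ∀ n ∈ N, t * n * t⁻¹ ∈ N)
    (h2 : ∀ t ∈ T, t * t ∈ N)
    (h3 : ∀ s ∈ T, ∀ t ∈ T, s * t * s⁻¹ * t⁻¹ ∈ N) :
    ∀ x ∈ Subgroup.closure T, x * x ∈ N ∧ ∀ n ∈ N, x * n * x⁻¹ ∈ N := by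
  intro x hx
  have hT : T ⊆ (Subgroup.normalizer (N : Set G) : Set G) := fun t ht =>
    Subgroup.mem_normalizer_fintype (h1 t ht)
  have hcl : Subgroup.closure T ≤ Subgroup.normalizer (N : Set G) := (Subgroup.closure_le _).mpr hT
  refine ⟨?_, fun n hn => (Subgroup.mem_normalizer_iff.mp (hcl hx) n).mp hn⟩
  let Nz : Subgroup G := Subgroup.normalizer (N : Set G)
  let N' : Subgroup Nz := N.subgroupOf Nz
  have hN' : N'.Normal := Subgroup.normal_in_normalizer
  let f : Nz →* Nz ⧸ N' := QuotientGroup.mk' N'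
  let T' : Set Nz := {t | t.1 ∈ T}
  let C : Subgroup (Nz ⧸ N') := Subgroup.closure (f '' T')
  have hfone : ∀ y : Nz, y.1 ∈ N → f y = 1 := fun y hy =>
    (QuotientGroup.eq_one_iff y).mpr (Subgroup.mem_subgroupOf.mpr hy)
  have hgen_sq : ∀ y ∈ f '' T', y * y = 1 := by
    rintro _ ⟨t, ht, rfl⟩
    rw [← map_mul]
    exact hfone _ (h2 t.1 ht)
  have hgen_comm : ∀ y ∈ f '' T', ∀ z ∈ f '' T', y * z = z * y := by
    rintro _ ⟨s, hs, rfl⟩ _ ⟨t, ht, rfl⟩
    rw [← commutatorElement_eq_one_iff_mul_comm, commutatorElement_def, ← map_inv, ← map_inv,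
      ← map_mul, ← map_mul, ← map_mul]
    exact hfone _ (h3 s.1 hs t.1 ht)
  have hCcomm : ∀ y ∈ C, ∀ z ∈ C, y * z = z * y := by
    intro y hy z hz
    have := (Subgroup.isMulCommutative_closure hgen_comm).is_comm.comm ⟨y, hy⟩ ⟨z, hz⟩
    exact congrArg Subtype.val this
  have hCsq : ∀ y ∈ C, y * y = 1 := by
    intro y hy
    induction hy using Subgroup.closure_induction with
    | mem y hy => exact hgen_sq y hy
    | one => exact one_mul 1
    | mul y z hy hz ihy ihz =>
      have hc := hCcomm y hy z hz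
      calc y * z * (y * z) = y * (z * y) * z := by simp only [mul_assoc]
        _ = y * (y * z) * z := by rw [hc]
        _ = (y * y) * (z * z) := by simp only [mul_assoc]
        _ = 1 := by rw [ihy, ihz, one_mul]
    | inv y hy ihy =>
      calc y⁻¹ * y⁻¹ = (y * y)⁻¹ := by rw [mul_inv_rev]
        _ = 1 := by rw [ihy, inv_one]
  have hle : Subgroup.closure T ≤ (C.comap f).map Nz.subtype := by
    rw [Subgroup.closure_le]
    intro t ht
    exact ⟨⟨t, hT ht⟩, Subgroup.subset_closure ⟨⟨t, hT ht⟩, ht, rfl⟩, rfl⟩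
  obtain ⟨x', hx', rfl⟩ := hle hx
  have h5 := hCsq (f x') hx'
  rw [← map_mul] at h5
  have h6 : x' * x' ∈ N' := (QuotientGroup.eq_one_iff _).mp h5
  exact Subgroup.mem_subgroupOf.mp h6

/-- The abstract situation. -/
structure Sit (X : Type*) [Group X] (B : Type*) [Group B] (S : Type*) [Group S]
    (V : Type*) [AddCommGroup V] [DistribMulAction S V] where
  Q : Subgroup X
  τ : X →* B
  j : S →* B
  π : X → V
  hker : τ.ker = Q
  hτ : Function.Surjective τ
  hj : Function.Injective j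
  π_mul : ∀ q ∈ Q, ∀ q' ∈ Q, π (q * q') = π q + π q'
  π_surj : ∀ v : V, ∃ q ∈ Q, π q = v
  act : ∀ s x, τ x = j s → ∀ q ∈ Q, π (x * q * x⁻¹) = s • π q


section Main

variable {X : Type*} [Group X] [Finite X] {B : Type*} [Group B] {S : Type*} [Group S]
  {V : Type*} [AddCommGroup V] [Fintype V] [DistribMulAction S V] [FaithfulSMul S V]

theorem two_pow_mod_three (m : ℕ) : ¬ 2 ^ m ≡ 0 [MOD 3] := by
  intro h
  have h3 : 3 ∣ 2 ^ m := (Nat.modEq_zero_iff_dvd).mp h
  have := (Nat.Prime.dvd_of_dvd_pow Nat.prime_three h3)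
  omega

theorem rank5 (D : Sit X B S V) (hV : Fintype.card V = 16) (h2 : ∀ x : V, x + x = 0)
    (hQ : IsPGroup 2 D.Q) {a b c d : S} (h : Cfg V a b c d) (ha1 : a ≠ 1) (e : S)
    (he3 : e ^ 3 = 1) (he1 : e ≠ 1) (hea : e * a = a * e)
    (hE : ∀ K : Subgroup S, a ∈ K → b ∈ K → c ∈ K → 8 ≤ Nat.card K) :
    ¬ Cfsg.Agent.Lib.helper68.SecRkC 4 X := by
  classical
  intro hsec
  have hp2 : Fact (Nat.Prime 2) := ⟨Nat.prime_two⟩
  have hp3 : Fact (Nat.Prime 3) := ⟨Nat.prime_three⟩
  have memQ : ∀ x, x ∈ D.Q ↔ D.τ x = 1 := fun x => by rw [← D.hker, MonoidHom.mem_ker]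
  have conjQ : ∀ x : X, ∀ q ∈ D.Q, x * q * x⁻¹ ∈ D.Q := by
    intro x q hq
    rw [memQ] at hq ⊢
    rw [map_mul, map_mul, hq, mul_one, map_inv, mul_inv_cancel]
  have hπ1 : D.π 1 = 0 := by
    have h0 := D.π_mul 1 (one_mem _) 1 (one_mem _)
    rw [one_mul] at h0
    exact left_eq_add.mp h0
  have hπinv : ∀ q ∈ D.Q, D.π q⁻¹ = D.π q := by
    intro q hq
    have h0 := D.π_mul q hq q⁻¹ (inv_mem hq)
    rw [mul_inv_cancel, hπ1] at h0
    exact (eq_of_sum2 h2 h0.symm).symm
  -- the subgroup `N`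
  let N : Subgroup X :=
    { carrier := {x | x ∈ D.Q ∧ a • b • c • D.π x = D.π x}
      mul_mem' := by
        rintro x y ⟨hx, hxw⟩ ⟨hy, hyw⟩
        refine ⟨mul_mem hx hy, ?_⟩
        rw [D.π_mul x hx y hy]
        simp only [smul_add]
        rw [hxw, hyw]
      one_mem' := by
        refine ⟨one_mem _, ?_⟩
        rw [hπ1]
        simp only [smul_zero]
      inv_mem' := by
        rintro x ⟨hx, hxw⟩
        refine ⟨inv_mem hx, ?_⟩
        rw [hπinv x hx]
        exact hxw }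
  have memN : ∀ x, x ∈ N ↔ (x ∈ D.Q ∧ a • b • c • D.π x = D.π x) := fun x => Iff.rfl
  have hNQ : N ≤ D.Q := fun x hx => hx.1
  -- lifts
  obtain ⟨m, hm⟩ := IsPGroup.iff_card.mp hQ
  obtain ⟨e0, he0⟩ := D.hτ (D.j e)
  have he0Q : e0 ^ 3 ∈ D.Q := by
    rw [memQ, map_pow, he0, ← map_pow, he3, map_one]
  have he0pow : (e0 ^ 3) ^ (2 ^ m) = 1 := by
    have h0 : (⟨e0 ^ 3, he0Q⟩ : D.Q) ^ Nat.card D.Q = 1 := pow_card_eq_one'
    rw [hm] at h0
    exact congrArg Subtype.val h0
  let e1 : X := e0 ^ (2 ^ m * 2 ^ m)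
  have he1_3 : e1 ^ 3 = 1 := by
    show (e0 ^ (2 ^ m * 2 ^ m)) ^ 3 = 1
    rw [← pow_mul, mul_comm, pow_mul, pow_mul, he0pow, one_pow]
  have he1τ : D.τ e1 = D.j e := by
    show D.τ (e0 ^ (2 ^ m * 2 ^ m)) = D.j e
    rw [map_pow, he0, ← map_pow]
    congr 1
    rw [pow_eq_pow_mod _ he3]
    have h0 : (2 ^ m * 2 ^ m) % 3 = 1 := by
      rw [← mul_pow, Nat.pow_mod]
      norm_num
    rw [h0, pow_one]
  have he1inv : e1 * e1 * e1 = 1 := by
    rw [← he1_3, pow_succ, pow_succ, pow_one]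
  obtain ⟨a0, ha0⟩ := D.hτ (D.j a)
  -- the coset of lifts of `a`
  let Sa : Set X := {x | D.τ x = D.j a}
  have hSa : Sa.ncard = 2 ^ m := by
    have h0 : Sa = (fun q : X => a0 * q) '' (D.Q : Set X) := by
      ext x
      constructor
      · intro hx
        refine ⟨a0⁻¹ * x, ?_, by simp⟩
        show a0⁻¹ * x ∈ D.Q
        rw [memQ, map_mul, map_inv, ha0, show D.τ x = D.j a from hx, inv_mul_cancel]
      · rintro ⟨q, hq, rfl⟩
        have hq' : D.τ q = 1 := (memQ q).mp hq
        show D.τ (a0 * q) = D.j a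
        rw [map_mul, ha0, hq', mul_one]
    rw [h0, Set.ncard_image_of_injective _ (mul_right_injective a0), ← hm]
    exact (Nat.card_coe_set_eq (D.Q : Set X))
  have hmod := ncard_modEq_fixed 3 (fun x : X => e1 * x * e1⁻¹) Sa
    (by
      intro x hx
      show D.τ (e1 * x * e1⁻¹) = D.j a
      rw [map_mul, map_mul, map_inv, he1τ, show D.τ x = D.j a from hx, ← map_mul, hea, map_mul,
        mul_inv_cancel_right])
    (by
      intro x _
      show e1 * (e1 * (e1 * x * e1⁻¹) * e1⁻¹) * e1⁻¹ = x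
      have h0 : e1⁻¹ = e1 * e1 := by
        rw [inv_eq_iff_mul_eq_one, ← mul_assoc]
        exact he1inv
      have h00 : e1⁻¹ * e1⁻¹ * e1⁻¹ = 1 := by
        rw [← mul_inv_rev, ← mul_inv_rev, ← mul_assoc, he1inv, inv_one]
      calc e1 * (e1 * (e1 * x * e1⁻¹) * e1⁻¹) * e1⁻¹
          = (e1 * e1 * e1) * x * (e1⁻¹ * e1⁻¹ * e1⁻¹) := by simp only [mul_assoc]
        _ = x := by rw [he1inv, h00, one_mul, mul_one])
  obtain ⟨ah, hah, hahe⟩ : ∃ x, D.τ x = D.j a ∧ e1 * x * e1⁻¹ = x := by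
    by_contra hcon
    push Not at hcon
    have h0 : {x ∈ Sa | (fun x : X => e1 * x * e1⁻¹) x = x} = ∅ := by
      ext x
      simp only [Set.mem_ofPred_eq, Set.mem_empty_iff_false, iff_false, not_and]
      intro hx
      exact hcon x hx
    rw [h0, Set.ncard_empty, hSa] at hmod
    exact two_pow_mod_three m hmod
  obtain ⟨d0, hd0⟩ := D.hτ (D.j d)
  let bh : X := d0 * ah * d0⁻¹
  let ch : X := d0 * bh * d0⁻¹
  have hbh : D.τ bh = D.j b := by
    show D.τ (d0 * ah * d0⁻¹) = D.j b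
    rw [map_mul, map_mul, map_inv, hd0, hah, ← map_mul, h.hda, map_mul, mul_inv_cancel_right]
  have hch : D.τ ch = D.j c := by
    show D.τ (d0 * bh * d0⁻¹) = D.j c
    rw [map_mul, map_mul, map_inv, hd0, hbh, ← map_mul, h.hdb, map_mul, mul_inv_cancel_right]
  -- squares
  have hsqQ : ∀ (s : S) (x : X), s * s = 1 → D.τ x = D.j s → x * x ∈ D.Q := by
    intro s x hs hx
    rw [memQ, map_mul, hx, ← map_mul, hs, map_one]
  have hahsq : ah * ah ∈ N := by
    have hq := hsqQ a ah h.ha hah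
    refine ⟨hq, ?_⟩
    apply h.fix_ae hV h2 ha1 e he3 he1 hea
    · rw [← D.act a ah hah _ hq]
      congr 1
      simp only [mul_assoc, mul_inv_cancel, mul_one]
    · rw [← D.act e e1 he1τ _ hq]
      congr 1
      calc e1 * (ah * ah) * e1⁻¹ = (e1 * ah * e1⁻¹) * (e1 * ah * e1⁻¹) := by
            simp only [mul_assoc, inv_mul_cancel_left]
        _ = ah * ah := by rw [hahe]
  have hconjd : ∀ x : X, x ∈ N → d0 * x * d0⁻¹ ∈ N := by
    rintro x ⟨hxQ, hxw⟩
    refine ⟨conjQ d0 x hxQ, ?_⟩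
    rw [D.act d d0 hd0 x hxQ]
    exact h.W_d _ hxw
  have hbhsq : bh * bh ∈ N := by
    have h0 : bh * bh = d0 * (ah * ah) * d0⁻¹ := by
      show d0 * ah * d0⁻¹ * (d0 * ah * d0⁻¹) = d0 * (ah * ah) * d0⁻¹
      simp only [mul_assoc, inv_mul_cancel_left]
    rw [h0]
    exact hconjd _ hahsq
  have hchsq : ch * ch ∈ N := by
    have h0 : ch * ch = d0 * (bh * bh) * d0⁻¹ := by
      show d0 * bh * d0⁻¹ * (d0 * bh * d0⁻¹) = d0 * (bh * bh) * d0⁻¹
      simp only [mul_assoc, inv_mul_cancel_left]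
    rw [h0]
    exact hconjd _ hbhsq
  -- `W` is fixed
  have hWa : ∀ w : V, a • b • c • w = w → a • w = w := h.W_fix_a hV
  have hWb : ∀ w : V, a • b • c • w = w → b • w = w := h.W_fix_b hV
  have hWc : ∀ w : V, a • b • c • w = w → c • w = w := h.W_fix_c hV
  -- conjugation of `N` by lifts
  have hconjN : ∀ (s : S) (x : X), D.τ x = D.j s → (∀ w : V, a • b • c • w = w → s • w = w) →
      ∀ n ∈ N, x * n * x⁻¹ ∈ N := by
    rintro s x hx hs n ⟨hnQ, hnw⟩
    refine ⟨conjQ x n hnQ, ?_⟩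
    rw [D.act s x hx n hnQ, hs _ hnw]
    exact hnw
  -- commutators with `Q`
  have hcommQ : ∀ (s : S) (x : X), D.τ x = D.j s →
      (∀ v : V, a • b • c • (s • v + v) = s • v + v) →
      ∀ q ∈ D.Q, x * q * x⁻¹ * q⁻¹ ∈ N := by
    intro s x hx hs q hq
    refine ⟨mul_mem (conjQ x q hq) (inv_mem hq), ?_⟩
    rw [D.π_mul _ (conjQ x q hq) _ (inv_mem hq), D.act s x hx q hq, hπinv q hq]
    exact hs _
  have hQQ : ∀ q ∈ D.Q, ∀ q' ∈ D.Q, q * q' * q⁻¹ * q'⁻¹ ∈ N := by
    intro q hq q' hq'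
    refine ⟨mul_mem (mul_mem (mul_mem hq hq') (inv_mem hq)) (inv_mem hq'), ?_⟩
    rw [D.π_mul _ (mul_mem (mul_mem hq hq') (inv_mem hq)) _ (inv_mem hq'),
      D.π_mul _ (mul_mem hq hq') _ (inv_mem hq), D.π_mul _ hq _ hq', hπinv q hq, hπinv q' hq']
    have h0 : D.π q + D.π q' + D.π q + D.π q' = 0 := by
      have : D.π q + D.π q' + D.π q + D.π q' = (D.π q + D.π q) + (D.π q' + D.π q') := by abel
      rw [this, h2, h2, add_zero]
    rw [h0]
    simp only [smul_zero]
  have hQsq : ∀ q ∈ D.Q, q * q ∈ N := by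
    intro q hq
    refine ⟨mul_mem hq hq, ?_⟩
    rw [D.π_mul _ hq _ hq, h2]
    simp only [smul_zero]
  have hQconj : ∀ q ∈ D.Q, ∀ n ∈ N, q * n * q⁻¹ ∈ N := by
    rintro q hq n ⟨hnQ, hnw⟩
    refine ⟨mul_mem (mul_mem hq hnQ) (inv_mem hq), ?_⟩
    have h0 : D.π (q * n * q⁻¹) = D.π n := by
      rw [D.π_mul _ (mul_mem hq hnQ) _ (inv_mem hq), D.π_mul _ hq _ hnQ, hπinv q hq]
      have : D.π q + D.π n + D.π q = (D.π q + D.π q) + D.π n := by abel
      rw [this, h2, zero_add]
    rw [h0]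
    exact hnw
  -- commutators of lifts
  have hcomm : ∀ (p q : S) (x y : X), D.τ x = D.j p → D.τ y = D.j q → p * q = q * p →
      x * x ∈ N → y * y ∈ N → (∀ w : V, a • b • c • w = w → p • w = w) →
      (∀ w : V, a • b • c • w = w → q • w = w) →
      x * y * x⁻¹ * y⁻¹ ∈ D.Q ∧ p • D.π (x * y * x⁻¹ * y⁻¹) = D.π (x * y * x⁻¹ * y⁻¹) ∧
        q • D.π (x * y * x⁻¹ * y⁻¹) = D.π (x * y * x⁻¹ * y⁻¹) := by
    intro p q x y hx hy hpq hxx hyy hp hq
    have hc0 : x * y * x⁻¹ * y⁻¹ ∈ D.Q := by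
      rw [memQ, map_mul, map_mul, map_mul, map_inv, map_inv, hx, hy, ← map_mul, hpq, map_mul,
        mul_inv_cancel_right, mul_inv_cancel]
    have hc0i : D.π (x * y * x⁻¹ * y⁻¹)⁻¹ = D.π (x * y * x⁻¹ * y⁻¹) := hπinv _ hc0
    refine ⟨hc0, ?_, ?_⟩
    · rw [← D.act p x hx _ hc0]
      have hid : x * (x * y * x⁻¹ * y⁻¹) * x⁻¹ =
          (x * x) * (y * (x * x)⁻¹ * y⁻¹) * (x * y * x⁻¹ * y⁻¹)⁻¹ := by group
      have hm1 : y * (x * x)⁻¹ * y⁻¹ ∈ D.Q := conjQ y _ (inv_mem hxx.1)
      rw [hid, D.π_mul _ (mul_mem hxx.1 hm1) _ (inv_mem hc0), D.π_mul _ hxx.1 _ hm1,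
        D.act q y hy _ (inv_mem hxx.1), hπinv _ hxx.1, hq _ hxx.2, h2, zero_add, hc0i]
    · rw [← D.act q y hy _ hc0]
      have hid : y * (x * y * x⁻¹ * y⁻¹) * y⁻¹ =
          (x * y * x⁻¹ * y⁻¹)⁻¹ * (x * (y * y) * x⁻¹) * (y * y)⁻¹ := by group
      have hm1 : x * (y * y) * x⁻¹ ∈ D.Q := conjQ x _ hyy.1
      rw [hid, D.π_mul _ (mul_mem (inv_mem hc0) hm1) _ (inv_mem hyy.1),
        D.π_mul _ (inv_mem hc0) _ hm1, D.act p x hx _ hyy.1, hπinv _ hyy.1, hp _ hyy.2, hc0i,
        add_assoc, h2, add_zero]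
  have hab : ah * bh * ah⁻¹ * bh⁻¹ ∈ N := by
    obtain ⟨h1, h3, h4⟩ := hcomm a b ah bh hah hbh h.hab hahsq hbhsq hWa hWb
    exact ⟨h1, h.fix_ab _ h3 h4⟩
  have hbc : bh * ch * bh⁻¹ * ch⁻¹ ∈ N := by
    obtain ⟨h1, h3, h4⟩ := hcomm b c bh ch hbh hch h.hbc hbhsq hchsq hWb hWc
    exact ⟨h1, h.fix_bc _ h3 h4⟩
  have hca : ch * ah * ch⁻¹ * ah⁻¹ ∈ N := by
    obtain ⟨h1, h3, h4⟩ := hcomm c a ch ah hch hah h.hac.symm hchsq hahsq hWc hWa
    exact ⟨h1, h.fix_ca _ h3 h4⟩
  have hsymm : ∀ x y : X, x * y * x⁻¹ * y⁻¹ ∈ N → y * x * y⁻¹ * x⁻¹ ∈ N := by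
    intro x y hxy
    have h0 : y * x * y⁻¹ * x⁻¹ = (x * y * x⁻¹ * y⁻¹)⁻¹ := by group
    rw [h0]
    exact inv_mem hxy
  have hself : ∀ x : X, x * x * x⁻¹ * x⁻¹ ∈ N := by
    intro x
    have h0 : x * x * x⁻¹ * x⁻¹ = 1 := by group
    rw [h0]
    exact one_mem _
  -- the generating set
  let T : Set X := (D.Q : Set X) ∪ {ah, bh, ch}
  have hTcases : ∀ t ∈ T, t ∈ D.Q ∨ t = ah ∨ t = bh ∨ t = ch := by
    intro t ht
    rcases ht with ht | ht
    · exact Or.inl ht
    · simp only [Set.mem_insert_iff, Set.mem_singleton_iff] at ht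
      exact Or.inr ht
  have hma := h.mem_W_a hV h2
  have hmb := h.mem_W_b hV h2
  have hmc := h.mem_W_c hV h2
  have key := sq_mem_of_gens N T
    (by
      intro t ht n hn
      rcases hTcases t ht with ht | rfl | rfl | rfl
      · exact hQconj t ht n hn
      · exact hconjN a _ hah hWa n hn
      · exact hconjN b _ hbh hWb n hn
      · exact hconjN c _ hch hWc n hn)
    (by
      intro t ht
      rcases hTcases t ht with ht | rfl | rfl | rfl
      · exact hQsq t ht
      · exact hahsq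
      · exact hbhsq
      · exact hchsq)
    (by
      intro s hs t ht
      rcases hTcases s hs with hs' | rfl | rfl | rfl
      · rcases hTcases t ht with ht' | rfl | rfl | rfl
        · exact hQQ s hs' t ht'
        · exact hsymm _ _ (hcommQ a _ hah hma s hs')
        · exact hsymm _ _ (hcommQ b _ hbh hmb s hs')
        · exact hsymm _ _ (hcommQ c _ hch hmc s hs')
      · rcases hTcases t ht with ht' | rfl | rfl | rfl
        · exact hcommQ a _ hah hma t ht'
        · exact hself _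
        · exact hab
        · exact hsymm _ _ hca
      · rcases hTcases t ht with ht' | rfl | rfl | rfl
        · exact hcommQ b _ hbh hmb t ht'
        · exact hsymm _ _ hab
        · exact hself _
        · exact hbc
      · rcases hTcases t ht with ht' | rfl | rfl | rfl
        · exact hcommQ c _ hch hmc t ht'
        · exact hca
        · exact hsymm _ _ hbc
        · exact hself _)
  let A : Subgroup X := Subgroup.closure T
  have hQA : D.Q ≤ A := fun q hq => Subgroup.subset_closure (Or.inl hq)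
  have hahA : ah ∈ A := Subgroup.subset_closure (Or.inr (by simp))
  have hbhA : bh ∈ A := Subgroup.subset_closure (Or.inr (by simp))
  have hchA : ch ∈ A := Subgroup.subset_closure (Or.inr (by simp))
  have hfin := hsec N A (hNQ.trans hQA) (fun x hx n hn => (key x hx).2 n hn)
    (fun x hx => by rw [pow_two]; exact (key x hx).1)
  -- counting: `|Q| = 4 |N|`
  have hC1 : Nat.card D.Q = 4 * Nat.card N := by
    let πh : ↥D.Q →* Multiplicative V :=
      { toFun := fun q => Multiplicative.ofAdd (D.π q.1)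
        map_one' := by
          show Multiplicative.ofAdd (D.π 1) = 1
          rw [hπ1]
          rfl
        map_mul' := by
          intro q q'
          show Multiplicative.ofAdd (D.π (q.1 * q'.1)) = _
          rw [D.π_mul _ q.2 _ q'.2]
          rfl }
    have hπh : Function.Surjective πh := by
      intro v
      obtain ⟨q, hq, hqv⟩ := D.π_surj (Multiplicative.toAdd v)
      exact ⟨⟨q, hq⟩, by show Multiplicative.ofAdd (D.π q) = v; rw [hqv]; rfl⟩
    let W' : Subgroup (Multiplicative V) :=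
      { carrier := {v | a • b • c • Multiplicative.toAdd v = Multiplicative.toAdd v}
        mul_mem' := by
          intro x y hx hy
          show a • b • c • (Multiplicative.toAdd x + Multiplicative.toAdd y) = _
          simp only [smul_add]
          rw [show a • b • c • Multiplicative.toAdd x = Multiplicative.toAdd x from hx,
            show a • b • c • Multiplicative.toAdd y = Multiplicative.toAdd y from hy]
          rfl
        one_mem' := by
          show a • b • c • (0 : V) = 0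
          simp only [smul_zero]
        inv_mem' := by
          intro x hx
          show a • b • c • (-Multiplicative.toAdd x) = -Multiplicative.toAdd x
          simp only [smul_neg]
          rw [show a • b • c • Multiplicative.toAdd x = Multiplicative.toAdd x from hx] }
    have hW'card : Nat.card W' = 4 := by
      rw [← h.card_W hV]
      refine Nat.card_congr ⟨fun x => ⟨Multiplicative.toAdd x.1, ?_⟩,
        fun x => ⟨Multiplicative.ofAdd x.1, ?_⟩, fun _ => rfl, fun _ => rfl⟩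
      · show (a * b * c) • Multiplicative.toAdd x.1 = Multiplicative.toAdd x.1
        rw [h.sz]
        exact x.2
      · show a • b • c • x.1 = x.1
        rw [← h.sz]
        exact x.2
    have hW'idx : W'.index = 4 := by
      have h0 := Subgroup.card_mul_index W'
      rw [hW'card, Nat.card_eq_fintype_card, Fintype.card_multiplicative, hV] at h0
      omega
    have hidx : (W'.comap πh).index = 4 := by
      rw [Subgroup.index_comap_of_surjective _ hπh, hW'idx]
    have hmap : (W'.comap πh).map D.Q.subtype = N := by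
      ext x
      constructor
      · rintro ⟨q, hq, rfl⟩
        exact ⟨q.2, hq⟩
      · rintro ⟨hxQ, hxW⟩
        exact ⟨⟨x, hxQ⟩, hxW, rfl⟩
    have h0 := Subgroup.card_mul_index (W'.comap πh)
    rw [hidx, ← Subgroup.card_map_of_injective D.Q.subtype_injective, hmap] at h0
    omega
  -- counting: `8 |Q| ≤ |A|`
  have hC2 : 8 * Nat.card D.Q ≤ Nat.card A := by
    let K : Subgroup S := (A.map D.τ).comap D.j
    have hK : 8 ≤ Nat.card K :=
      hE K ⟨ah, hahA, hah⟩ ⟨bh, hbhA, hbh⟩ ⟨ch, hchA, hch⟩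
    have hBfin : Finite B := Finite.of_surjective D.τ D.hτ
    have hK2 : Nat.card K ≤ Nat.card (A.map D.τ) := by
      apply Nat.card_le_card_of_injective (fun s : K => (⟨D.j s.1, s.2⟩ : A.map D.τ))
      intro s t hst
      apply Subtype.ext
      apply D.hj
      exact congrArg Subtype.val hst
    let r : ↥A →* B := D.τ.comp A.subtype
    have hr1 : Nat.card r.range = Nat.card (A.map D.τ) := by
      have : r.range = A.map D.τ := by
        ext y
        constructor
        · rintro ⟨x, rfl⟩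
          exact ⟨x.1, x.2, rfl⟩
        · rintro ⟨x, hx, rfl⟩
          exact ⟨⟨x, hx⟩, rfl⟩
      rw [this]
    have hr2 : Nat.card r.ker = Nat.card D.Q := by
      have : r.ker.map A.subtype = D.Q := by
        ext x
        constructor
        · rintro ⟨y, hy, rfl⟩
          exact (memQ _).mpr (MonoidHom.mem_ker.mp hy)
        · intro hx
          exact ⟨⟨x, hQA hx⟩, MonoidHom.mem_ker.mpr ((memQ x).mp hx), rfl⟩
      rw [← this, Subgroup.card_map_of_injective A.subtype_injective]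
    have h0 := Subgroup.card_eq_card_quotient_mul_card_subgroup r.ker
    rw [Nat.card_congr (QuotientGroup.quotientKerEquivRange r).toEquiv, hr1, hr2] at h0
    rw [h0]
    have := Nat.mul_le_mul_right (Nat.card D.Q) (hK.trans hK2)
    exact this
  have hNpos : 0 < Nat.card N := Nat.card_pos
  rw [hC1] at hC2
  omega

end Main

end Cfsg.Agent.Lib.helper61.Rank5
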