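import Mathlib
import Cfsg.Agent.Lib.helper61.ModFacts

/-!
# Explicit configurations in `S_6`

For a faithful action of `S_6` on an elementary abelian group of order 16 we exhibit commuting
involutions `a, b, c` permuted by an element `d` of order 3 without fixed vectors (`exists_cfg`).
Also: embeddings of `S_6` into `S_7` and `A_8`.
-/

set_option autoImplicit false

namespace Cfsg.Agent.Lib.helper61.S6Cfg

open Equiv Cfsg.Agent.Lib.helper61.ModFacts

def a1 : Perm (Fin 6) := swap 0 1
def b1 : Perm (Fin 6) := swap 2 3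
def c1 : Perm (Fin 6) := swap 4 5
def x0 : Perm (Fin 6) := swap 0 2 * swap 2 4
def y0 : Perm (Fin 6) := swap 1 3 * swap 3 5
def e1 : Perm (Fin 6) := swap 2 3 * swap 3 4
def a2 : Perm (Fin 6) := swap 0 1 * swap 2 3 * swap 4 5
def b2 : Perm (Fin 6) := swap 0 1 * swap 2 5 * swap 3 4
def c2 : Perm (Fin 6) := swap 0 1 * swap 2 4 * swap 3 5
def g1 : Perm (Fin 6) := swap 0 3 * swap 3 2
def s5 : Perm (Fin 6) := swap 0 1 * swap 1 2 * swap 2 3 * swap 3 4

theorem orderOf_s5 : orderOf s5 = 5 := by
  have : Fact (Nat.Prime 5) := ⟨by norm_num⟩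
  exact orderOf_eq_prime (by decide) (by decide)

theorem card_ge_eight {S : Type*} [Group S] [Finite S] [DecidableEq S] (a b c : S)
    (h : ({1, a, b, c, a * b, a * c, b * c, a * b * c} : Finset S).card = 8)
    (K : Subgroup S) (ha : a ∈ K) (hb : b ∈ K) (hc : c ∈ K) : 8 ≤ Nat.card K := by
  have hsub : ((({1, a, b, c, a * b, a * c, b * c, a * b * c} : Finset S) : Set S)) ⊆
      (K : Set S) := by
    intro x hx
    simp only [Finset.coe_insert, Finset.coe_singleton, Set.mem_insert_iff,
      Set.mem_singleton_iff] at hx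
    rcases hx with rfl | rfl | rfl | rfl | rfl | rfl | rfl | rfl
    · exact K.one_mem
    · exact ha
    · exact hb
    · exact hc
    · exact K.mul_mem ha hb
    · exact K.mul_mem ha hc
    · exact K.mul_mem hb hc
    · exact K.mul_mem (K.mul_mem ha hb) hc
  have h1 := Set.ncard_le_ncard hsub (Set.toFinite _)
  rw [Set.ncard_coe_finset, h] at h1
  rw [← Nat.card_coe_set_eq] at h1
  exact h1

theorem exists_cfg {V : Type*} [AddCommGroup V] [Fintype V] [DistribMulAction (Perm (Fin 6)) V]
    [FaithfulSMul (Perm (Fin 6)) V] (hV : Fintype.card V = 16) (h2 : ∀ x : V, x + x = 0) :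
    ∃ a b c d e : Perm (Fin 6), Cfg V a b c d ∧ a ≠ 1 ∧ e ^ 3 = 1 ∧ e ≠ 1 ∧ e * a = a * e ∧
      (∀ K : Subgroup (Perm (Fin 6)), a ∈ K → b ∈ K → c ∈ K → 8 ≤ Nat.card K) := by
  rcases fpf_or (V := V) hV h2 x0 y0 a2 (by decide) (by decide) (by decide) (by decide)
    (by decide) (by decide) (by decide) with hf | hf
  · -- `x0` is fixed point free, hence so is its conjugate `e1`
    have hfe : Fpf V e1 := fpf_conj (x := e1) (y := x0) (g := g1) (by decide) hf
    refine ⟨a2, b2, c2, e1, x0 * y0, ⟨by decide, by decide, by decide, by decide, by decide,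
      by decide, by decide, by decide, by decide, by decide, by decide, hfe⟩, by decide,
      by decide, by decide, by decide, ?_⟩
    exact card_ge_eight a2 b2 c2 (by decide)
  · refine ⟨a1, b1, c1, x0 * y0, e1, ⟨by decide, by decide, by decide, by decide, by decide,
      by decide, by decide, by decide, by decide, by decide, by decide, hf⟩, by decide,
      by decide, by decide, by decide, ?_⟩
    exact card_ge_eight a1 b1 c1 (by decide)

/-! ### Embeddings of `S_6` -/

theorem exists_emb7 : ∃ j : Perm (Fin 6) →* Perm (Fin 7), Function.Injective j := by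
  classical
  have hcard : Fintype.card (Fin 6) ≤ Fintype.card (Fin 7) := by simp
  obtain ⟨emb⟩ := Function.Embedding.nonempty_of_card_le hcard
  let e : Fin 6 ≃ {i : Fin 7 // i ∈ Set.range emb} := Equiv.ofInjective emb emb.injective
  exact ⟨Equiv.Perm.extendDomainHom e, Equiv.Perm.extendDomainHom_injective e⟩

/-- The twist `ℤˣ → S_2`. -/
def tw : ℤˣ →* Perm (Fin 2) where
  toFun u := if u = 1 then 1 else swap 0 1
  map_one' := by simp
  map_mul' u v := by
    rcases Int.units_eq_one_or u with rfl | rfl <;> rcases Int.units_eq_one_or v with rfl | rfl <;>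
      simp

theorem sign_tw (u : ℤˣ) : Perm.sign (tw u) = u := by
  rcases Int.units_eq_one_or u with rfl | rfl
  · simp [tw]
  · have h1 : (-1 : ℤˣ) ≠ 1 := by decide
    have h2 : (0 : Fin 2) ≠ 1 := by decide
    simp [tw, h1, Perm.sign_swap h2]

theorem exists_emb8 :
    ∃ j : Perm (Fin 6) →* alternatingGroup (Fin 8), Function.Injective j := by
  let j0 : Perm (Fin 6) →* Perm (Fin 6) × Perm (Fin 2) :=
    (MonoidHom.id _).prod (tw.comp Perm.sign)
  have hj0 : Function.Injective j0 := fun s t h => congrArg Prod.fst h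
  let j1 : Perm (Fin 6) →* Perm (Fin 6 ⊕ Fin 2) := (Perm.sumCongrHom (Fin 6) (Fin 2)).comp j0
  have hj1 : Function.Injective j1 := Perm.sumCongrHom_injective.comp hj0
  let E : Perm (Fin 6 ⊕ Fin 2) ≃* Perm (Fin 8) := (finSumFinEquiv (m := 6) (n := 2)).permCongrHom
  let j2 : Perm (Fin 6) →* Perm (Fin 8) := E.toMonoidHom.comp j1
  have hj2 : Function.Injective j2 := E.injective.comp hj1
  have hmem : ∀ s, j2 s ∈ alternatingGroup (Fin 8) := by
    intro s
    rw [Perm.mem_alternatingGroup]
    show Perm.sign ((finSumFinEquiv (m := 6) (n := 2)).permCongr (Perm.sumCongr s (tw (Perm.sign s)))) = 1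
    rw [Perm.sign_permCongr, Perm.sign_sumCongr, sign_tw]
    exact Int.units_mul_self _
  refine ⟨j2.codRestrict (alternatingGroup (Fin 8)) hmem, ?_⟩
  intro s t h
  apply hj2
  exact congrArg Subtype.val h

end Cfsg.Agent.Lib.helper61.S6Cfg
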