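import Mathlib
import Cfsg.Agent.Lib.helper61.Rank5
import Cfsg.Agent.Lib.helper61.S6Cfg
import Cfsg.Agent.Lib.helper57.ElemAbAut

/-!
# Sectional 2-rank at least 5 when `X / O_2(X)` contains `S_6`

`part2`: let `Q` be a normal 2-subgroup of the finite group `X` containing its centralizer and
every normal 2-subgroup, with `|Q / Φ(Q)| ≤ 16`.  If `S_6` embeds in `X / Q`, then `X` has an
elementary abelian section of order 32.
-/

set_option autoImplicit false

namespace Cfsg.Agent.Lib.helper61.R4Part2

open Cfsg.Agent.Lib.helper61.ModFacts Cfsg.Agent.Lib.helper61.Rank5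
open Cfsg.Agent.Lib.helper61

/-- The action on `Additive M` attached to a homomorphism into `MulAut M`. -/
@[reducible] def actOf {S M : Type*} [Group S] [CommGroup M] (ρ : S →* MulAut M) :
    DistribMulAction S (Additive M) where
  smul s v := Additive.ofMul (ρ s (Additive.toMul v))
  one_smul v := by
    show Additive.ofMul (ρ 1 (Additive.toMul v)) = v
    rw [map_one]
    rfl
  mul_smul s t v := by
    show Additive.ofMul (ρ (s * t) (Additive.toMul v)) =
      Additive.ofMul (ρ s (ρ t (Additive.toMul v)))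
    rw [map_mul]
    rfl
  smul_zero s := by
    show Additive.ofMul (ρ s 1) = 0
    rw [map_one]
    rfl
  smul_add s v w := by
    show Additive.ofMul (ρ s (Additive.toMul v * Additive.toMul w)) = _
    rw [map_mul]
    rfl

theorem part2_core {X : Type*} [Group X] [Finite X] (Q : Subgroup X) [hQn : Q.Normal]
    (hQp : IsPGroup 2 Q) {M : Type*} [CommGroup M] [Finite M] (hsq : ∀ v : M, v ^ 2 = 1)
    (hcard : Nat.card M ≤ 16) (κ : ↥Q →* M) (hκ : Function.Surjective κ)
    (ψ : X ⧸ Q →* MulAut M) (hψ : Function.Injective ψ)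
    (hcompat : ∀ (x : X) (q : X) (hq : q ∈ Q) (hq' : x * q * x⁻¹ ∈ Q),
      κ ⟨x * q * x⁻¹, hq'⟩ = ψ (QuotientGroup.mk x) (κ ⟨q, hq⟩))
    (j : Equiv.Perm (Fin 6) →* X ⧸ Q) (hj : Function.Injective j) :
    ¬ Cfsg.Agent.Lib.helper68.SecRkC 4 X := by
  classical
  let _act : DistribMulAction (Equiv.Perm (Fin 6)) (Additive M) := actOf (ψ.comp j)
  have hsmul : ∀ (s : Equiv.Perm (Fin 6)) (v : Additive M),
      s • v = Additive.ofMul (ψ (j s) (Additive.toMul v)) := fun _ _ => rfl
  have _faith : FaithfulSMul (Equiv.Perm (Fin 6)) (Additive M) := by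
    refine ⟨fun {s t} hst => hj (hψ ?_)⟩
    ext v
    have h0 := hst (Additive.ofMul v)
    rw [hsmul, hsmul] at h0
    exact h0
  have hfin : Finite (Additive M) := ‹Finite M›
  let _ft : Fintype (Additive M) := Fintype.ofFinite _
  have h2 : ∀ x : Additive M, x + x = 0 := by
    intro x
    show Additive.ofMul (Additive.toMul x * Additive.toMul x) = 0
    rw [← pow_two, hsq]
    rfl
  have hV : Fintype.card (Additive M) = 16 := by
    have hp : IsPGroup 2 M := fun g => ⟨1, by rw [pow_one]; exact hsq g⟩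
    have hp2 : Fact (Nat.Prime 2) := ⟨Nat.prime_two⟩
    obtain ⟨k, hk⟩ := IsPGroup.iff_card.mp hp
    have hcV : Nat.card (Additive M) = Nat.card M := rfl
    rw [← Nat.card_eq_fintype_card, hcV]
    have hk4 : k ≤ 4 := by
      rw [hk] at hcard
      have h16 : 2 ^ k ≤ 2 ^ 4 := by
        norm_num
        exact hcard
      exact (Nat.pow_le_pow_iff_right (a := 2) (by norm_num)).mp h16
    rcases Nat.lt_or_ge k 4 with hlt | hge
    · exfalso
      have hdvd : Nat.card (Additive M) ∣ 8 := by
        rw [hcV, hk]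
        exact pow_dvd_pow 2 (by omega : k ≤ 3)
      exact no_five hdvd S6Cfg.s5 S6Cfg.orderOf_s5
    · have hk' : k = 4 := by omega
      rw [hk, hk']
      norm_num
  let D : Sit X (X ⧸ Q) (Equiv.Perm (Fin 6)) (Additive M) :=
    { Q := Q
      τ := QuotientGroup.mk' Q
      j := j
      π := fun x => if hx : x ∈ Q then Additive.ofMul (κ ⟨x, hx⟩) else 0
      hker := QuotientGroup.ker_mk' Q
      hτ := QuotientGroup.mk'_surjective Q
      hj := hj
      π_mul := by
        intro q hq q' hq'
        rw [dif_pos hq, dif_pos hq', dif_pos (mul_mem hq hq')]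
        show Additive.ofMul (κ (⟨q, hq⟩ * ⟨q', hq'⟩)) = _
        rw [map_mul]
        rfl
      π_surj := by
        intro v
        obtain ⟨q, hq⟩ := hκ (Additive.toMul v)
        refine ⟨q.1, q.2, ?_⟩
        rw [dif_pos q.2]
        show Additive.ofMul (κ q) = v
        rw [hq]
        rfl
      act := by
        intro s x hx q hq
        have hq' : x * q * x⁻¹ ∈ Q := hQn.conj_mem q hq x
        rw [dif_pos hq, dif_pos hq', hcompat x q hq hq']
        show _ = Additive.ofMul (ψ (j s) (κ ⟨q, hq⟩))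
        have h0 : (QuotientGroup.mk x : X ⧸ Q) = j s := hx
        rw [h0] }
  obtain ⟨a, b, c, d, e, hcfg, ha1, he3, he1, hea, hE⟩ :=
    S6Cfg.exists_cfg (V := Additive M) hV h2
  exact rank5 D hV h2 hQp hcfg ha1 e he3 he1 hea hE

open scoped commutatorElement in
theorem part2 {X : Type*} [Group X] [Finite X] (Q : Subgroup X) [hQn : Q.Normal]
    (hQp : IsPGroup 2 Q) (hCQ : Subgroup.centralizer (Q : Set X) ≤ Q)
    (hmax : ∀ N : Subgroup X, N.Normal → IsPGroup 2 N → N ≤ Q)
    (hcard : Nat.card (↥Q ⧸ frattini ↥Q) ≤ 16)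
    (j : Equiv.Perm (Fin 6) →* X ⧸ Q) (hj : Function.Injective j) :
    ¬ Cfsg.Agent.Lib.helper68.SecRkC 4 X := by
  classical
  have : Fact (Nat.Prime 2) := ⟨Nat.prime_two⟩
  let φ : X →* MulAut ↥Q := MulAut.conjNormal
  let ψ : X →* MulAut (↥Q ⧸ frattini ↥Q) := (Cfsg.Agent.Lib.helper57.frattiniQuotAut ↥Q).comp φ
  have hψ : ∀ (g : X) (x : ↥Q), ψ g (QuotientGroup.mk x) = QuotientGroup.mk (φ g x) :=
    fun g x => rfl
  have hφ : ∀ (g : X) (x : ↥Q), ((φ g x : ↥Q) : X) = g * x * g⁻¹ := fun g x => rfl
  have hQker : Q ≤ ψ.ker := by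
    intro q hq
    rw [MonoidHom.mem_ker]
    ext y
    induction y using QuotientGroup.induction_on with
    | H x =>
      rw [hψ, MulAut.one_apply, QuotientGroup.eq]
      apply Cfsg.Agent.Lib.helper3.commutator_le_frattini hQp
      have h1 : (φ q x)⁻¹ * x = ⁅(⟨q, hq⟩ : ↥Q), x⁻¹⁆ := by
        apply Subtype.ext
        rw [commutatorElement_def]
        simp only [Subgroup.coe_mul, Subgroup.coe_inv, hφ]
        group
      rw [h1, commutator_def]
      exact Subgroup.commutator_mem_commutator (Subgroup.mem_top _) (Subgroup.mem_top _)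
  have hkerQ : ψ.ker ≤ Q := by
    apply hmax _ (MonoidHom.normal_ker ψ)
    apply Cfsg.Agent.Lib.helper55.isPGroup_of_coprime_trivial
    intro c hc hcop
    have h1 : φ c = 1 := by
      apply Cfsg.Agent.Lib.helper65.mulAut_eq_one_of_coprime_trivial_mod_frattini hQp (φ c)
        (orderOf c) hcop
      · rw [← map_pow, pow_orderOf_eq_one, map_one]
      · intro x
        have h2 : ψ c (QuotientGroup.mk x) = QuotientGroup.mk x := by
          rw [MonoidHom.mem_ker.mp hc]
          rfl
        rw [hψ] at h2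
        have h3 := QuotientGroup.eq.mp h2.symm
        have h4 := (inferInstance : (frattini ↥Q).Normal).conj_mem _ h3 x
        have h5 : x * (x⁻¹ * φ c x) * x⁻¹ = φ c x * x⁻¹ := by group
        rwa [h5] at h4
    have h5 : c ∈ Subgroup.centralizer (Q : Set X) := by
      rw [Subgroup.mem_centralizer_iff]
      intro y hy
      have h6 := congrArg (fun β : MulAut ↥Q => ((β ⟨y, hy⟩ : ↥Q) : X)) h1
      simp only [hφ, MulAut.one_apply] at h6
      calc y * c = c * y * c⁻¹ * c := by rw [h6]
        _ = c * y := by group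
    exact Cfsg.Agent.Lib.helper55.eq_one_of_mem_of_coprime hQp (hCQ h5) hcop
  have hsq : ∀ v : ↥Q ⧸ frattini ↥Q, v ^ 2 = 1 := by
    intro v
    induction v using QuotientGroup.induction_on with
    | H x =>
      rw [← QuotientGroup.mk_pow]
      exact (QuotientGroup.eq_one_iff _).mpr
        (Cfsg.Agent.Lib.helper3.pow_prime_mem_frattini hQp x)
  have hinj : Function.Injective (QuotientGroup.lift Q ψ hQker) := by
    intro a b hab
    induction a using QuotientGroup.induction_on with
    | H a =>
      induction b using QuotientGroup.induction_on with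
      | H b =>
        simp only [QuotientGroup.lift_mk] at hab
        rw [QuotientGroup.eq]
        apply hkerQ
        rw [MonoidHom.mem_ker, map_mul, map_inv, hab, inv_mul_cancel]
  have hinv : ∀ v : ↥Q ⧸ frattini ↥Q, v⁻¹ = v := fun v => by
    rw [inv_eq_iff_mul_eq_one, ← sq]
    exact hsq v
  have hcomm : ∀ a b : ↥Q ⧸ frattini ↥Q, a * b = b * a := by
    intro a b
    calc a * b = (a * b)⁻¹ := (hinv _).symm
      _ = b⁻¹ * a⁻¹ := mul_inv_rev a b
      _ = b * a := by rw [hinv, hinv]
  exact @part2_core X _ _ Q hQn hQp (↥Q ⧸ frattini ↥Q)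
    { (inferInstance : Group (↥Q ⧸ frattini ↥Q)) with mul_comm := hcomm } inferInstance hsq hcard
    (QuotientGroup.mk' (frattini ↥Q)) (QuotientGroup.mk'_surjective _)
    (QuotientGroup.lift Q ψ hQker) hinj (fun x q hq hq' => rfl) j hj

end Cfsg.Agent.Lib.helper61.R4Part2
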