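import Mathlib
import Cfsg.Agent.Lib.helper45.RUDefs

/-! Piece D0 of the S2279 split (helper45), insurance copy under a prefixed name. -/

set_option autoImplicit false
set_option linter.unusedVariables false

namespace Cfsg.Agent.Lib.helper45.RU

open Matrix Cfsg.Agent.Lib.helper44

variable {n : ℕ} {F : Type*} [Field F] {S : Set (Matrix (Fin n) (Fin n) F)}

theorem h61_single_eq (i j : Fin n) (c : F) :
    Matrix.single i j c = vecMulVec (Pi.single i 1) (c • Pi.single j 1) := by
  rw [Matrix.vecMulVec_smul, ← Matrix.single_eq_single_vecMulVec_single, Matrix.smul_single,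
    smul_eq_mul, mul_one]

/-- D0 -/
theorem h61_d0_mem (hn : 3 ≤ n) (hS : MatGrp S) (hJ : jm F n ∈ S) (c : F) (z o l' l : Fin n)
    (hz : z.val = 0) (ho : o.val = 1) (hl' : l'.val + 2 = n) (hl : l.val + 1 = n)
    (hv : vmat c z o l' l ∈ S) :
    1 + vecMulVec (Pi.single l 1) (c • Pi.single z 1)
      - vecMulVec (Pi.single l 1 + Pi.single l' 1) (c • altVec F n) ∈ S := by
  have key : (1 + vecMulVec (Pi.single l 1) (c • Pi.single z 1)
      - vecMulVec (Pi.single l 1 + Pi.single l' 1) (c • altVec F n)) * jm F n =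
      vmat c z o l' l := by
    unfold vmat
    rw [sub_mul, add_mul, one_mul, Matrix.vecMulVec_mul, Matrix.vecMulVec_mul,
      Matrix.smul_vecMul, Matrix.smul_vecMul, single_vecMul_jm z o (by omega),
      alt_vecMul_jm z hz, smul_add, Matrix.vecMulVec_add, Matrix.add_vecMulVec,
      h61_single_eq, h61_single_eq]
    abel
  obtain ⟨b, hb, e⟩ := hS.inv hJ
  have h2 : 1 + vecMulVec (Pi.single l 1) (c • Pi.single z 1)
      - vecMulVec (Pi.single l 1 + Pi.single l' 1) (c • altVec F n) = vmat c z o l' l * b := by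
    rw [← key, mul_assoc, e, mul_one]
  rw [h2]
  exact hS.mul hv hb

end Cfsg.Agent.Lib.helper45.RU
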