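import Mathlib
import Cfsg.Agent.Lib.helper81.S0197Defs
import Cfsg.Agent.Lib.helper83.CharBasic2
import Cfsg.Agent.Lib.helper21.PrimeTICor
import Cfsg.Agent.S0840

/-!
# S0197 piece CLS (helper61)

The two class equations, from the class multiplication coefficient formula (S0840) for the
triples `(t, t, z)` and `(t, t, z ^ 2)`.
-/

set_option autoImplicit false

namespace Cfsg.Agent.Lib.helper61.S0197

open Cfsg Cfsg.Agent.Lib.helper81.S0197
open scoped ComplexConjugate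

universe u

/-- `1` and `s = √-2` are linearly independent over the rationals. -/
theorem rat_add_mul_eq_zero {s : ℂ} (hs : s ^ 2 = -2) (A B : ℚ)
    (h : (A : ℂ) + (B : ℂ) * s = 0) : A = 0 ∧ B = 0 := by
  have h1 : (A : ℂ) ^ 2 = (B : ℂ) ^ 2 * s ^ 2 := by
    have : (A : ℂ) = -((B : ℂ) * s) := by linear_combination h
    rw [this]; ring
  rw [hs] at h1
  have h2 : A ^ 2 + 2 * B ^ 2 = 0 := by
    have : ((A ^ 2 + 2 * B ^ 2 : ℚ) : ℂ) = 0 := by push_cast; linear_combination h1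
    exact_mod_cast this
  constructor <;> nlinarith [sq_nonneg A, sq_nonneg B]

section sums

variable {G : Type u} [Group G] [Fintype G] [Fintype (IrrCharacter G)] {t z w : G}

omit [Fintype G] [Fintype (IrrCharacter G)] in
theorem card_class_t (hG : GData G t z w) :
    (Nat.card {x : G // IsConj t x} : ℂ) * 48 = (Nat.card G : ℂ) := by
  have h := Cfsg.Agent.Lib.helper83.card_conj_mul_card_centralizer t
  rw [hG.cent_t] at h
  have h2 : Nat.card {x : G // IsConj t x} = Nat.card {x : G // IsConj x t} :=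
    Nat.card_congr (Equiv.subtypeEquivRight fun x => isConj_comm)
  rw [h2]
  exact_mod_cast h

/-- PIECE CLS: the two class equations (S0840 for `(t, t, z)` and `(t, t, z^2)`). -/
theorem class_eqs (ht : orderOf t = 2) (hG : GData G t z w) (s : ℂ) (hs : s ^ 2 = -2)
    (T Y a b : IrrCharacter G → ℤ)
    (hT : ∀ χ : IrrCharacter G, (χ : G → ℂ) t = (T χ : ℂ))
    (hY : ∀ χ : IrrCharacter G, (χ : G → ℂ) (z ^ 2) = (Y χ : ℂ))
    (hz : ∀ χ : IrrCharacter G, (χ : G → ℂ) z = (a χ : ℂ) + (b χ : ℂ) * s) :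
    ∑ χ : IrrCharacter G, ((T χ : ℚ) ^ 2 * (a χ : ℚ) /
      (((charDegree (χ : G → ℂ) : ℕ) : ℤ) : ℚ)) = 0 ∧
    (((Nat.card G : ℕ) : ℤ) : ℚ) * ∑ χ : IrrCharacter G, ((T χ : ℚ) ^ 2 * (Y χ : ℚ) /
      (((charDegree (χ : G → ℂ) : ℕ) : ℤ) : ℚ)) = 9216 := by
  have hk := card_class_t hG
  have hN0 : (Nat.card G : ℂ) ≠ 0 := by exact_mod_cast Nat.card_pos.ne'
  have hk0 : (Nat.card {x : G // IsConj t x} : ℂ) ≠ 0 := by
    intro h0; rw [h0, zero_mul] at hk; exact hN0 hk.symm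
  have hcs := conj_sqrt_neg_two hs
  have hf0 : ∀ χ : IrrCharacter G, ((charDegree (χ : G → ℂ) : ℕ) : ℂ) ≠ 0 := by
    intro χ
    exact_mod_cast (Cfsg.Agent.Lib.helper83.charDegree_pos χ).ne'
  constructor
  · have h1 := Cfsg.Agent.S0840.result t t z
    have h0 : Nat.card {p : G × G // IsConj t p.1 ∧ IsConj t p.2 ∧ p.1 * p.2 = z} = 0 := by
      rw [Nat.card_eq_zero]
      left
      exact ⟨fun p => hG.count_z p.1.1 p.1.2 p.2.1 p.2.2.1 p.2.2.2⟩
    rw [h0, finsum_eq_sum_of_fintype] at h1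
    have h2 : ∑ χ : IrrCharacter G, (χ : G → ℂ) t * (χ : G → ℂ) t * conj ((χ : G → ℂ) z) /
        (χ : G → ℂ) 1 = 0 := by
      have h1' := h1.symm
      rw [Nat.cast_zero] at h1'
      rcases mul_eq_zero.mp h1' with h | h
      · exfalso
        rw [div_eq_zero_iff] at h
        rcases h with h | h
        · rcases mul_eq_zero.mp h with h | h <;> exact hk0 h
        · exact hN0 h
      · exact h
    have h3 : ((∑ χ : IrrCharacter G, ((T χ : ℚ) ^ 2 * (a χ : ℚ) /
          (((charDegree (χ : G → ℂ) : ℕ) : ℤ) : ℚ)) : ℚ) : ℂ) +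
        ((∑ χ : IrrCharacter G, (-((T χ : ℚ) ^ 2 * (b χ : ℚ) /
          (((charDegree (χ : G → ℂ) : ℕ) : ℤ) : ℚ))) : ℚ) : ℂ) * s = 0 := by
      rw [← h2]
      push_cast
      rw [Finset.sum_mul, ← Finset.sum_add_distrib]
      refine Finset.sum_congr rfl fun χ _ => ?_
      rw [hT, hz, Cfsg.Agent.Lib.helper83.irr_one_eq_charDegree, map_add, map_mul, map_intCast,
        map_intCast, hcs]
      have := hf0 χ
      field_simp
    exact (rat_add_mul_eq_zero hs _ _ h3).1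
  · have h1 := Cfsg.Agent.S0840.result t t (z ^ 2)
    rw [hG.count_y, finsum_eq_sum_of_fintype] at h1
    have h3 : ((∑ χ : IrrCharacter G, ((T χ : ℚ) ^ 2 * (Y χ : ℚ) /
          (((charDegree (χ : G → ℂ) : ℕ) : ℤ) : ℚ)) : ℚ) : ℂ) =
        ∑ χ : IrrCharacter G, (χ : G → ℂ) t * (χ : G → ℂ) t * conj ((χ : G → ℂ) (z ^ 2)) /
        (χ : G → ℂ) 1 := by
      push_cast
      refine Finset.sum_congr rfl fun χ _ => ?_
      rw [hT, hY, Cfsg.Agent.Lib.helper83.irr_one_eq_charDegree, map_intCast]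
      ring
    rw [← h3] at h1
    have h4 : ((((Nat.card G : ℕ) : ℤ) : ℚ) : ℂ) * ((∑ χ : IrrCharacter G, ((T χ : ℚ) ^ 2 *
        (Y χ : ℚ) / (((charDegree (χ : G → ℂ) : ℕ) : ℤ) : ℚ)) : ℚ) : ℂ) = ((9216 : ℚ) : ℂ) := by
      have e1 : ((((Nat.card G : ℕ) : ℤ) : ℚ) : ℂ) = (Nat.card G : ℂ) := by push_cast; rfl
      rw [e1]
      have hk' : (Nat.card {x : G // IsConj t x} : ℂ) = (Nat.card G : ℂ) / 48 := by
        rw [← hk]; field_simp
      rw [hk'] at h1
      have h5 : (Nat.card G : ℂ) / 48 * ((Nat.card G : ℂ) / 48) / (Nat.card G : ℂ) =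
          (Nat.card G : ℂ) / 2304 := by
        field_simp
        norm_num
      rw [h5] at h1
      push_cast at h1 ⊢
      linear_combination (-2304 : ℂ) * h1
    exact_mod_cast h4

end sums

end Cfsg.Agent.Lib.helper61.S0197
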