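import Mathlib
import Cfsg.Agent.Lib.helper81.S0197Defs
import Cfsg.Agent.Lib.helper83.CharBasic2
import Cfsg.Agent.Lib.helper21.PrimeTICor

/-!
# S0197 pieces ORTH1, ORTH2, ORTH3 (helper61)

Second orthogonality for the columns `1, t, z ^ 2, w, z, z⁻¹`.
-/

set_option autoImplicit false

namespace Cfsg.Agent.Lib.helper61.S0197

open Cfsg Cfsg.Agent.Lib.helper81.S0197
open scoped ComplexConjugate

universe u

theorem orderOf_eq_of_isConj {G : Type u} [Group G] {g h : G} (hc : IsConj g h) :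
    orderOf g = orderOf h := by
  obtain ⟨c, rfl⟩ := isConj_iff.mp hc
  exact ((MulAut.conj c).orderOf_eq g).symm

theorem orderOf_sq_of_gdata {G : Type u} [Group G] {t z w : G} (hG : GData G t z w) :
    orderOf (z ^ 2) = 4 := by
  rw [orderOf_pow' z (by norm_num : (2 : ℕ) ≠ 0), hG.ord_z]
  rfl

section sums

variable {G : Type u} [Group G] [Fintype G] [Fintype (IrrCharacter G)] {t z w : G}

theorem sum_int_of_not_isConj {g h : G} (hgh : ¬ IsConj g h) (P Q : IrrCharacter G → ℤ)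
    (hP : ∀ χ : IrrCharacter G, (χ : G → ℂ) g = (P χ : ℂ))
    (hQ : ∀ χ : IrrCharacter G, (χ : G → ℂ) h = (Q χ : ℂ)) :
    ∑ χ : IrrCharacter G, P χ * Q χ = 0 := by
  have h1 := Cfsg.Agent.Lib.helper83.second_orthogonality_of_not_isConj (G := G) hgh
  have h2 : ((∑ χ : IrrCharacter G, P χ * Q χ : ℤ) : ℂ) = 0 := by
    rw [← h1]
    push_cast
    refine Finset.sum_congr rfl fun χ _ => ?_
    rw [hP, hQ, map_intCast]
  exact_mod_cast h2

theorem sum_int_of_isConj {g h : G} (hgh : IsConj g h) (P Q : IrrCharacter G → ℤ)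
    (hP : ∀ χ : IrrCharacter G, (χ : G → ℂ) g = (P χ : ℂ))
    (hQ : ∀ χ : IrrCharacter G, (χ : G → ℂ) h = (Q χ : ℂ)) :
    ∑ χ : IrrCharacter G, P χ * Q χ =
      (Nat.card (Subgroup.centralizer ({h} : Set G)) : ℤ) := by
  have h1 := Cfsg.Agent.Lib.helper83.second_orthogonality_of_isConj (G := G) hgh
  have h2 : ((∑ χ : IrrCharacter G, P χ * Q χ : ℤ) : ℂ) =
      ((Nat.card (Subgroup.centralizer ({h} : Set G)) : ℤ) : ℂ) := by
    rw [Int.cast_natCast, ← h1]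
    push_cast
    refine Finset.sum_congr rfl fun χ _ => ?_
    rw [hP, hQ, map_intCast]
  exact_mod_cast h2

theorem sum_z_of_not_isConj {z h : G} (hzh : ¬ IsConj z h) (s : ℂ) (hs : s ^ 2 = -2)
    (a b Q : IrrCharacter G → ℤ)
    (hz : ∀ χ : IrrCharacter G, (χ : G → ℂ) z = (a χ : ℂ) + (b χ : ℂ) * s)
    (hQ : ∀ χ : IrrCharacter G, (χ : G → ℂ) h = (Q χ : ℂ)) :
    ∑ χ : IrrCharacter G, Q χ * a χ = 0 ∧ ∑ χ : IrrCharacter G, Q χ * b χ = 0 := by
  have h1 := Cfsg.Agent.Lib.helper83.second_orthogonality_of_not_isConj (G := G) hzh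
  have h2 : ((∑ χ : IrrCharacter G, Q χ * a χ : ℤ) : ℂ) +
      ((∑ χ : IrrCharacter G, Q χ * b χ : ℤ) : ℂ) * s = 0 := by
    rw [← h1]
    push_cast
    rw [Finset.sum_mul, ← Finset.sum_add_distrib]
    refine Finset.sum_congr rfl fun χ _ => ?_
    rw [hz, hQ, map_intCast]
    ring
  exact int_add_mul_eq_zero hs _ _ h2

omit [Fintype G] [Fintype (IrrCharacter G)] in
theorem one_value (χ : IrrCharacter G) :
    (χ : G → ℂ) 1 = (((charDegree (χ : G → ℂ) : ℕ) : ℤ) : ℂ) := by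
  rw [Cfsg.Agent.Lib.helper83.irr_one_eq_charDegree]
  simp

/-- PIECE ORTH1: the five square sums. -/
theorem sums_sq (ht : orderOf t = 2) (hG : GData G t z w) (s : ℂ) (hs : s ^ 2 = -2)
    (T Y W a b : IrrCharacter G → ℤ)
    (hT : ∀ χ : IrrCharacter G, (χ : G → ℂ) t = (T χ : ℂ))
    (hY : ∀ χ : IrrCharacter G, (χ : G → ℂ) (z ^ 2) = (Y χ : ℂ))
    (hW : ∀ χ : IrrCharacter G, (χ : G → ℂ) w = (W χ : ℂ))
    (hz : ∀ χ : IrrCharacter G, (χ : G → ℂ) z = (a χ : ℂ) + (b χ : ℂ) * s) :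
    ∑ χ : IrrCharacter G, T χ ^ 2 = 48 ∧ ∑ χ : IrrCharacter G, Y χ ^ 2 = 8 ∧
    ∑ χ : IrrCharacter G, W χ ^ 2 = 6 ∧ ∑ χ : IrrCharacter G, a χ ^ 2 = 4 ∧
    ∑ χ : IrrCharacter G, b χ ^ 2 = 2 ∧ ∑ χ : IrrCharacter G, a χ * b χ = 0 := by
  have hTT := sum_int_of_isConj (IsConj.refl t) T T hT hT
  have hYY := sum_int_of_isConj (IsConj.refl (z ^ 2)) Y Y hY hY
  have hWW := sum_int_of_isConj (IsConj.refl w) W W hW hW
  rw [hG.cent_t] at hTT
  rw [hG.cent_y] at hYY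
  rw [hG.cent_w] at hWW
  have hcs := conj_sqrt_neg_two hs
  -- column (z, z)
  have h1 := Cfsg.Agent.Lib.helper83.second_orthogonality_of_isConj (G := G) (IsConj.refl z)
  rw [hG.cent_z] at h1
  have hzz : ∑ χ : IrrCharacter G, (a χ ^ 2 + 2 * b χ ^ 2) = 8 := by
    have h2 : ((∑ χ : IrrCharacter G, (a χ ^ 2 + 2 * b χ ^ 2) : ℤ) : ℂ) = ((8 : ℕ) : ℂ) := by
      rw [← h1]
      push_cast
      refine Finset.sum_congr rfl fun χ _ => ?_
      rw [hz, map_add, map_mul, map_intCast, map_intCast, hcs]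
      linear_combination ((b χ : ℂ) ^ 2) * hs
    exact_mod_cast h2
  -- column (z, z⁻¹)
  have h3 := Cfsg.Agent.Lib.helper83.second_orthogonality_of_not_isConj (G := G) hG.nconj_z
  have h4 : ((∑ χ : IrrCharacter G, (a χ ^ 2 - 2 * b χ ^ 2) : ℤ) : ℂ) +
      ((∑ χ : IrrCharacter G, 2 * (a χ * b χ) : ℤ) : ℂ) * s = 0 := by
    rw [← h3]
    push_cast
    rw [Finset.sum_mul, ← Finset.sum_add_distrib]
    refine Finset.sum_congr rfl fun χ _ => ?_
    rw [Cfsg.Agent.Lib.helper83.irr_inv, Complex.conj_conj, hz]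
    linear_combination (-(b χ : ℂ) ^ 2) * hs
  obtain ⟨h5, h6⟩ := int_add_mul_eq_zero hs _ _ h4
  rw [Finset.sum_add_distrib, ← Finset.mul_sum] at hzz
  rw [Finset.sum_sub_distrib, ← Finset.mul_sum] at h5
  rw [← Finset.mul_sum] at h6
  refine ⟨?_, ?_, ?_, ?_, ?_, ?_⟩
  · simp only [pow_two]; exact_mod_cast hTT
  · simp only [pow_two]; exact_mod_cast hYY
  · simp only [pow_two]; exact_mod_cast hWW
  · omega
  · omega
  · omega

/-- PIECE ORTH2: the nine cross sums. -/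
theorem sums_cross (ht : orderOf t = 2) (hG : GData G t z w) (s : ℂ) (hs : s ^ 2 = -2)
    (T Y W a b : IrrCharacter G → ℤ)
    (hT : ∀ χ : IrrCharacter G, (χ : G → ℂ) t = (T χ : ℂ))
    (hY : ∀ χ : IrrCharacter G, (χ : G → ℂ) (z ^ 2) = (Y χ : ℂ))
    (hW : ∀ χ : IrrCharacter G, (χ : G → ℂ) w = (W χ : ℂ))
    (hz : ∀ χ : IrrCharacter G, (χ : G → ℂ) z = (a χ : ℂ) + (b χ : ℂ) * s) :
    ∑ χ : IrrCharacter G, T χ * Y χ = 0 ∧ ∑ χ : IrrCharacter G, T χ * W χ = 0 ∧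
    ∑ χ : IrrCharacter G, T χ * a χ = 0 ∧ ∑ χ : IrrCharacter G, T χ * b χ = 0 ∧
    ∑ χ : IrrCharacter G, Y χ * W χ = 0 ∧ ∑ χ : IrrCharacter G, Y χ * a χ = 0 ∧
    ∑ χ : IrrCharacter G, Y χ * b χ = 0 ∧ ∑ χ : IrrCharacter G, W χ * a χ = 0 ∧
    ∑ χ : IrrCharacter G, W χ * b χ = 0 := by
  have oy := orderOf_sq_of_gdata hG
  have oz := hG.ord_z
  have ow := hG.ord_w
  have nty : ¬ IsConj t (z ^ 2) := fun h => by
    have := orderOf_eq_of_isConj h; omega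
  have ntw : ¬ IsConj t w := fun h => by
    have := orderOf_eq_of_isConj h; omega
  have nzt : ¬ IsConj z t := fun h => by
    have := orderOf_eq_of_isConj h; omega
  have nyw : ¬ IsConj (z ^ 2) w := fun h => by
    have := orderOf_eq_of_isConj h; omega
  have nzy : ¬ IsConj z (z ^ 2) := fun h => by
    have := orderOf_eq_of_isConj h; omega
  have nzw : ¬ IsConj z w := fun h => by
    have := orderOf_eq_of_isConj h; omega
  obtain ⟨hTa, hTb⟩ := sum_z_of_not_isConj nzt s hs a b T hz hT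
  obtain ⟨hYa, hYb⟩ := sum_z_of_not_isConj nzy s hs a b Y hz hY
  obtain ⟨hWa, hWb⟩ := sum_z_of_not_isConj nzw s hs a b W hz hW
  exact ⟨sum_int_of_not_isConj nty T Y hT hY, sum_int_of_not_isConj ntw T W hT hW, hTa, hTb,
    sum_int_of_not_isConj nyw Y W hY hW, hYa, hYb, hWa, hWb⟩

/-- PIECE ORTH3: the five degree sums. -/
theorem sums_deg (ht : orderOf t = 2) (hG : GData G t z w) (s : ℂ) (hs : s ^ 2 = -2)
    (T Y W a b : IrrCharacter G → ℤ)
    (hT : ∀ χ : IrrCharacter G, (χ : G → ℂ) t = (T χ : ℂ))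
    (hY : ∀ χ : IrrCharacter G, (χ : G → ℂ) (z ^ 2) = (Y χ : ℂ))
    (hW : ∀ χ : IrrCharacter G, (χ : G → ℂ) w = (W χ : ℂ))
    (hz : ∀ χ : IrrCharacter G, (χ : G → ℂ) z = (a χ : ℂ) + (b χ : ℂ) * s) :
    ∑ χ : IrrCharacter G, (charDegree (χ : G → ℂ) : ℤ) * T χ = 0 ∧
    ∑ χ : IrrCharacter G, (charDegree (χ : G → ℂ) : ℤ) * Y χ = 0 ∧
    ∑ χ : IrrCharacter G, (charDegree (χ : G → ℂ) : ℤ) * W χ = 0 ∧
    ∑ χ : IrrCharacter G, (charDegree (χ : G → ℂ) : ℤ) * a χ = 0 ∧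
    ∑ χ : IrrCharacter G, (charDegree (χ : G → ℂ) : ℤ) * b χ = 0 := by
  have oy := orderOf_sq_of_gdata hG
  have oz := hG.ord_z
  have ow := hG.ord_w
  have o1 : orderOf (1 : G) = 1 := orderOf_one
  have n1t : ¬ IsConj (1 : G) t := fun h => by
    have := orderOf_eq_of_isConj h; omega
  have n1y : ¬ IsConj (1 : G) (z ^ 2) := fun h => by
    have := orderOf_eq_of_isConj h; omega
  have n1w : ¬ IsConj (1 : G) w := fun h => by
    have := orderOf_eq_of_isConj h; omega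
  have nz1 : ¬ IsConj z (1 : G) := fun h => by
    have := orderOf_eq_of_isConj h; omega
  obtain ⟨hfa, hfb⟩ := sum_z_of_not_isConj nz1 s hs a b
    (fun χ => ((charDegree (χ : G → ℂ) : ℕ) : ℤ)) hz one_value
  exact ⟨sum_int_of_not_isConj n1t _ T one_value hT, sum_int_of_not_isConj n1y _ Y one_value hY,
    sum_int_of_not_isConj n1w _ W one_value hW, hfa, hfb⟩

end sums

end Cfsg.Agent.Lib.helper61.S0197
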