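import Mathlib
import Cfsg.Agent.Lib.helper51.S2113Defs
import Cfsg.Agent.Lib.helper69.StemSylow
import Cfsg.Agent.Lib.helper51.S2111C

/-! Piece NORM3 of the S2113 split (helper51): the norm argument on the abelian group of lifts of
`T 0 u v`. -/

set_option autoImplicit false

namespace Cfsg.Agent.Lib.helper61.S2113

open scoped commutatorElement
open Cfsg.Agent.Lib.helper69 Cfsg.Agent.Lib.helper51.S2113 Cfsg.Agent.Lib.helper51.S2111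

theorem helper61_comm_mul_left_swap {Γ : Type*} [Group Γ] (a b c : Γ)
    (h : ⁅b, c⁆ * a = a * ⁅b, c⁆) : ⁅a * b, c⁆ = ⁅b, c⁆ * ⁅a, c⁆ := by
  calc ⁅a * b, c⁆ = a * ⁅b, c⁆ * c * a⁻¹ * c⁻¹ := by
        rw [commutatorElement_def, commutatorElement_def]; group
    _ = ⁅b, c⁆ * a * c * a⁻¹ * c⁻¹ := by rw [h]
    _ = ⁅b, c⁆ * ⁅a, c⁆ := by rw [commutatorElement_def a c]; group

/-- PIECE NORM3: the norm argument on the abelian group of lifts of `T 0 u v`. -/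
theorem helper61_norm3 {K G Γ : Type*} [Field K] [Fintype K] [Group G] [Group Γ] (σ : Γ →* G)
    (hsurj : Function.Surjective σ) (hc : σ.ker ≤ Subgroup.center Γ) (T : K → K → K → G) (e : ℕ)
    (c : K → K → K) (D : UData K G T e c) (h3K : (3 : K) = 0) (hcop : ¬ 3 ∣ Nat.card Kˣ)
    (h3 : ∀ x y : Γ, (∃ t u v, σ x = T t u v) → (∃ w, σ y = T 0 0 w) → x * y = y * x)
    (h4 : ∀ x y : Γ, (∃ u v, σ x = T 0 u v) → (∃ u v, σ y = T 0 u v) → x * y = y * x)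
    (hab : ∀ B : K → K → Γ, (∀ s s' t, B (s + s') t = B s t * B s' t) →
      (∀ s t t', B s (t + t') = B s t * B s t') →
      (∀ ν s t, ν ≠ 0 → B (ν * s) (ν * (ν ^ e) ^ 3 * t) = B s t) → ∀ s t, B s t = 1)
    (hsq : ∀ B : K → K → Γ, (∀ s s' t, B (s + s') t = B s t * B s' t) →
      (∀ s t t', B s (t + t') = B s t * B s t') →
      (∀ a s t, a ≠ 0 → B (a ^ 2 * s) (a ^ 2 * t) = B s t) → ∀ s t, B s t = 1)
    (P : Subgroup G) (hP : ∀ g, g ∈ P ↔ ∃ t u v, g = T t u v) :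
    ∀ w ∈ σ.ker, w ∈ ⁅P.comap σ, P.comap σ⁆ → w = 1 := by
  classical
  obtain ⟨ℓ, hℓ⟩ := hsurj.hasRightInverse
  -- basic identities in `G`
  have hT1 : T 0 0 0 = 1 := by
    have h1 := D.top_r 0 0 0 0
    rw [add_zero] at h1
    exact mul_left_cancel (a := T 0 0 0) (by rw [h1, mul_one])
  have hinv2 : ∀ w, (T 0 0 w)⁻¹ = T 0 0 (-w) := by
    intro w
    apply inv_eq_of_mul_eq_one_right
    rw [D.top_r, add_neg_cancel, hT1]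
  have hmul1 : ∀ u v u' v', ∃ w, T 0 u v * T 0 u' v' = T 0 (u + u') w := by
    intro u v u' v'
    obtain ⟨w, hw⟩ := D.mul 0 u v 0 u' v'
    refine ⟨w, ?_⟩
    rw [hw, add_zero, D.c_zero_left, add_zero]
  have hsplit : ∀ u v : K, T 0 u 0 * T 0 0 v = T 0 u v := by
    intro u v
    rw [D.top_r, zero_add]
  have hdec : ∀ t u v, ∃ b, T t u v = T t 0 0 * T 0 u b := by
    intro t u v
    obtain ⟨w, hw⟩ := D.mul t 0 0 0 u 0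
    simp only [add_zero, zero_add, D.c_zero_right] at hw
    refine ⟨v - w, ?_⟩
    rw [← hsplit u (v - w), ← mul_assoc, hw, D.top_r]
    congr 1
    ring
  -- commutators in `G`
  have hcomG : ∀ t u v t' u' v', ∃ α β, T t u v * T t' u' v' = T 0 α β * (T t' u' v' * T t u v) := by
    intro t u v t' u' v'
    obtain ⟨w, hw⟩ := D.mul t u v t' u' v'
    obtain ⟨w', hw'⟩ := D.mul t' u' v' t u v
    obtain ⟨w'', hw''⟩ := D.mul 0 (c t t' - c t' t) 0 (t' + t) (u' + u + c t' t) w'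
    refine ⟨c t t' - c t' t, 0 + (w - w''), ?_⟩
    have e1 : (0 : K) + (t' + t) = t + t' := by ring
    have e2 : c t t' - c t' t + (u' + u + c t' t) + 0 = u + u' + c t t' := by ring
    have e3 : w'' + (w - w'') = w := by ring
    rw [hw, hw', ← D.top_l 0 (c t t' - c t' t) 0 (w - w''), mul_assoc, hw'', D.top_l,
      D.c_zero_left, e1, e2, e3]
  have hcomG2 : ∀ t u v u' v', ∃ β, T t u v * T 0 u' v' = T 0 0 β * (T 0 u' v' * T t u v) := by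
    intro t u v u' v'
    obtain ⟨w, hw⟩ := D.mul t u v 0 u' v'
    obtain ⟨w', hw'⟩ := D.mul 0 u' v' t u v
    refine ⟨w - w', ?_⟩
    have e1 : (0 : K) + t = t + 0 := by ring
    have e2 : u' + u + 0 = u + u' + 0 := by ring
    have e3 : w' + (w - w') = w := by ring
    rw [hw, hw', D.top_l, D.c_zero_left, D.c_zero_right, e1, e2, e3]
  -- the subgroups `U₂ ≤ U₁` of `G`
  let U₂ : Subgroup G :=
    { carrier := {g | ∃ w, g = T 0 0 w}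
      mul_mem' := by
        rintro _ _ ⟨w, rfl⟩ ⟨w', rfl⟩
        exact ⟨w + w', D.top_r 0 0 w w'⟩
      one_mem' := ⟨0, hT1.symm⟩
      inv_mem' := by
        rintro _ ⟨w, rfl⟩
        exact ⟨-w, hinv2 w⟩ }
  let U₁ : Subgroup G :=
    { carrier := {g | ∃ u v, g = T 0 u v}
      mul_mem' := by
        rintro _ _ ⟨u, v, rfl⟩ ⟨u', v', rfl⟩
        obtain ⟨w, hw⟩ := hmul1 u v u' v'
        exact ⟨u + u', w, hw⟩
      one_mem' := ⟨0, 0, hT1.symm⟩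
      inv_mem' := by
        rintro _ ⟨u, v, rfl⟩
        obtain ⟨w, hw⟩ := hmul1 u v (-u) 0
        rw [add_neg_cancel] at hw
        refine ⟨-u, -w, ?_⟩
        rw [← hsplit (-u) (-w), ← hinv2, ← hw]
        group }
  let K₁ : Subgroup Γ := U₁.comap σ
  let K₂ : Subgroup Γ := U₂.comap σ
  have hK1mem : ∀ k : Γ, k ∈ K₁ ↔ ∃ u v, σ k = T 0 u v := fun k => Iff.rfl
  have hK2mem : ∀ k : Γ, k ∈ K₂ ↔ ∃ w, σ k = T 0 0 w := fun k => Iff.rfl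
  have hPmem : ∀ x : Γ, x ∈ P.comap σ ↔ ∃ t u v, σ x = T t u v := fun x => by
    rw [Subgroup.mem_comap, hP]
  have hK2c : ∀ (k x : Γ), k ∈ K₂ → (∃ t u v, σ x = T t u v) → k * x = x * k :=
    fun k x hk hx => (h3 x k hx ((hK2mem k).1 hk)).symm
  have hK1c : ∀ (k k' : Γ), k ∈ K₁ → k' ∈ K₁ → k * k' = k' * k :=
    fun k k' hk hk' => h4 k k' ((hK1mem k).1 hk) ((hK1mem k').1 hk')
  -- commutators of lifts
  have hcomK1 : ∀ x y : Γ, (∃ t u v, σ x = T t u v) → (∃ t u v, σ y = T t u v) → ⁅x, y⁆ ∈ K₁ := by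
    rintro x y ⟨t, u, v, hx⟩ ⟨t', u', v', hy⟩
    obtain ⟨α, β, hαβ⟩ := hcomG t u v t' u' v'
    rw [hK1mem]
    refine ⟨α, β, ?_⟩
    rw [map_commutatorElement, hx, hy, commutatorElement_def, hαβ]
    group
  have hcomK2 : ∀ x y : Γ, (∃ t u v, σ x = T t u v) → (∃ u v, σ y = T 0 u v) → ⁅x, y⁆ ∈ K₂ := by
    rintro x y ⟨t, u, v, hx⟩ ⟨u', v', hy⟩
    obtain ⟨β, hβ⟩ := hcomG2 t u v u' v'
    rw [hK2mem]
    refine ⟨β, ?_⟩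
    rw [map_commutatorElement, hx, hy, commutatorElement_def, hβ]
    group
  -- `K₁` is commutative
  have hK1comm : ∀ k k' : ↥K₁, k * k' = k' * k :=
    fun k k' => Subtype.ext (hK1c k k' k.2 k'.2)
  let instK : CommGroup ↥K₁ := { (inferInstance : Group ↥K₁) with mul_comm := hK1comm }
  -- the torus and the norm
  choose H hH using fun ν : Kˣ => D.tor (ν : K) ν.ne_zero
  have hconjK : ∀ (ν : Kˣ) (k : Γ), k ∈ K₁ → ℓ (H ν) * k * (ℓ (H ν))⁻¹ ∈ K₁ := by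
    intro ν k hk
    obtain ⟨u, v, hk⟩ := (hK1mem k).1 hk
    rw [hK1mem]
    refine ⟨(ν : K) * ((ν : K) ^ e) ^ 3 * u, (ν : K) ^ 2 * ((ν : K) ^ e) ^ 3 * v, ?_⟩
    rw [map_mul, map_mul, map_inv, hℓ, hk, hH, mul_zero]
  let cj : Kˣ → (↥K₁ →* ↥K₁) := fun ν =>
    MonoidHom.mk' (fun k => ⟨ℓ (H ν) * k * (ℓ (H ν))⁻¹, hconjK ν k k.2⟩)
      (fun a b => Subtype.ext (by
        show ℓ (H ν) * ((a : Γ) * (b : Γ)) * (ℓ (H ν))⁻¹ =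
          ℓ (H ν) * (a : Γ) * (ℓ (H ν))⁻¹ * (ℓ (H ν) * (b : Γ) * (ℓ (H ν))⁻¹)
        group))
  have hcj : ∀ (ν : Kˣ) (k : ↥K₁), ((cj ν k : ↥K₁) : Γ) = ℓ (H ν) * k * (ℓ (H ν))⁻¹ :=
    fun ν k => rfl
  let N : ↥K₁ →* ↥K₁ := ∏ ν : Kˣ, cj ν
  have hN : ∀ k : ↥K₁, N k = ∏ ν : Kˣ, cj ν k := fun k => MonoidHom.finsetProd_apply _ _ _
  let J : Subgroup ↥K₁ := N.ker ⊓ (powMonoidHom 3 : ↥K₁ →* ↥K₁).ker
  have hJN : ∀ j : ↥K₁, j ∈ J → N j = 1 := fun j hj => MonoidHom.mem_ker.1 (Subgroup.mem_inf.1 hj).1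
  have hJ3 : ∀ j : ↥K₁, j ∈ J → j ^ 3 = 1 := fun j hj => MonoidHom.mem_ker.1 (Subgroup.mem_inf.1 hj).2
  -- the pairing `γ₁`
  let γ₁ : K → K → ↥K₁ := fun s u =>
    ⟨⁅ℓ (T s 0 0), ℓ (T 0 u 0)⁆, hcomK1 _ _ ⟨s, 0, 0, hℓ _⟩ ⟨0, u, 0, hℓ _⟩⟩
  have hγ₁K2 : ∀ s u, ((γ₁ s u : ↥K₁) : Γ) ∈ K₂ :=
    fun s u => hcomK2 _ _ ⟨s, 0, 0, hℓ _⟩ ⟨u, 0, hℓ _⟩
  have hγ₁ : ∀ (x y : Γ) (s a b u v : K), σ x = T s a b → σ y = T 0 u v →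
      ⁅x, y⁆ = ((γ₁ s u : ↥K₁) : Γ) := by
    intro x y s a b u v hx hy
    obtain ⟨b', hb'⟩ := hdec s a b
    have hk : (ℓ (T s 0 0))⁻¹ * x ∈ K₁ := by
      rw [hK1mem]
      refine ⟨a, b', ?_⟩
      rw [map_mul, map_inv, hℓ, hx, hb']
      group
    have hk2 : (ℓ (T 0 u 0))⁻¹ * y ∈ K₂ := by
      rw [hK2mem]
      refine ⟨v, ?_⟩
      rw [map_mul, map_inv, hℓ, hy, ← hsplit u v]
      group
    have ex : x = ℓ (T s 0 0) * ((ℓ (T s 0 0))⁻¹ * x) := by group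
    have ey : y = ℓ (T 0 u 0) * ((ℓ (T 0 u 0))⁻¹ * y) := by group
    rw [ex, ey]
    rw [helper51_comm_mul_left_of_comm _ _ _
      (hK1c _ _ hk ((hK1mem _).2 ⟨u, v, by rw [← ey]; exact hy⟩))]
    rw [helper51_comm_mul_right_of_comm _ _ _ (hK2c _ _ hk2 ⟨s, 0, 0, hℓ _⟩)]
  have hγ₁l : ∀ s s' u, γ₁ (s + s') u = γ₁ s u * γ₁ s' u := by
    intro s s' u
    apply Subtype.ext
    rw [Subgroup.coe_mul]
    obtain ⟨w, hw⟩ := D.mul s 0 0 s' 0 0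
    have e1 : ⁅ℓ (T s 0 0) * ℓ (T s' 0 0), ℓ (T 0 u 0)⁆ = ((γ₁ (s + s') u : ↥K₁) : Γ) :=
      hγ₁ _ _ (s + s') _ _ u 0 (by rw [map_mul, hℓ, hℓ, hw]) (hℓ _)
    rw [← e1]
    apply helper51_comm_mul_left_split
    · exact hK2c _ _ (hγ₁K2 s' u) ⟨s, 0, 0, hℓ _⟩
    · exact hK1c _ _ (γ₁ s' u).2 (γ₁ s u).2
  have hγ₁r : ∀ s u u', γ₁ s (u + u') = γ₁ s u * γ₁ s u' := by
    intro s u u'
    apply Subtype.ext
    rw [Subgroup.coe_mul]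
    have e1 : ⁅ℓ (T s 0 0), ℓ (T 0 u 0) * ℓ (T 0 u' 0)⁆ = ((γ₁ s (u + u') : ↥K₁) : Γ) :=
      hγ₁ _ _ s 0 0 (u + u') 0 (hℓ _) (by rw [map_mul, hℓ, hℓ, D.mid])
    rw [← e1]
    apply helper51_comm_mul_right_split
    exact hK1c _ _ (γ₁ s u').2 ((hK1mem _).2 ⟨u, 0, hℓ _⟩)
  have hγ₁0 : ∀ u, γ₁ 0 u = 1 := by
    intro u
    have h1 := hγ₁l 0 0 u
    rw [add_zero] at h1
    exact mul_left_cancel (a := γ₁ 0 u) (by rw [← h1, mul_one])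
  have hγ₁cube : ∀ s u, γ₁ s u ^ 3 = 1 := by
    intro s u
    have e0 : s + s + s = 0 := by linear_combination s * h3K
    rw [pow_succ, pow_two, ← hγ₁l, ← hγ₁l, e0, hγ₁0]
  have hcjγ₁ : ∀ (ν : Kˣ) (s u : K),
      cj ν (γ₁ s u) = γ₁ ((ν : K) * s) ((ν : K) * ((ν : K) ^ e) ^ 3 * u) := by
    intro ν s u
    apply Subtype.ext
    rw [hcj]
    show ℓ (H ν) * ⁅ℓ (T s 0 0), ℓ (T 0 u 0)⁆ * (ℓ (H ν))⁻¹ = _
    rw [helper51_conj_commutatorElement]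
    exact hγ₁ _ _ ((ν : K) * s) _ _ ((ν : K) * ((ν : K) ^ e) ^ 3 * u) _
      (by rw [map_mul, map_mul, map_inv, hℓ, hℓ, hH])
      (by rw [map_mul, map_mul, map_inv, hℓ, hℓ, hH, mul_zero (ν : K)])
  have hNγ₁ : ∀ s u, N (γ₁ s u) = 1 := by
    intro s u
    have key := hab (fun a a' => ((N (γ₁ a a') : ↥K₁) : Γ)) ?_ ?_ ?_ s u
    · exact Subtype.ext key
    · intro a a' b
      show ((N (γ₁ (a + a') b) : ↥K₁) : Γ) = (N (γ₁ a b) : ↥K₁) * (N (γ₁ a' b) : ↥K₁)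
      rw [hγ₁l, map_mul, Subgroup.coe_mul]
    · intro a b b'
      show ((N (γ₁ a (b + b')) : ↥K₁) : Γ) = (N (γ₁ a b) : ↥K₁) * (N (γ₁ a b') : ↥K₁)
      rw [hγ₁r, map_mul, Subgroup.coe_mul]
    · intro ν a b hν0
      show ((N (γ₁ (ν * a) (ν * (ν ^ e) ^ 3 * b)) : ↥K₁) : Γ) = (N (γ₁ a b) : ↥K₁)
      congr 1
      rw [hN, hN]
      have e1 : ∀ μ : Kˣ, cj μ (γ₁ (ν * a) (ν * (ν ^ e) ^ 3 * b)) =
          cj (μ * Units.mk0 ν hν0) (γ₁ a b) := by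
        intro μ
        rw [hcjγ₁, hcjγ₁]
        congr 1
        · rw [Units.val_mul, Units.val_mk0, mul_assoc]
        · rw [Units.val_mul, Units.val_mk0]
          ring
      rw [Finset.prod_congr rfl (fun μ _ => e1 μ)]
      exact Equiv.prod_comp (Equiv.mulRight (Units.mk0 ν hν0)) (fun μ => cj μ (γ₁ a b))
  have hJγ : ∀ s u, γ₁ s u ∈ J := fun s u =>
    Subgroup.mem_inf.2 ⟨MonoidHom.mem_ker.2 (hNγ₁ s u), MonoidHom.mem_ker.2 (hγ₁cube s u)⟩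
  -- the pairing `Γ₀`
  let Γ₀ : K → K → ↥K₁ := fun s s' =>
    ⟨⁅ℓ (T s 0 0), ℓ (T s' 0 0)⁆, hcomK1 _ _ ⟨s, 0, 0, hℓ _⟩ ⟨s', 0, 0, hℓ _⟩⟩
  have hC0 : ∀ (k k' : Γ) (s a b s' a' b' : K), σ k = T 0 a b → σ k' = T 0 a' b' →
      ∃ j : ↥K₁, j ∈ J ∧
        ⁅ℓ (T s 0 0) * k, ℓ (T s' 0 0) * k'⁆ = ((j * Γ₀ s s' : ↥K₁) : Γ) := by
    intro k k' s a b s' a' b' hk hk'
    obtain ⟨w', hw'⟩ := D.mul s' 0 0 0 a' b'
    simp only [add_zero, zero_add, D.c_zero_right] at hw'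
    have hX' : σ (ℓ (T s' 0 0) * k') = T s' a' w' := by rw [map_mul, hℓ, hk', hw']
    have g1 : ⁅k, ℓ (T s' 0 0) * k'⁆ = ((γ₁ s' a : ↥K₁) : Γ)⁻¹ := by
      rw [← commutatorElement_inv, hγ₁ _ _ s' a' w' a b hX' hk]
    have g2 : ⁅ℓ (T s 0 0), k'⁆ = ((γ₁ s a' : ↥K₁) : Γ) := hγ₁ _ _ s 0 0 a' b' (hℓ _) hk'
    have s1 : ⁅ℓ (T s 0 0) * k, ℓ (T s' 0 0) * k'⁆ =
        ⁅k, ℓ (T s' 0 0) * k'⁆ * ⁅ℓ (T s 0 0), ℓ (T s' 0 0) * k'⁆ :=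
      helper61_comm_mul_left_swap _ _ _ (by
        rw [g1]
        exact hK2c _ _ (K₂.inv_mem (hγ₁K2 s' a)) ⟨s, 0, 0, hℓ _⟩)
    have s2 : ⁅ℓ (T s 0 0), ℓ (T s' 0 0) * k'⁆ =
        ⁅ℓ (T s 0 0), ℓ (T s' 0 0)⁆ * ⁅ℓ (T s 0 0), k'⁆ :=
      helper51_comm_mul_right_split _ _ _ (by
        rw [g2]
        exact hK2c _ _ (hγ₁K2 s a') ⟨s', 0, 0, hℓ _⟩)
    refine ⟨(γ₁ s' a)⁻¹ * γ₁ s a', J.mul_mem (J.inv_mem (hJγ _ _)) (hJγ _ _), ?_⟩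
    have c3 : ⁅ℓ (T s 0 0), ℓ (T s' 0 0)⁆ * ((γ₁ s a' : ↥K₁) : Γ) =
        ((γ₁ s a' : ↥K₁) : Γ) * ⁅ℓ (T s 0 0), ℓ (T s' 0 0)⁆ :=
      hK1c _ _ (Γ₀ s s').2 (γ₁ s a').2
    rw [s1, s2, g1, g2, c3, Subgroup.coe_mul, Subgroup.coe_mul, Subgroup.coe_inv, mul_assoc]
  have hC : ∀ (x x' : Γ) (s a b s' a' b' : K), σ x = T s a b → σ x' = T s' a' b' →
      ∃ j : ↥K₁, j ∈ J ∧ ⁅x, x'⁆ = ((j * Γ₀ s s' : ↥K₁) : Γ) := by
    intro x x' s a b s' a' b' hx hx'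
    obtain ⟨b₁, hb₁⟩ := hdec s a b
    obtain ⟨b₁', hb₁'⟩ := hdec s' a' b'
    have hk : σ ((ℓ (T s 0 0))⁻¹ * x) = T 0 a b₁ := by
      rw [map_mul, map_inv, hℓ, hx, hb₁]
      group
    have hk' : σ ((ℓ (T s' 0 0))⁻¹ * x') = T 0 a' b₁' := by
      rw [map_mul, map_inv, hℓ, hx', hb₁']
      group
    have ex : ℓ (T s 0 0) * ((ℓ (T s 0 0))⁻¹ * x) = x := by group
    have ex' : ℓ (T s' 0 0) * ((ℓ (T s' 0 0))⁻¹ * x') = x' := by group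
    have h := hC0 _ _ s a b₁ s' a' b₁' hk hk'
    rw [ex, ex'] at h
    exact h
  have hΓ0 : ∀ s', Γ₀ 0 s' = 1 := by
    intro s'
    apply Subtype.ext
    show ⁅ℓ (T 0 0 0), ℓ (T s' 0 0)⁆ = 1
    have e1 : ⁅ℓ (T 0 0 0), ℓ (T s' 0 0)⁆ = ⁅(1 : Γ), ℓ (T s' 0 0)⁆ := by
      apply commutatorElement_congr_of_central σ hc
      · rw [hℓ, hT1, map_one]
      · rfl
    rw [e1, commutatorElement_one_left]
  have hΓl : ∀ s s'' s', ∃ j : ↥K₁, j ∈ J ∧ Γ₀ (s + s'') s' = j * (Γ₀ s s' * Γ₀ s'' s') := by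
    intro s s'' s'
    obtain ⟨w, hw⟩ := D.mul s 0 0 s'' 0 0
    obtain ⟨j₁, hj₁, h1⟩ := hC (ℓ (T s 0 0) * ℓ (T s'' 0 0)) (ℓ (T s' 0 0)) (s + s'') _ w s' 0 0
      (by rw [map_mul, hℓ, hℓ, hw]) (hℓ _)
    obtain ⟨uk, vk, hk⟩ := (hK1mem _).1 (Γ₀ s'' s').2
    have g : ⁅ℓ (T s 0 0), ((Γ₀ s'' s' : ↥K₁) : Γ)⁆ = ((γ₁ s uk : ↥K₁) : Γ) :=
      hγ₁ _ _ s 0 0 uk vk (hℓ _) hk
    have h2 : ⁅ℓ (T s 0 0) * ℓ (T s'' 0 0), ℓ (T s' 0 0)⁆ =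
        ((γ₁ s uk * Γ₀ s'' s' * Γ₀ s s' : ↥K₁) : Γ) := by
      rw [Subgroup.coe_mul, Subgroup.coe_mul, ← g]
      show _ = ⁅ℓ (T s 0 0), ⁅ℓ (T s'' 0 0), ℓ (T s' 0 0)⁆⁆ * ⁅ℓ (T s'' 0 0), ℓ (T s' 0 0)⁆ *
        ⁅ℓ (T s 0 0), ℓ (T s' 0 0)⁆
      simp only [commutatorElement_def]
      group
    have h3' : j₁ * Γ₀ (s + s'') s' = γ₁ s uk * Γ₀ s'' s' * Γ₀ s s' :=
      Subtype.ext (by rw [← h1, h2])
    refine ⟨j₁⁻¹ * γ₁ s uk, J.mul_mem (J.inv_mem hj₁) (hJγ _ _), ?_⟩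
    calc Γ₀ (s + s'') s' = j₁⁻¹ * (j₁ * Γ₀ (s + s'') s') := by rw [inv_mul_cancel_left]
      _ = j₁⁻¹ * (γ₁ s uk * Γ₀ s'' s' * Γ₀ s s') := by rw [h3']
      _ = j₁⁻¹ * γ₁ s uk * (Γ₀ s s' * Γ₀ s'' s') := by
          rw [mul_assoc (γ₁ s uk), mul_comm (Γ₀ s'' s'), ← mul_assoc]
  have hNΓl : ∀ s s'' s', N (Γ₀ (s + s'') s') = N (Γ₀ s s') * N (Γ₀ s'' s') := by
    intro s s'' s'
    obtain ⟨j, hj, h⟩ := hΓl s s'' s'
    rw [h, map_mul, map_mul, hJN j hj, one_mul]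
  have hΓanti : ∀ s s', Γ₀ s s' = (Γ₀ s' s)⁻¹ := by
    intro s s'
    apply Subtype.ext
    rw [Subgroup.coe_inv]
    show ⁅ℓ (T s 0 0), ℓ (T s' 0 0)⁆ = ⁅ℓ (T s' 0 0), ℓ (T s 0 0)⁆⁻¹
    rw [commutatorElement_inv]
  have hNΓr : ∀ s t t', N (Γ₀ s (t + t')) = N (Γ₀ s t) * N (Γ₀ s t') := by
    intro s t t'
    rw [hΓanti s (t + t'), map_inv, hNΓl, mul_inv, ← map_inv, ← map_inv, ← hΓanti, ← hΓanti]
  have hcjΓ : ∀ (ν : Kˣ) (s s' : K), cj ν (Γ₀ s s') = Γ₀ ((ν : K) * s) ((ν : K) * s') := by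
    intro ν s s'
    apply Subtype.ext
    rw [hcj]
    show ℓ (H ν) * ⁅ℓ (T s 0 0), ℓ (T s' 0 0)⁆ * (ℓ (H ν))⁻¹ =
      ⁅ℓ (T ((ν : K) * s) 0 0), ℓ (T ((ν : K) * s') 0 0)⁆
    rw [helper51_conj_commutatorElement]
    apply commutatorElement_congr_of_central σ hc
    · rw [map_mul, map_mul, map_inv, hℓ, hℓ, hℓ, hH, mul_zero, mul_zero]
    · rw [map_mul, map_mul, map_inv, hℓ, hℓ, hℓ, hH, mul_zero, mul_zero]
  have hNΓ : ∀ s s', N (Γ₀ s s') = 1 := by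
    intro s s'
    have key := hsq (fun a a' => ((N (Γ₀ a a') : ↥K₁) : Γ)) ?_ ?_ ?_ s s'
    · exact Subtype.ext key
    · intro a a' b
      show ((N (Γ₀ (a + a') b) : ↥K₁) : Γ) = (N (Γ₀ a b) : ↥K₁) * (N (Γ₀ a' b) : ↥K₁)
      rw [hNΓl, Subgroup.coe_mul]
    · intro a b b'
      show ((N (Γ₀ a (b + b')) : ↥K₁) : Γ) = (N (Γ₀ a b) : ↥K₁) * (N (Γ₀ a b') : ↥K₁)
      rw [hNΓr, Subgroup.coe_mul]
    · intro ν a b hν0
      show ((N (Γ₀ (ν ^ 2 * a) (ν ^ 2 * b)) : ↥K₁) : Γ) = (N (Γ₀ a b) : ↥K₁)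
      congr 1
      rw [hN, hN]
      have hν2 : ν ^ 2 ≠ 0 := pow_ne_zero 2 hν0
      have e1 : ∀ μ : Kˣ, cj μ (Γ₀ (ν ^ 2 * a) (ν ^ 2 * b)) =
          cj (μ * Units.mk0 (ν ^ 2) hν2) (Γ₀ a b) := by
        intro μ
        rw [hcjΓ, hcjΓ]
        congr 1
        · rw [Units.val_mul, Units.val_mk0, mul_assoc]
        · rw [Units.val_mul, Units.val_mk0, mul_assoc]
      rw [Finset.prod_congr rfl (fun μ _ => e1 μ)]
      exact Equiv.prod_comp (Equiv.mulRight (Units.mk0 (ν ^ 2) hν2)) (fun μ => cj μ (Γ₀ a b))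
  have hΓ9 : ∀ s s', Γ₀ s s' ^ 9 = 1 := by
    intro s s'
    obtain ⟨j₁, hj₁, h1⟩ := hΓl s s s'
    obtain ⟨j₂, hj₂, h2⟩ := hΓl (s + s) s s'
    have e0 : s + s + s = 0 := by linear_combination s * h3K
    rw [h1, e0, hΓ0] at h2
    have h3' : Γ₀ s s' ^ 3 = (j₂ * j₁)⁻¹ := by
      apply eq_inv_of_mul_eq_one_right
      calc j₂ * j₁ * Γ₀ s s' ^ 3 = j₂ * (j₁ * (Γ₀ s s' * Γ₀ s s') * Γ₀ s s') := by
            rw [pow_succ, pow_two]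
            simp only [mul_assoc]
        _ = 1 := h2.symm
    have hjj : (j₂ * j₁)⁻¹ ∈ J := J.inv_mem (J.mul_mem hj₂ hj₁)
    calc Γ₀ s s' ^ 9 = (Γ₀ s s' ^ 3) ^ 3 := by rw [← pow_mul]
      _ = 1 := by rw [h3']; exact hJ3 _ hjj
  -- the commutator subgroup lies in the kernel of `N` and has exponent 9
  have hle : ⁅P.comap σ, P.comap σ⁆ ≤
      (N.ker ⊓ (powMonoidHom 9 : ↥K₁ →* ↥K₁).ker).map K₁.subtype := by
    rw [Subgroup.commutator_le]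
    intro x hx y hy
    obtain ⟨s, a, b, hxa⟩ := (hPmem x).1 hx
    obtain ⟨s', a', b', hya⟩ := (hPmem y).1 hy
    obtain ⟨j, hj, hjx⟩ := hC x y s a b s' a' b' hxa hya
    rw [hjx]
    refine Subgroup.mem_map.2 ⟨j * Γ₀ s s', Subgroup.mem_inf.2 ⟨?_, ?_⟩, rfl⟩
    · rw [MonoidHom.mem_ker, map_mul, hNΓ, hJN j hj, one_mul]
    · rw [MonoidHom.mem_ker]
      show (j * Γ₀ s s') ^ 9 = 1
      rw [mul_pow, hΓ9, mul_one, show (9 : ℕ) = 3 * 3 from rfl, pow_mul, hJ3 j hj, one_pow]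
  intro w hwk hw
  obtain ⟨k, hk, hkw⟩ := Subgroup.mem_map.1 (hle hw)
  obtain ⟨hk1, hk2⟩ := Subgroup.mem_inf.1 hk
  rw [MonoidHom.mem_ker] at hk1 hk2
  have hkw' : (k : Γ) = w := hkw
  have hwc : w ∈ Subgroup.center Γ := hc hwk
  rw [Subgroup.mem_center_iff] at hwc
  have hfix : ∀ ν : Kˣ, cj ν k = k := by
    intro ν
    apply Subtype.ext
    rw [hcj, hkw', hwc (ℓ (H ν)), mul_inv_cancel_right]
  have hpow : k ^ Fintype.card Kˣ = 1 := by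
    rw [← hk1, hN, Finset.prod_congr rfl (fun ν _ => hfix ν), Finset.prod_const, Finset.card_univ]
  have hk9 : k ^ 9 = 1 := hk2
  rw [Nat.card_eq_fintype_card] at hcop
  have hcp : Nat.Coprime 9 (Fintype.card Kˣ) := by
    have h3c : Nat.Coprime 3 (Fintype.card Kˣ) :=
      (Nat.Prime.coprime_iff_not_dvd Nat.prime_three).2 hcop
    exact Nat.Coprime.pow_left 2 h3c
  have ho : orderOf k = 1 := by
    have d1 : orderOf k ∣ 9 := orderOf_dvd_of_pow_eq_one hk9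
    have d2 : orderOf k ∣ Fintype.card Kˣ := orderOf_dvd_of_pow_eq_one hpow
    have d3 : orderOf k ∣ Nat.gcd 9 (Fintype.card Kˣ) := Nat.dvd_gcd d1 d2
    rw [hcp.gcd_eq_one] at d3
    exact Nat.dvd_one.1 d3
  rw [← hkw', orderOf_eq_one_iff.1 ho]
  rfl

end Cfsg.Agent.Lib.helper61.S2113
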