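/-
S3366 split (owner helper6), PIECE P4: Heisenberg coordinates on R adapted to the involution t.
-/
import Mathlib
import Cfsg.Agent.Lib.helper6.S3366Defs

set_option autoImplicit false
set_option linter.unusedSectionVars false

namespace Cfsg.Agent.Lib.helper61.S3366
open Cfsg.Agent.Lib.helper6.S3366

variable {X : Type*} [Group X] [Finite X] {R : Subgroup X} {π : X →* SL23} {z : X}

/-- `R` is normal. -/
theorem p4_conj_mem (S : Setting X R π z) (g r : X) (hr : r ∈ R) : g * r * g⁻¹ ∈ R := by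
  rw [← S.ker] at hr ⊢
  simp [hr]

/-- the powers of `z` are central -/
theorem p4_z_comm (hz : ∀ g : X, g * z = z * g) (c : X) (hc : c ∈ Subgroup.zpowers z) (g : X) :
    g * c = c * g := by
  obtain ⟨n, rfl⟩ := hc
  exact (Commute.zpow_right (hz g) n).eq

theorem p4_z_mem (S : Setting X R π z) (c : X) (hc : c ∈ Subgroup.zpowers z) : c ∈ R := by
  obtain ⟨n, rfl⟩ := hc
  exact R.zpow_mem S.zmem n

theorem p4_eq_one_of_sq (S : Setting X R π z) (c : X) (hc : c ∈ R) (h2 : c ^ 2 = 1) : c = 1 := by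
  have h3 := S.exp c hc
  calc c = c ^ 3 * (c ^ 2)⁻¹ := by group
    _ = 1 := by rw [h3, h2]; simp

theorem p4_mid {G : Type*} [Group G] (x y w : G) (h : x * y * w = 1) : y = x⁻¹ * w⁻¹ := by
  have : y = x⁻¹ * (x * y * w) * w⁻¹ := by group
  rw [this, h]; group

theorem p4_neg_pow {G : Type*} [Group G] (g : G) (hg : g ^ 3 = 1) (x : ZMod 3) :
    g ^ (-x).val = (g⁻¹) ^ x.val := by
  have hx : x = 0 ∨ x = 1 ∨ x = 2 := by revert x; decide
  rcases hx with rfl | rfl | rfl
  · have h0 : (-(0 : ZMod 3)).val = 0 := by decide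
    have h0' : ((0 : ZMod 3)).val = 0 := by decide
    rw [h0, h0']; simp
  · have h0 : (-(1 : ZMod 3)).val = 2 := by decide
    have h0' : ((1 : ZMod 3)).val = 1 := by decide
    rw [h0, h0']
    calc g ^ 2 = g ^ 3 * (g⁻¹) ^ 1 := by group
      _ = (g⁻¹) ^ 1 := by rw [hg, one_mul]
  · have h0 : (-(2 : ZMod 3)).val = 1 := by decide
    have h0' : ((2 : ZMod 3)).val = 2 := by decide
    rw [h0, h0']
    calc g ^ 1 = g ^ 3 * (g⁻¹) ^ 2 := by group
      _ = (g⁻¹) ^ 2 := by rw [hg, one_mul]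

theorem p4_pow_mul {G : Type*} [Group G] (g : G) (hg : g ^ 3 = 1) (x y k : ZMod 3) :
    g ^ ((-x).val * (-y).val + k.val) = g ^ (x.val * y.val + k.val) := by
  rw [pow_eq_pow_mod _ hg, pow_eq_pow_mod (x.val * y.val + k.val) hg]
  congr 1
  revert x y k; decide

theorem p4_val_cases : ∀ x : ZMod 3, x ≠ 0 → x.val = 1 ∨ x.val = 2 := by decide

theorem p4_val_cases' : ∀ x : ZMod 3, x.val = 0 ∨ x.val = 1 ∨ x.val = 2 := by decide

theorem p4_val_zero : ∀ x : ZMod 3, x.val = 0 → x = 0 := by decide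

/-- P4 -/
theorem exists_iota_of (S : Setting X R π z) (hz : ∀ g : X, g * z = z * g)
    (t : X) (ht2 : t ^ 2 = 1) (htD : ∀ r ∈ R, t * r = r * t → r ∈ Subgroup.zpowers z)
    (hH : ∀ a b c : X, a ^ 3 = 1 → b ^ 3 = 1 → c ^ 3 = 1 → c * a = a * c → c * b = b * c →
      a * b = c * b * a → ∃ ι : H3 →* X, ∀ h : H3,
        ι h = a ^ h.x.val * b ^ h.y.val * c ^ (h.x.val * h.y.val + h.k.val)) :
    ∃ ι : H3 →* X, Function.Injective ι ∧ (∀ r : X, r ∈ R ↔ ∃ h, ι h = r) ∧
      ∀ h, t * ι h * t⁻¹ = ι (H3.neg h) := by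
  have htt : t * t = 1 := by rw [← sq]; exact ht2
  have hκR : ∀ r ∈ R, r * (t * r⁻¹ * t⁻¹) ∈ R := fun r hr =>
    mul_mem hr (p4_conj_mem S t _ (inv_mem hr))
  have hκt : ∀ r : X, t * (r * (t * r⁻¹ * t⁻¹)) * t⁻¹ = (r * (t * r⁻¹ * t⁻¹))⁻¹ := by
    intro r
    have e : t * (r * (t * r⁻¹ * t⁻¹)) * t⁻¹ = t * r * t⁻¹ * (t * t) * r⁻¹ * (t * t)⁻¹ := by group
    rw [e, htt]; group
  have hIZ : ∀ k ∈ R, t * k * t⁻¹ = k⁻¹ → k ∈ Subgroup.zpowers z → k = 1 := by
    intro k hkR hk hkZ
    have e1 : k⁻¹ = k := by rw [← hk, p4_z_comm hz _ hkZ t]; group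
    have e2 : k ^ 2 = 1 := by rw [sq]; nth_rewrite 1 [← e1]; exact inv_mul_cancel k
    exact p4_eq_one_of_sq S _ hkR e2
  -- an element of `R` outside `Z`
  have hZcard : Nat.card (Subgroup.zpowers z) ≤ 3 := by
    rw [Nat.card_zpowers]
    exact orderOf_le_of_pow_eq_one (by norm_num) (S.exp z S.zmem)
  obtain ⟨r1, hr1R, hr1Z⟩ : ∃ r1 ∈ R, r1 ∉ Subgroup.zpowers z := by
    by_contra hcon
    push Not at hcon
    have hle : R ≤ Subgroup.zpowers z := fun r hr => hcon r hr
    have h27 := Subgroup.card_le_of_le hle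
    rw [S.card] at h27
    omega
  obtain ⟨a, hadef⟩ : ∃ a : X, a = r1 * (t * r1⁻¹ * t⁻¹) := ⟨_, rfl⟩
  have haR : a ∈ R := by rw [hadef]; exact hκR r1 hr1R
  have hat : t * a * t⁻¹ = a⁻¹ := by rw [hadef]; exact hκt r1
  have ha1 : a ≠ 1 := by
    intro h
    apply hr1Z
    apply htD r1 hr1R
    rw [hadef] at h
    calc t * r1 = (r1 * (t * r1⁻¹ * t⁻¹)) * t * r1 := by rw [h, one_mul]
      _ = r1 * t := by group
  have haZ : a ∉ Subgroup.zpowers z := fun h => ha1 (hIZ a haR hat h)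
  -- the second generator
  have hex : ∃ r' ∈ R, a * r' ≠ r' * a := by
    by_contra hcon
    push Not at hcon
    exact haZ ((S.cent a haR).mp hcon)
  obtain ⟨r', hr'R, hr'⟩ := hex
  obtain ⟨k, hkdef⟩ : ∃ k : X, k = r' * (t * r'⁻¹ * t⁻¹) := ⟨_, rfl⟩
  have hkR : k ∈ R := by rw [hkdef]; exact hκR r' hr'R
  have hkt : t * k * t⁻¹ = k⁻¹ := by rw [hkdef]; exact hκt r'
  have hk3 := S.exp k hkR
  have hc' : k * r' ∈ Subgroup.zpowers z := by
    apply htD _ (mul_mem hkR hr'R)
    have e1 : t * r' * t⁻¹ = k⁻¹ * r' := by rw [hkdef]; group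
    have e2 : t * (k * r') * t⁻¹ = k * r' := by
      have e3 : t * (k * r') * t⁻¹ = (t * k * t⁻¹) * (t * r' * t⁻¹) := by group
      rw [e3, hkt, e1]
      have hk' : k⁻¹ * k⁻¹ = k := by
        calc k⁻¹ * k⁻¹ = (k ^ 3) * (k⁻¹ * k⁻¹) := by rw [hk3, one_mul]
          _ = k := by group
      rw [← mul_assoc, hk']
    calc t * (k * r') = (t * (k * r') * t⁻¹) * t := by group
      _ = (k * r') * t := by rw [e2]
  obtain ⟨b, hbdef⟩ : ∃ b : X, b = k⁻¹ := ⟨_, rfl⟩
  have hbR : b ∈ R := by rw [hbdef]; exact inv_mem hkR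
  have hbt : t * b * t⁻¹ = b⁻¹ := by
    rw [hbdef]
    have e : t * k⁻¹ * t⁻¹ = (t * k * t⁻¹)⁻¹ := by group
    rw [e, hkt]
  have hab : a * b ≠ b * a := by
    intro h
    apply hr'
    have e1 : r' = b * (k * r') := by rw [hbdef]; group
    have e2 : a * (b * (k * r')) = (b * (k * r')) * a := by
      calc a * (b * (k * r')) = (a * b) * (k * r') := by group
        _ = (b * a) * (k * r') := by rw [h]
        _ = b * (a * (k * r')) := by group
        _ = b * ((k * r') * a) := by rw [p4_z_comm hz _ hc' a]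
        _ = (b * (k * r')) * a := by group
    rw [← e1] at e2
    exact e2
  -- the commutator
  have hcZ := S.comm a haR b hbR
  obtain ⟨c, hcdef⟩ : ∃ c : X, c = a * b * a⁻¹ * b⁻¹ := ⟨_, rfl⟩
  rw [← hcdef] at hcZ
  have hc1 : c ≠ 1 := by
    intro h
    apply hab
    calc a * b = c * (b * a) := by rw [hcdef]; group
      _ = b * a := by rw [h, one_mul]
  have ha3 := S.exp a haR
  have hb3 := S.exp b hbR
  have hcR := p4_z_mem S c hcZ
  have hc3 := S.exp c hcR
  have hca : c * a = a * c := (p4_z_comm hz c hcZ a).symm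
  have hcb : c * b = b * c := (p4_z_comm hz c hcZ b).symm
  have habc : a * b = c * b * a := by rw [hcdef]; group
  obtain ⟨ι, hι⟩ := hH a b c ha3 hb3 hc3 hca hcb habc
  have hinj : Function.Injective ι := by
    rw [injective_iff_map_eq_one]
    intro h hh
    rw [hι] at hh
    have hcomm_ac : Commute a c := hca.symm
    have hy : h.y = 0 := by
      by_contra hy
      have hbpow := p4_mid _ _ _ hh
      have hcm : Commute a (b ^ h.y.val) := by
        rw [hbpow]
        exact ((Commute.refl a).pow_right _).inv_right.mul_right ((hcomm_ac.pow_right _).inv_right)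
      rcases p4_val_cases h.y hy with h1 | h2
      · rw [h1, pow_one] at hcm
        exact hab hcm.eq
      · rw [h2] at hcm
        have e : (b ^ 2) ^ 2 = b := by
          calc (b ^ 2) ^ 2 = b ^ 3 * b := by group
            _ = b := by rw [hb3, one_mul]
        have hcm2 := hcm.pow_right 2
        rw [e] at hcm2
        exact hab hcm2.eq
    have hyv : h.y.val = 0 := by rw [hy]; decide
    rw [hyv, pow_zero, mul_one, mul_zero, zero_add] at hh
    have hx : h.x = 0 := by
      by_contra hx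
      have hapow : a ^ h.x.val = (c ^ h.k.val)⁻¹ := eq_inv_of_mul_eq_one_left hh
      have haZ' : a ^ h.x.val ∈ Subgroup.zpowers z := by
        rw [hapow]; exact inv_mem (pow_mem hcZ _)
      rcases p4_val_cases h.x hx with h1 | h2
      · rw [h1, pow_one] at haZ'
        exact haZ haZ'
      · rw [h2] at haZ'
        have e : (a ^ 2) ^ 2 = a := by
          calc (a ^ 2) ^ 2 = a ^ 3 * a := by group
            _ = a := by rw [ha3, one_mul]
        have := pow_mem haZ' 2
        rw [e] at this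
        exact haZ this
    have hxv : h.x.val = 0 := by rw [hx]; decide
    rw [hxv, pow_zero, one_mul] at hh
    have hk : h.k = 0 := by
      rcases p4_val_cases' h.k with h0 | h1 | h2
      · exact p4_val_zero _ h0
      · rw [h1, pow_one] at hh
        exact absurd hh hc1
      · rw [h2] at hh
        exact absurd (p4_eq_one_of_sq S c hcR hh) hc1
    exact H3.ext hx hy hk
  have hιR : ∀ h, ι h ∈ R := by
    intro h
    rw [hι]
    exact mul_mem (mul_mem (pow_mem haR _) (pow_mem hbR _)) (pow_mem hcR _)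
  refine ⟨ι, hinj, ?_, ?_⟩
  · intro r
    constructor
    · intro hr
      let ι' : H3 → R := fun h => ⟨ι h, hιR h⟩
      have hinj' : Function.Injective ι' := fun h h' e => hinj (congrArg Subtype.val e)
      have hbij : Function.Bijective ι' :=
        (Nat.bijective_iff_injective_and_card ι').mpr ⟨hinj', by rw [H3.card, S.card]⟩
      obtain ⟨h, hh⟩ := hbij.2 ⟨r, hr⟩
      exact ⟨h, congrArg Subtype.val hh⟩
    · rintro ⟨h, rfl⟩
      exact hιR h
  · intro h
    rw [hι, hι]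
    have e1 : t * (a ^ h.x.val * b ^ h.y.val * c ^ (h.x.val * h.y.val + h.k.val)) * t⁻¹ =
        (t * a * t⁻¹) ^ h.x.val * (t * b * t⁻¹) ^ h.y.val *
          (t * c * t⁻¹) ^ (h.x.val * h.y.val + h.k.val) := by
      rw [conj_pow, conj_pow, conj_pow]; group
    rw [e1, hat, hbt]
    have e2 : t * c * t⁻¹ = c := by rw [p4_z_comm hz c hcZ t]; group
    rw [e2]
    simp only [H3.neg]
    rw [p4_neg_pow a ha3 h.x, p4_neg_pow b hb3 h.y, p4_pow_mul c hc3 h.x h.y h.k]

end Cfsg.Agent.Lib.helper61.S3366
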