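/-
S3366 split (owner helper6), PIECE P6b: an element of order 3 outside R commuting with t.
-/
import Mathlib
import Cfsg.Agent.Lib.helper6.S3366Defs

set_option autoImplicit false
set_option linter.unusedSectionVars false

namespace Cfsg.Agent.Lib.helper61.S3366
open Cfsg.Agent.Lib.helper6.S3366

variable {X : Type*} [Group X] [Finite X] {R : Subgroup X} {π : X →* SL23} {z : X}

theorem p6_neg_one_comm : ∀ A : SL23, (-1 : SL23) * A = A * (-1) := by decide +kernel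

/-- `R` is normal. -/
theorem p6_conj_mem (S : Setting X R π z) (g r : X) (hr : r ∈ R) : g * r * g⁻¹ ∈ R := by
  rw [← S.ker] at hr ⊢
  simp [hr]

/-- the powers of `z` are central -/
theorem p6_z_comm (hz : ∀ g : X, g * z = z * g) (c : X) (hc : c ∈ Subgroup.zpowers z) (g : X) :
    g * c = c * g := by
  obtain ⟨n, rfl⟩ := hc
  exact (Commute.zpow_right (hz g) n).eq

theorem p6_z_mem (S : Setting X R π z) (c : X) (hc : c ∈ Subgroup.zpowers z) : c ∈ R := by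
  obtain ⟨n, rfl⟩ := hc
  exact R.zpow_mem S.zmem n

theorem p6_eq_one_of_sq (S : Setting X R π z) (c : X) (hc : c ∈ R) (h2 : c ^ 2 = 1) : c = 1 := by
  have h3 := S.exp c hc
  calc c = c ^ 3 * (c ^ 2)⁻¹ := by group
    _ = 1 := by rw [h3, h2]; simp

/-- P6b -/
theorem exists_s (S : Setting X R π z) (hz : ∀ g : X, g * z = z * g)
    (t : X) (ht2 : t ^ 2 = 1) (htπ : π t = -1)
    (htD : ∀ r ∈ R, t * r = r * t → r ∈ Subgroup.zpowers z)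
    (E : Subgroup X) (hEc : ∀ a ∈ E, ∀ b ∈ E, a * b = b * a) (hE3 : ∀ a ∈ E, a ^ 3 = 1)
    (e₀ : X) (he₀ : e₀ ∈ E) (he₀R : e₀ ∉ R)
    (hw : ∃ w ∈ E, w ∈ R ∧ w ∉ Subgroup.zpowers z)
    (hCw : ∀ w ∈ E, w ∈ R → w ∉ Subgroup.zpowers z → ∀ r ∈ R, r * w = w * r → r ∈ E)
    (hW0 : ∀ r ∈ R, e₀ * r * e₀⁻¹ * r⁻¹ ∈ Subgroup.zpowers z → r ∈ E) :
    ∃ s : X, s ^ 3 = 1 ∧ s ∉ R ∧ s * t = t * s := by
  have htt : t * t = 1 := by rw [← sq]; exact ht2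
  -- step (1)
  have h1 : ∀ r ∈ R, e₀ * r * e₀⁻¹ * r⁻¹ ∈ Subgroup.zpowers z →
      e₀ * (t * r * t⁻¹) * e₀⁻¹ * (t * r * t⁻¹)⁻¹ ∈ Subgroup.zpowers z := by
    intro r hr hrz
    have hr2R : e₀⁻¹ * t⁻¹ * e₀ * t ∈ R := by
      rw [← S.ker]
      simp only [map_mul, map_inv, htπ]
      rw [mul_assoc, ← p6_neg_one_comm (π e₀)]; group
    have hc1 := S.comm _ hr2R r hr
    have hy := mul_mem hc1 hrz
    have hid : e₀ * (t * r * t⁻¹) * e₀⁻¹ * (t * r * t⁻¹)⁻¹ =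
        t * (e₀ * ((e₀⁻¹ * t⁻¹ * e₀ * t) * r * (e₀⁻¹ * t⁻¹ * e₀ * t)⁻¹ * r⁻¹) *
          (r * e₀⁻¹ * r⁻¹)) * t⁻¹ := by group
    rw [hid]
    have e1 : e₀ * ((e₀⁻¹ * t⁻¹ * e₀ * t) * r * (e₀⁻¹ * t⁻¹ * e₀ * t)⁻¹ * r⁻¹) *
        (r * e₀⁻¹ * r⁻¹) = ((e₀⁻¹ * t⁻¹ * e₀ * t) * r * (e₀⁻¹ * t⁻¹ * e₀ * t)⁻¹ * r⁻¹) *
          (e₀ * r * e₀⁻¹ * r⁻¹) := by
      rw [p6_z_comm hz _ hc1 e₀]; group
    rw [e1]
    have e2 : t * (((e₀⁻¹ * t⁻¹ * e₀ * t) * r * (e₀⁻¹ * t⁻¹ * e₀ * t)⁻¹ * r⁻¹) *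
          (e₀ * r * e₀⁻¹ * r⁻¹)) * t⁻¹ = ((e₀⁻¹ * t⁻¹ * e₀ * t) * r * (e₀⁻¹ * t⁻¹ * e₀ * t)⁻¹ * r⁻¹) *
          (e₀ * r * e₀⁻¹ * r⁻¹) := by
      rw [p6_z_comm hz _ hy t]; group
    rw [e2]; exact hy
  -- step (2)
  obtain ⟨w, hwE, hwR, hwZ⟩ := hw
  have hwi : w⁻¹ ∈ R := inv_mem hwR
  have hwiE : w⁻¹ ∈ E := inv_mem hwE
  have hwi0 : e₀ * w⁻¹ * e₀⁻¹ * w⁻¹⁻¹ ∈ Subgroup.zpowers z := by
    have : e₀ * w⁻¹ * e₀⁻¹ * w⁻¹⁻¹ = 1 := by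
      rw [hEc e₀ he₀ w⁻¹ hwiE]; group
    rw [this]; exact one_mem _
  have hv : t * w⁻¹ * t⁻¹ ∈ E := hW0 _ (p6_conj_mem S t _ hwi) (h1 _ hwi hwi0)
  obtain ⟨w', hw'⟩ : ∃ w' : X, w' = w * (t * w⁻¹ * t⁻¹) := ⟨_, rfl⟩
  have hw'E : w' ∈ E := by rw [hw']; exact mul_mem hwE hv
  have hw'R : w' ∈ R := by rw [hw']; exact mul_mem hwR (p6_conj_mem S t _ hwi)
  have hw't : t * w' * t⁻¹ = w'⁻¹ := by
    rw [hw']
    have e : t * (w * (t * w⁻¹ * t⁻¹)) * t⁻¹ = t * w * t⁻¹ * (t * t) * w⁻¹ * (t * t)⁻¹ := by group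
    rw [e, htt]; group
  have hw'Z : w' ∉ Subgroup.zpowers z := by
    intro hc
    have e1 : w'⁻¹ = w' := by
      rw [← hw't, p6_z_comm hz _ hc t]; group
    have e2 : w' ^ 2 = 1 := by
      rw [sq]; nth_rewrite 1 [← e1]; exact inv_mul_cancel w'
    have e3 : w' = 1 := p6_eq_one_of_sq S _ hw'R e2
    apply hwZ
    apply htD w hwR
    have e4 : w * (t * w⁻¹ * t⁻¹) = 1 := by rw [← hw']; exact e3
    calc t * w = (w * (t * w⁻¹ * t⁻¹)) * t * w := by rw [e4, one_mul]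
      _ = w * t := by group
  -- step (3)
  have hfR : ∀ r ∈ R, e₀⁻¹ * t * (e₀ * r) * t⁻¹ ∈ R := by
    intro r hr
    rw [← S.ker] at hr ⊢
    simp only [map_mul, map_inv, htπ, hr, mul_one]
    rw [mul_assoc (π e₀)⁻¹, p6_neg_one_comm (π e₀)]; group
  have hff : ∀ r, e₀⁻¹ * t * (e₀ * (e₀⁻¹ * t * (e₀ * r) * t⁻¹)) * t⁻¹ = r := by
    intro r
    have e : e₀⁻¹ * t * (e₀ * (e₀⁻¹ * t * (e₀ * r) * t⁻¹)) * t⁻¹ =
        e₀⁻¹ * (t * t) * e₀ * r * (t * t)⁻¹ := by group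
    rw [e, htt]; group
  obtain ⟨r0, hr0R, hr0⟩ : ∃ r0 ∈ R, e₀⁻¹ * t * (e₀ * r0) * t⁻¹ = r0 := by
    classical
    let f : R → R := fun r => ⟨e₀⁻¹ * t * (e₀ * r.1) * t⁻¹, hfR r.1 r.2⟩
    have hf : Function.Involutive f := fun r => Subtype.ext (hff r.1)
    have inst : Fintype R := Fintype.ofFinite R
    have hcard : Fintype.card R = 27 := by rw [← Nat.card_eq_fintype_card]; exact S.card
    have hp : Fact (Nat.Prime 2) := ⟨Nat.prime_two⟩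
    have hσ : hf.toPerm ^ 2 ^ 1 = 1 := by
      ext r
      simp [pow_succ, hf r]
    obtain ⟨a, ha⟩ := Equiv.Perm.exists_fixed_point_of_prime (p := 2) (n := 1) (α := R)
      (by rw [hcard]; norm_num) hσ
    exact ⟨a.1, a.2, congrArg Subtype.val ha⟩
  -- step (4)
  obtain ⟨s, hs⟩ : ∃ s : X, s = e₀ * r0 := ⟨_, rfl⟩
  have hst : t * s * t⁻¹ = s := by
    calc t * s * t⁻¹ = e₀ * (e₀⁻¹ * t * (e₀ * r0) * t⁻¹) := by rw [hs]; group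
      _ = s := by rw [hr0, hs]
  have hsR : s ∉ R := by
    intro h
    apply he₀R
    have : e₀ = s * r0⁻¹ := by rw [hs]; group
    rw [this]; exact mul_mem h (inv_mem hr0R)
  have hc := S.comm r0 hr0R w' hw'R
  obtain ⟨c, hcdef⟩ : ∃ c : X, c = r0 * w' * r0⁻¹ * w'⁻¹ := ⟨_, rfl⟩
  rw [← hcdef] at hc
  have hsw : s * w' * s⁻¹ = c * w' := by
    have e1 : s * w' * s⁻¹ = e₀ * c * w' * e₀⁻¹ := by rw [hs, hcdef]; group
    rw [e1, p6_z_comm hz c hc e₀, mul_assoc c, hEc e₀ he₀ w' hw'E]; group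
  have hc2 : c ^ 2 = 1 := by
    have e1 : t * (s * w' * s⁻¹) * t⁻¹ = (t * s * t⁻¹) * (t * w' * t⁻¹) * (t * s * t⁻¹)⁻¹ := by
      group
    rw [hst, hw't, hsw] at e1
    have e2 : s * w'⁻¹ * s⁻¹ = (s * w' * s⁻¹)⁻¹ := by group
    rw [e2, hsw] at e1
    have e3 : t * (c * w') * t⁻¹ = c * w'⁻¹ := by
      rw [← mul_assoc, p6_z_comm hz c hc t, mul_assoc c, mul_assoc c, hw't]
    rw [e3] at e1
    have e4 : c = c⁻¹ := by
      have : c * w'⁻¹ = c⁻¹ * w'⁻¹ := by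
        rw [e1, mul_inv_rev]
        exact p6_z_comm hz c⁻¹ (inv_mem hc) w'⁻¹
      exact mul_right_cancel this
    rw [sq]; nth_rewrite 1 [e4]; exact inv_mul_cancel c
  have hc1 : c = 1 := p6_eq_one_of_sq S c (p6_z_mem S c hc) hc2
  have hcomm : r0 * w' = w' * r0 := by
    have : r0 * w' = c * (w' * r0) := by rw [hcdef]; group
    rw [this, hc1, one_mul]
  have hr0E : r0 ∈ E := hCw w' hw'E hw'R hw'Z r0 hr0R hcomm
  have hsE : s ∈ E := by rw [hs]; exact mul_mem he₀ hr0E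
  refine ⟨s, hE3 s hsE, hsR, ?_⟩
  calc s * t = (t * s * t⁻¹) * t := by rw [hst]
    _ = t * s := by group

end Cfsg.Agent.Lib.helper61.S3366
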