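import Mathlib
import Cfsg.Agent.Lib.helper92.S3664Defs

/-! Piece ACT of the S3664 split (helper92): `act` is an action of `G` on `A`. -/

set_option autoImplicit false

namespace Cfsg.Agent.Lib.helper61.S3664

open Cfsg.Agent.Lib.helper92.S3664 Cfsg.Agent.Lib.helper17 Cfsg.Agent.Lib.helper8

theorem h61_frK_one_zero : ∀ i : ZMod 3, frK i (0 : K) = 0 := by decide

theorem h61_frK_one_one : ∀ i : ZMod 3, frK i (1 : K) = 1 := by decide

theorem h61_K_add_self : ∀ x : K, x + x = 0 := by decide

theorem h61_map_mul (i : ZMod 3) (M N : A) :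
    (M * N).map (frK i) = M.map (frK i) * N.map (frK i) :=
  Matrix.map_mul (f := (frEquiv i : K →+* K)) (L := M) (M := N)

theorem h61_map_map (i j : ZMod 3) (M : A) :
    (M.map (frK j)).map (frK i) = M.map (frK (i + j)) := by
  ext a b
  simp only [Matrix.map_apply]
  rw [frK_add]

theorem act_one (a : A) : act 1 a = a := by
  unfold act
  have h1 : ((1 : G).left.1.1 : Matrix (Fin 4) (Fin 4) K) = 1 := rfl
  have h2 : Multiplicative.toAdd (1 : G).right = 0 := rfl
  rw [h1, h2]
  have h3 : a.map (frK 0) = a := by
    ext i j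
    simp only [Matrix.map_apply]
    rw [frK_zero]
  have h4 : ((1 : Matrix (Fin 4) (Fin 4) K).map (frK 1)) = 1 :=
    Matrix.map_one _ (h61_frK_one_zero 1) (h61_frK_one_one 1)
  rw [h3, h4, Matrix.transpose_one, one_mul, mul_one]

theorem h61_act_mul_core (Ng Nh a : A) (i j : ZMod 3) :
    Ng * Nh.map (frK i) * a.map (frK (i + j)) * ((Ng * Nh.map (frK i)).map (frK 1)).transpose =
      Ng * (Nh * a.map (frK j) * (Nh.map (frK 1)).transpose).map (frK i) *
        (Ng.map (frK 1)).transpose := by
  have key : ((Nh.map (frK 1)).transpose).map (frK i) =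
      ((Nh.map (frK i)).map (frK 1)).transpose := by
    ext x y
    simp only [Matrix.map_apply, Matrix.transpose_apply]
    rw [← frK_add, ← frK_add, add_comm]
  rw [h61_map_mul 1 Ng (Nh.map (frK i)), Matrix.transpose_mul,
    h61_map_mul i (Nh * a.map (frK j)) ((Nh.map (frK 1)).transpose),
    h61_map_mul i Nh (a.map (frK j)), h61_map_map i j a, key]
  simp only [Matrix.mul_assoc]

theorem act_mul (g h : G) (a : A) : act (g * h) a = act g (act h a) := by
  have h1 : ((g * h).left.1.1 : Matrix (Fin 4) (Fin 4) K) =
      (g.left.1.1 : Matrix (Fin 4) (Fin 4) K) *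
        (h.left.1.1 : Matrix (Fin 4) (Fin 4) K).map (frK (Multiplicative.toAdd g.right)) := by
    rw [SemidirectProduct.mul_left]
    show matS (g.left * psi g.right h.left) = _
    rw [matS_mul]
    exact congrArg (fun X => (g.left.1.1 : Matrix (Fin 4) (Fin 4) K) * X) (psi_mat g.right h.left)
  have h2 : Multiplicative.toAdd (g * h).right =
      Multiplicative.toAdd g.right + Multiplicative.toAdd h.right := by
    rw [SemidirectProduct.mul_right]
    rfl
  unfold act
  rw [h1, h2]
  exact h61_act_mul_core _ _ _ _ _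

theorem act_add (g : G) (a b : A) : act g (a + b) = act g a + act g b := by
  unfold act
  have h1 : (a + b).map (frK (Multiplicative.toAdd g.right)) =
      a.map (frK (Multiplicative.toAdd g.right)) + b.map (frK (Multiplicative.toAdd g.right)) := by
    ext i j
    simp only [Matrix.map_apply, Matrix.add_apply]
    rw [frK_map_add]
  rw [h1, mul_add, add_mul]

theorem two_smul_A (a : A) : 2 • a = 0 := by
  ext i j
  rw [two_smul]
  simp only [Matrix.add_apply, Matrix.zero_apply]
  exact h61_K_add_self _

end Cfsg.Agent.Lib.helper61.S3664
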