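import Mathlib
import Cfsg.Agent.Lib.helper92.S3664Defs
import Cfsg.Agent.S0324

/-! Piece CARD of the S3664 split (helper92). -/

set_option autoImplicit false

namespace Cfsg.Agent.Lib.helper61.S3664

open Cfsg.Agent.Lib.helper92.S3664 Cfsg.Agent.Lib.helper17 Cfsg.Agent.Lib.helper8

theorem card_S : Nat.card S = 29120 := by
  have h := Cfsg.Agent.S0324.result (F := K) (m := 1) le_rfl hK
  rw [h]
  norm_num

theorem card_G : Nat.card G = 87360 := by
  rw [SemidirectProduct.card, card_S]
  have h3 : Nat.card (Multiplicative (ZMod 3)) = 3 := by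
    rw [Nat.card_eq_fintype_card]
    rfl
  rw [h3]

end Cfsg.Agent.Lib.helper61.S3664
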