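import Mathlib
import Cfsg.Agent.Lib.helper68.HallPet
import Cfsg.Agent.Lib.helper12.MCBase

/-! Piece A of the S3806 split (helper12). -/

set_option autoImplicit false

namespace Cfsg.Agent.Lib.helper12.MC

open Subgroup
open scoped commutatorElement

/-- A: `γ_k(T)` is abelian when `γ_{2k+1}(T) = 1` and `|γ_k : γ_{k+1}| = p`. -/
theorem lcs_comm_of_index (p : ℕ) [Fact p.Prime] {T : Type*} [Group T] [Finite T] (k : ℕ) (hk : 2 ≤ k)
    (hidx : ∀ i, 1 ≤ i → i ≤ 2 * k → ((⊤ : Subgroup T).lowerCentralSeries i).index = p ^ (i + 1))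
    (hbot : (⊤ : Subgroup T).lowerCentralSeries (2 * k) = ⊥) :
    ∀ x ∈ (⊤ : Subgroup T).lowerCentralSeries (k - 1),
      ∀ y ∈ (⊤ : Subgroup T).lowerCentralSeries (k - 1), x * y = y * x := by
  have hp : p.Prime := Fact.out
  have hiA := hidx (k - 1) (by omega) (by omega)
  have hiB := hidx k (by omega) (by omega)
  obtain ⟨A, hA⟩ : ∃ A : Subgroup T, A = (⊤ : Subgroup T).lowerCentralSeries (k - 1) := ⟨_, rfl⟩
  obtain ⟨B, hB⟩ : ∃ B : Subgroup T, B = (⊤ : Subgroup T).lowerCentralSeries k := ⟨_, rfl⟩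
  rw [← hA] at hiA ⊢
  rw [← hB] at hiB
  have hBA : B ≤ A := by
    rw [hA, hB]
    exact Subgroup.lowerCentralSeries_antitone _ (Nat.sub_le k 1)
  -- `B` centralizes `A`
  have hcent : ∀ a ∈ A, ∀ b ∈ B, a * b = b * a := by
    intro a ha b hb
    have h1 : ⁅a, b⁆ ∈ ⁅A, B⁆ := Subgroup.commutator_mem_commutator ha hb
    rw [hA, hB] at h1
    have h2 := Cfsg.Agent.Lib.helper68.lcs_comm_le (H := T) k (k - 1) h1
    have e : k - 1 + k + 1 = 2 * k := by omega
    rw [e, hbot, Subgroup.mem_bot, commutatorElement_eq_one_iff_mul_comm] at h2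
    exact h2
  have hrel : B.relIndex A = p := by
    have h1 := Subgroup.relIndex_mul_index hBA
    rw [hiA, hiB] at h1
    have e : k - 1 + 1 = k := by omega
    rw [e, pow_succ] at h1
    have hpk : 0 < p ^ k := pow_pos hp.pos k
    have h2 : B.relIndex A * p ^ k = p * p ^ k := by rw [h1, mul_comm]
    exact Nat.eq_of_mul_eq_mul_right hpk h2
  intro x hx y hy
  by_cases hxB : x ∈ B
  · exact (hcent y hy x hxB).symm
  · have hM : A ⊓ Subgroup.centralizer {x} = B ∨ A ⊓ Subgroup.centralizer {x} = A := by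
      refine eq_or_eq_of_relIndex_prime hp ?_ inf_le_left hrel
      intro b hb
      refine Subgroup.mem_inf.mpr ⟨hBA hb, Subgroup.mem_centralizer_iff.mpr ?_⟩
      intro z hz
      rw [Set.mem_singleton_iff] at hz
      subst hz
      exact hcent z hx b hb
    have hxM : x ∈ A ⊓ Subgroup.centralizer {x} := by
      refine Subgroup.mem_inf.mpr ⟨hx, Subgroup.mem_centralizer_iff.mpr ?_⟩
      intro z hz
      rw [Set.mem_singleton_iff] at hz
      subst hz
      rfl
    rcases hM with hM | hM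
    · rw [hM] at hxM
      exact absurd hxM hxB
    · have hyM : y ∈ A ⊓ Subgroup.centralizer {x} := by rw [hM]; exact hy
      exact Subgroup.mem_centralizer_iff.mp (Subgroup.mem_inf.mp hyM).2 x rfl

end Cfsg.Agent.Lib.helper12.MC
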