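import Mathlib
import Cfsg.Agent.Lib.helper15.MaxClass

/-! Piece B4 of the S3806 split (helper12). -/

set_option autoImplicit false

namespace Cfsg.Agent.Lib.helper12.MC

open Subgroup
open scoped commutatorElement

/-- B4: `p`-th powers lie in the derived subgroup when it has index `p^2` in a group of order `≥ p^3`. -/
theorem pow_mem_lcs_one (p : ℕ) [Fact p.Prime] {T : Type*} [Group T] [Finite T] (m : ℕ) (hm : 3 ≤ m)
    (hT : Nat.card T = p ^ m) (hidx : ((⊤ : Subgroup T).lowerCentralSeries 1).index = p ^ 2) (x : T) :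
    x ^ p ∈ (⊤ : Subgroup T).lowerCentralSeries 1 := by
  have hp : p.Prime := Fact.out
  have h1 : (⊤ : Subgroup T).lowerCentralSeries 1 = commutator T := rfl
  rw [h1] at hidx ⊢
  have : Group.IsNilpotent T := (IsPGroup.of_card hT).isNilpotent
  have hQ : Nat.card (T ⧸ commutator T) = p ^ 2 := by
    rw [← Subgroup.index_eq_card]; exact hidx
  have hnc : ¬ IsCyclic (T ⧸ commutator T) := by
    intro hc
    have hbot := Cfsg.Agent.Lib.helper15.MaxClass.commutator_eq_bot_of_isCyclic hc
    rw [hbot, Subgroup.index_bot, hT] at hidx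
    have := Nat.pow_right_injective hp.two_le hidx
    omega
  rw [← QuotientGroup.eq_one_iff, QuotientGroup.mk_pow]
  obtain ⟨q, hq⟩ : ∃ q : T ⧸ commutator T, q = (x : T ⧸ commutator T) := ⟨_, rfl⟩
  rw [← hq]
  have hord : orderOf q ∣ p ^ 2 := by rw [← hQ]; exact orderOf_dvd_natCard q
  obtain ⟨j, hj, hjo⟩ := (Nat.dvd_prime_pow hp).mp hord
  have hj2 : j ≠ 2 := by
    rintro rfl
    apply hnc
    exact isCyclic_of_orderOf_eq_card q (by rw [hjo, hQ])
  have hdvd : orderOf q ∣ p := by
    rw [hjo]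
    interval_cases j
    · simp
    · simp
    · exact absurd rfl hj2
  exact orderOf_dvd_iff_pow_eq_one.mp hdvd

end Cfsg.Agent.Lib.helper12.MC
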