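/-
S4025 piece project (owner helper62), PIECE P1: the number of 2-dimensional subspaces of a finite
vector space over `ZMod p`.
-/
import Mathlib
import Cfsg.Prelude.Def_Perm
import Cfsg.Prelude.Def_Solvable

set_option autoImplicit false

namespace Cfsg.Agent.Lib.helper61.S4025

/-- the complement of a line -/
theorem card_not_mem_span {p : ℕ} [Fact p.Prime] (U : Type*) [AddCommGroup U]
    [Module (ZMod p) U] [Finite U] (v : U) (hv : v ≠ 0) :
    Nat.card {w : U // w ∉ Submodule.span (ZMod p) {v}} = Nat.card U - p := by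
  classical
  have hS : Nat.card {w : U // w ∈ Submodule.span (ZMod p) {v}} = p := by
    rw [← Nat.card_congr (LinearEquiv.toSpanNonzeroSingleton (ZMod p) U v hv).toEquiv,
      Nat.card_zmod]
  have h := Nat.card_congr (Equiv.sumCompl (fun w : U => w ∈ Submodule.span (ZMod p) {v}))
  rw [Nat.card_sum] at h
  omega

/-- the nonzero vectors -/
theorem card_ne_zero' (U : Type*) [AddCommGroup U] [Finite U] :
    Nat.card {v : U // v ≠ 0} = Nat.card U - 1 := by
  classical
  have hS : Nat.card {w : U // w = 0} = 1 := by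
    rw [Nat.card_eq_one_iff_unique]
    exact ⟨⟨fun a b => Subtype.ext (a.2.trans b.2.symm)⟩, ⟨⟨0, rfl⟩⟩⟩
  have h : Nat.card {w : U // w = 0} + Nat.card {w : U // w ≠ 0} = Nat.card U := by
    rw [← Nat.card_sum]
    exact Nat.card_congr (Equiv.sumCompl (fun w : U => w = 0))
  omega

/-- the number of ordered linearly independent pairs of a finite vector space -/
theorem card_indep_pairs {p : ℕ} [Fact p.Prime] (U : Type*) [AddCommGroup U]
    [Module (ZMod p) U] [Finite U] :
    Nat.card {x : U × U // LinearIndependent (ZMod p) ![x.1, x.2]} =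
      (Nat.card U - 1) * (Nat.card U - p) := by
  classical
  have key : ∀ v w : U, LinearIndependent (ZMod p) ![v, w] ↔
      v ≠ 0 ∧ w ∉ Submodule.span (ZMod p) {v} := by
    intro v w
    constructor
    · intro h
      have hv : v ≠ 0 := h.ne_zero 0
      refine ⟨hv, ?_⟩
      rw [LinearIndependent.pair_iff' hv] at h
      rw [Submodule.mem_span_singleton]
      rintro ⟨a, ha⟩
      exact h a ha
    · rintro ⟨hv, hw⟩
      rw [LinearIndependent.pair_iff' hv]
      intro a ha
      exact hw (Submodule.mem_span_singleton.mpr ⟨a, ha⟩)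
  let e : {x : U × U // LinearIndependent (ZMod p) ![x.1, x.2]} ≃
      Σ v : {v : U // v ≠ 0}, {w : U // w ∉ Submodule.span (ZMod p) {v.1}} :=
    { toFun := fun x => ⟨⟨x.1.1, ((key _ _).mp x.2).1⟩, ⟨x.1.2, ((key _ _).mp x.2).2⟩⟩
      invFun := fun s => ⟨(s.1.1, s.2.1), (key _ _).mpr ⟨s.1.2, s.2.2⟩⟩
      left_inv := fun x => rfl
      right_inv := fun s => rfl }
  have _ : Fintype {v : U // v ≠ 0} := Fintype.ofFinite _
  rw [Nat.card_congr e, Nat.card_sigma]
  rw [Finset.sum_congr rfl (fun v _ => card_not_mem_span U v.1 v.2)]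
  rw [Finset.sum_const, Finset.card_univ, smul_eq_mul, ← Nat.card_eq_fintype_card,
    card_ne_zero']

/-- P1: the number of 2-dimensional subspaces. -/
theorem card_planes_mul {p : ℕ} [Fact p.Prime] {V : Type*} [AddCommGroup V] [Module (ZMod p) V]
    [Finite V] :
    Nat.card {W : Submodule (ZMod p) V // Module.finrank (ZMod p) W = 2} *
        ((p ^ 2 - 1) * (p ^ 2 - p)) =
      (p ^ Module.finrank (ZMod p) V - 1) * (p ^ Module.finrank (ZMod p) V - p) := by
  classical
  have hfin2 : ∀ x : {x : V × V // LinearIndependent (ZMod p) ![x.1, x.2]},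
      Module.finrank (ZMod p) (Submodule.span (ZMod p) (Set.range ![x.1.1, x.1.2])) = 2 := by
    intro x
    rw [finrank_span_eq_card x.2]
    simp
  let f : {x : V × V // LinearIndependent (ZMod p) ![x.1, x.2]} →
      {W : Submodule (ZMod p) V // Module.finrank (ZMod p) W = 2} :=
    fun x => ⟨Submodule.span (ZMod p) (Set.range ![x.1.1, x.1.2]), hfin2 x⟩
  have hfib : ∀ W : {W : Submodule (ZMod p) V // Module.finrank (ZMod p) W = 2},
      Nat.card {x // f x = W} = (p ^ 2 - 1) * (p ^ 2 - p) := by
    intro W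
    have hWcard : Nat.card W.1 = p ^ 2 := by
      rw [← FiniteField.pow_finrank_eq_natCard p W.1, W.2]
    rw [← hWcard, ← card_indep_pairs (p := p) W.1]
    have hsub : ∀ x : {x // f x = W}, x.1.1.1 ∈ W.1 ∧ x.1.1.2 ∈ W.1 := by
      intro x
      have h := congrArg Subtype.val x.2
      have h1 : x.1.1.1 ∈ Submodule.span (ZMod p) (Set.range ![x.1.1.1, x.1.1.2]) :=
        Submodule.subset_span ⟨0, rfl⟩
      have h2 : x.1.1.2 ∈ Submodule.span (ZMod p) (Set.range ![x.1.1.1, x.1.1.2]) :=
        Submodule.subset_span ⟨1, rfl⟩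
      exact ⟨h ▸ h1, h ▸ h2⟩
    have hcomp : ∀ y1 y2 : W.1, (W.1.subtype ∘ ![y1, y2]) = ![(y1 : V), (y2 : V)] := by
      intro y1 y2
      funext i
      fin_cases i <;> rfl
    refine Nat.card_congr
      { toFun := fun x => ⟨(⟨x.1.1.1, (hsub x).1⟩, ⟨x.1.1.2, (hsub x).2⟩), ?_⟩
        invFun := fun y => ⟨⟨((y.1.1 : V), (y.1.2 : V)), ?_⟩, ?_⟩
        left_inv := fun x => rfl
        right_inv := fun y => rfl }
    · apply LinearIndependent.of_comp W.1.subtype
      rw [hcomp]
      exact x.1.2
    · have := LinearIndependent.map' y.2 W.1.subtype (Submodule.ker_subtype _)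
      rw [hcomp] at this
      exact this
    · apply Subtype.ext
      have hli : LinearIndependent (ZMod p) ![(y.1.1 : V), (y.1.2 : V)] := by
        have := LinearIndependent.map' y.2 W.1.subtype (Submodule.ker_subtype _)
        rw [hcomp] at this
        exact this
      have hle : Submodule.span (ZMod p) (Set.range ![(y.1.1 : V), (y.1.2 : V)]) ≤ W.1 := by
        rw [Submodule.span_le]
        rintro _ ⟨i, rfl⟩
        fin_cases i
        · exact y.1.1.2
        · exact y.1.2.2
      apply Submodule.eq_of_le_of_finrank_eq hle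
      rw [finrank_span_eq_card hli, W.2]
      simp
  have h1 := Nat.card_congr (Equiv.sigmaFiberEquiv f)
  have _ : Fintype {W : Submodule (ZMod p) V // Module.finrank (ZMod p) W = 2} :=
    Fintype.ofFinite _
  rw [Nat.card_sigma, Finset.sum_congr rfl (fun W _ => hfib W), Finset.sum_const,
    Finset.card_univ, smul_eq_mul, ← Nat.card_eq_fintype_card, card_indep_pairs] at h1
  rw [h1, FiniteField.pow_finrank_eq_natCard p V]

end Cfsg.Agent.Lib.helper61.S4025
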