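/-
S4025 piece project (owner helper62), PIECE P6: the p'-core of a group with a normal abelian
Sylow p-subgroup.
-/
import Mathlib
import Cfsg.Prelude.Def_Perm
import Cfsg.Prelude.Def_Solvable
import Cfsg.Agent.Lib.helper40.Cores

set_option autoImplicit false

namespace Cfsg.Agent.Lib.helper61.S4025

/-- P6: the p'-core of a group with a normal abelian Sylow p-subgroup. -/
theorem pPrimeCore_facts {X : Type*} [Group X] [Finite X] {p : ℕ} [Fact p.Prime]
    (P : Subgroup X) [P.Normal] (hP : IsPGroup p P) (hab : ∀ x ∈ P, ∀ y ∈ P, x * y = y * x)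
    (hidx : ¬ p ∣ P.index) :
    (Cfsg.pPrimeCore p X).Normal ∧ (Nat.card (Cfsg.pPrimeCore p X)).Coprime p ∧
    Subgroup.centralizer (P : Set X) = P ⊔ Cfsg.pPrimeCore p X ∧
    P ⊓ Cfsg.pPrimeCore p X = ⊥ := by
  have hp : p.Prime := Fact.out
  have hPn : P.Normal := inferInstance
  have hKn := Cfsg.Agent.Lib.helper40.pPrimeCore_normal' p X
  have hKc := Cfsg.Agent.Lib.helper40.pPrimeCore_card_coprime p X
  obtain ⟨a, ha⟩ := IsPGroup.iff_card.mp hP
  have hPK : P ⊓ Cfsg.pPrimeCore p X = ⊥ := by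
    apply disjoint_iff.mp
    apply Subgroup.disjoint_of_coprime_natCard
    rw [ha]
    exact Nat.Coprime.pow_left a (Nat.Coprime.symm hKc)
  have hCn : (Subgroup.centralizer (P : Set X)).Normal := inferInstance
  have hPC : P ≤ Subgroup.centralizer (P : Set X) := by
    intro x hx
    rw [Subgroup.mem_centralizer_iff]
    intro y hy
    exact hab y hy x hx
  obtain ⟨C, hC⟩ : ∃ C : Subgroup X, C = Subgroup.centralizer (P : Set X) := ⟨_, rfl⟩
  rw [← hC] at hCn hPC
  have hCcomm : ∀ c ∈ C, ∀ n ∈ P, n * c = c * n := by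
    intro c hc n hn
    rw [hC] at hc
    exact (Subgroup.mem_centralizer_iff.mp hc) n hn
  rw [← hC]
  have hidxN : (P.subgroupOf C).index ∣ P.index := Subgroup.relIndex_dvd_index_of_normal P C
  have hcardN : Nat.card (P.subgroupOf C) = p ^ a := by
    rw [← ha]
    exact Nat.card_congr (Subgroup.subgroupOfEquivOfLe hPC).toEquiv
  have hndvd : ¬ p ∣ (P.subgroupOf C).index := fun h => hidx (h.trans hidxN)
  have hcop : (Nat.card (P.subgroupOf C)).Coprime (P.subgroupOf C).index := by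
    rw [hcardN]
    apply Nat.Coprime.pow_left
    exact (Nat.Prime.coprime_iff_not_dvd hp).mpr hndvd
  obtain ⟨H, hH⟩ := Subgroup.exists_right_complement'_of_coprime hcop
  obtain ⟨K2, hK2⟩ : ∃ K2 : Subgroup X, K2 = H.map C.subtype := ⟨_, rfl⟩
  have hK2C : K2 ≤ C := by
    rw [hK2]
    rintro _ ⟨h, -, rfl⟩
    exact h.2
  have hK2card : Nat.card K2 = (P.subgroupOf C).index := by
    have h1 : Nat.card K2 = Nat.card H := by
      rw [hK2]
      exact Subgroup.card_map_of_injective C.subtype_injective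
    have h2 := hH.card_mul_card
    have h3 := (P.subgroupOf C).card_mul_index
    have hpos : 0 < Nat.card (P.subgroupOf C) := Nat.card_pos
    rw [h1]
    exact Nat.eq_of_mul_eq_mul_left hpos (h2.trans h3.symm)
  have hK2cop : (Nat.card K2).Coprime p := by
    rw [hK2card, Nat.coprime_comm]
    exact (Nat.Prime.coprime_iff_not_dvd hp).mpr hndvd
  have hdec : ∀ c ∈ C, ∃ n ∈ P, ∃ k ∈ K2, c = n * k := by
    intro c hc
    have htop : (⟨c, hc⟩ : C) ∈ P.subgroupOf C ⊔ H := by
      rw [hH.sup_eq_top]; trivial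
    obtain ⟨n, hn, h, hh, hnh⟩ := Subgroup.mem_sup_of_normal_left.mp htop
    refine ⟨n.1, Subgroup.mem_subgroupOf.mp hn, h.1, ?_, ?_⟩
    · rw [hK2]; exact ⟨h, hh, rfl⟩
    · have := congrArg Subtype.val hnh
      simpa using this.symm
  have hpowK2 : ∀ k ∈ K2, k ^ Nat.card K2 = 1 := by
    intro k hk
    have h1 : (⟨k, hk⟩ : K2) ^ Nat.card K2 = 1 := pow_card_eq_one'
    have h2 := congrArg Subtype.val h1
    simpa only [Subgroup.coe_pow, Subgroup.coe_one] using h2
  have hK2n : K2.Normal := by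
    constructor
    intro k hk g
    have hkC := hK2C hk
    have hgk : g * k * g⁻¹ ∈ C := hCn.conj_mem k hkC g
    obtain ⟨n, hn, k', hk', e⟩ := hdec _ hgk
    have hcomm : Commute n k' := hCcomm k' (hK2C hk') n hn
    have h1 : (g * k * g⁻¹) ^ Nat.card K2 = 1 := by
      rw [conj_pow, hpowK2 k hk]; group
    rw [e, hcomm.mul_pow, hpowK2 k' hk', mul_one] at h1
    have hn1 : n = 1 := by
      obtain ⟨j, hj⟩ := hP ⟨n, hn⟩
      have hj' : n ^ p ^ j = 1 := by
        have := congrArg Subtype.val hj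
        simpa using this
      apply Cfsg.Agent.Lib.helper40.eq_one_of_pow_eq_one_of_coprime hj'
      exact Nat.Coprime.coprime_dvd_left (orderOf_dvd_of_pow_eq_one h1) hK2cop
    rw [e, hn1, one_mul]
    exact hk'
  have hK2le : K2 ≤ Cfsg.pPrimeCore p X :=
    Cfsg.Agent.Lib.helper40.le_pPrimeCore K2 hK2n hK2cop
  refine ⟨hKn, hKc, le_antisymm ?_ ?_, hPK⟩
  · intro c hc
    obtain ⟨n, hn, k, hk, e⟩ := hdec c hc
    rw [e]
    exact Subgroup.mul_mem_sup hn (hK2le hk)
  · apply sup_le hPC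
    intro k hk'
    have hk : k ∈ Cfsg.pPrimeCore p X := hk'
    rw [hC, Subgroup.mem_centralizer_iff]
    intro y hy'
    have hy : y ∈ P := hy'
    have h1 : k * y * k⁻¹ * y⁻¹ ∈ P ⊓ Cfsg.pPrimeCore p X := by
      refine Subgroup.mem_inf.mpr ⟨P.mul_mem (hPn.conj_mem y hy k) (P.inv_mem hy), ?_⟩
      have e : k * y * k⁻¹ * y⁻¹ = k * (y * k⁻¹ * y⁻¹) := by group
      rw [e]
      exact Subgroup.mul_mem _ hk (hKn.conj_mem k⁻¹ (Subgroup.inv_mem _ hk) y)
    rw [hPK, Subgroup.mem_bot] at h1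
    calc y * k = (k * y * k⁻¹ * y⁻¹)⁻¹ * (k * y) := by group
      _ = k * y := by rw [h1]; simp

end Cfsg.Agent.Lib.helper61.S4025
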