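import Mathlib

/-!
# S4484 piece NT1 (helper61): an algebraic integer `F(ζ)` of `ℚ(ζ_N)` all of whose conjugates are
small (product of the bounds over the residues mod `p` is `< 1`) vanishes.
-/

set_option autoImplicit false

namespace Cfsg.Agent.Lib.helper61.S4484

private theorem nt1_map_aeval {A B : Type} [CommRing A] [CommRing B] (g : A →+* B) (x : A)
    (F : Polynomial ℤ) : g (Polynomial.aeval x F) = Polynomial.aeval (g x) F := by
  rw [Polynomial.aeval_def, Polynomial.aeval_def, Polynomial.hom_eval₂]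
  congr 1
  exact RingHom.ext_int _ _

private theorem nt1_units_prod (p : ℕ) [Fact p.Prime] (R : ℕ → ℝ) :
    ∏ v : (ZMod p)ˣ, R ((v : ZMod p).val) = ∏ t ∈ Finset.Ico 1 p, R t := by
  have hp : p.Prime := Fact.out
  refine Finset.prod_bij' (fun v _ => ((v : (ZMod p)ˣ) : ZMod p).val)
    (fun t ht => Units.mk0 ((t : ℕ) : ZMod p) ?_) ?_ ?_ ?_ ?_ ?_
  · rw [Finset.mem_Ico] at ht
    rw [Ne, ZMod.natCast_eq_zero_iff]
    exact Nat.not_dvd_of_pos_of_lt (by omega) ht.2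
  · intro v _
    rw [Finset.mem_Ico]
    refine ⟨?_, ZMod.val_lt _⟩
    have : ((v : (ZMod p)ˣ) : ZMod p).val ≠ 0 := by
      rw [Ne, ZMod.val_eq_zero]
      exact v.ne_zero
    omega
  · intro t _
    exact Finset.mem_univ _
  · intro v _
    apply Units.ext
    simp
  · intro t ht
    rw [Finset.mem_Ico] at ht
    simp only [Units.val_mk0]
    exact ZMod.val_natCast_of_lt ht.2
  · intro v _
    rfl

private theorem nt1_fiber_prod (N p : ℕ) [NeZero N] [Fact p.Prime] (hpN : p ∣ N) (R : ℕ → ℝ) :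
    ∃ c : ℕ, 1 ≤ c ∧ ∏ u : (ZMod N)ˣ, R (((u : (ZMod N)ˣ) : ZMod N).val % p)
      = (∏ t ∈ Finset.Ico 1 p, R t) ^ c := by
  classical
  set f : (ZMod N)ˣ →* (ZMod p)ˣ := ZMod.unitsMap hpN with hf
  have hsurj : Function.Surjective f := ZMod.unitsMap_surjective hpN
  have hval : ∀ u : (ZMod N)ˣ, ((f u : (ZMod p)ˣ) : ZMod p).val
      = ((u : (ZMod N)ˣ) : ZMod N).val % p := by
    intro u
    have : ((f u : (ZMod p)ˣ) : ZMod p) = (((u : (ZMod N)ˣ) : ZMod N).val : ZMod p) := by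
      rw [hf, ZMod.unitsMap_def, Units.coe_map]
      simp [ZMod.natCast_val]
    rw [this, ZMod.val_natCast]
  refine ⟨(Finset.univ.filter fun u : (ZMod N)ˣ => f u = 1).card, ?_, ?_⟩
  · exact Finset.card_pos.mpr ⟨1, by simp⟩
  · have h1 : ∏ u : (ZMod N)ˣ, R (((u : (ZMod N)ˣ) : ZMod N).val % p)
        = ∏ u : (ZMod N)ˣ, (fun v : (ZMod p)ˣ => R ((v : ZMod p).val)) (f u) := by
      refine Finset.prod_congr rfl fun u _ => ?_
      simp only [hval]
    rw [h1, Finset.prod_comp (fun v : (ZMod p)ˣ => R ((v : ZMod p).val)) (fun u => f u),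
      Finset.image_univ_of_surjective hsurj, ← nt1_units_prod, ← Finset.prod_pow]
    refine Finset.prod_congr rfl fun v _ => ?_
    congr 1
    exact MonoidHom.card_fiber_eq_of_mem_range f (hsurj v) (hsurj 1)

private theorem nt1_core (N p : ℕ) (hp : p.Prime) (hpN : p ∣ N) (hN : 0 < N) (ζ : ℂ)
    (hζ : IsPrimitiveRoot ζ N) (F : Polynomial ℤ) (R : ℕ → ℝ) (hR0 : ∀ t, 0 ≤ R t)
    (hR : ∀ s : ℕ, s.Coprime N → ‖Polynomial.aeval (ζ ^ s) F‖ ≤ R (s % p))
    (hprod : ∏ t ∈ Finset.Ico 1 p, R t < 1)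
    (L : Type) [Field L] [Algebra ℚ L] [IsCyclotomicExtension {N} ℚ L] :
    Polynomial.aeval ζ F = 0 := by
  have : NeZero N := ⟨hN.ne'⟩
  have : Fact p.Prime := ⟨hp⟩
  have hirr : Irreducible (Polynomial.cyclotomic N ℚ) := Polynomial.cyclotomic.irreducible_rat hN
  have : IsGalois ℚ L := IsCyclotomicExtension.isGalois {N} ℚ L
  have : FiniteDimensional ℚ L := IsCyclotomicExtension.finiteDimensional {N} ℚ L
  have hζL : IsPrimitiveRoot (IsCyclotomicExtension.zeta N ℚ L) N :=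
    IsCyclotomicExtension.zeta_spec N ℚ L
  set ζL : L := IsCyclotomicExtension.zeta N ℚ L with hζLdef
  -- the embedding sending `ζL` to `ζ`
  obtain ⟨φ, hφ⟩ : ∃ φ : L →ₐ[ℚ] ℂ, φ ζL = ζ := by
    refine ⟨(hζL.embeddingsEquivPrimitiveRoots ℂ hirr).symm
      ⟨ζ, (mem_primitiveRoots hN).2 hζ⟩, ?_⟩
    have h := hζL.embeddingsEquivPrimitiveRoots_apply_coe ℂ hirr
      ((hζL.embeddingsEquivPrimitiveRoots ℂ hirr).symm ⟨ζ, (mem_primitiveRoots hN).2 hζ⟩)
    rw [Equiv.apply_symm_apply] at h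
    exact h.symm
  set α : L := Polynomial.aeval ζL F with hα
  have hint : IsIntegral ℤ α := by
    have hz : IsIntegral ℤ ζL := hζL.isIntegral hN
    exact adjoin_le_integralClosure hz (Polynomial.aeval_mem_adjoin_singleton ℤ ζL)
  have hnorm_int : IsIntegral ℤ (Algebra.norm ℚ α) := Algebra.isIntegral_norm ℚ hint
  obtain ⟨n, hn⟩ : ∃ n : ℤ, (n : ℚ) = Algebra.norm ℚ α := by
    obtain ⟨y, hy⟩ := IsIntegrallyClosed.isIntegral_iff.mp hnorm_int
    exact ⟨y, by simpa using hy⟩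
  have hpf : algebraMap ℚ L (Algebra.norm ℚ α) = ∏ σ : L ≃ₐ[ℚ] L, σ α :=
    Algebra.norm_eq_prod_automorphisms ℚ α
  have h1 : ((n : ℤ) : ℂ) = ∏ σ : L ≃ₐ[ℚ] L,
      Polynomial.aeval (ζ ^ (((IsCyclotomicExtension.autEquivPow L hirr σ
        : (ZMod N)ˣ) : ZMod N).val)) F := by
    have h := congrArg φ hpf
    rw [AlgHom.commutes, map_prod, ← hn] at h
    have e : algebraMap ℚ ℂ ((n : ℤ) : ℚ) = ((n : ℤ) : ℂ) := by simp
    rw [e] at h
    rw [h]
    refine Finset.prod_congr rfl fun σ _ => ?_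
    have hσ : σ α = Polynomial.aeval (σ ζL) F :=
      nt1_map_aeval (σ : L ≃ₐ[ℚ] L).toAlgHom.toRingHom ζL F
    have hspec := IsPrimitiveRoot.autToPow_spec ℚ hζL σ
    have hφ2 : φ (σ α) = Polynomial.aeval (φ (σ ζL)) F := by
      rw [hσ]
      exact nt1_map_aeval φ.toRingHom (σ ζL) F
    rw [hφ2, ← hspec, map_pow, hφ]
    rfl
  have h2 : ((n : ℤ) : ℂ) = ∏ u : (ZMod N)ˣ,
      Polynomial.aeval (ζ ^ (((u : (ZMod N)ˣ) : ZMod N).val)) F := by
    rw [h1]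
    exact Fintype.prod_equiv (IsCyclotomicExtension.autEquivPow L hirr).toEquiv
      _ _ (fun σ => rfl)
  obtain ⟨c, hc1, hc⟩ := nt1_fiber_prod N p hpN R
  have h3 : ‖((n : ℤ) : ℂ)‖ ≤ ∏ u : (ZMod N)ˣ, R (((u : (ZMod N)ˣ) : ZMod N).val % p) := by
    rw [h2, norm_prod]
    refine Finset.prod_le_prod (fun _ _ => norm_nonneg _) fun u _ => ?_
    exact hR _ (ZMod.val_coe_unit_coprime u)
  have hlt : ‖((n : ℤ) : ℂ)‖ < 1 := by
    calc ‖((n : ℤ) : ℂ)‖ ≤ _ := h3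
      _ = (∏ t ∈ Finset.Ico 1 p, R t) ^ c := hc
      _ < 1 := pow_lt_one₀ (Finset.prod_nonneg fun t _ => hR0 t) hprod (by omega)
  have hn0 : n = 0 := by
    rw [Complex.norm_intCast] at hlt
    have h' : |n| < 1 := by exact_mod_cast hlt
    exact Int.abs_lt_one_iff.mp h'
  have hα0 : α = 0 := by
    have h' : Algebra.norm ℚ α = 0 := by rw [← hn, hn0]; simp
    exact Algebra.norm_eq_zero_iff.mp h'
  have hfin : φ α = Polynomial.aeval (φ ζL) F := nt1_map_aeval φ.toRingHom ζL F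
  rw [hφ, hα0, map_zero] at hfin
  exact hfin.symm

/-- NT1 (norm from `ℚ(ζ_N)`) -/
theorem norm_small_eq_zero (N p : ℕ) (hp : p.Prime) (hpN : p ∣ N) (hN : 0 < N) (ζ : ℂ)
    (hζ : IsPrimitiveRoot ζ N) (F : Polynomial ℤ) (R : ℕ → ℝ) (hR0 : ∀ t, 0 ≤ R t)
    (hR : ∀ s : ℕ, s.Coprime N → ‖Polynomial.aeval (ζ ^ s) F‖ ≤ R (s % p))
    (hprod : ∏ t ∈ Finset.Ico 1 p, R t < 1) : Polynomial.aeval ζ F = 0 :=
  @nt1_core N p hp hpN hN ζ hζ F R hR0 hR hprod (CyclotomicField N ℚ) _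
    (CyclotomicField.algebra N ℚ) inferInstance

end Cfsg.Agent.Lib.helper61.S4484
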