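import Mathlib

/-!
# S4484 piece NT2 (helper61): `∏_{t=1}^{p-1} ‖λ^t - μ^t‖ = p` for distinct `p`-th roots of unity.
-/

set_option autoImplicit false

namespace Cfsg.Agent.Lib.helper61.S4484

/-- NT2 -/
theorem prod_norm_sub (p : ℕ) (hp : p.Prime) (lam mu : ℂ) (hl : lam ^ p = 1) (hm : mu ^ p = 1)
    (hne : lam ≠ mu) : ∏ t ∈ Finset.Ico 1 p, ‖lam ^ t - mu ^ t‖ = (p : ℝ) := by
  have hmu0 : mu ≠ 0 := by
    rintro rfl
    rw [zero_pow hp.ne_zero] at hm
    exact zero_ne_one hm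
  have hmun : ‖mu‖ = 1 := by
    have h1 : ‖mu‖ ^ p = 1 := by rw [← norm_pow, hm, norm_one]
    exact (pow_eq_one_iff_of_nonneg (norm_nonneg _) hp.ne_zero).1 h1
  set η : ℂ := lam / mu with hη
  have hηp : η ^ p = 1 := by rw [hη, div_pow, hl, hm, div_one]
  have hη1 : η ≠ 1 := by
    intro h
    apply hne
    rw [hη, div_eq_one_iff_eq hmu0] at h
    exact h
  have hprim : IsPrimitiveRoot η p := by
    have hord : orderOf η = p := by
      have hdvd : orderOf η ∣ p := orderOf_dvd_of_pow_eq_one hηp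
      rcases (Nat.dvd_prime hp).1 hdvd with h | h
      · exact absurd (orderOf_eq_one_iff.1 h) hη1
      · exact h
    rw [← hord]
    exact IsPrimitiveRoot.orderOf η
  obtain ⟨n, rfl⟩ : ∃ n, p = n + 1 := ⟨p - 1, by have := hp.pos; omega⟩
  have hkey := hprim.prod_one_sub_pow_eq_order
  have h1 : ∏ t ∈ Finset.Ico 1 (n + 1), ‖lam ^ t - mu ^ t‖
      = ∏ k ∈ Finset.range n, ‖lam ^ (k + 1) - mu ^ (k + 1)‖ := by
    rw [Finset.range_eq_Ico, Finset.prod_Ico_add' (fun t => ‖lam ^ t - mu ^ t‖) 0 n 1]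
  rw [h1]
  have h2 : ∀ k ∈ Finset.range n, ‖lam ^ (k + 1) - mu ^ (k + 1)‖ = ‖1 - η ^ (k + 1)‖ := by
    intro k _
    have e : lam ^ (k + 1) - mu ^ (k + 1) = -(mu ^ (k + 1) * (1 - η ^ (k + 1))) := by
      rw [hη, div_pow]
      field_simp
      ring
    rw [e, norm_neg, norm_mul, norm_pow, hmun, one_pow, one_mul]
  rw [Finset.prod_congr rfl h2, ← norm_prod, hkey]
  have : ((n : ℂ) + 1) = ((n + 1 : ℕ) : ℂ) := by push_cast; ring
  rw [this, Complex.norm_natCast]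

end Cfsg.Agent.Lib.helper61.S4484
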