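import Mathlib

/-!
# S4484 piece NT3 (helper61): a power bound.
-/

set_option autoImplicit false

namespace Cfsg.Agent.Lib.helper61.S4484

/-- NT3 -/
theorem exists_pow_bound (p n a : ℕ) (hp : p.Prime) (h : p ^ a < 2 ^ (p - 1)) :
    ∃ k : ℕ, 0 < k ∧ ((n : ℝ) / 4 ^ k) ^ (p - 1) * ((p : ℝ) ^ (2 * a)) ^ k < 1 := by
  have hp1 : 1 ≤ p - 1 := by have := hp.two_le; omega
  set c : ℝ := (p : ℝ) ^ (2 * a) / (4 : ℝ) ^ (p - 1) with hc
  have hc0 : 0 ≤ c := by positivity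
  have hc1 : c < 1 := by
    rw [hc, div_lt_one (by positivity)]
    have h' : ((p ^ a : ℕ) : ℝ) < ((2 ^ (p - 1) : ℕ) : ℝ) := by exact_mod_cast h
    push_cast at h'
    have h0 : (0 : ℝ) ≤ (p : ℝ) ^ a := by positivity
    have e1 : (p : ℝ) ^ (2 * a) = ((p : ℝ) ^ a) ^ 2 := by rw [← pow_mul, mul_comm]
    have e2 : (4 : ℝ) ^ (p - 1) = ((2 : ℝ) ^ (p - 1)) ^ 2 := by
      rw [← pow_mul, mul_comm, pow_mul]; norm_num
    rw [e1, e2]
    exact pow_lt_pow_left₀ h' h0 (by norm_num)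
  have key : ∀ k : ℕ, ((n : ℝ) / 4 ^ k) ^ (p - 1) * ((p : ℝ) ^ (2 * a)) ^ k
      = (n : ℝ) ^ (p - 1) * c ^ k := by
    intro k
    rw [hc, div_pow, div_pow, ← pow_mul, ← pow_mul, ← pow_mul, mul_comm k (p - 1)]
    field_simp
  have hpos : (0 : ℝ) < 1 / ((n : ℝ) ^ (p - 1) + 1) := by positivity
  obtain ⟨k, hk⟩ := exists_pow_lt_of_lt_one hpos hc1
  refine ⟨k + 1, Nat.succ_pos k, ?_⟩
  rw [key]
  have hck : c ^ (k + 1) ≤ c ^ k := pow_le_pow_of_le_one hc0 hc1.le (Nat.le_succ k)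
  have hn0 : (0 : ℝ) ≤ (n : ℝ) ^ (p - 1) := by positivity
  calc (n : ℝ) ^ (p - 1) * c ^ (k + 1) ≤ (n : ℝ) ^ (p - 1) * c ^ k :=
        mul_le_mul_of_nonneg_left hck hn0
    _ ≤ (n : ℝ) ^ (p - 1) * (1 / ((n : ℝ) ^ (p - 1) + 1)) :=
        mul_le_mul_of_nonneg_left hk.le hn0
    _ < 1 := by
        rw [mul_one_div, div_lt_one (by positivity)]
        linarith

end Cfsg.Agent.Lib.helper61.S4484
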