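import Mathlib

/-!
# S4484 piece NT4 (helper61): `p ^ (2 (g₀ - 1)) < 2 ^ (p - 1)` when `6 ^ (g₀ - 1) ≤ p`, `p` prime.
-/

set_option autoImplicit false

namespace Cfsg.Agent.Lib.helper61.S4484

private theorem nt4_six_mul_le (t : ℕ) : 6 * t ≤ 6 ^ t := by
  induction t with
  | zero => simp
  | succ t ih =>
    rw [pow_succ]
    have h1 : 1 ≤ 6 ^ t := Nat.one_le_pow _ _ (by norm_num)
    omega

private theorem nt4_six_sq_le (t : ℕ) (ht : 2 ≤ t) : 6 * t ^ 2 + 1 ≤ 6 ^ t := by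
  induction t, ht using Nat.le_induction with
  | base => norm_num
  | succ t ht ih =>
    have h1 : 6 * (t + 1) ^ 2 + 1 ≤ 6 * (6 * t ^ 2 + 1) := by nlinarith
    have h3 : 6 ^ (t + 1) = 6 ^ t * 6 := pow_succ 6 t
    rw [h3]
    omega

/-- Bernoulli-type step: `(n+1)^k ≤ 2 n^k` when `2 k ≤ n + 1`. -/
private theorem nt4_step (n k : ℕ) (h : 2 * k ≤ n + 1) : (n + 1) ^ k ≤ 2 * n ^ k := by
  have hB : ∀ j : ℕ, j ≤ n + 1 → (n + 1) ^ j * (n + 1 - j) ≤ n ^ j * (n + 1) := by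
    intro j
    induction j with
    | zero => intro _; simp
    | succ j ih =>
      intro hj
      have ih' := ih (by omega)
      have e1 : n + 1 - j = (n - j) + 1 := by omega
      have e2 : n + 1 - (j + 1) = n - j := by omega
      rw [e1] at ih'
      rw [e2, pow_succ, pow_succ]
      have h3 : (n + 1) * (n - j) ≤ n * ((n - j) + 1) := by
        have : n - j ≤ n := Nat.sub_le _ _
        nlinarith
      calc (n + 1) ^ j * (n + 1) * (n - j) = (n + 1) ^ j * ((n + 1) * (n - j)) := by ring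
        _ ≤ (n + 1) ^ j * (n * ((n - j) + 1)) := Nat.mul_le_mul_left _ h3
        _ = ((n + 1) ^ j * ((n - j) + 1)) * n := by ring
        _ ≤ (n ^ j * (n + 1)) * n := Nat.mul_le_mul_right _ ih'
        _ = n ^ j * n * (n + 1) := by ring
  have h1 := hB k (by omega)
  have h2 : n + 1 ≤ 2 * (n + 1 - k) := by omega
  have h3 : (n + 1) ^ k * (n + 1) ≤ (n + 1) ^ k * (2 * (n + 1 - k)) := Nat.mul_le_mul_left _ h2
  have h4 : (n + 1) ^ k * (n + 1) ≤ (2 * n ^ k) * (n + 1) := by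
    calc (n + 1) ^ k * (n + 1) ≤ (n + 1) ^ k * (2 * (n + 1 - k)) := h3
      _ = 2 * ((n + 1) ^ k * (n + 1 - k)) := by ring
      _ ≤ 2 * (n ^ k * (n + 1)) := Nat.mul_le_mul_left _ h1
      _ = (2 * n ^ k) * (n + 1) := by ring
  exact Nat.le_of_mul_le_mul_right h4 (Nat.succ_pos n)

private theorem nt4_main (t : ℕ) (ht : 1 ≤ t) (n : ℕ) (hn7 : 7 ≤ n) (hn : 6 ^ t ≤ n) :
    n ^ (2 * t) < 2 ^ (n - 1) := by
  have hb : 7 ≤ max (6 ^ t) 7 := le_max_right _ _
  have hnb : max (6 ^ t) 7 ≤ n := max_le hn hn7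
  induction n, hnb using Nat.le_induction with
  | base =>
    rcases Nat.lt_or_ge t 2 with h | h
    · have : t = 1 := by omega
      subst this
      norm_num
    · have h6 := nt4_six_sq_le t h
      have h36 : 36 ≤ 6 ^ t := by
        calc 36 = 6 ^ 2 := by norm_num
          _ ≤ 6 ^ t := Nat.pow_le_pow_right (by norm_num) h
      have hmax : max (6 ^ t) 7 = 6 ^ t := max_eq_left (by omega)
      rw [hmax]
      calc (6 ^ t) ^ (2 * t) = 6 ^ (2 * t ^ 2) := by rw [← pow_mul]; ring_nf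
        _ < 8 ^ (2 * t ^ 2) := Nat.pow_lt_pow_left (by norm_num) (by positivity)
        _ = 2 ^ (6 * t ^ 2) := by
            rw [show (8 : ℕ) = 2 ^ 3 by norm_num, ← pow_mul]; ring_nf
        _ ≤ 2 ^ (6 ^ t - 1) := Nat.pow_le_pow_right (by norm_num) (by omega)
  | succ n hnb ih =>
    have hn6 : 6 ^ t ≤ n := le_trans (le_max_left _ _) hnb
    have hn7' : 7 ≤ n := le_trans hb hnb
    have ih' := ih hn7' hn6
    have h6t := nt4_six_mul_le t
    have hstep := nt4_step n (2 * t) (by omega)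
    have e : n + 1 - 1 = (n - 1) + 1 := by omega
    rw [e, pow_succ]
    calc (n + 1) ^ (2 * t) ≤ 2 * n ^ (2 * t) := hstep
      _ < 2 * 2 ^ (n - 1) := by omega
      _ = 2 ^ (n - 1) * 2 := by ring

/-- NT4 -/
theorem pow_lt_two_pow (p g₀ : ℕ) (hp : p.Prime) (hg : 1 ≤ g₀) (h : 6 ^ (g₀ - 1) ≤ p) :
    p ^ (2 * (g₀ - 1)) < 2 ^ (p - 1) := by
  have _ := hg
  rcases Nat.eq_zero_or_pos (g₀ - 1) with h0 | h0
  · rw [h0, Nat.mul_zero, pow_zero]
    have := hp.two_le
    exact Nat.one_lt_two_pow (by omega)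
  · have h6 : 6 ≤ p := by
      calc 6 = 6 ^ 1 := by norm_num
        _ ≤ 6 ^ (g₀ - 1) := Nat.pow_le_pow_right (by norm_num) h0
        _ ≤ p := h
    have h7 : 7 ≤ p := by
      rcases Nat.lt_or_ge p 7 with h' | h'
      · have : p = 6 := by omega
        subst this
        exact absurd hp (by norm_num)
      · exact h'
    exact nt4_main (g₀ - 1) h0 p h7 h

end Cfsg.Agent.Lib.helper61.S4484
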