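import Mathlib
import Cfsg.Agent.Lib.helper89.S60Defs

/-!
# S6000 piece CLS2 (racer copy, helper61)
-/

set_option autoImplicit false

namespace Cfsg.Agent.Lib.helper89.S60

open Matrix Cfsg Cfsg.Geo

/-- CLS2 (racer copy). -/
theorem h61_s60_invol_class {F : Type*} [Field F] (h2 : (2 : F) ≠ 0) (x : GL (Fin 4) F)
    (hx : (x : Matrix (Fin 4) (Fin 4) F) * (x : Matrix (Fin 4) (Fin 4) F) = 1) :
    ∃ g ∈ specialLinear (Fin 4) F, ∃ k : ℕ, k ≤ 4 ∧ ((g⁻¹ * x * g : GL (Fin 4) F) : Matrix (Fin 4) (Fin 4) F) = Dk F k := by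
  classical
  generalize hX : (x : Matrix (Fin 4) (Fin 4) F) = X at hx
  let Em : Submodule F (Fin 4 → F) := LinearMap.ker (Matrix.toLin' (X + 1))
  let Ep : Submodule F (Fin 4 → F) := LinearMap.ker (Matrix.toLin' (X - 1))
  have hmem_m : ∀ v, v ∈ Em ↔ X *ᵥ v = -v := by
    intro v
    show Matrix.toLin' (X + 1) v = 0 ↔ _
    rw [Matrix.toLin'_apply, Matrix.add_mulVec, Matrix.one_mulVec, add_eq_zero_iff_eq_neg]
  have hmem_p : ∀ v, v ∈ Ep ↔ X *ᵥ v = v := by
    intro v
    show Matrix.toLin' (X - 1) v = 0 ↔ _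
    rw [Matrix.toLin'_apply, Matrix.sub_mulVec, Matrix.one_mulVec, sub_eq_zero]
  have hXX : ∀ v : Fin 4 → F, X *ᵥ (X *ᵥ v) = v := by
    intro v
    rw [Matrix.mulVec_mulVec, hx, Matrix.one_mulVec]
  have hcompl : IsCompl Em Ep := by
    constructor
    · rw [Submodule.disjoint_def]
      intro v hm hp
      rw [hmem_m] at hm
      rw [hmem_p] at hp
      have h3 : (2 : F) • v = 0 := by
        rw [two_smul]
        nth_rewrite 1 [← hp]
        rw [hm]
        exact neg_add_cancel v
      exact (smul_eq_zero.mp h3).resolve_left h2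
    · rw [codisjoint_iff, eq_top_iff]
      intro v _
      rw [Submodule.mem_sup]
      refine ⟨(2 : F)⁻¹ • (v - X *ᵥ v), ?_, (2 : F)⁻¹ • (v + X *ᵥ v), ?_, ?_⟩
      · rw [hmem_m, Matrix.mulVec_smul, Matrix.mulVec_sub, hXX, ← smul_neg, neg_sub]
      · rw [hmem_p, Matrix.mulVec_smul, Matrix.mulVec_add, hXX, add_comm]
      · rw [← smul_add]
        have h3 : v - X *ᵥ v + (v + X *ᵥ v) = (2 : F) • v := by
          rw [two_smul]
          abel
        rw [h3, smul_smul, inv_mul_cancel₀ h2, one_smul]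
  have hkk : Module.finrank F Em + Module.finrank F Ep = 4 := by
    have h3 := Submodule.finrank_add_eq_of_isCompl hcompl
    rw [h3]
    simp
  let bm := Module.finBasis F Em
  let bp := Module.finBasis F Ep
  let B0 : Module.Basis (Fin (Module.finrank F Em) ⊕ Fin (Module.finrank F Ep)) F (Fin 4 → F) :=
    (bm.prod bp).map (Submodule.prodEquivOfIsCompl Em Ep hcompl)
  let e : Fin (Module.finrank F Em) ⊕ Fin (Module.finrank F Ep) ≃ Fin 4 :=
    finSumFinEquiv.trans (finCongr hkk)
  let B := B0.reindex e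
  have hP : ∀ j : Fin 4, X *ᵥ (B j) =
      (if (j : ℕ) < Module.finrank F Em then (-1 : F) else 1) • B j := by
    intro j
    obtain ⟨s, rfl⟩ := e.surjective j
    rcases s with i | i
    · have hB : B (e (Sum.inl i)) = (bm i : Fin 4 → F) := by
        simp [B, B0]
      have hlt : ((e (Sum.inl i) : Fin 4) : ℕ) < Module.finrank F Em := by
        simp [e]
      rw [hB, if_pos hlt, neg_one_smul]
      exact (hmem_m _).mp (bm i).2
    · have hB : B (e (Sum.inr i)) = (bp i : Fin 4 → F) := by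
        simp [B, B0]
      have hlt : ¬ ((e (Sum.inr i) : Fin 4) : ℕ) < Module.finrank F Em := by
        simp [e]
      rw [hB, if_neg hlt, one_smul]
      exact (hmem_p _).mp (bp i).2
  let P : Matrix (Fin 4) (Fin 4) F := Matrix.of (fun i j => B j i)
  have hPB : P = (Pi.basisFun F (Fin 4)).toMatrix B := by
    ext i j
    simp [P, Module.Basis.toMatrix_apply]
  have hPdet : P.det ≠ 0 := by
    intro h0
    have h3 := congrArg Matrix.det
      (Module.Basis.toMatrix_mul_toMatrix_flip (Pi.basisFun F (Fin 4)) B)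
    rw [Matrix.det_mul, ← hPB, h0, zero_mul, Matrix.det_one] at h3
    exact zero_ne_one h3
  have hXP : X * P = P * Dk F (Module.finrank F Em) := by
    ext i j
    have h3 := congrFun (hP j) i
    rw [Dk, Matrix.mul_diagonal, Matrix.mul_apply]
    simp only [Matrix.mulVec, dotProduct, Pi.smul_apply, smul_eq_mul] at h3
    simp only [P, Matrix.of_apply]
    rw [h3, mul_comm]
  let D' : Matrix (Fin 4) (Fin 4) F :=
    Matrix.diagonal (fun j : Fin 4 => if j = 0 then (P.det)⁻¹ else 1)
  have hD'det : D'.det = (P.det)⁻¹ := by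
    simp [D', Matrix.det_diagonal]
  have hcomm : Dk F (Module.finrank F Em) * D' = D' * Dk F (Module.finrank F Em) := by
    simp only [Dk, D', Matrix.diagonal_mul_diagonal]
    congr 1
    funext j
    exact mul_comm _ _
  have hdet' : (P * D').det = 1 := by
    rw [Matrix.det_mul, hD'det, mul_inv_cancel₀ hPdet]
  have hXP' : X * (P * D') = (P * D') * Dk F (Module.finrank F Em) := by
    rw [← mul_assoc, hXP, mul_assoc, hcomm, ← mul_assoc]
  have hne : (P * D').det ≠ 0 := by
    rw [hdet']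
    exact one_ne_zero
  obtain ⟨g, hgc⟩ : ∃ g : GL (Fin 4) F, (g : Matrix (Fin 4) (Fin 4) F) = P * D' :=
    ⟨Matrix.GeneralLinearGroup.mkOfDetNeZero (P * D') hne, rfl⟩
  refine ⟨g, ?_, Module.finrank F Em, by omega, ?_⟩
  · show Matrix.GeneralLinearGroup.det g = 1
    apply Units.ext
    rw [Matrix.GeneralLinearGroup.val_det_apply, hgc]
    exact hdet'
  · rw [Units.val_mul, Units.val_mul, hX, mul_assoc, hgc, hXP', ← hgc, ← mul_assoc,
      ← Units.val_mul, inv_mul_cancel, Units.val_one, one_mul]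

end Cfsg.Agent.Lib.helper89.S60
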