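import Mathlib
import Cfsg.Agent.Lib.helper89.S60Defs
import Cfsg.Agent.Lib.helper29.S60BTF
import Cfsg.Agent.Lib.helper31.S60BFC

/-!
# S6000 piece N3 (racer copy, helper61)
-/

set_option autoImplicit false

namespace Cfsg.Agent.Lib.helper89.S60

open Matrix Cfsg Cfsg.Geo

/-- N3 (racer copy). -/
theorem h61_s60_nec_three {F : Type*} [Field F] [Fintype F] (h2 : (2 : F) ≠ 0) (R : Subgroup (GL (Fin 4) F)) (w : F) (hG : Good R w)
    (h3 : (3 : F) ≠ 0) (hq : Fintype.card F % 3 = 1) : Derang R 3 := by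
  classical
  have : Fact (Nat.Prime 3) := ⟨by norm_num⟩
  have hcard : 3 ∣ Fintype.card Fˣ := by
    rw [Fintype.card_units]
    exact Nat.dvd_of_mod_eq_zero (by omega)
  obtain ⟨u, hu⟩ := exists_prime_orderOf_dvd_card 3 hcard
  have hu3 : u ^ 3 = 1 := by
    rw [← hu]
    exact pow_orderOf_eq_one u
  have hu1 : u ≠ 1 := by
    rintro rfl
    rw [orderOf_one] at hu
    omega
  obtain ⟨ω, hωu⟩ : ∃ ω : F, ω = (u : F) := ⟨_, rfl⟩
  have hω3 : ω ^ 3 = 1 := by
    have h5 := congrArg Units.val hu3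
    rw [Units.val_pow_eq_pow_val, Units.val_one, ← hωu] at h5
    exact h5
  have hω1 : ω ≠ 1 := by
    intro h
    apply hu1
    apply Units.ext
    rw [← hωu, h, Units.val_one]
  have hω : ω ^ 2 + ω + 1 = 0 := by
    have h5 : (ω - 1) * (ω ^ 2 + ω + 1) = 0 := by linear_combination hω3
    exact (mul_eq_zero.mp h5).resolve_left (sub_ne_zero.mpr hω1)
  have hdet : (Matrix.diagonal (![ω, ω, ω, 1] : Fin 4 → F)).det = 1 := by
    rw [Matrix.det_diagonal, Fin.prod_univ_four]
    simp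
    linear_combination hω3
  have hne : (Matrix.diagonal (![ω, ω, ω, 1] : Fin 4 → F)).det ≠ 0 := by
    rw [hdet]
    exact one_ne_zero
  obtain ⟨x, hxc⟩ : ∃ x : GL (Fin 4) F, (x : Matrix (Fin 4) (Fin 4) F) =
      Matrix.diagonal (![ω, ω, ω, 1] : Fin 4 → F) :=
    ⟨Matrix.GeneralLinearGroup.mkOfDetNeZero _ hne, rfl⟩
  have hx3 : x ^ 3 = 1 := by
    apply Units.ext
    rw [Units.val_pow_eq_pow_val, hxc, Matrix.diagonal_pow, Units.val_one]
    have h5 : (![ω, ω, ω, 1] : Fin 4 → F) ^ 3 = 1 := by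
      funext i
      fin_cases i <;> simp [hω3]
    rw [h5]
    exact Matrix.diagonal_one
  have hxinv : x⁻¹ = x ^ 2 := by
    apply inv_eq_of_mul_eq_one_right
    rw [← pow_succ', hx3]
  have htrx : Matrix.trace (x : Matrix (Fin 4) (Fin 4) F) = ω + ω + ω + 1 := by
    rw [hxc, Matrix.trace_diagonal, Fin.sum_univ_four]
    simp
  have htrx2 : Matrix.trace ((x ^ 2 : GL (Fin 4) F) : Matrix (Fin 4) (Fin 4) F) =
      ω ^ 2 + ω ^ 2 + ω ^ 2 + 1 := by
    rw [Units.val_pow_eq_pow_val, hxc, Matrix.diagonal_pow, Matrix.trace_diagonal,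
      Fin.sum_univ_four]
    simp
  refine ⟨x, ?_, hx3, ?_, ?_⟩
  · show Matrix.GeneralLinearGroup.det x = 1
    apply Units.ext
    rw [Matrix.GeneralLinearGroup.val_det_apply, hxc]
    exact hdet
  · intro z hz
    rw [hxc] at hz
    have h0 := congrFun (congrFun hz 0) 0
    have h33 := congrFun (congrFun hz 3) 3
    simp at h0 h33
    exact hω1 (h0.trans h33.symm)
  · intro g hy
    have hy3 : (g⁻¹ * x * g) ^ 3 = 1 := by
      have h6 : (g⁻¹ * x * g) ^ 3 = g⁻¹ * x ^ 3 * g := by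
        simp only [pow_succ, pow_zero, one_mul, mul_assoc, mul_inv_cancel_left]
      rw [h6, hx3]
      group
    have hyinv : (g⁻¹ * x * g)⁻¹ = g⁻¹ * x ^ 2 * g := by
      rw [← hxinv]
      group
    have hBTF := s60_trace_formula h2 R w hG (g⁻¹ * x * g) hy 3 (by decide) hy3
    obtain ⟨hd1, hd2, hd3, -⟩ := s60_fix_count h2 R w hG 3 (g⁻¹ * x * g) hy hy3
    rw [hyinv] at hBTF
    have ht1 : Matrix.trace ((g⁻¹ * x * g : GL (Fin 4) F) : Matrix (Fin 4) (Fin 4) F) =
        ω + ω + ω + 1 := by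
      rw [Units.val_mul, Units.val_mul, Matrix.trace_units_conj', htrx]
    have ht2 : Matrix.trace ((g⁻¹ * x ^ 2 * g : GL (Fin 4) F) : Matrix (Fin 4) (Fin 4) F) =
        ω ^ 2 + ω ^ 2 + ω ^ 2 + 1 := by
      rw [Units.val_mul, Units.val_mul, Matrix.trace_units_conj', htrx2]
    rw [ht1, ht2] at hBTF
    generalize Nat.card {s : GL (Fin 4) F // s ∈ R ∧ g⁻¹ * x * g * s = s * (g⁻¹ * x * g)} = c
      at hBTF hd1 hd2 hd3
    have hc28 : (c : F) = 28 := by
      rw [← hBTF]
      linear_combination 36 * hω3 + 12 * hω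
    have hc64 : c ≤ 64 := Nat.le_of_dvd (by norm_num) hd1
    have hc : c = 4 ∨ c = 16 ∨ c = 64 := by
      interval_cases c <;> omega
    rcases hc with rfl | rfl | rfl
    · have h5 : (2 : F) ^ 3 * 3 = 0 := by
        push_cast at hc28
        linear_combination -hc28
      rcases mul_eq_zero.mp h5 with h | h
      · exact h2 (pow_eq_zero_iff (by norm_num) |>.mp h)
      · exact h3 h
    · have h5 : (2 : F) ^ 2 * 3 = 0 := by
        push_cast at hc28
        linear_combination -hc28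
      rcases mul_eq_zero.mp h5 with h | h
      · exact h2 (pow_eq_zero_iff (by norm_num) |>.mp h)
      · exact h3 h
    · have h5 : (2 : F) ^ 2 * 3 ^ 2 = 0 := by
        push_cast at hc28
        linear_combination hc28
      rcases mul_eq_zero.mp h5 with h | h
      · exact h2 (pow_eq_zero_iff (by norm_num) |>.mp h)
      · exact h3 (pow_eq_zero_iff (by norm_num) |>.mp h)

end Cfsg.Agent.Lib.helper89.S60
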