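import Mathlib
import Cfsg.Agent.Lib.helper89.S60Defs

/-!
# S6000 piece S2 (racer copy, helper61): core with the statements of CLS2, NOSQ, REFL as hypotheses
-/

set_option autoImplicit false

namespace Cfsg.Agent.Lib.helper89.S60

open Matrix Cfsg Cfsg.Geo

/-- The trace of `Dk F k`. -/
theorem h61_trace_Dk {F : Type*} [Field F] (k : ℕ) (hk : k ≤ 4) :
    Matrix.trace (Dk F k) = 4 - 2 * (k : F) := by
  interval_cases k <;> simp [Dk, Matrix.trace, Fin.sum_univ_four] <;> norm_num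

/-- The scalar matrix `c • 1` as an element of `GL_4`. -/
noncomputable def h61_sc {F : Type*} [Field F] (c : F) (hc : c ≠ 0) : GL (Fin 4) F :=
  Matrix.GeneralLinearGroup.mkOfDetNeZero (c • (1 : Matrix (Fin 4) (Fin 4) F))
    (by rw [Matrix.det_smul, Matrix.det_one, mul_one]; exact pow_ne_zero _ hc)

theorem h61_sc_coe {F : Type*} [Field F] (c : F) (hc : c ≠ 0) :
    ((h61_sc c hc : GL (Fin 4) F) : Matrix (Fin 4) (Fin 4) F) = c • 1 := rfl

theorem h61_sc_comm {F : Type*} [Field F] (c : F) (hc : c ≠ 0) (g : GL (Fin 4) F) :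
    h61_sc c hc * g = g * h61_sc c hc := by
  apply Units.ext
  rw [Units.val_mul, Units.val_mul, h61_sc_coe, smul_mul_assoc, one_mul, mul_smul_comm, mul_one]

theorem h61_sc_mem_normalizer {F : Type*} [Field F] (R : Subgroup (GL (Fin 4) F)) (c : F)
    (hc : c ≠ 0) : h61_sc c hc ∈ subgroupNormalizer R := by
  unfold subgroupNormalizer
  rw [Subgroup.mem_normalizer_iff]
  intro r
  rw [h61_sc_comm, mul_assoc, mul_inv_cancel, mul_one]

/-- Two involutions of `GL_4` with the same trace are conjugate under `SL_4`. -/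
theorem h61_invol_conj {F : Type*} [Field F] {p : ℕ} [CharP F p] (hp5 : 5 ≤ p) (h2 : (2 : F) ≠ 0)
    (hCLS : ∀ y : GL (Fin 4) F,
      (y : Matrix (Fin 4) (Fin 4) F) * (y : Matrix (Fin 4) (Fin 4) F) = 1 →
      ∃ g ∈ specialLinear (Fin 4) F, ∃ k : ℕ, k ≤ 4 ∧
        ((g⁻¹ * y * g : GL (Fin 4) F) : Matrix (Fin 4) (Fin 4) F) = Dk F k)
    (y₁ y₂ : GL (Fin 4) F)
    (h₁ : (y₁ : Matrix (Fin 4) (Fin 4) F) * (y₁ : Matrix (Fin 4) (Fin 4) F) = 1)
    (h₂ : (y₂ : Matrix (Fin 4) (Fin 4) F) * (y₂ : Matrix (Fin 4) (Fin 4) F) = 1)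
    (htr : Matrix.trace (y₁ : Matrix (Fin 4) (Fin 4) F) =
      Matrix.trace (y₂ : Matrix (Fin 4) (Fin 4) F)) :
    ∃ h ∈ specialLinear (Fin 4) F, h⁻¹ * y₁ * h = y₂ := by
  obtain ⟨g₁, hg₁, k₁, hk₁, e₁⟩ := hCLS y₁ h₁
  obtain ⟨g₂, hg₂, k₂, hk₂, e₂⟩ := hCLS y₂ h₂
  have t₁ : Matrix.trace (y₁ : Matrix (Fin 4) (Fin 4) F) = 4 - 2 * (k₁ : F) := by
    rw [← h61_trace_Dk k₁ hk₁, ← e₁, Units.val_mul, Units.val_mul, Matrix.trace_units_conj']
  have t₂ : Matrix.trace (y₂ : Matrix (Fin 4) (Fin 4) F) = 4 - 2 * (k₂ : F) := by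
    rw [← h61_trace_Dk k₂ hk₂, ← e₂, Units.val_mul, Units.val_mul, Matrix.trace_units_conj']
  have hkk : (k₁ : F) = (k₂ : F) := by
    have h3 : 2 * ((k₁ : F) - k₂) = 0 := by
      have := t₁.symm.trans (htr.trans t₂)
      linear_combination -this
    rcases mul_eq_zero.mp h3 with h | h
    · exact absurd h h2
    · exact sub_eq_zero.mp h
  have hk : k₁ = k₂ := by
    have := (CharP.natCast_eq_natCast F p).mp hkk
    unfold Nat.ModEq at this
    rw [Nat.mod_eq_of_lt (by omega), Nat.mod_eq_of_lt (by omega)] at this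
    exact this
  subst hk
  have e : g₁⁻¹ * y₁ * g₁ = g₂⁻¹ * y₂ * g₂ := Units.ext (e₁.trans e₂.symm)
  refine ⟨g₁ * g₂⁻¹, Subgroup.mul_mem _ hg₁ (Subgroup.inv_mem _ hg₂), ?_⟩
  have h3 : y₂ = g₂ * (g₁⁻¹ * y₁ * g₁) * g₂⁻¹ := by
    rw [e]
    group
  rw [h3]
  group

/-- S2, from the statements of CLS2, NOSQ, REFL. -/
theorem h61_s60_suff_two_core {F : Type*} [Field F] [Fintype F] {p : ℕ} [Fact p.Prime] [CharP F p]
    (hp4 : p % 4 = 1) (h2 : (2 : F) ≠ 0) (R : Subgroup (GL (Fin 4) F)) (w : F) (hG : Good R w)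
    (hCLS : ∀ y : GL (Fin 4) F,
      (y : Matrix (Fin 4) (Fin 4) F) * (y : Matrix (Fin 4) (Fin 4) F) = 1 →
      ∃ g ∈ specialLinear (Fin 4) F, ∃ k : ℕ, k ≤ 4 ∧
        ((g⁻¹ * y * g : GL (Fin 4) F) : Matrix (Fin 4) (Fin 4) F) = Dk F k)
    (hNOSQ : ∀ (x : Matrix (Fin 4) (Fin 4) F) (z : F), (∀ c : F, c * c ≠ z) →
      x * x = z • (1 : Matrix (Fin 4) (Fin 4) F) → x.det = z ^ 2)
    (hREFL : ∃ ρ : GL (Fin 4) F, ρ ∈ subgroupNormalizer R ∧
      (ρ : Matrix (Fin 4) (Fin 4) F) * (ρ : Matrix (Fin 4) (Fin 4) F) = 1 ∧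
      Matrix.trace (ρ : Matrix (Fin 4) (Fin 4) F) = 2)
    (x : GL (Fin 4) F) (hx : x ∈ specialLinear (Fin 4) F) (z : F)
    (hz : (x : Matrix (Fin 4) (Fin 4) F) ^ 2 = z • (1 : Matrix (Fin 4) (Fin 4) F))
    (hns : ∀ z : F, (x : Matrix (Fin 4) (Fin 4) F) ≠ z • (1 : Matrix (Fin 4) (Fin 4) F)) :
    ∃ g ∈ specialLinear (Fin 4) F, g⁻¹ * x * g ∈ subgroupNormalizer R := by
  have hp5 : 5 ≤ p := by
    have := (Fact.out : p.Prime).two_le
    omega
  have hxx : (x : Matrix (Fin 4) (Fin 4) F) * (x : Matrix (Fin 4) (Fin 4) F) = z • 1 := by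
    rw [← sq]
    exact hz
  have hdet : (x : Matrix (Fin 4) (Fin 4) F).det = 1 := by
    have h := (MonoidHom.mem_ker).mp hx
    have h' := congrArg Units.val h
    simpa using h'
  have hsq : ∃ c : F, c * c = z := by
    by_contra hno0
    have hno : ∀ c : F, c * c ≠ z := fun c hcz => hno0 ⟨c, hcz⟩
    have h1 := hNOSQ _ z hno hxx
    rw [hdet] at h1
    have h3 : (z - 1) * (z + 1) = 0 := by linear_combination -h1
    rcases mul_eq_zero.mp h3 with h | h
    · exact hno 1 (by rw [mul_one]; exact (sub_eq_zero.mp h).symm)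
    · exact hno w (by rw [hG.wsq]; linear_combination -h)
  obtain ⟨c, hc⟩ := hsq
  have hc0 : c ≠ 0 := by
    rintro rfl
    rw [mul_zero] at hc
    rw [← hc, zero_smul] at hxx
    have h5 := congrArg Matrix.det hxx
    rw [Matrix.det_mul, hdet] at h5
    simp at h5
  have hx'coe : ((h61_sc c⁻¹ (inv_ne_zero hc0) * x : GL (Fin 4) F) : Matrix (Fin 4) (Fin 4) F) =
      c⁻¹ • (x : Matrix (Fin 4) (Fin 4) F) := by
    rw [Units.val_mul, h61_sc_coe, smul_mul_assoc, one_mul]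
  generalize hx' : h61_sc c⁻¹ (inv_ne_zero hc0) * x = x' at hx'coe
  have hxeq : x = h61_sc c hc0 * x' := by
    apply Units.ext
    rw [Units.val_mul, h61_sc_coe, hx'coe, smul_mul_assoc, one_mul, smul_smul,
      mul_inv_cancel₀ hc0, one_smul]
  have hinv : (x' : Matrix (Fin 4) (Fin 4) F) * (x' : Matrix (Fin 4) (Fin 4) F) = 1 := by
    rw [hx'coe, smul_mul_smul_comm, hxx, smul_smul, ← hc]
    have h5 : c⁻¹ * c⁻¹ * (c * c) = 1 := by
      field_simp
    rw [h5, one_smul]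
  have hns' : ∀ d : F, (x' : Matrix (Fin 4) (Fin 4) F) ≠ d • 1 := by
    intro d hd
    apply hns (c * d)
    rw [hx'coe] at hd
    have h5 := congrArg (fun m : Matrix (Fin 4) (Fin 4) F => c • m) hd
    simp only [smul_smul, mul_inv_cancel₀ hc0, one_smul] at h5
    exact h5
  obtain ⟨g, hg, k, hk, e⟩ := hCLS x' hinv
  have ht' : Matrix.trace (x' : Matrix (Fin 4) (Fin 4) F) = 4 - 2 * (k : F) := by
    rw [← h61_trace_Dk k hk, ← e, Units.val_mul, Units.val_mul, Matrix.trace_units_conj']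
  have key : ∃ y₀ : GL (Fin 4) F, y₀ ∈ subgroupNormalizer R ∧
      (y₀ : Matrix (Fin 4) (Fin 4) F) * (y₀ : Matrix (Fin 4) (Fin 4) F) = 1 ∧
      Matrix.trace (y₀ : Matrix (Fin 4) (Fin 4) F) =
        Matrix.trace (x' : Matrix (Fin 4) (Fin 4) F) := by
    have hk0 : k ≠ 0 := by
      rintro rfl
      have e1 : g⁻¹ * x' * g = 1 := by
        apply Units.ext
        rw [e]
        simp [Dk]
      have h3 : x' = g * (g⁻¹ * x' * g) * g⁻¹ := by group
      have h4 : x' = 1 := by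
        rw [h3, e1]
        group
      apply hns' 1
      rw [h4]
      simp
    have hk4 : k ≠ 4 := by
      rintro rfl
      have e1 : g⁻¹ * x' * g = h61_sc (-1) (by norm_num) := by
        apply Units.ext
        rw [e, h61_sc_coe]
        ext i j
        fin_cases i <;> fin_cases j <;> simp [Dk]
      have h3 : x' = g * (g⁻¹ * x' * g) * g⁻¹ := by group
      have h4 : x' = h61_sc (-1) (by norm_num) := by
        rw [h3, e1, ← h61_sc_comm, mul_assoc, mul_inv_cancel, mul_one]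
      apply hns' (-1)
      rw [h4]
      rfl
    obtain ⟨ρ, hρN, hρ2, hρt⟩ := hREFL
    have hk123 : k = 1 ∨ k = 2 ∨ k = 3 := by omega
    rcases hk123 with rfl | rfl | rfl
    · refine ⟨ρ, hρN, hρ2, ?_⟩
      rw [hρt, ht']
      norm_num
    · obtain ⟨t, htm, htsq, htanti, -⟩ := hG.frame
      refine ⟨t 0, ?_, htsq 0, ?_⟩
      · exact Subgroup.le_normalizer (htm 0)
      · rw [ht']
        have h0 : Matrix.trace ((t 0 : GL (Fin 4) F) : Matrix (Fin 4) (Fin 4) F) = 0 := by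
          apply hG.tr0 _ (htm 0)
          intro d hd
          have ha := htanti 0 1 (by decide)
          have h00 := htsq 0
          have h11 := htsq 1
          rw [hd] at ha h00
          rw [smul_mul_assoc, one_mul, mul_smul_comm, mul_one] at ha
          have h5 : (2 * d) • ((t 1 : GL (Fin 4) F) : Matrix (Fin 4) (Fin 4) F) = 0 := by
            rw [mul_smul, two_smul]
            nth_rewrite 1 [ha]
            exact neg_add_cancel _
          have h6 := congrArg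
            (fun m : Matrix (Fin 4) (Fin 4) F => m * ((t 1 : GL (Fin 4) F) : Matrix (Fin 4) (Fin 4) F)) h5
          simp only [smul_mul_assoc, h11, zero_mul] at h6
          have h7 : 2 * d = 0 := by
            have h8 := congrArg (fun m : Matrix (Fin 4) (Fin 4) F => m 0 0) h6
            simpa using h8
          have hd0 : d = 0 := by
            rcases mul_eq_zero.mp h7 with h | h
            · exact absurd h h2
            · exact h
          rw [hd0, zero_smul, zero_mul] at h00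
          have h9 := congrArg (fun m : Matrix (Fin 4) (Fin 4) F => m 0 0) h00
          simp at h9
        rw [h0]
        norm_num
    · refine ⟨h61_sc (-1) (by norm_num) * ρ,
        Subgroup.mul_mem _ (h61_sc_mem_normalizer R _ _) hρN, ?_, ?_⟩
      · rw [Units.val_mul, h61_sc_coe]
        simp [hρ2]
      · rw [Units.val_mul, h61_sc_coe, ht']
        simp [Matrix.trace_neg, hρt]
        norm_num
  obtain ⟨y₀, hyN, hy2, hyt⟩ := key
  obtain ⟨h, hh, he⟩ := h61_invol_conj hp5 h2 hCLS x' y₀ hinv hy2 hyt.symm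
  refine ⟨h, hh, ?_⟩
  have h10 : h⁻¹ * x * h = h61_sc c hc0 * (h⁻¹ * x' * h) := by
    rw [hxeq, ← mul_assoc h⁻¹, ← h61_sc_comm, mul_assoc, mul_assoc, mul_assoc]
  rw [h10, he]
  exact Subgroup.mul_mem _ (h61_sc_mem_normalizer R _ _) hyN

end Cfsg.Agent.Lib.helper89.S60
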