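import Mathlib
import Cfsg.Agent.Lib.helper69.SNDefs

/-! Piece BOREL of the S4073 split (helper69): if `SL₂(2ⁿ)` is an `SN`-group then `2ⁿ - 1` is
prime (a sub-Borel subgroup `{g | g 1 0 = 0 ∧ (g 0 0)^d = 1}` is non-abelian and not
self-normalizing when `1 < d < 2ⁿ - 1`, `d ∣ 2ⁿ - 1`). -/

set_option autoImplicit false

namespace Cfsg.Agent.Lib.helper61.SNG

open Cfsg.Agent.Lib.helper69.SNG

universe u v

/-- the sub-Borel subgroup `{g | g 1 0 = 0 ∧ (g 0 0)^d = 1}` of `SL₂(F)` -/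
def h61BorelSub (F : Type) [Field F] (d : ℕ) : Subgroup (Matrix.SpecialLinearGroup (Fin 2) F) where
  carrier := {g | g.1 1 0 = 0 ∧ (g.1 0 0) ^ d = 1}
  one_mem' := by simp
  mul_mem' := by
    rintro g h ⟨hg1, hg2⟩ ⟨hh1, hh2⟩
    refine ⟨?_, ?_⟩
    · simp [Matrix.mul_apply, Fin.sum_univ_two, hg1, hh1]
    · have e : (g * h).1 0 0 = g.1 0 0 * h.1 0 0 := by
        simp [Matrix.mul_apply, Fin.sum_univ_two, hh1]
      rw [e, mul_pow, hg2, hh2, one_mul]
  inv_mem' := by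
    rintro g ⟨hg1, hg2⟩
    have hdet : g.1 0 0 * g.1 1 1 = 1 := by
      have h := g.2
      rw [Matrix.det_fin_two, hg1] at h
      simpa using h
    refine ⟨?_, ?_⟩
    · simp [Matrix.SpecialLinearGroup.coe_inv, Matrix.adjugate_fin_two, hg1]
    · have e : (g⁻¹).1 0 0 = g.1 1 1 := by
        simp [Matrix.SpecialLinearGroup.coe_inv, Matrix.adjugate_fin_two]
      rw [e]
      have h2 : (g.1 0 0 * g.1 1 1) ^ d = 1 := by rw [hdet, one_pow]
      rw [mul_pow, hg2, one_mul] at h2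
      exact h2

theorem h61_mem_borelSub {F : Type} [Field F] (d : ℕ) (g : Matrix.SpecialLinearGroup (Fin 2) F) :
    g ∈ h61BorelSub F d ↔ g.1 1 0 = 0 ∧ (g.1 0 0) ^ d = 1 := Iff.rfl

/-- **[BOREL]** -/
theorem sl2_sn_prime {F : Type} [Field F] [Fintype F] [CharP F 2] {n : ℕ} (hn : 2 ≤ n)
    (hF : Fintype.card F = 2 ^ n) (h : SN (Matrix.SpecialLinearGroup (Fin 2) F)) :
    (2 ^ n - 1).Prime := by
  classical
  by_contra hnp
  have hq4 : 4 ≤ 2 ^ n := by
    calc 4 = 2 ^ 2 := by norm_num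
      _ ≤ 2 ^ n := Nat.pow_le_pow_right (by norm_num) hn
  obtain ⟨d, hd, hd2, hdlt⟩ := Nat.exists_dvd_of_not_prime2 (by omega) hnp
  obtain ⟨ζ, hζ⟩ := IsCyclic.exists_generator (α := Fˣ)
  have hord : orderOf ζ = 2 ^ n - 1 := by
    rw [orderOf_eq_card_of_forall_mem_zpowers hζ, Nat.card_eq_fintype_card, Fintype.card_units, hF]
  obtain ⟨e, he⟩ := hd
  have he0 : e ≠ 0 := by
    rintro rfl
    rw [mul_zero] at he
    omega
  have helt : e < 2 ^ n - 1 := by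
    rw [he]
    have : 0 < e := Nat.pos_of_ne_zero he0
    nlinarith
  obtain ⟨a, ha⟩ : ∃ a : F, a = ((ζ ^ e : Fˣ) : F) := ⟨_, rfl⟩
  obtain ⟨c, hc⟩ : ∃ c : F, c = ((ζ : Fˣ) : F) := ⟨_, rfl⟩
  have ha0 : a ≠ 0 := by rw [ha]; exact Units.ne_zero _
  have hc0 : c ≠ 0 := by rw [hc]; exact Units.ne_zero _
  have had : a ^ d = 1 := by
    rw [ha, ← Units.val_pow_eq_pow_val, ← pow_mul, mul_comm, ← he, ← hord, pow_orderOf_eq_one,
      Units.val_one]
  have ha1 : a ≠ 1 := by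
    intro h1
    have h2 : ζ ^ e = 1 := Units.ext (by rw [Units.val_one, ← ha]; exact h1)
    exact pow_ne_one_of_lt_orderOf he0 (by rw [hord]; exact helt) h2
  have hcd : c ^ d ≠ 1 := by
    intro h1
    have h2 : ζ ^ d = 1 :=
      Units.ext (by rw [Units.val_pow_eq_pow_val, Units.val_one, ← hc]; exact h1)
    exact pow_ne_one_of_lt_orderOf (by omega) (by rw [hord]; exact hdlt) h2
  -- the matrices
  obtain ⟨u, hu⟩ : ∃ u : Matrix.SpecialLinearGroup (Fin 2) F, u.1 = !![1, 1; 0, 1] :=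
    ⟨⟨!![1, 1; 0, 1], by simp [Matrix.det_fin_two]⟩, rfl⟩
  obtain ⟨t, ht⟩ : ∃ t : Matrix.SpecialLinearGroup (Fin 2) F, t.1 = !![a, 0; 0, a⁻¹] :=
    ⟨⟨!![a, 0; 0, a⁻¹], by simp [Matrix.det_fin_two, ha0]⟩, rfl⟩
  obtain ⟨w, hw⟩ : ∃ w : Matrix.SpecialLinearGroup (Fin 2) F, w.1 = !![c, 0; 0, c⁻¹] :=
    ⟨⟨!![c, 0; 0, c⁻¹], by simp [Matrix.det_fin_two, hc0]⟩, rfl⟩
  have huH : u ∈ h61BorelSub F d := by
    rw [h61_mem_borelSub, hu]
    simp
  have htH : t ∈ h61BorelSub F d := by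
    rw [h61_mem_borelSub, ht]
    simpa using had
  have hnc : ¬ IsMulCommutative (h61BorelSub F d) := by
    rw [comm_iff]
    intro hcomm
    have h1 := hcomm u huH t htH
    have h2 := congrArg (fun m : Matrix.SpecialLinearGroup (Fin 2) F => m.1 0 1) h1
    simp only [Matrix.SpecialLinearGroup.coe_mul, hu, ht] at h2
    simp [Matrix.mul_apply, Fin.sum_univ_two] at h2
    -- h2 : a⁻¹ = a
    have haa : a * a = 1 := by
      have h3 : a * a⁻¹ = 1 := mul_inv_cancel₀ ha0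
      rw [h2] at h3
      exact h3
    have h20 : (2 : F) = 0 := CharTwo.two_eq_zero
    have h4 : (a - 1) * (a - 1) = 0 := by linear_combination haa - (a - 1) * h20
    have h5 : a - 1 = 0 := mul_self_eq_zero.mp h4
    exact ha1 (sub_eq_zero.mp h5)
  have hN := h _ hnc
  have hwN : w ∈ Subgroup.normalizer ((h61BorelSub F d : Subgroup _) : Set _) := by
    rw [Subgroup.mem_normalizer_iff]
    intro g
    have hg : g.1 = !![g.1 0 0, g.1 0 1; g.1 1 0, g.1 1 1] := Matrix.eta_fin_two g.1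
    have ew : (w * g * w⁻¹).1 =
        !![c, 0; 0, c⁻¹] * !![g.1 0 0, g.1 0 1; g.1 1 0, g.1 1 1] * !![c⁻¹, 0; 0, c] := by
      rw [Matrix.SpecialLinearGroup.coe_mul, Matrix.SpecialLinearGroup.coe_mul,
        Matrix.SpecialLinearGroup.coe_inv, hw, Matrix.adjugate_fin_two, ← hg]
      simp
    have e10 : (w * g * w⁻¹).1 1 0 = c⁻¹ * g.1 1 0 * c⁻¹ := by
      rw [ew, Matrix.mul_fin_two, Matrix.mul_fin_two]
      simp
    have e00 : (w * g * w⁻¹).1 0 0 = g.1 0 0 := by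
      rw [ew, Matrix.mul_fin_two, Matrix.mul_fin_two]
      simp
      field_simp
    rw [h61_mem_borelSub, h61_mem_borelSub, e10, e00]
    constructor
    · rintro ⟨h1, h2⟩
      exact ⟨by rw [h1]; simp, h2⟩
    · rintro ⟨h1, h2⟩
      refine ⟨?_, h2⟩
      have hci : c⁻¹ ≠ 0 := inv_ne_zero hc0
      rcases mul_eq_zero.mp h1 with h3 | h3
      · rcases mul_eq_zero.mp h3 with h4 | h4
        · exact absurd h4 hci
        · exact h4
      · exact absurd h3 hci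
  rw [hN] at hwN
  have hw2 := ((h61_mem_borelSub d w).mp hwN).2
  rw [hw] at hw2
  exact hcd (by simpa using hw2)

end Cfsg.Agent.Lib.helper61.SNG
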