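import Mathlib
import Cfsg.Agent.Lib.helper49.SPEDefs
import Cfsg.Agent.Lib.helper49.SPEPBIL

/-! S2333 split (helper49), piece CROSS, core version (prefixed names): the adjustment of the
cross terms, with the matrix `B₀` moving `e₀, e₁` to `u', v'` (piece PAIRTR) as data; also the
two independence facts needed to apply PAIRTR. -/

set_option autoImplicit false

namespace Cfsg.Agent.Lib.helper49.SPE

open Matrix

/-- The `j`-th column. -/
theorem h61_mulVec_ev {F : Type*} [Field F] {n : ℕ} (M : Matrix (Fin n) (Fin n) F) (j : Fin n) :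
    M *ᵥ ev F n j.1 = fun i => M i j := by
  funext i
  simp only [Matrix.mulVec, dotProduct, ev]
  rw [Finset.sum_eq_single j]
  · simp
  · intro k _ hk
    have : k.1 ≠ j.1 := fun h => hk (Fin.ext h)
    simp [this]
  · intro h
    exact absurd (Finset.mem_univ j) h

/-- `e₀, e₁` are independent. -/
theorem h61_indep_ev {F : Type*} [Field F] {n : ℕ} (hn : 2 ≤ n) :
    Indep (ev F n 0) (ev F n 1) := by
  intro s t h
  have h0 := congr_fun h ⟨0, by omega⟩
  have h1 := congr_fun h ⟨1, by omega⟩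
  simp [ev] at h0 h1
  exact ⟨h0, h1⟩

/-- Vectors with non-zero polar value are independent (characteristic 2). -/
theorem h61_indep_of_polar {F : Type*} [Field F] {n : ℕ} (h2 : (2 : F) = 0)
    (Q : (Fin n → F) → F) (hQ : IsQF Q) (u v : Fin n → F) (h : polar Q u v ≠ 0) : Indep u v := by
  obtain ⟨hadd, hsmul, hsymm, -, hdiag⟩ := polar_bilin Q hQ
  intro s t hst
  have hz : ∀ w, polar Q (s • u + t • v) w = 0 := by
    intro w
    rw [hst]
    have := hsmul 0 u w
    rw [zero_smul, zero_mul] at this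
    exact this
  have e1 := hz v
  rw [hadd, hsmul, hsmul, hdiag, h2, zero_mul, mul_zero, add_zero] at e1
  have e2 := hz u
  rw [hadd, hsmul, hsmul, hdiag, h2, zero_mul, mul_zero, zero_add, hsymm v u] at e2
  exact ⟨(mul_eq_zero.mp e1).resolve_right h, (mul_eq_zero.mp e2).resolve_right h⟩

/-- CROSS with `B₀` given. -/
theorem h61_cross_core {F : Type*} [Field F] {n : ℕ} (hn : 2 ≤ n) (h2 : (2 : F) = 0)
    (Q : (Fin n → F) → F) (hQ : IsQF Q) (u' v' : Fin n → F) (hb : polar Q u' v' ≠ 0)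
    (r s : Fin n → F) (B₀ : Matrix (Fin n) (Fin n) F) (hdet : B₀.det ≠ 0)
    (h0 : B₀ *ᵥ ev F n 0 = u') (h1 : B₀ *ᵥ ev F n 1 = v') :
    ∃ B : Matrix (Fin n) (Fin n) F, B.det ≠ 0 ∧ B *ᵥ ev F n 0 = u' ∧ B *ᵥ ev F n 1 = v' ∧
      ∀ j : Fin n, 2 ≤ j.1 →
        polar Q u' (B *ᵥ ev F n j.1) = r j ∧ polar Q v' (B *ᵥ ev F n j.1) = s j := by
  classical
  obtain ⟨hadd, hsmul, hsymm, -, hdiag⟩ := polar_bilin Q hQ
  have hadd2 : ∀ w x y, polar Q w (x + y) = polar Q w x + polar Q w y := by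
    intro w x y
    rw [hsymm w (x + y), hadd, hsymm x w, hsymm y w]
  have hsmul2 : ∀ (c : F) w x, polar Q w (c • x) = c * polar Q w x := by
    intro c w x
    rw [hsymm w (c • x), hsmul, hsymm x w]
  have huu : polar Q u' u' = 0 := by rw [hdiag, h2, zero_mul]
  have hvv : polar Q v' v' = 0 := by rw [hdiag, h2, zero_mul]
  let α : Fin n → F := fun j => (s j - polar Q v' (B₀ *ᵥ ev F n j.1)) / polar Q u' v'
  let β : Fin n → F := fun j => (r j - polar Q u' (B₀ *ᵥ ev F n j.1)) / polar Q u' v'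
  let X : Matrix (Fin n) (Fin n) F := fun i j =>
    if 2 ≤ j.1 then (if i.1 = 0 then α j else if i.1 = 1 then β j else 0) else 0
  have hX0 : ∀ i j : Fin n, j.1 < 2 → X i j = 0 := by
    intro i j hj
    change (if 2 ≤ j.1 then (if i.1 = 0 then α j else if i.1 = 1 then β j else 0) else 0) = 0
    rw [if_neg (by omega)]
  have hX1 : ∀ i j : Fin n, 2 ≤ i.1 → X i j = 0 := by
    intro i j hi
    change (if 2 ≤ j.1 then (if i.1 = 0 then α j else if i.1 = 1 then β j else 0) else 0) = 0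
    split_ifs <;> first | rfl | omega
  have hdetX : (1 + X).det = 1 := by
    have htri : (1 + X).BlockTriangular id := by
      intro i j hij
      have hij' : j.1 < i.1 := hij
      rw [Matrix.add_apply, Matrix.one_apply_ne (by intro h; rw [h] at hij'; omega)]
      by_cases hj : j.1 < 2
      · rw [hX0 i j hj, add_zero]
      · rw [hX1 i j (by omega), add_zero]
    rw [Matrix.det_of_upperTriangular htri]
    refine Finset.prod_eq_one (fun i _ => ?_)
    rw [Matrix.add_apply, Matrix.one_apply_eq]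
    by_cases hi : i.1 < 2
    · rw [hX0 i i hi, add_zero]
    · rw [hX1 i i (by omega), add_zero]
  have hcol : ∀ j : Fin n, j.1 < 2 → (1 + X) *ᵥ ev F n j.1 = ev F n j.1 := by
    intro j hj
    rw [h61_mulVec_ev]
    funext i
    rw [Matrix.add_apply, hX0 i j hj, add_zero, Matrix.one_apply]
    simp [ev, Fin.ext_iff]
  have hcol2 : ∀ j : Fin n, 2 ≤ j.1 →
      (1 + X) *ᵥ ev F n j.1 = ev F n j.1 + (α j • ev F n 0 + β j • ev F n 1) := by
    intro j hj
    rw [h61_mulVec_ev]
    funext i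
    rw [Matrix.add_apply, Matrix.one_apply]
    change _ + (if 2 ≤ j.1 then (if i.1 = 0 then α j else if i.1 = 1 then β j else 0) else 0) = _
    rw [if_pos hj]
    simp only [Pi.add_apply, Pi.smul_apply, smul_eq_mul, ev, Fin.ext_iff]
    by_cases hi0 : i.1 = 0
    · simp [hi0]
    · by_cases hi1 : i.1 = 1
      · simp [hi1]
      · simp [hi0, hi1]
  refine ⟨B₀ * (1 + X), ?_, ?_, ?_, ?_⟩
  · rw [Matrix.det_mul, hdetX, mul_one]
    exact hdet
  · have := hcol ⟨0, by omega⟩ (by simp)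
    rw [← Matrix.mulVec_mulVec, this]
    exact h0
  · have := hcol ⟨1, by omega⟩ (by simp)
    rw [← Matrix.mulVec_mulVec, this]
    exact h1
  · intro j hj
    have hB : (B₀ * (1 + X)) *ᵥ ev F n j.1 = B₀ *ᵥ ev F n j.1 + (α j • u' + β j • v') := by
      rw [← Matrix.mulVec_mulVec, hcol2 j hj, Matrix.mulVec_add, Matrix.mulVec_add,
        Matrix.mulVec_smul, Matrix.mulVec_smul, h0, h1]
    rw [hB]
    refine ⟨?_, ?_⟩
    · rw [hadd2, hadd2, hsmul2, hsmul2, huu, mul_zero, zero_add]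
      change _ + (r j - polar Q u' (B₀ *ᵥ ev F n j.1)) / polar Q u' v' * polar Q u' v' = _
      rw [div_mul_cancel₀ _ hb]
      ring
    · rw [hadd2, hadd2, hsmul2, hsmul2, hvv, mul_zero, add_zero, hsymm v' u']
      change _ + (s j - polar Q v' (B₀ *ᵥ ev F n j.1)) / polar Q u' v' * polar Q u' v' = _
      rw [div_mul_cancel₀ _ hb]
      ring

end Cfsg.Agent.Lib.helper49.SPE
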