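import Mathlib
import Cfsg.Agent.Lib.helper49.SPEDefs
import Cfsg.Agent.Lib.helper40.SPEPAIRTR
import Cfsg.Agent.Lib.helper61.SPECROSScore

/-! S2333 split (helper49), piece CROSS, racer copy (prefixed name): `h61_cross_adjust`. -/

set_option autoImplicit false

namespace Cfsg.Agent.Lib.helper49.SPE

open Matrix

/-- CROSS (L), racer copy. -/
theorem h61_cross_adjust {F : Type*} [Field F] {n : ℕ} (hn : 2 ≤ n) (h2 : (2 : F) = 0)
    (Q : (Fin n → F) → F) (hQ : IsQF Q) (u' v' : Fin n → F) (hb : polar Q u' v' ≠ 0)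
    (r s : Fin n → F) :
    ∃ B : Matrix (Fin n) (Fin n) F, B.det ≠ 0 ∧ B *ᵥ ev F n 0 = u' ∧ B *ᵥ ev F n 1 = v' ∧
      ∀ j : Fin n, 2 ≤ j.1 →
        polar Q u' (B *ᵥ ev F n j.1) = r j ∧ polar Q v' (B *ᵥ ev F n j.1) = s j := by
  obtain ⟨B₀, hdet, h0, h1⟩ := pair_trans (ev F n 0) (ev F n 1) u' v' (h61_indep_ev hn)
    (h61_indep_of_polar h2 Q hQ u' v' hb)
  exact h61_cross_core hn h2 Q hQ u' v' hb r s B₀ hdet h0 h1

end Cfsg.Agent.Lib.helper49.SPE
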