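import Mathlib
import Cfsg.Agent.Lib.helper44.SUODefs
import Cfsg.Agent.Lib.helper61.SUOXU

/-! S2334 split (helper44), piece OXX, racer copy (prefixed names): `h61_xt_mul_xt`. -/

set_option autoImplicit false

namespace Cfsg.Agent.Lib.helper44.SUW

open Matrix

/-- `M(C) * [s; b s] = [s; b s]`. -/
theorem h61_blk_mul_col {K : Type*} [Field K] {m : ℕ} (a b : K) (hab : a * b = -1)
    (C : Matrix (Fin m) (Fin m) K) (s : Matrix (Fin m) (Fin 1) K) :
    Matrix.fromBlocks (1 + C) (a • C) (b • C) (1 - C) * Matrix.fromRows s (b • s) =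
      Matrix.fromRows s (b • s) := by
  have hba : b * a = -1 := by
    rw [mul_comm]
    exact hab
  rw [Matrix.fromBlocks_mul_fromRows]
  congr 1
  · simp only [Matrix.add_mul, Matrix.one_mul, Matrix.smul_mul, Matrix.mul_smul, smul_smul,
      hab, hba, neg_smul, one_smul]
    abel
  · simp only [Matrix.sub_mul, Matrix.one_mul, Matrix.smul_mul, Matrix.mul_smul, smul_sub]
    abel

/-- `[-r, -a r] * M(C) = [-r, -a r]`. -/
theorem h61_row_mul_blk {K : Type*} [Field K] {m : ℕ} (a b : K) (hab : a * b = -1)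
    (C : Matrix (Fin m) (Fin m) K) (r : Matrix (Fin 1) (Fin m) K) :
    Matrix.fromCols (-r) (-(a • r)) * Matrix.fromBlocks (1 + C) (a • C) (b • C) (1 - C) =
      Matrix.fromCols (-r) (-(a • r)) := by
  have hba : b * a = -1 := by
    rw [mul_comm]
    exact hab
  rw [Matrix.fromCols_mul_fromBlocks]
  congr 1
  · simp only [Matrix.mul_add, Matrix.mul_one, Matrix.neg_mul, Matrix.smul_mul,
      Matrix.mul_smul, smul_neg, smul_smul, hab, hba, neg_smul, one_smul, neg_neg]
    abel
  · simp only [Matrix.mul_sub, Matrix.mul_one, Matrix.neg_mul, Matrix.smul_mul,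
      Matrix.mul_smul, smul_neg, smul_sub]
    abel

/-- `[-r, -a r] * [s; b s] = 0`. -/
theorem h61_row_mul_col {K : Type*} [Field K] {m : ℕ} (a b : K) (hab : a * b = -1)
    (r : Matrix (Fin 1) (Fin m) K) (s : Matrix (Fin m) (Fin 1) K) :
    Matrix.fromCols (-r) (-(a • r)) * Matrix.fromRows s (b • s) = 0 := by
  have hba : b * a = -1 := by
    rw [mul_comm]
    exact hab
  rw [Matrix.fromCols_mul_fromRows]
  simp only [Matrix.neg_mul, Matrix.smul_mul, Matrix.mul_smul, smul_neg, smul_smul, hab, hba,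
    neg_smul, one_smul, neg_neg]
  abel

/-- `M(D) + [s; b s] * [-r, -a r] = M(D - s r)`. -/
theorem h61_blk_add_col_row {K : Type*} [Field K] {m : ℕ} (a b : K) (hab : a * b = -1)
    (D : Matrix (Fin m) (Fin m) K) (s : Matrix (Fin m) (Fin 1) K)
    (r : Matrix (Fin 1) (Fin m) K) :
    Matrix.fromBlocks (1 + D) (a • D) (b • D) (1 - D) +
        Matrix.fromRows s (b • s) * Matrix.fromCols (-r) (-(a • r)) =
      Matrix.fromBlocks (1 + (D - s * r)) (a • (D - s * r)) (b • (D - s * r))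
        (1 - (D - s * r)) := by
  have hba : b * a = -1 := by
    rw [mul_comm]
    exact hab
  rw [Matrix.fromRows_mul_fromCols, Matrix.fromBlocks_add]
  congr 1
  · simp only [Matrix.mul_neg]
    abel
  · simp only [Matrix.mul_neg, Matrix.mul_smul, smul_sub]
    abel
  · simp only [Matrix.mul_neg, Matrix.smul_mul, smul_sub]
    abel
  · simp only [Matrix.mul_neg, Matrix.smul_mul, Matrix.mul_smul, smul_neg, smul_smul, hab, hba,
      neg_smul, one_smul, neg_neg]
    abel

/-- The block identity behind `x(t) x(t') = x(t') x(t) u(c)`. -/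
theorem h61_xx_blocks {K : Type*} [Field K] {m : ℕ}
    (A A' U : Matrix (Fin m ⊕ Fin m) (Fin m ⊕ Fin m) K) (B B' : Matrix (Fin m ⊕ Fin m) (Fin 1) K)
    (R R' : Matrix (Fin 1) (Fin m ⊕ Fin m) K)
    (hAB' : A * B' = B') (hA'B : A' * B = B) (hRA' : R * A' = R) (hR'A : R' * A = R')
    (hRB' : R * B' = 0) (hR'B : R' * B = 0) (hRU : R * U = R) (hR'U : R' * U = R')
    (hmain : A * A' + B * R' = (A' * A + B' * R) * U) :
    Matrix.fromBlocks A B R (1 : Matrix (Fin 1) (Fin 1) K) *
        Matrix.fromBlocks A' B' R' (1 : Matrix (Fin 1) (Fin 1) K) =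
      Matrix.fromBlocks A' B' R' (1 : Matrix (Fin 1) (Fin 1) K) *
        Matrix.fromBlocks A B R (1 : Matrix (Fin 1) (Fin 1) K) *
        Matrix.fromBlocks U 0 0 (1 : Matrix (Fin 1) (Fin 1) K) := by
  rw [Matrix.fromBlocks_multiply, Matrix.fromBlocks_multiply, Matrix.fromBlocks_multiply]
  congr 1
  · rw [Matrix.mul_zero, add_zero]
    exact hmain
  · rw [hAB', hA'B, Matrix.mul_one, Matrix.mul_one, Matrix.mul_zero, zero_add, Matrix.mul_one,
      add_comm]
  · rw [hRA', hR'A, Matrix.one_mul, Matrix.one_mul, Matrix.mul_zero, add_zero, Matrix.add_mul,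
      hRU, hR'U, add_comm]
  · rw [hRB', hR'B, Matrix.mul_zero, Matrix.mul_one, zero_add, zero_add, Matrix.mul_one]

/-- OXX (L), racer copy. -/
theorem h61_xt_mul_xt {K : Type*} [Field K] (σ : K →+* K) (hσσ : ∀ x, σ (σ x) = x) (ε η : K)
    (hε : ε * σ ε = -1) {m : ℕ} (t t' : Fin m → K) :
    xtMat σ ε η t * xtMat σ ε η t' =
      xtMat σ ε η t' * xtMat σ ε η t * uoMat σ ε (cmat σ t' t) := by
  have hab : σ ε * ε = -1 := by
    rw [mul_comm]
    exact hε
  have hB : ∀ s : Fin m → K,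
      (Matrix.of (fun (i : Fin m ⊕ Fin m) (_ : Fin 1) => Sum.elim s (fun j => ε * s j) i)) =
      Matrix.fromRows (Matrix.replicateCol (Fin 1) s) (ε • Matrix.replicateCol (Fin 1) s) := by
    intro s
    ext i j
    cases i <;> rfl
  have hC : ∀ s : Fin m → K, (Matrix.of (fun (_ : Fin 1) (j : Fin m ⊕ Fin m) =>
        Sum.elim (fun j => - σ (s j)) (fun j => - (σ ε * σ (s j))) j)) =
      Matrix.fromCols (-(Matrix.replicateRow (Fin 1) (fun j => σ (s j))))
        (-(σ ε • Matrix.replicateRow (Fin 1) (fun j => σ (s j)))) := by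
    intro s
    ext i j
    cases j <;> rfl
  have hE : (-η) • Matrix.vecMulVec t (fun j => σ (t j)) +
        (-η) • Matrix.vecMulVec t' (fun j => σ (t' j)) -
        Matrix.replicateCol (Fin 1) t * Matrix.replicateRow (Fin 1) (fun j => σ (t' j)) =
      (-η) • Matrix.vecMulVec t' (fun j => σ (t' j)) +
        (-η) • Matrix.vecMulVec t (fun j => σ (t j)) -
        Matrix.replicateCol (Fin 1) t' * Matrix.replicateRow (Fin 1) (fun j => σ (t j)) +
        cmat σ t' t := by
    have hc : cmat σ t' t =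
        Matrix.replicateCol (Fin 1) t' * Matrix.replicateRow (Fin 1) (fun j => σ (t j)) -
          Matrix.replicateCol (Fin 1) t * Matrix.replicateRow (Fin 1) (fun j => σ (t' j)) := by
      unfold cmat
      rw [Matrix.vecMulVec_eq (Fin 1) t' (fun j => σ (t j)),
        Matrix.vecMulVec_eq (Fin 1) t (fun j => σ (t' j))]
      rfl
    rw [hc]
    abel
  unfold xtMat uoMat
  rw [Matrix.submatrix_mul_equiv, Matrix.submatrix_mul_equiv, Matrix.submatrix_mul_equiv]
  congr 1
  refine h61_xx_blocks _ _ _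
    (Matrix.of (fun (i : Fin m ⊕ Fin m) (_ : Fin 1) => Sum.elim t (fun j => ε * t j) i))
    (Matrix.of (fun (i : Fin m ⊕ Fin m) (_ : Fin 1) => Sum.elim t' (fun j => ε * t' j) i))
    (Matrix.of (fun (_ : Fin 1) (j : Fin m ⊕ Fin m) =>
        Sum.elim (fun j => - σ (t j)) (fun j => - (σ ε * σ (t j))) j))
    (Matrix.of (fun (_ : Fin 1) (j : Fin m ⊕ Fin m) =>
        Sum.elim (fun j => - σ (t' j)) (fun j => - (σ ε * σ (t' j))) j))
    ?_ ?_ ?_ ?_ ?_ ?_ ?_ ?_ ?_
  · rw [hB t']
    exact h61_blk_mul_col _ _ hab _ _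
  · rw [hB t]
    exact h61_blk_mul_col _ _ hab _ _
  · rw [hC t]
    exact h61_row_mul_blk _ _ hab _ _
  · rw [hC t']
    exact h61_row_mul_blk _ _ hab _ _
  · rw [hC t, hB t']
    exact h61_row_mul_col _ _ hab _ _
  · rw [hC t', hB t]
    exact h61_row_mul_col _ _ hab _ _
  · rw [hC t]
    exact h61_row_mul_blk _ _ hab _ _
  · rw [hC t']
    exact h61_row_mul_blk _ _ hab _ _
  · rw [hB t, hB t', hC t, hC t', h61_blk_mul _ _ hab, h61_blk_mul _ _ hab,
      h61_blk_add_col_row _ _ hab, h61_blk_add_col_row _ _ hab, h61_blk_mul _ _ hab, hE]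

end Cfsg.Agent.Lib.helper44.SUW
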