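/-
S2221 piece project (owner helper2), PIECE C: the Sylow 2-subgroups of the alternating groups of
degree 4 and 5 are direct products of two subgroups of order 2.
-/
import Cfsg.Agent.S2222
import Mathlib
import Cfsg.Prelude.Def_TwoFusion

set_option autoImplicit false
open Equiv Cfsg.Agent.S2222

namespace Cfsg.Agent.Lib.helper61.SylAlt

theorem c_zpowers_of_sq {G : Type*} [Group G] {a x : G} (ha : a ^ 2 = 1)
    (hx : x ∈ Subgroup.zpowers a) : x = 1 ∨ x = a := by
  obtain ⟨i, hi⟩ := hx
  have hi' : a ^ i = x := hi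
  rw [← hi']
  have ha' : a ^ (2 : ℤ) = 1 := by
    rw [← ha]; exact zpow_ofNat a 2
  obtain ⟨k, hk | hk⟩ := Int.even_or_odd' i
  · left; rw [hk, zpow_mul, ha', one_zpow]
  · right; rw [hk, zpow_add, zpow_mul, ha', one_zpow, one_mul, zpow_one]

/-- a group of order 4 and exponent 2 is the direct product of two subgroups of order 2 -/
theorem c_klein_decomp {G : Type*} [Group G] [Finite G] (P : Subgroup G) (hcard : Nat.card P = 4)
    (hsq : ∀ g ∈ P, g ^ 2 = 1) :
    ∃ S₁ S₂ : Subgroup G, S₁ ≠ ⊥ ∧ S₂ ≠ ⊥ ∧ Cfsg.IsInternalDirectProduct S₁ S₂ P := by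
  classical
  have hp2 : Fact (Nat.Prime 2) := ⟨Nat.prime_two⟩
  obtain ⟨a, haP, ha1⟩ : ∃ a ∈ P, a ≠ 1 := by
    by_contra hcon
    push Not at hcon
    have hbot : P = ⊥ := (Subgroup.eq_bot_iff_forall P).mpr hcon
    rw [hbot] at hcard
    simp at hcard
  have hza : Nat.card (Subgroup.zpowers a) = 2 := by
    rw [Nat.card_zpowers]; exact orderOf_eq_prime (hsq a haP) ha1
  obtain ⟨b, hbP, hb⟩ : ∃ b ∈ P, b ∉ Subgroup.zpowers a := by
    by_contra hcon
    push Not at hcon
    have hle : P ≤ Subgroup.zpowers a := hcon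
    have := Subgroup.card_le_of_le hle
    omega
  have hb1 : b ≠ 1 := fun h => hb (h ▸ one_mem _)
  have hab : a * b = b * a :=
    comm_of_sq (hsq a haP) (hsq b hbP) (hsq _ (mul_mem haP hbP))
  have hSP : Subgroup.zpowers a ⊔ Subgroup.zpowers b ≤ P :=
    sup_le ((Subgroup.zpowers_le).mpr haP) ((Subgroup.zpowers_le).mpr hbP)
  refine ⟨Subgroup.zpowers a, Subgroup.zpowers b, ?_, ?_, ?_, ?_, ?_, ?_, ?_⟩
  · intro h
    apply ha1
    have : a ∈ (⊥ : Subgroup G) := h ▸ Subgroup.mem_zpowers a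
    simpa using this
  · intro h
    apply hb1
    have : b ∈ (⊥ : Subgroup G) := h ▸ Subgroup.mem_zpowers b
    simpa using this
  · exact (Subgroup.zpowers_le).mpr haP
  · exact (Subgroup.zpowers_le).mpr hbP
  · intro x hx y hy
    obtain ⟨i, rfl⟩ := hx
    obtain ⟨j, rfl⟩ := hy
    exact ((show Commute a b from hab).zpow_zpow i j).eq
  · rw [Subgroup.eq_bot_iff_forall]
    intro x hx
    obtain ⟨hxa, hxb⟩ := Subgroup.mem_inf.mp hx
    rcases c_zpowers_of_sq (hsq a haP) hxa with h | h
    · exact h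
    · rcases c_zpowers_of_sq (hsq b hbP) hxb with h' | h'
      · exact h'
      · exfalso
        apply hb
        rw [← h', h]
        exact Subgroup.mem_zpowers a
  · apply Subgroup.eq_of_le_of_card_ge hSP
    have h1 : Nat.card (Subgroup.zpowers a) ∣ Nat.card ↥(Subgroup.zpowers a ⊔ Subgroup.zpowers b) :=
      Subgroup.card_dvd_of_le le_sup_left
    have h2 : Nat.card ↥(Subgroup.zpowers a ⊔ Subgroup.zpowers b) ∣ Nat.card P :=
      Subgroup.card_dvd_of_le hSP
    rw [hza] at h1
    rw [hcard] at h2 ⊢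
    have h3 : Nat.card ↥(Subgroup.zpowers a ⊔ Subgroup.zpowers b) ≠ 2 := by
      intro h
      have heq : Subgroup.zpowers a = Subgroup.zpowers a ⊔ Subgroup.zpowers b :=
        Subgroup.eq_of_le_of_card_ge le_sup_left (by rw [h, hza])
      apply hb
      rw [heq]
      exact (le_sup_right : Subgroup.zpowers b ≤ _) (Subgroup.mem_zpowers b)
    have h4 := Nat.le_of_dvd (by norm_num) h2
    have h5 : 0 < Nat.card ↥(Subgroup.zpowers a ⊔ Subgroup.zpowers b) := Nat.card_pos
    obtain ⟨c, hc⟩ := h1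
    omega

set_option maxRecDepth 100000 in
theorem c_E1_four : ∀ g : Perm (Fin 4), Perm.sign g = 1 → g ^ 4 = 1 → g ^ 2 = 1 := by
  decide +kernel

theorem c_card_alt4 : Nat.card (alternatingGroup (Fin 4)) = 12 := by
  have h := two_mul_card_alternatingGroup (α := Fin 4)
  rw [Fintype.card_perm, Fintype.card_fin] at h
  rw [Nat.card_eq_fintype_card]
  have h24 : Nat.factorial 4 = 24 := by decide
  rw [h24] at h
  omega

theorem c_fact12 : 2 ^ (12 : ℕ).factorization 2 = 4 := by
  have h : (12 : ℕ) = 2 ^ 2 * 3 := by norm_num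
  have h3 : (3 : ℕ).factorization 2 = 0 := Nat.factorization_eq_zero_of_not_dvd (by norm_num)
  rw [h, Nat.factorization_mul (by norm_num) (by norm_num),
    Nat.Prime.factorization_pow Nat.prime_two]
  simp [h3]

/-- PIECE C -/
theorem small_decomp (n : ℕ) (hn : n = 4 ∨ n = 5) (P : Sylow 2 (alternatingGroup (Fin n))) :
    ∃ S₁ S₂ : Subgroup (alternatingGroup (Fin n)), S₁ ≠ ⊥ ∧ S₂ ≠ ⊥ ∧
      Cfsg.IsInternalDirectProduct S₁ S₂ (P : Subgroup (alternatingGroup (Fin n))) := by
  have hp2 : Fact (Nat.Prime 2) := ⟨Nat.prime_two⟩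
  rcases hn with rfl | rfl
  · have hcard : Nat.card (P : Subgroup (alternatingGroup (Fin 4))) = 4 := by
      rw [Sylow.card_eq_multiplicity, c_card_alt4, c_fact12]
    apply c_klein_decomp _ hcard
    intro g hg
    have h4 : g ^ 4 = 1 := by
      have := Subgroup.orderOf_dvd_natCard _ hg
      rw [hcard] at this
      exact orderOf_dvd_iff_pow_eq_one.mp this
    have h4' : (g : Perm (Fin 4)) ^ 4 = 1 := by
      have := congrArg Subtype.val h4
      simpa only [Subgroup.coe_pow, Subgroup.coe_one] using this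
    have h2 := c_E1_four (g : Perm (Fin 4)) (Equiv.Perm.mem_alternatingGroup.mp g.2) h4'
    apply Subtype.ext
    simpa only [Subgroup.coe_pow, Subgroup.coe_one] using h2
  · have hcard : Nat.card (P : Subgroup (alternatingGroup (Fin 5))) = 4 := by
      rw [Sylow.card_eq_multiplicity, card_alt5, fact60]
    apply c_klein_decomp _ hcard
    intro g hg
    have h4 : g ^ 4 = 1 := by
      have := Subgroup.orderOf_dvd_natCard _ hg
      rw [hcard] at this
      exact orderOf_dvd_iff_pow_eq_one.mp this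
    have h4' : (g : Perm (Fin 5)) ^ 4 = 1 := by
      have := congrArg Subtype.val h4
      simpa only [Subgroup.coe_pow, Subgroup.coe_one] using this
    have h2 := E1 (g : Perm (Fin 5)) (Equiv.Perm.mem_alternatingGroup.mp g.2) h4'
    apply Subtype.ext
    simpa only [Subgroup.coe_pow, Subgroup.coe_one] using h2

end Cfsg.Agent.Lib.helper61.SylAlt
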