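import Mathlib

/-!
# Computational core for the twin pair `(11, 13)`

A kernel-checkable enumeration: for every `11`-cycle `x` on `{2, …, 12} ⊆ {0, …, 12}` with
`x 2 = 3`, some short word in `x` and the rotation `i ↦ i + 1` has a `7`-cycle.
The enumeration runs over the cycle `(2 3 c₁ … c₉)`, carrying the base-16 table of `x`, with
precomputed hints (a word and a point on one of its `7`-cycles).
Shared library file of seat `helper61`; everything lives in `Cfsg.Agent.Lib.helper61.TW13`.
-/

set_option autoImplicit false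

namespace Cfsg.Agent.Lib.helper61.TW13

/-- Strict application: forces the natural number argument before calling `f`. -/
def strict {α : Type} (f : ℕ → α) (n : ℕ) : α := Nat.rec (f 0) (fun k _ => f (k + 1)) n

theorem strict_eq {α : Type} (f : ℕ → α) (n : ℕ) : strict f n = f n := by
  cases n <;> rfl

/-- Table lookup: the `i`-th base-16 digit. -/
def lookup (T i : ℕ) : ℕ := Nat.mod (Nat.div T (Nat.pow (nat_lit 16) i)) (nat_lit 16)

/-- One letter: `x ∘ y^k`. -/
def ev1 (T k i : ℕ) : ℕ := lookup T (Nat.mod (Nat.add i k) (nat_lit 13))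

/-- Two letters. -/
def ev2 (T k l i : ℕ) : ℕ := ev1 T k (ev1 T l i)

/-- Three letters. -/
def ev3 (T a b c i : ℕ) : ℕ := ev1 T a (ev1 T b (ev1 T c i))

/-- Seven-fold iterate. -/
def it7 (f : ℕ → ℕ) (i : ℕ) : ℕ := f (f (f (f (f (f (f i))))))

/-- The point `i` lies on a `7`-cycle of `f`. -/
def on7 (f : ℕ → ℕ) (i : ℕ) : Bool := and (not (Nat.beq (f i) i)) (Nat.beq (it7 f i) i)

/-- Check a hint `h = (((n * 13 + a) * 13 + b) * 13 + c) * 7 + i`. -/
def verify (T h : ℕ) : Bool :=
  strict (fun i => strict (fun c => strict (fun b => strict (fun a => strict (fun n =>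
    cond (Nat.beq n (nat_lit 1)) (on7 (ev1 T c) i)
      (cond (Nat.beq n (nat_lit 2)) (on7 (ev2 T b c) i) (on7 (ev3 T a b c) i)))
    (Nat.div h (nat_lit 15379)))
    (Nat.mod (Nat.div h (nat_lit 1183)) (nat_lit 13)))
    (Nat.mod (Nat.div h (nat_lit 91)) (nat_lit 13)))
    (Nat.mod (Nat.div h (nat_lit 7)) (nat_lit 13)))
    (Nat.mod h (nat_lit 7))

/-- The check at a leaf: the hint `h` works for the table `T`, closed up by `x last = 2`. -/
def leaf (h T last : ℕ) : Bool :=
  strict (fun Tf => verify Tf h) (Nat.add T (Nat.mul (nat_lit 2) (Nat.pow (nat_lit 16) last)))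

/-- The candidates for the remaining entries of the cycle. -/
def cands : List ℕ := [4, 5, 6, 7, 8, 9, 10, 11, 12]

/-- Factorials. -/
def fct : ℕ → ℕ
  | 0 => 1 | 1 => 1 | 2 => 2 | 3 => 6 | 4 => 24 | 5 => 120 | 6 => 720 | 7 => 5040 | 8 => 40320
  | _ => 0

/-- Bit test. -/
def bit (used c : ℕ) : Bool := Nat.beq (Nat.land (Nat.shiftRight used c) (nat_lit 1)) (nat_lit 1)

/-- Loop over the candidates not yet used; the `j`-th unused candidate receives the `j`-th block
of `w` bits of the hint block `B`. -/
def loop (k : ℕ → ℕ → Bool) (used B w mask : ℕ) : ℕ → List ℕ → Bool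
  | _, [] => true
  | j, c :: cs =>
    cond (bit used c) (loop k used B w mask j cs)
      (and (k c (Nat.land (Nat.shiftRight B (Nat.mul j w)) mask))
        (loop k used B w mask (Nat.add j (nat_lit 1)) cs))

/-- Depth-first enumeration of all completions of the cycle; `last` is the last entry so far,
`T` the table so far and `B` the block of hints for the completions. -/
def dfs : ℕ → ℕ → ℕ → ℕ → ℕ → Bool
  | 0, _, last, T, B => leaf B T last
  | n + 1, used, last, T, B =>
    strict (fun w => strict (fun mask =>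
      loop (fun c b => strict (fun u => strict (fun T' => strict (fun b' => dfs n u c T' b') b)
        (Nat.add T (Nat.mul c (Nat.pow (nat_lit 16) last))))
        (Nat.lor used (Nat.shiftLeft (nat_lit 1) c))) used B w mask 0 cands)
      (Nat.sub (Nat.pow (nat_lit 2) w) (nat_lit 1)))
      (Nat.mul (nat_lit 16) (fct n))

/-- The enumeration below the cycle prefix `(2 3 a b …)`, with hint block `H`. -/
def root (a b H : ℕ) : Bool :=
  dfs 7 (Nat.lor (Nat.shiftLeft 1 a) (Nat.shiftLeft 1 b)) b
    (16 + 3 * 16 ^ 2 + a * 16 ^ 3 + b * 16 ^ a) H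

end Cfsg.Agent.Lib.helper61.TW13
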