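import Cfsg.Agent.Lib.helper61.TW13Def

/-!
# Soundness of the enumeration for the twin pair `(11, 13)`

Shared library file of seat `helper61`; everything lives in `Cfsg.Agent.Lib.helper61.TW13`.
-/

set_option autoImplicit false

namespace Cfsg.Agent.Lib.helper61.TW13

open Equiv Equiv.Perm

/-- The final table after appending the entries `cs` to the cycle and closing it up. -/
def tfin : ℕ → ℕ → List ℕ → ℕ
  | T, last, [] => T + 2 * 16 ^ last
  | T, last, c :: cs => tfin (T + c * 16 ^ last) c cs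

theorem bit_eq (used c : ℕ) : bit used c = used.testBit c := by
  have h : bit used c = Nat.beq ((used >>> c) &&& 1) 1 := rfl
  rw [h, Nat.testBit, Nat.and_comm 1, Nat.and_one_is_mod]
  rcases Nat.mod_two_eq_zero_or_one (used >>> c) with h | h <;> rw [h] <;> rfl

theorem loop_sound (k : ℕ → ℕ → Bool) (used B w mask : ℕ) :
    ∀ (l : List ℕ) (j : ℕ), loop k used B w mask j l = true →
      ∀ c ∈ l, used.testBit c = false → ∃ b, k c b = true := by
  intro l
  induction l with
  | nil => intro j _ c hc; simp at hc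
  | cons a t ih =>
    intro j h c hc hbit
    rw [loop] at h
    rcases List.mem_cons.mp hc with rfl | hct
    · rw [bit_eq, hbit] at h
      simp only [cond_false, Bool.and_eq_true] at h
      exact ⟨_, h.1⟩
    · cases hb : bit used a
      · rw [hb] at h
        simp only [cond_false, Bool.and_eq_true] at h
        exact ih _ h.2 c hct hbit
      · rw [hb] at h
        simp only [cond_true] at h
        exact ih _ h c hct hbit

theorem dfs_sound : ∀ (n used last T B : ℕ), dfs n used last T B = true →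
    ∀ cs : List ℕ, cs.length = n → cs.Nodup → (∀ c ∈ cs, c ∈ cands ∧ used.testBit c = false) →
      ∃ h, verify (tfin T last cs) h = true := by
  intro n
  induction n with
  | zero =>
    intro used last T B h cs hlen _ _
    have hnil : cs = [] := List.length_eq_zero_iff.mp hlen
    subst hnil
    rw [dfs] at h
    simp only [leaf, strict_eq] at h
    exact ⟨B, h⟩
  | succ n ih =>
    intro used last T B h cs hlen hnd hcs
    obtain ⟨c, cs', rfl⟩ := List.exists_cons_of_length_eq_add_one hlen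
    rw [dfs] at h
    simp only [strict_eq] at h
    have hc := hcs c List.mem_cons_self
    obtain ⟨b, hb⟩ := loop_sound _ _ _ _ _ _ _ h c hc.1 hc.2
    have hnd' := List.nodup_cons.mp hnd
    refine ih _ _ _ _ hb cs' (by simpa using hlen) hnd'.2 ?_
    intro c' hc'
    refine ⟨(hcs c' (List.mem_cons_of_mem _ hc')).1, ?_⟩
    have hne : c ≠ c' := fun h => hnd'.1 (h ▸ hc')
    show (used ||| 1 <<< c).testBit c' = false
    rw [Nat.testBit_or, (hcs c' (List.mem_cons_of_mem _ hc')).2, Bool.false_or, Nat.one_shiftLeft,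
      Nat.testBit_two_pow]
    simpa using hne

theorem on7_iff (f : ℕ → ℕ) (i : ℕ) : on7 f i = true ↔ f i ≠ i ∧ it7 f i = i := by
  unfold on7
  rw [Bool.and_eq_true, Bool.not_eq_true']
  constructor
  · rintro ⟨h1, h2⟩
    exact ⟨Nat.ne_of_beq_eq_false h1, Nat.eq_of_beq_eq_true h2⟩
  · rintro ⟨h1, h2⟩
    constructor
    · cases hb : Nat.beq (f i) i
      · rfl
      · exact absurd (Nat.eq_of_beq_eq_true hb) h1
    · rw [h2]
      exact Nat.beq_refl i

theorem verify_sound (T h : ℕ) (hv : verify T h = true) :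
    ∃ i, i < 7 ∧ ((∃ c, on7 (ev1 T c) i = true) ∨ (∃ b c, on7 (ev2 T b c) i = true) ∨
      (∃ a b c, on7 (ev3 T a b c) i = true)) := by
  simp only [verify, strict_eq] at hv
  refine ⟨h % 7, Nat.mod_lt _ (by norm_num), ?_⟩
  cases h1 : Nat.beq (Nat.div h (nat_lit 15379)) (nat_lit 1)
  · rw [h1] at hv
    simp only [cond_false] at hv
    cases h2 : Nat.beq (Nat.div h (nat_lit 15379)) (nat_lit 2)
    · rw [h2] at hv
      simp only [cond_false] at hv
      exact Or.inr (Or.inr ⟨_, _, _, hv⟩)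
    · rw [h2] at hv
      simp only [cond_true] at hv
      exact Or.inr (Or.inl ⟨_, _, hv⟩)
  · rw [h1] at hv
    simp only [cond_true] at hv
    exact Or.inl ⟨_, hv⟩

theorem digit (v : Fin 13 → ℕ) (hv : ∀ i, v i < 16) (j : Fin 13) :
    lookup (∑ i : Fin 13, v i * 16 ^ (i : ℕ)) (j : ℕ) = v j := by
  have h0 := hv 0; have h1 := hv 1; have h2 := hv 2; have h3 := hv 3; have h4 := hv 4
  have h5 := hv 5; have h6 := hv 6; have h7 := hv 7; have h8 := hv 8; have h9 := hv 9
  have h10 := hv 10; have h11 := hv 11; have h12 := hv 12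
  show (∑ i : Fin 13, v i * 16 ^ (i : ℕ)) / 16 ^ (j : ℕ) % 16 = v j
  simp only [Fin.sum_univ_succ, Fin.sum_univ_zero, Fin.val_zero, Fin.val_succ,
    Fin.succ_zero_eq_one]
  fin_cases j <;> simp <;> omega

/-- `f` computes the permutation `w` on `{0, …, 12}`. -/
def Rep (f : ℕ → ℕ) (w : Perm (Fin 13)) : Prop := ∀ (j : ℕ) (hj : j < 13), f j = (w ⟨j, hj⟩ : ℕ)

theorem Rep.comp {f g : ℕ → ℕ} {w v : Perm (Fin 13)} (hf : Rep f w) (hg : Rep g v) :
    Rep (fun j => f (g j)) (w * v) := by
  intro j hj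
  show f (g j) = (w (v ⟨j, hj⟩) : ℕ)
  rw [hg j hj, hf _ (v ⟨j, hj⟩).2]

theorem Rep.it7 {f : ℕ → ℕ} {w : Perm (Fin 13)} (hf : Rep f w) : Rep (it7 f) (w ^ 7) := by
  have h : w ^ 7 = w * (w * (w * (w * (w * (w * w))))) := by
    simp only [pow_succ, pow_zero, one_mul, mul_assoc]
  rw [h]
  exact hf.comp (hf.comp (hf.comp (hf.comp (hf.comp (hf.comp hf)))))

theorem finRotate_pow_val (k : ℕ) (i : Fin 13) : (((finRotate 13) ^ k) i : ℕ) = (i + k) % 13 := by
  induction k with
  | zero => simp [Nat.mod_eq_of_lt i.2]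
  | succ k ih =>
    rw [pow_succ', Perm.mul_apply, finRotate_apply, Fin.val_add, ih]
    simp only [Fin.val_one]
    omega

theorem on7_rep {f : ℕ → ℕ} {w : Perm (Fin 13)} (hf : Rep f w) (i : ℕ) (hi : i < 13)
    (h : on7 f i = true) : w ⟨i, hi⟩ ≠ ⟨i, hi⟩ ∧ (w ^ 7) ⟨i, hi⟩ = ⟨i, hi⟩ := by
  rw [on7_iff] at h
  constructor
  · intro h'
    apply h.1
    rw [hf i hi, h']
  · apply Fin.ext
    rw [← hf.it7 i hi]
    exact h.2

end Cfsg.Agent.Lib.helper61.TW13
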