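import Cfsg.Agent.Lib.helper61.CycGen

/-!
# A `5`-cycle and a `7`-cycle on 7 points generate the alternating group

Shared library file of seat `helper61`.
-/

set_option autoImplicit false

namespace Cfsg.Agent.Lib.helper61.CycGen

open Equiv Equiv.Perm MulAction Subgroup

namespace TW7

/-- value vector of a normalised `5`-cycle on `Fin 7` -/
def vec7 (v3 v4 v5 v6 : Fin 7) : Fin 7 → Fin 7 := ![0, 1, 3, v3, v4, v5, v6]

/-- the enumeration statement for a fixed value of `v3` -/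
def Enum7At (v3 : Fin 7) : Prop := ∀ v4 v5 v6 : Fin 7,
    (∀ i j : Fin 7, vec7 v3 v4 v5 v6 i = vec7 v3 v4 v5 v6 j → i = j) →
    vec7 v3 v4 v5 v6 (vec7 v3 v4 v5 v6 (vec7 v3 v4 v5 v6 (vec7 v3 v4 v5 v6
      (vec7 v3 v4 v5 v6 2)))) = 2 →
    (∀ i : Fin 7, i ≠ 0 → i ≠ 1 → vec7 v3 v4 v5 v6 i ≠ i) →
    (v3, v4, v5, v6) ∈ ([(4, 5, 6, 2), (4, 6, 2, 5), (5, 6, 4, 2), (5, 2, 6, 4), (6, 5, 2, 4),
      (6, 2, 4, 5)] : List (Fin 7 × Fin 7 × Fin 7 × Fin 7))

instance (v3 : Fin 7) : Decidable (Enum7At v3) := by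
  unfold Enum7At
  infer_instance

theorem enum7_0 : Enum7At 0 := by decide +kernel

theorem enum7_1 : Enum7At 1 := by decide +kernel

theorem enum7_2 : Enum7At 2 := by decide +kernel

theorem enum7_3 : Enum7At 3 := by decide +kernel

theorem enum7_4 : Enum7At 4 := by decide +kernel

theorem enum7_5 : Enum7At 5 := by decide +kernel

theorem enum7_6 : Enum7At 6 := by decide +kernel

theorem enum7 : ∀ v3 v4 v5 v6 : Fin 7,
    (∀ i j : Fin 7, vec7 v3 v4 v5 v6 i = vec7 v3 v4 v5 v6 j → i = j) →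
    vec7 v3 v4 v5 v6 (vec7 v3 v4 v5 v6 (vec7 v3 v4 v5 v6 (vec7 v3 v4 v5 v6
      (vec7 v3 v4 v5 v6 2)))) = 2 →
    (∀ i : Fin 7, i ≠ 0 → i ≠ 1 → vec7 v3 v4 v5 v6 i ≠ i) →
    (v3, v4, v5, v6) ∈ ([(4, 5, 6, 2), (4, 6, 2, 5), (5, 6, 4, 2), (5, 2, 6, 4), (6, 5, 2, 4),
      (6, 2, 4, 5)] : List (Fin 7 × Fin 7 × Fin 7 × Fin 7)) := by
  intro v3
  have h : Enum7At v3 := by
    fin_cases v3
    · exact enum7_0
    · exact enum7_1
    · exact enum7_2
    · exact enum7_3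
    · exact enum7_4
    · exact enum7_5
    · exact enum7_6
  exact h

/-- explicit permutations of `Fin 7` -/
def mk7 (f g : Fin 7 → Fin 7) (h1 : ∀ i, g (f i) = i) (h2 : ∀ i, f (g i) = i) : Perm (Fin 7) :=
  ⟨f, g, h1, h2⟩

def s1 : Perm (Fin 7) := mk7 ![0, 1, 3, 4, 5, 6, 2] ![0, 1, 6, 2, 3, 4, 5] (by decide) (by decide)
def s2 : Perm (Fin 7) := mk7 ![0, 1, 3, 4, 6, 2, 5] ![0, 1, 5, 2, 3, 6, 4] (by decide) (by decide)
def s3 : Perm (Fin 7) := mk7 ![0, 1, 3, 5, 6, 4, 2] ![0, 1, 6, 2, 5, 3, 4] (by decide) (by decide)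
def s4 : Perm (Fin 7) := mk7 ![0, 1, 3, 5, 2, 6, 4] ![0, 1, 4, 2, 6, 3, 5] (by decide) (by decide)
def s5 : Perm (Fin 7) := mk7 ![0, 1, 3, 6, 5, 2, 4] ![0, 1, 5, 2, 6, 4, 3] (by decide) (by decide)
def s6 : Perm (Fin 7) := mk7 ![0, 1, 3, 6, 2, 4, 5] ![0, 1, 4, 2, 5, 6, 3] (by decide) (by decide)

theorem w1 : ((s1 * finRotate 7 * finRotate 7 * finRotate 7) ^ 2).IsThreeCycle :=
  card_support_eq_three_iff.mp (by decide)
theorem w2 : ((s2 * s2 * finRotate 7 * finRotate 7 * finRotate 7) ^ 2).IsThreeCycle :=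
  card_support_eq_three_iff.mp (by decide)
theorem w3 : ((s3 * s3 * s3 * finRotate 7 * finRotate 7) ^ 2).IsThreeCycle :=
  card_support_eq_three_iff.mp (by decide)
theorem w4 : ((s4 * s4 * s4 * finRotate 7) ^ 2).IsThreeCycle :=
  card_support_eq_three_iff.mp (by decide)
theorem w5 : ((s5 * finRotate 7 * s5 * finRotate 7 * finRotate 7) ^ 2).IsThreeCycle :=
  card_support_eq_three_iff.mp (by decide)
theorem w6 : ((s6 * s6 * s6 * finRotate 7 * s6 * finRotate 7) ^ 2).IsThreeCycle :=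
  card_support_eq_three_iff.mp (by decide)

theorem core (x : Perm (Fin 7)) (hc : x.IsCycle) (hs : x.support.card = 5)
    (h0 : x 0 = 0) (h1 : x 1 = 1) (h2 : x 2 = 3) (hmv : ∀ a, a ≠ 0 → a ≠ 1 → x a ≠ a) :
    ∃ w ∈ closure ({x, finRotate 7} : Set (Perm (Fin 7))), w.IsThreeCycle := by
  have hord : orderOf x = 5 := by rw [hc.orderOf, hs]
  have h5 : x (x (x (x (x 2)))) = 2 := by
    have h : (x ^ 5) 2 = 2 := by rw [← hord, pow_orderOf_eq_one]; rfl
    exact h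
  have hf : (⇑x : Fin 7 → Fin 7) = vec7 (x 3) (x 4) (x 5) (x 6) := by
    funext i
    fin_cases i
    · exact h0
    · exact h1
    · exact h2
    · rfl
    · rfl
    · rfl
    · rfl
  have key := enum7 (x 3) (x 4) (x 5) (x 6) (by rw [← hf]; exact fun i j h => x.injective h)
    (by rw [← hf]; exact h5) (by rw [← hf]; exact hmv)
  have hxG : x ∈ closure ({x, finRotate 7} : Set (Perm (Fin 7))) := subset_closure (by simp)
  have hcG : finRotate 7 ∈ closure ({x, finRotate 7} : Set (Perm (Fin 7))) :=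
    subset_closure (by simp)
  simp only [List.mem_cons, Prod.mk.injEq, List.not_mem_nil, or_false] at key
  rcases key with ⟨h3, h4, h5', h6⟩ | ⟨h3, h4, h5', h6⟩ | ⟨h3, h4, h5', h6⟩ | ⟨h3, h4, h5', h6⟩ |
    ⟨h3, h4, h5', h6⟩ | ⟨h3, h4, h5', h6⟩ <;> rw [h3, h4, h5', h6] at hf
  · have hx : x = s1 := Equiv.ext (congrFun hf)
    rw [hx] at hxG hcG ⊢
    exact ⟨_, Subgroup.pow_mem _ (mul_mem (mul_mem (mul_mem hxG hcG) hcG) hcG) 2, w1⟩
  · have hx : x = s2 := Equiv.ext (congrFun hf)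
    rw [hx] at hxG hcG ⊢
    exact ⟨_, Subgroup.pow_mem _ (mul_mem (mul_mem (mul_mem (mul_mem hxG hxG) hcG) hcG) hcG) 2, w2⟩
  · have hx : x = s3 := Equiv.ext (congrFun hf)
    rw [hx] at hxG hcG ⊢
    exact ⟨_, Subgroup.pow_mem _ (mul_mem (mul_mem (mul_mem (mul_mem hxG hxG) hxG) hcG) hcG) 2, w3⟩
  · have hx : x = s4 := Equiv.ext (congrFun hf)
    rw [hx] at hxG hcG ⊢
    exact ⟨_, Subgroup.pow_mem _ (mul_mem (mul_mem (mul_mem hxG hxG) hxG) hcG) 2, w4⟩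
  · have hx : x = s5 := Equiv.ext (congrFun hf)
    rw [hx] at hxG hcG ⊢
    exact ⟨_, Subgroup.pow_mem _ (mul_mem (mul_mem (mul_mem (mul_mem hxG hcG) hxG) hcG) hcG) 2, w5⟩
  · have hx : x = s6 := Equiv.ext (congrFun hf)
    rw [hx] at hxG hcG ⊢
    exact ⟨_, Subgroup.pow_mem _
      (mul_mem (mul_mem (mul_mem (mul_mem (mul_mem hxG hxG) hxG) hcG) hxG) hcG) 2, w6⟩

end TW7

theorem tw7_fin (x : Perm (Fin 7)) (hx : orderOf x = 5) :
    alternatingGroup (Fin 7) ≤ closure {x, finRotate 7} := by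
  have hy : orderOf (finRotate 7) = 5 + 2 := by
    rw [(isCycle_finRotate (n := 5)).orderOf, support_finRotate]; rfl
  refine twin_reduce (p := 5) (by norm_num) (by norm_num) (by norm_num) (by simp) x
    (finRotate 7) hx hy 0 1 2 3 (by decide) (by decide) (by decide) (by decide) (by decide)
    (by decide) ?_
  intro x' hc hs h0 h1 h2 hmv
  obtain ⟨w, hw, hw3⟩ := TW7.core x' hc hs h0 h1 h2 hmv
  have hyG : finRotate 7 ∈ closure ({x', finRotate 7} : Set (Perm (Fin 7))) :=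
    subset_closure (by simp)
  have hprim : MulAction.IsPreprimitive (closure ({x', finRotate 7} : Set (Perm (Fin 7))))
      (Fin 7) :=
    prim_of_full_cycle _ hyG (by rw [Fintype.card_fin]; norm_num) (by rw [hy]; simp)
  exact alternatingGroup_le_of_isPreprimitive_of_isThreeCycle_mem hprim hw3 hw

theorem tw7 {α : Type*} [Fintype α] [DecidableEq α] (hc : Fintype.card α = 7) (x y : Perm α)
    (hx : orderOf x = 5) (hy : orderOf y = 7) : alternatingGroup α ≤ closure {x, y} := by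
  obtain ⟨Φ, hs, hΦy⟩ := exists_equiv_finRotate (n := 5) (by norm_num) hc y hy
  apply alt_le_of_map Φ hs
  rw [hΦy]
  exact tw7_fin (Φ x) (by rw [MulEquiv.orderOf_eq, hx])

end Cfsg.Agent.Lib.helper61.CycGen
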