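import Mathlib

set_option autoImplicit false

/-!
# The group `2.S₅⁻` as a group of `4 × 4` matrices over `𝔽₇`

The 240 elements of the subgroup of `GL(4,7)` generated by `aM` (of order 8) and `bM` (of
order 12), with the right multiplication tables, and the dichotomy `P` satisfied by each
element: it is `1`, or a power of it is `-1`, or it is killed by the third or the fifth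
cyclotomic polynomial. In particular the group acts without fixed points on `𝔽₇⁴`.
-/

namespace Cfsg.Agent.Lib.helper61.TwoS5

/-- `4 × 4` matrices over `𝔽₇`. -/
abbrev Mat : Type := Matrix (Fin 4) (Fin 4) (ZMod 7)

/-- Generator of order 8. -/
def aM : Mat := !![0, 1, 3, 0; 1, 0, 0, 4; 6, 0, 5, 1; 0, 1, 1, 2]

/-- Generator of order 12. -/
def bM : Mat := !![0, 0, 3, 5; 0, 0, 5, 4; 3, 5, 6, 3; 5, 4, 3, 1]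

/-- The 240 elements of the group generated by `aM` and `bM`. -/
def eltList : List Mat := [
  !![1, 0, 0, 0; 0, 1, 0, 0; 0, 0, 1, 0; 0, 0, 0, 1],
  !![0, 1, 3, 0; 1, 0, 0, 4; 6, 0, 5, 1; 0, 1, 1, 2],
  !![0, 0, 3, 5; 0, 0, 5, 4; 3, 5, 6, 3; 5, 4, 3, 1],
  !![5, 0, 1, 0; 0, 5, 0, 1; 2, 0, 2, 0; 0, 2, 0, 2],
  !![2, 1, 2, 6; 6, 2, 1, 2; 6, 1, 2, 4; 6, 6, 3, 2],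
  !![4, 5, 6, 6; 2, 4, 1, 6; 6, 6, 0, 4; 1, 6, 3, 0],
  !![6, 0, 5, 0; 0, 6, 0, 5; 5, 0, 2, 0; 0, 5, 0, 2],
  !![6, 5, 6, 1; 5, 1, 1, 1; 5, 2, 2, 2; 2, 2, 2, 5],
  !![3, 5, 0, 0; 5, 4, 0, 0; 6, 3, 4, 2; 3, 1, 2, 3],
  !![6, 1, 1, 4; 1, 1, 4, 6; 6, 3, 4, 0; 3, 1, 0, 3],
  !![1, 6, 6, 5; 6, 6, 5, 1; 5, 5, 5, 2; 5, 2, 2, 2],
  !![6, 3, 6, 3; 3, 1, 3, 1; 6, 3, 1, 4; 3, 1, 4, 6],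
  !![6, 5, 0, 1; 5, 1, 1, 0; 6, 2, 4, 2; 2, 1, 2, 3],
  !![2, 6, 1, 5; 6, 5, 5, 6; 5, 5, 4, 2; 5, 2, 2, 3],
  !![1, 4, 6, 3; 4, 6, 3, 1; 6, 3, 6, 3; 3, 1, 3, 1],
  !![6, 0, 0, 0; 0, 6, 0, 0; 0, 0, 6, 0; 0, 0, 0, 6],
  !![2, 6, 5, 6; 1, 2, 1, 5; 2, 4, 1, 6; 3, 2, 1, 1],
  !![5, 3, 2, 6; 4, 5, 1, 2; 6, 1, 5, 6; 6, 6, 1, 5],
  !![0, 0, 6, 0; 0, 0, 0, 6; 1, 0, 0, 0; 0, 1, 0, 0],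
  !![0, 3, 6, 6; 4, 0, 1, 6; 6, 6, 3, 2; 1, 6, 5, 3],
  !![2, 0, 6, 6; 0, 2, 1, 6; 5, 6, 1, 5; 1, 5, 2, 1],
  !![0, 6, 3, 5; 1, 0, 2, 3; 0, 0, 0, 1; 0, 0, 6, 0],
  !![1, 1, 0, 3; 6, 1, 4, 0; 4, 5, 6, 6; 2, 4, 1, 6],
  !![4, 2, 2, 3; 5, 4, 4, 2; 2, 3, 6, 0; 4, 2, 0, 6],
  !![5, 0, 5, 1; 0, 5, 6, 5; 5, 1, 5, 2; 6, 5, 5, 5],
  !![5, 4, 4, 2; 3, 5, 5, 4; 1, 0, 2, 3; 0, 1, 4, 2],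
  !![5, 0, 2, 0; 0, 5, 0, 2; 1, 0, 2, 0; 0, 1, 0, 2],
  !![0, 4, 1, 0; 3, 0, 0, 1; 1, 0, 0, 3; 0, 1, 4, 0],
  !![5, 4, 1, 0; 3, 5, 0, 1; 4, 2, 2, 3; 5, 4, 4, 2],
  !![5, 0, 5, 0; 0, 5, 0, 5; 5, 0, 1, 0; 0, 5, 0, 1],
  !![0, 6, 4, 0; 6, 0, 0, 3; 1, 0, 2, 6; 0, 6, 6, 5],
  !![0, 0, 4, 2; 0, 0, 2, 3; 4, 2, 1, 4; 2, 3, 4, 6],
  !![1, 1, 2, 6; 1, 6, 6, 5; 3, 1, 3, 1; 1, 4, 1, 4],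
  !![3, 0, 0, 6; 0, 4, 6, 0; 5, 1, 1, 0; 1, 2, 0, 6],
  !![1, 4, 3, 5; 4, 6, 5, 4; 3, 5, 0, 0; 5, 4, 0, 0],
  !![1, 6, 4, 0; 6, 6, 0, 3; 3, 0, 1, 6; 0, 4, 6, 6],
  !![1, 0, 2, 6; 0, 6, 6, 5; 0, 1, 3, 0; 1, 0, 0, 4],
  !![4, 2, 1, 4; 2, 3, 4, 6; 0, 0, 3, 5; 0, 0, 5, 4],
  !![4, 6, 1, 2; 6, 3, 2, 6; 3, 1, 0, 3; 1, 4, 3, 0],
  !![1, 1, 0, 4; 1, 6, 4, 0; 5, 3, 4, 0; 3, 2, 0, 3],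
  !![6, 5, 4, 6; 5, 1, 6, 3; 0, 4, 3, 1; 4, 0, 1, 4],
  !![3, 5, 6, 2; 5, 4, 2, 1; 0, 1, 1, 2; 1, 0, 2, 6],
  !![6, 0, 0, 3; 0, 1, 3, 0; 5, 4, 3, 1; 4, 2, 1, 4],
  !![1, 5, 3, 5; 5, 6, 5, 4; 6, 5, 0, 1; 5, 1, 1, 0],
  !![0, 1, 1, 2; 1, 0, 2, 6; 4, 2, 1, 5; 2, 3, 5, 6],
  !![2, 6, 6, 0; 6, 5, 0, 1; 3, 0, 0, 6; 0, 4, 6, 0],
  !![6, 1, 6, 6; 1, 1, 6, 1; 4, 5, 0, 4; 5, 3, 4, 0],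
  !![0, 0, 2, 3; 0, 0, 3, 5; 5, 4, 2, 1; 4, 2, 1, 5],
  !![5, 5, 4, 2; 5, 2, 2, 3; 5, 1, 6, 2; 1, 2, 2, 1],
  !![3, 0, 5, 3; 0, 4, 3, 2; 0, 4, 6, 6; 4, 0, 6, 1],
  !![3, 5, 5, 5; 5, 4, 5, 2; 1, 5, 5, 1; 5, 6, 1, 2],
  !![3, 5, 6, 3; 5, 4, 3, 1; 0, 0, 4, 2; 0, 0, 2, 3],
  !![2, 5, 5, 5; 5, 5, 5, 2; 6, 5, 6, 1; 5, 1, 1, 1],
  !![2, 0, 6, 0; 0, 2, 0, 6; 5, 0, 5, 0; 0, 5, 0, 5],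
  !![5, 6, 5, 1; 1, 5, 6, 5; 1, 6, 5, 3; 1, 1, 4, 5],
  !![3, 2, 1, 1; 5, 3, 6, 1; 1, 1, 0, 3; 6, 1, 4, 0],
  !![1, 0, 2, 0; 0, 1, 0, 2; 2, 0, 5, 0; 0, 2, 0, 5],
  !![6, 0, 5, 4; 0, 6, 3, 5; 5, 4, 4, 2; 3, 5, 5, 4],
  !![1, 6, 3, 0; 1, 1, 0, 3; 0, 5, 0, 1; 2, 0, 6, 0],
  !![0, 2, 1, 5; 5, 0, 2, 1; 0, 5, 6, 5; 2, 0, 2, 6],
  !![2, 3, 6, 0; 4, 2, 0, 6; 3, 5, 5, 4; 2, 3, 3, 5],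
  !![1, 6, 2, 1; 1, 1, 6, 2; 5, 3, 2, 6; 4, 5, 1, 2],
  !![2, 1, 2, 0; 6, 2, 0, 2; 6, 2, 6, 6; 5, 6, 1, 6],
  !![5, 6, 1, 6; 1, 5, 1, 1; 5, 1, 5, 3; 6, 5, 4, 5],
  !![1, 6, 5, 3; 1, 1, 4, 5; 2, 1, 2, 6; 6, 2, 1, 2],
  !![2, 0, 5, 0; 0, 2, 0, 5; 6, 0, 5, 0; 0, 6, 0, 5],
  !![6, 6, 5, 0; 1, 6, 0, 5; 1, 5, 2, 1; 2, 1, 6, 2],
  !![1, 5, 0, 5; 2, 1, 2, 0; 6, 5, 0, 2; 2, 6, 5, 0],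
  !![6, 2, 6, 6; 5, 6, 1, 6; 5, 6, 5, 0; 1, 5, 0, 5],
  !![1, 5, 2, 1; 2, 1, 6, 2; 1, 1, 2, 0; 6, 1, 0, 2],
  !![6, 5, 6, 2; 2, 6, 5, 6; 0, 2, 0, 2; 5, 0, 5, 0],
  !![0, 2, 0, 6; 5, 0, 1, 0; 1, 6, 3, 0; 1, 1, 0, 3],
  !![1, 5, 6, 5; 2, 1, 2, 6; 0, 5, 0, 2; 2, 0, 5, 0],
  !![2, 6, 2, 5; 1, 2, 2, 2; 5, 0, 5, 1; 0, 5, 6, 5],
  !![0, 2, 0, 2; 5, 0, 5, 0; 1, 2, 1, 5; 5, 1, 2, 1],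
  !![6, 6, 3, 2; 1, 6, 5, 3; 0, 4, 1, 1; 3, 0, 6, 1],
  !![0, 2, 1, 2; 5, 0, 5, 1; 0, 2, 1, 5; 5, 0, 2, 1],
  !![2, 5, 5, 1; 2, 2, 6, 5; 5, 1, 2, 0; 6, 5, 0, 2],
  !![6, 5, 0, 2; 2, 6, 5, 0; 6, 2, 0, 2; 5, 6, 5, 0],
  !![5, 3, 6, 1; 4, 5, 6, 6; 2, 6, 5, 6; 1, 2, 1, 5],
  !![0, 1, 0, 2; 6, 0, 5, 0; 4, 0, 1, 6; 0, 4, 1, 1],
  !![1, 0, 0, 3; 0, 1, 4, 0; 0, 3, 6, 0; 4, 0, 0, 6],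
  !![2, 6, 2, 4; 1, 2, 3, 2; 5, 6, 1, 6; 1, 5, 1, 1],
  !![2, 2, 6, 5; 5, 2, 2, 6; 6, 5, 4, 5; 2, 6, 2, 4],
  !![0, 1, 4, 0; 6, 0, 0, 4; 0, 2, 1, 6; 5, 0, 1, 1],
  !![6, 6, 0, 4; 1, 6, 3, 0; 3, 2, 1, 1; 5, 3, 6, 1],
  !![0, 0, 1, 0; 0, 0, 0, 1; 6, 0, 0, 0; 0, 6, 0, 0],
  !![1, 2, 1, 6; 2, 6, 6, 6; 2, 5, 5, 5; 5, 5, 5, 2],
  !![4, 2, 0, 0; 2, 3, 0, 0; 1, 4, 3, 5; 4, 6, 5, 4],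
  !![1, 6, 6, 3; 6, 6, 3, 1; 1, 4, 3, 0; 4, 6, 0, 4],
  !![6, 1, 1, 2; 1, 1, 2, 6; 2, 2, 2, 5; 2, 5, 5, 5],
  !![1, 4, 1, 4; 4, 6, 4, 6; 1, 4, 6, 3; 4, 6, 3, 1],
  !![1, 2, 0, 6; 2, 6, 6, 0; 1, 5, 3, 5; 5, 6, 5, 4],
  !![5, 1, 6, 2; 1, 2, 2, 1; 2, 2, 3, 5; 2, 5, 5, 4],
  !![6, 3, 1, 4; 3, 1, 4, 6; 1, 4, 1, 4; 4, 6, 4, 6],
  !![2, 3, 5, 6; 3, 5, 6, 2; 0, 0, 2, 3; 0, 0, 3, 5],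
  !![3, 1, 4, 6; 1, 4, 6, 3; 5, 1, 1, 1; 1, 2, 1, 6],
  !![2, 1, 2, 3; 1, 5, 3, 5; 5, 4, 0, 0; 4, 2, 0, 0],
  !![0, 4, 3, 2; 4, 0, 2, 4; 1, 1, 6, 1; 1, 6, 1, 1],
  !![4, 2, 1, 5; 2, 3, 5, 6; 0, 6, 6, 5; 6, 0, 5, 1],
  !![4, 0, 6, 1; 0, 3, 1, 1; 1, 6, 4, 0; 6, 6, 0, 3],
  !![6, 2, 2, 6; 2, 1, 6, 5; 3, 5, 5, 5; 5, 4, 5, 2],
  !![6, 3, 2, 6; 3, 1, 6, 5; 6, 5, 5, 6; 5, 1, 6, 2],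
  !![5, 4, 5, 2; 4, 2, 2, 2; 3, 1, 1, 1; 1, 4, 1, 6],
  !![1, 4, 3, 0; 4, 6, 0, 4; 6, 1, 1, 4; 1, 1, 4, 6],
  !![2, 2, 2, 5; 2, 5, 5, 5; 1, 6, 6, 5; 6, 6, 5, 1],
  !![2, 2, 3, 5; 2, 5, 5, 4; 2, 6, 1, 5; 6, 5, 5, 6],
  !![1, 6, 1, 1; 6, 6, 1, 6; 3, 2, 0, 3; 2, 4, 3, 0],
  !![1, 4, 1, 6; 4, 6, 6, 6; 4, 0, 1, 4; 0, 3, 4, 6],
  !![5, 6, 1, 2; 6, 2, 2, 6; 5, 1, 6, 3; 1, 2, 3, 1],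
  !![6, 5, 5, 6; 5, 1, 6, 2; 1, 4, 5, 1; 4, 6, 1, 2],
  !![3, 2, 0, 3; 2, 4, 3, 0; 6, 1, 6, 6; 1, 1, 6, 1],
  !![4, 0, 1, 4; 0, 3, 4, 6; 6, 3, 6, 1; 3, 1, 1, 1],
  !![0, 3, 1, 0; 3, 0, 0, 6; 3, 1, 2, 3; 1, 4, 3, 5],
  !![2, 6, 6, 6; 6, 5, 6, 1; 3, 1, 4, 6; 1, 4, 6, 3],
  !![2, 3, 0, 0; 3, 5, 0, 0; 2, 1, 2, 3; 1, 5, 3, 5],
  !![6, 6, 3, 1; 6, 1, 1, 4; 5, 2, 2, 3; 2, 2, 3, 5],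
  !![4, 0, 0, 1; 0, 3, 1, 0; 2, 6, 6, 0; 6, 5, 0, 1],
  !![3, 1, 2, 3; 1, 4, 3, 5; 0, 4, 6, 0; 4, 0, 0, 1],
  !![3, 1, 0, 3; 1, 4, 3, 0; 3, 1, 6, 5; 1, 4, 5, 1],
  !![5, 2, 2, 2; 2, 2, 2, 5; 1, 2, 1, 6; 2, 6, 6, 6],
  !![6, 6, 1, 6; 6, 1, 6, 6; 0, 4, 3, 2; 4, 0, 2, 4],
  !![0, 3, 4, 6; 3, 0, 6, 3; 6, 5, 4, 6; 5, 1, 6, 3],
  !![5, 1, 6, 3; 1, 2, 3, 1; 2, 1, 6, 5; 1, 5, 5, 1],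
  !![4, 6, 4, 6; 6, 3, 6, 3; 1, 1, 2, 6; 1, 6, 6, 5],
  !![1, 2, 2, 1; 2, 6, 1, 5; 6, 3, 2, 6; 3, 1, 6, 5],
  !![0, 4, 6, 6; 4, 0, 6, 1; 4, 0, 2, 4; 0, 3, 4, 5],
  !![1, 5, 5, 1; 5, 6, 1, 2; 4, 2, 2, 2; 2, 3, 2, 5],
  !![4, 6, 6, 6; 6, 3, 6, 1; 5, 4, 5, 2; 4, 2, 2, 2],
  !![3, 0, 6, 3; 0, 4, 3, 1; 1, 4, 1, 6; 4, 6, 6, 6],
  !![1, 1, 4, 6; 1, 6, 6, 3; 2, 5, 5, 4; 5, 5, 4, 2],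
  !![6, 2, 4, 2; 2, 1, 2, 3; 1, 2, 0, 6; 2, 6, 6, 0],
  !![6, 0, 5, 1; 0, 1, 1, 2; 0, 6, 4, 0; 6, 0, 0, 3],
  !![5, 1, 2, 1; 6, 5, 6, 2; 5, 3, 6, 1; 4, 5, 6, 6],
  !![2, 4, 5, 1; 3, 2, 6, 5; 1, 6, 2, 1; 1, 1, 6, 2],
  !![0, 4, 1, 1; 3, 0, 6, 1; 1, 1, 4, 5; 6, 1, 2, 4],
  !![5, 0, 1, 1; 0, 5, 6, 1; 2, 1, 6, 2; 6, 2, 5, 6],
  !![0, 1, 4, 2; 6, 0, 5, 4; 0, 0, 0, 6; 0, 0, 1, 0],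
  !![3, 5, 5, 4; 2, 3, 3, 5; 5, 4, 1, 0; 3, 5, 0, 1],
  !![2, 0, 2, 6; 0, 2, 1, 2; 2, 6, 2, 5; 1, 2, 2, 2],
  !![2, 3, 3, 5; 4, 2, 2, 3; 6, 0, 5, 4; 0, 6, 3, 5],
  !![0, 3, 6, 0; 4, 0, 0, 6; 6, 0, 0, 4; 0, 6, 3, 0],
  !![2, 0, 2, 0; 0, 2, 0, 2; 2, 0, 6, 0; 0, 2, 0, 6],
  !![3, 0, 6, 1; 0, 3, 6, 6; 0, 1, 0, 2; 6, 0, 5, 0],
  !![4, 2, 0, 6; 5, 4, 1, 0; 0, 6, 0, 0; 1, 0, 0, 0],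
  !![6, 5, 5, 5; 2, 6, 2, 5; 4, 5, 1, 2; 2, 4, 5, 1],
  !![1, 2, 3, 2; 5, 1, 5, 3; 2, 2, 6, 5; 5, 2, 2, 6],
  !![5, 2, 2, 6; 5, 5, 1, 2; 2, 6, 5, 0; 1, 2, 0, 5],
  !![1, 2, 1, 5; 5, 1, 2, 1; 0, 5, 0, 5; 2, 0, 2, 0],
  !![1, 5, 1, 1; 2, 1, 6, 1; 2, 1, 2, 0; 6, 2, 0, 2],
  !![0, 5, 6, 1; 2, 0, 6, 6; 0, 1, 4, 0; 6, 0, 0, 4],
  !![1, 6, 0, 5; 1, 1, 2, 0; 3, 0, 0, 1; 0, 3, 6, 0],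
  !![6, 0, 0, 4; 0, 6, 3, 0; 0, 4, 1, 0; 3, 0, 0, 1],
  !![4, 5, 1, 2; 2, 4, 5, 1; 1, 2, 2, 2; 5, 1, 5, 2],
  !![1, 1, 4, 5; 6, 1, 2, 4; 0, 3, 6, 6; 4, 0, 1, 6],
  !![2, 1, 6, 2; 6, 2, 5, 6; 2, 0, 6, 6; 0, 2, 1, 6],
  !![0, 0, 0, 6; 0, 0, 1, 0; 0, 6, 3, 5; 1, 0, 2, 3],
  !![1, 2, 0, 5; 5, 1, 2, 0; 1, 5, 0, 5; 2, 1, 2, 0],
  !![3, 0, 0, 1; 0, 3, 6, 0; 6, 1, 0, 2; 6, 6, 5, 0],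
  !![5, 1, 5, 2; 6, 5, 5, 5; 2, 0, 2, 6; 0, 2, 1, 2],
  !![6, 6, 1, 5; 1, 6, 2, 1; 5, 0, 2, 1; 0, 5, 6, 2],
  !![0, 5, 0, 2; 2, 0, 5, 0; 6, 2, 1, 2; 5, 6, 5, 1],
  !![2, 6, 5, 0; 1, 2, 0, 5; 2, 5, 5, 1; 2, 2, 6, 5],
  !![6, 1, 0, 2; 6, 6, 5, 0; 4, 0, 0, 6; 0, 4, 1, 0],
  !![2, 0, 5, 6; 0, 2, 1, 5; 6, 6, 1, 5; 1, 6, 2, 1],
  !![3, 5, 0, 1; 2, 3, 6, 0; 0, 1, 0, 0; 6, 0, 0, 0],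
  !![0, 1, 0, 0; 6, 0, 0, 0; 4, 2, 0, 6; 5, 4, 1, 0],
  !![3, 2, 6, 5; 5, 3, 2, 6; 6, 5, 5, 5; 2, 6, 2, 5],
  !![0, 0, 0, 1; 0, 0, 6, 0; 0, 1, 4, 2; 6, 0, 5, 4],
  !![0, 5, 6, 2; 2, 0, 5, 6; 0, 2, 1, 2; 5, 0, 5, 1],
  !![2, 4, 1, 6; 3, 2, 1, 1; 5, 1, 2, 1; 6, 5, 6, 2],
  !![5, 5, 1, 2; 2, 5, 5, 1; 1, 2, 3, 2; 5, 1, 5, 3],
  !![5, 1, 2, 0; 6, 5, 0, 2; 5, 2, 2, 6; 5, 5, 1, 2],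
  !![5, 0, 2, 1; 0, 5, 6, 2; 1, 1, 6, 2; 6, 1, 5, 6],
  !![0, 2, 0, 5; 5, 0, 2, 0; 1, 5, 6, 5; 2, 1, 2, 6],
  !![4, 0, 0, 6; 0, 4, 1, 0; 1, 6, 0, 5; 1, 1, 2, 0],
  !![6, 5, 4, 5; 2, 6, 2, 4; 5, 5, 1, 2; 2, 5, 5, 1],
  !![0, 2, 1, 6; 5, 0, 1, 1; 0, 6, 3, 0; 1, 0, 0, 3],
  !![6, 1, 5, 6; 6, 6, 1, 5; 2, 4, 5, 1; 3, 2, 6, 5],
  !![4, 0, 1, 6; 0, 4, 1, 1; 0, 6, 0, 5; 1, 0, 2, 0],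
  !![1, 0, 2, 3; 0, 1, 4, 2; 2, 3, 3, 5; 4, 2, 2, 3],
  !![6, 1, 2, 4; 6, 6, 3, 2; 5, 6, 5, 1; 1, 5, 6, 5],
  !![6, 6, 5, 1; 6, 1, 1, 2; 4, 6, 4, 6; 6, 3, 6, 3],
  !![6, 3, 4, 2; 3, 1, 2, 3; 4, 2, 0, 0; 2, 3, 0, 0],
  !![6, 1, 3, 0; 1, 1, 0, 4; 4, 0, 6, 1; 0, 3, 1, 1],
  !![3, 1, 6, 5; 1, 4, 5, 1; 4, 6, 0, 4; 6, 3, 4, 0],
  !![6, 6, 0, 3; 6, 1, 3, 0; 2, 4, 3, 0; 4, 5, 0, 4],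
  !![1, 2, 3, 1; 2, 6, 1, 4; 0, 3, 4, 6; 3, 0, 6, 3],
  !![1, 0, 0, 4; 0, 6, 4, 0; 2, 3, 4, 6; 3, 5, 6, 3],
  !![0, 6, 6, 5; 6, 0, 5, 1; 3, 5, 6, 2; 5, 4, 2, 1],
  !![5, 1, 1, 0; 1, 2, 0, 6; 4, 0, 0, 1; 0, 3, 1, 0],
  !![0, 0, 5, 4; 0, 0, 4, 2; 2, 3, 5, 6; 3, 5, 6, 2],
  !![4, 0, 2, 4; 0, 3, 4, 5; 0, 3, 1, 1; 3, 0, 1, 6],
  !![4, 2, 2, 2; 2, 3, 2, 5; 6, 2, 2, 6; 2, 1, 6, 5],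
  !![1, 4, 5, 1; 4, 6, 1, 2; 1, 2, 2, 1; 2, 6, 1, 5],
  !![2, 3, 4, 6; 3, 5, 6, 3; 6, 0, 0, 3; 0, 1, 3, 0],
  !![0, 4, 6, 0; 4, 0, 0, 1; 4, 6, 5, 4; 6, 3, 4, 2],
  !![5, 3, 4, 0; 3, 2, 0, 3; 6, 6, 0, 3; 6, 1, 3, 0],
  !![6, 3, 6, 1; 3, 1, 1, 1; 3, 0, 6, 3; 0, 4, 3, 1],
  !![5, 2, 2, 3; 2, 2, 3, 5; 1, 1, 4, 6; 1, 6, 6, 3],
  !![0, 4, 3, 1; 4, 0, 1, 4; 1, 2, 3, 1; 2, 6, 1, 4],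
  !![2, 6, 1, 4; 6, 5, 4, 6; 5, 6, 1, 2; 6, 2, 2, 6],
  !![0, 3, 1, 1; 3, 0, 1, 6; 3, 0, 5, 3; 0, 4, 3, 2],
  !![4, 6, 5, 4; 6, 3, 4, 2; 0, 3, 1, 0; 3, 0, 0, 6],
  !![4, 6, 0, 4; 6, 3, 4, 0; 4, 6, 1, 2; 6, 3, 2, 6],
  !![2, 4, 3, 0; 4, 5, 0, 4; 1, 1, 0, 4; 1, 6, 4, 0],
  !![4, 5, 0, 4; 5, 3, 4, 0; 1, 6, 1, 1; 6, 6, 1, 6],
  !![5, 4, 0, 0; 4, 2, 0, 0; 5, 6, 5, 4; 6, 2, 4, 2],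
  !![3, 1, 3, 1; 1, 4, 1, 4; 6, 6, 5, 1; 6, 1, 1, 2],
  !![1, 1, 6, 1; 1, 6, 1, 1; 0, 3, 4, 5; 3, 0, 5, 3],
  !![3, 1, 1, 1; 1, 4, 1, 6; 2, 3, 2, 5; 3, 5, 5, 5],
  !![5, 4, 3, 1; 4, 2, 1, 4; 1, 0, 0, 4; 0, 6, 4, 0],
  !![5, 4, 2, 1; 4, 2, 1, 5; 0, 0, 5, 4; 0, 0, 4, 2],
  !![0, 3, 4, 5; 3, 0, 5, 3; 6, 6, 1, 6; 6, 1, 6, 6],
  !![6, 3, 4, 0; 3, 1, 0, 3; 1, 6, 6, 3; 6, 6, 3, 1],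
  !![5, 6, 5, 4; 6, 2, 4, 2; 2, 3, 0, 0; 3, 5, 0, 0],
  !![2, 5, 5, 4; 5, 5, 4, 2; 6, 6, 3, 1; 6, 1, 1, 4],
  !![2, 3, 2, 5; 3, 5, 5, 5; 4, 6, 6, 6; 6, 3, 6, 1],
  !![3, 0, 1, 6; 0, 4, 6, 6; 6, 1, 3, 0; 1, 1, 0, 4],
  !![5, 1, 1, 1; 1, 2, 1, 6; 4, 6, 3, 1; 6, 3, 1, 4],
  !![5, 5, 5, 2; 5, 2, 2, 2; 6, 1, 1, 2; 1, 1, 2, 6],
  !![6, 1, 4, 0; 6, 6, 0, 4; 0, 2, 0, 6; 5, 0, 1, 0],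
  !![5, 6, 5, 0; 1, 5, 0, 5; 1, 5, 1, 1; 2, 1, 6, 1],
  !![2, 1, 6, 1; 6, 2, 6, 6; 2, 6, 2, 4; 1, 2, 3, 2],
  !![1, 1, 2, 0; 6, 1, 0, 2; 6, 2, 5, 6; 5, 6, 1, 5],
  !![6, 2, 0, 2; 5, 6, 5, 0; 1, 2, 0, 5; 5, 1, 2, 0],
  !![6, 2, 5, 6; 5, 6, 1, 5; 6, 6, 5, 0; 1, 6, 0, 5],
  !![0, 5, 0, 1; 2, 0, 6, 0; 6, 1, 4, 0; 6, 6, 0, 4],
  !![6, 2, 1, 2; 5, 6, 5, 1; 0, 2, 0, 5; 5, 0, 2, 0],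
  !![0, 5, 0, 5; 2, 0, 2, 0; 6, 5, 6, 2; 2, 6, 5, 6],
  !![0, 5, 6, 5; 2, 0, 2, 6; 0, 5, 6, 2; 2, 0, 5, 6],
  !![0, 6, 0, 5; 1, 0, 2, 0; 3, 0, 6, 1; 0, 3, 6, 6],
  !![5, 1, 5, 3; 6, 5, 4, 5; 2, 1, 6, 1; 6, 2, 6, 6],
  !![0, 6, 3, 0; 1, 0, 0, 3; 0, 5, 6, 1; 2, 0, 6, 6],
  !![5, 6, 1, 5; 1, 5, 2, 1; 5, 0, 1, 1; 0, 5, 6, 1],
  !![1, 1, 6, 2; 6, 1, 5, 6; 2, 0, 5, 6; 0, 2, 1, 5],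
  !![0, 6, 0, 0; 1, 0, 0, 0; 3, 5, 0, 1; 2, 3, 6, 0],
  !![1, 2, 2, 2; 5, 1, 5, 2; 3, 2, 6, 5; 5, 3, 2, 6],
  !![4, 6, 3, 1; 6, 3, 1, 4; 2, 6, 6, 6; 6, 5, 6, 1],
  !![2, 1, 6, 5; 1, 5, 5, 1; 2, 6, 1, 4; 6, 5, 4, 6]]

/-- Right multiplication by `aM` on indices. -/
def tAList : List ℕ := [1, 3, 5, 7, 9, 11, 13, 15, 17, 19, 21, 23, 24, 26, 28, 30, 32, 34, 36, 38, 39, 41, 14, 31, 45, 47, 48, 49, 51, 52, 53, 55, 57, 59, 61, 62, 29, 22, 54, 67, 69, 70, 71, 73, 74, 76, 77, 79, 56, 82, 84, 85, 86, 87, 89, 91, 93, 95, 96, 43, 37, 88, 101, 103, 104, 106, 107, 109, 50, 111, 90, 114, 116, 117, 105, 119, 92, 122, 123, 124, 125, 126, 128, 129, 100, 94, 132, 0, 134, 135, 137, 138, 139, 65, 60, 133, 144, 145, 146,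 148, 149, 150, 72, 152, 154, 156, 6, 147, 158, 136, 161, 162, 163, 164, 166, 167, 143, 169, 160, 64, 18, 171, 66, 155, 140, 174, 63, 177, 141, 151, 179, 159, 142, 182, 183, 185, 186, 99, 2, 190, 191, 192, 120, 194, 195, 196, 198, 200, 10, 193, 184, 121, 202, 203, 204, 205, 189, 201, 98, 33, 207, 199, 187, 209, 97, 211, 188, 118, 44, 131, 208, 112, 40, 215, 216, 213, 108, 35, 8, 102, 212, 214, 180, 178, 222, 4, 225, 226, 227, 229, 230, 170, 232, 233, 228, 221, 173, 78, 175, 80, 224, 234, 223, 235, 181, 157, 172, 153, 25, 83, 27, 58, 16, 176, 75, 237, 231, 81, 68, 236, 168, 238, 127, 217, 46, 239, 206, 219, 130, 220, 12, 110, 210, 218, 197, 115, 42, 113, 165, 20]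

/-- Right multiplication by `bM` on indices. -/
def tBList : List ℕ := [2, 4, 6, 8, 10, 12, 14, 16, 18, 20, 22, 3, 25, 27, 29, 31, 33, 35, 37, 7, 40, 42, 43, 44, 46, 36, 11, 50, 41, 34, 54, 56, 58, 60, 15, 63, 64, 65, 66, 68, 59, 19, 72, 57, 75, 23, 78, 80, 81, 83, 17, 26, 79, 88, 90, 92, 94, 30, 97, 98, 99, 100, 102, 93, 105, 91, 108, 38, 110, 112, 113, 115, 32, 111, 118, 120, 121, 9, 119, 45, 96, 127, 48, 130, 109, 131, 51, 133, 86, 136, 85, 53, 140, 141, 142, 143, 74, 137, 147, 135, 82, 61, 151, 153, 155, 55, 152, 157, 159, 160, 158, 67, 139, 165, 70, 168, 150, 28, 166, 69, 170, 172, 76, 173, 71, 175, 176, 178, 145, 24, 177, 180, 181, 117, 184, 87, 187, 188, 189, 107, 132, 193, 183, 114, 95, 197,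 199, 89, 196, 125, 201, 128, 101, 186, 52, 122, 195, 204, 103, 206, 126, 208, 104, 210, 49, 212, 191, 39, 211, 213, 190, 116, 214, 192, 124, 217, 216, 123, 218, 219, 1, 220, 221, 0, 223, 224, 149, 169, 228, 154, 138, 231, 171, 134, 163, 174, 144, 222, 73, 84, 230, 164, 146, 236, 226, 62, 225, 156, 227, 162, 237, 161, 179, 77, 234, 21, 233, 167, 232, 148, 5, 215, 194, 13, 198, 185, 129, 207, 182, 203, 209, 238, 106, 239, 200, 202, 47, 205, 229, 235]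

/-- The `i`-th element. -/
def E (i : ℕ) : Mat := eltList.getD i 1

/-- Index of `E i * aM`. -/
def tA (i : ℕ) : ℕ := tAList.getD i 0

/-- Index of `E i * bM`. -/
def tB (i : ℕ) : ℕ := tBList.getD i 0

set_option maxRecDepth 1000000 in
theorem E_zero : E 0 = 1 := by decide

set_option maxRecDepth 1000000 in
theorem tA_lt : ∀ i < 240, tA i < 240 := by decide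

set_option maxRecDepth 1000000 in
theorem tB_lt : ∀ i < 240, tB i < 240 := by decide

set_option maxRecDepth 1000000 in
theorem closA : ∀ i < 240, E i * aM = E (tA i) := by decide

set_option maxRecDepth 1000000 in
theorem closB : ∀ i < 240, E i * bM = E (tB i) := by decide

/-- The dichotomy satisfied by every element. -/
def P (M : Mat) : Prop :=
  M = 1 ∨ M = -1 ∨ M ^ 2 = -1 ∨ M ^ 3 = -1 ∨ M ^ 4 = -1 ∨ M ^ 5 = -1 ∨ M ^ 6 = -1 ∨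
    1 + M + M ^ 2 = 0 ∨ 1 + M + M ^ 2 + M ^ 3 + M ^ 4 = 0

/-- `P` is decidable. -/
instance decP (M : Mat) : Decidable (P M) := by unfold P; infer_instance

set_option maxRecDepth 1000000 in
theorem P_E : ∀ i < 240, P (E i) := by decide

set_option maxRecDepth 1000000 in
theorem aM_mul_pow : aM * aM ^ 7 = 1 := by decide

set_option maxRecDepth 1000000 in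
theorem aM_pow_mul : aM ^ 7 * aM = 1 := by decide

set_option maxRecDepth 1000000 in
theorem bM_mul_pow : bM * bM ^ 11 = 1 := by decide

set_option maxRecDepth 1000000 in
theorem bM_pow_mul : bM ^ 11 * bM = 1 := by decide

set_option maxRecDepth 1000000 in
theorem aM_pow_four : aM ^ 4 = -1 := by decide

set_option maxRecDepth 1000000 in
theorem bM_pow_six : bM ^ 6 = -1 := by decide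

set_option maxRecDepth 1000000 in
theorem abM_pow_five : (aM * bM) ^ 5 = -1 := by decide

set_option maxRecDepth 1000000 in
theorem bM_pow_four_ne : (bM ^ 4) 0 0 ≠ (1 : Mat) 0 0 := by decide

set_option maxRecDepth 1000000 in
theorem abM_pow_two_ne : ((aM * bM) ^ 2) 0 0 ≠ (1 : Mat) 0 0 := by decide

theorem neg_one_ne_one : (-1 : Mat) ≠ 1 := by
  intro h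
  have h1 : (-1 : Mat) 0 0 = (1 : Mat) 0 0 := by rw [h]
  revert h1
  decide

theorem three_ne : (1 + 1 + 1 ^ 2 : Mat) ≠ 0 := by
  intro h
  have h1 : (1 + 1 + 1 ^ 2 : Mat) 0 0 = (0 : Mat) 0 0 := by rw [h]
  revert h1
  decide

theorem five_ne : (1 + 1 + 1 ^ 2 + 1 ^ 3 + 1 ^ 4 : Mat) ≠ 0 := by
  intro h
  have h1 : (1 + 1 + 1 ^ 2 + 1 ^ 3 + 1 ^ 4 : Mat) 0 0 = (0 : Mat) 0 0 := by rw [h]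
  revert h1
  decide

end Cfsg.Agent.Lib.helper61.TwoS5
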